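import Cfsg.Agent.Mrg.ParSys.FrontSys
import Cfsg.Prelude.Def_LieTypeChar
import Cfsg.Agent.Mrg.ParSys.Front
import Cfsg.Agent.Mrg.ParSys.Par
import Cfsg.Agent.Nodes.LeviDec

section


/-!
# The end of NODE LIE: the parabolic system of a component (interface of the K-side)

`K` : a quasisimple group with odd centre and `K / Z(K)` of Lie type of characteristic 2, `S` a Sylow 2-subgroup, `T` an
abelian group of odd order of automorphisms which stabilises `S` and acts on the elementary abelian group `[S, T] ≠ 1` as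
the multiplicative group of a field (`TAct`).

* `KSys S T P m` : the rank one parabolic subgroups `P i` over the Borel subgroup `N(S)`, with everything that THEOREM PAR
  (`ParSys.Sys`) needs for the pairs of nodes of `K`;
* `KSide` : `TAct` implies `KSys` (or `|T| = 3` acts on `K = L₂(Q)` by field automorphisms).
-/

set_option autoImplicit false

namespace Cfsg.Agent.Omega.Lie.End

open Subgroup Cfsg.Agent.ParSys

section defs

variable {K : Type*} [Group K]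

/-- `[S, T]` -/
def AT (S : Subgroup K) (T : Subgroup (MulAut K)) : Subgroup K :=
  Subgroup.closure {a | ∃ t ∈ T, ∃ u ∈ S, a = u⁻¹ * t u}

/-- `T` is an abelian group of odd order `≥ 3` acting on the elementary abelian group `[S, T] ≠ 1` as the
multiplicative group of a field. -/
structure TAct (S : Subgroup K) (T : Subgroup (MulAut K)) : Prop where
  comm : ∀ t ∈ T, ∀ t' ∈ T, t * t' = t' * t
  odd : Odd (Nat.card T)
  three : 3 ≤ Nat.card T
  stab : ∀ t ∈ T, ∀ u ∈ S, t u ∈ S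
  ab : ∀ a ∈ AT S T, ∀ a' ∈ AT S T, a * a' = a' * a
  sq : ∀ a ∈ AT S T, a * a = 1
  fpf : ∀ t ∈ T, t ≠ 1 → ∀ a ∈ AT S T, t a = a → a = 1
  scal : ∀ t ∈ T, ∀ t' ∈ T, t ≠ t' → ∃ t'' ∈ T, ∀ a ∈ AT S T, t a * t' a = t'' a
  ne : AT S T ≠ ⊥

/-- `T` centralises `S` modulo the kernel on the panel of `P` -/
def Unmoved (S : Subgroup K) (T : Subgroup (MulAut K)) (P : Subgroup K) : Prop :=
  ∀ t ∈ T, ∀ u ∈ S, u⁻¹ * t u ∈ Qk (normalizer (S : Set K)) P

/-- every `1 ≠ t ∈ T` acts fixed-point-freely on `S` modulo the kernel on the panel of `P` -/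
def Moved (S : Subgroup K) (T : Subgroup (MulAut K)) (P : Subgroup K) : Prop :=
  ∀ t ∈ T, t ≠ 1 → ∀ u ∈ S, u⁻¹ * t u ∈ Qk (normalizer (S : Set K)) P → u ∈ Qk (normalizer (S : Set K)) P

/-- the normal closure of `S` in `P` (for `S ≤ P`) -/
def NCl (S P : Subgroup K) : Subgroup K :=
  Subgroup.closure {x | ∃ g ∈ P, g⁻¹ * x * g ∈ S}

/-- **The parabolic system of `K`** over the Borel subgroup `N(S)`. -/
structure KSys (S : Subgroup K) (T : Subgroup (MulAut K)) {J : Type} (P : J → Subgroup K) (m : J → J → ℕ) :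
    Prop where
  isP : IsPGroup 2 S
  odd : Odd (S.relIndex (normalizer (S : Set K)))
  le : ∀ i, normalizer (S : Set K) ≤ P i
  gen : ⨆ i, P i = ⊤
  /-- `T` normalises the parabolic subgroups -/
  T_P : ∀ i, ∀ t ∈ T, ∀ x ∈ P i, t x ∈ P i
  /-- `N(S)` normalises `[S, T]` -/
  B_A : ∀ b ∈ normalizer (S : Set K), ∀ a ∈ AT S T, b * a * b⁻¹ ∈ AT S T
  dich : ∀ i, Unmoved S T (P i) ∨ Moved S T (P i)
  moved : ∃ i, Moved S T (P i)
  /-- the panels have at least five chambers -/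
  five : ∀ i, 5 ≤ (normalizer (S : Set K)).relIndex (P i)
  ptr : ∀ i, Hall.HallData.PTr (normalizer (S : Set K)) S (P i)
  reg : ∀ i, ∀ u ∈ S, ∀ g ∈ P i, g ∉ normalizer (S : Set K) → g⁻¹ * u * g ∈ normalizer (S : Set K) →
    u ∈ Qk (normalizer (S : Set K)) (P i)
  m_two : ∀ i j, i ≠ j → 2 ≤ m i j
  m_symm : ∀ i j, m i j = m j i
  conn : ∀ I : Set J, I.Nonempty → Iᶜ.Nonempty → ∃ i ∈ I, ∃ j ∈ Iᶜ, 3 ≤ m i j
  poly : ∀ i j, i ≠ j → Polygon (normalizer (S : Set K)) P i j (m i j)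
  /-- (F1) -/
  frat : ∀ i j, i ≠ j → ∀ X ≤ S, (∀ u ∈ S, ∃ x ∈ X, x⁻¹ * u ∈ Qk (normalizer (S : Set K)) (P i) ∧
      x⁻¹ * u ∈ Qk (normalizer (S : Set K)) (P j)) →
    ∀ u ∈ S, ∃ x ∈ X, x⁻¹ * u ∈ Qk (normalizer (S : Set K)) (P i ⊔ P j)
  /-- (T3) -/
  fpf : ∀ i, FpfG 2 (normalizer (S : Set K)) S (P i)
  /-- (T2) for two unmoved or two moved nodes (for the other pairs `T` has this property) -/
  sep : ∀ i j, i ≠ j → ((Unmoved S T (P i) ∧ Unmoved S T (P j)) ∨ (Moved S T (P i) ∧ Moved S T (P j))) →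
    SepG 2 (normalizer (S : Set K)) S (P i) (P j) ∨ SepG 2 (normalizer (S : Set K)) S (P j) (P i)
  /-- (T2) with the node 0: a moved node `i` which is not the only node has an unmoved neighbour `k`, and an element of
  odd order of `N(S)` in the normal closure of `S` in `P k` acts fixed-point-freely on the panel of `i` -/
  nbr : ∀ i, Moved S T (P i) → (∃ j, j ≠ i) → ∃ k, Unmoved S T (P k) ∧ ∃ b ∈ normalizer (S : Set K),
    b ∈ NCl S (P k) ∧ (∃ n : ℕ, Odd n ∧ b ^ n = 1) ∧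
      ∀ u ∈ S, b * u * b⁻¹ * u⁻¹ ∈ Qk (normalizer (S : Set K)) (P i) → u ∈ Qk (normalizer (S : Set K)) (P i)

/-- the exception: `T` of order 3 acts on `L₂(Q)` by field automorphisms -/
def KExc (K : Type*) [Group K] (S : Subgroup K) (T : Subgroup (MulAut K)) : Prop :=
  Nat.card T = 3 ∧ (∃ u ∈ S, u ≠ 1 ∧ ∀ t ∈ T, t u = u) ∧
    ∃ (F : Type) (_ : Field F) (_ : Fintype F), ringChar F = 2 ∧
      Nonempty (K ≃* Matrix.ProjectiveSpecialLinearGroup (Fin 2) F)

end defs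

universe u

/-- **The K-side of NODE LIE.** -/
def KSide : Prop :=
  ∀ (K : Type u) [Group K] [Finite K], commutator K = ⊤ → IsSimpleGroup (K ⧸ center K) →
    Odd (Nat.card (center K)) → IsLieTypeChar 2 (K ⧸ center K) →
    ∀ (S : Sylow 2 K) (T : Subgroup (MulAut K)), TAct (S : Subgroup K) T →
      (∃ (J : Type) (_ : Finite J) (P : J → Subgroup K) (m : J → J → ℕ), KSys (S : Subgroup K) T P m) ∨
        KExc K (S : Subgroup K) T

end Cfsg.Agent.Omega.Lie.End

end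

section


/-!
# The end of NODE LIE: parabolic systems without `gen` (`Pre`)

`Pre p B U P m` : all fields of `ParSys.Sys`, in the form without a chosen Hall subgroup, without `⨆ P i = ⊤`.

* `Pre.exists_hall`, `Pre.exists_sys`;
* `polygon_reindex` : `Polygon B P (f a) (f b) m ↔ Polygon B (P ∘ f) a b m`.
-/

set_option autoImplicit false
set_option linter.unusedSectionVars false

namespace Cfsg.Agent.Omega.Lie.End

open Subgroup Cfsg.Agent.ParSys

variable {G : Type*} [Group G] {I : Type*}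

/-- All fields of `ParSys.Sys` except `gen`, without a chosen Hall subgroup. -/
structure Pre (p : ℕ) (B U : Subgroup G) (P : I → Subgroup G) (m : I → I → ℕ) : Prop where
  U_le : U ≤ B
  norm : B ≤ normalizer (U : Set G)
  isP : IsPGroup p U
  index : p.Coprime (U.relIndex B)
  le : ∀ i, B ≤ P i
  three : ∀ i, ∃ x ∈ P i, ∃ y ∈ P i, x ∉ B ∧ y ∉ B ∧ x⁻¹ * y ∉ B
  ptr : ∀ i, Hall.HallData.PTr B U (P i)
  reg : ∀ i, ∀ u ∈ U, ∀ g ∈ P i, g ∉ B → g⁻¹ * u * g ∈ B → u ∈ Qk B (P i)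
  fpf : ∀ i, FpfG p B U (P i)
  m_two : ∀ i j, i ≠ j → 2 ≤ m i j
  m_symm : ∀ i j, m i j = m j i
  poly : ∀ i j, i ≠ j → Polygon B P i j (m i j)
  sep : ∀ i j, i ≠ j → SepG p B U (P i) (P j) ∨ SepG p B U (P j) (P i)
  frat : ∀ i j, i ≠ j → ∀ X ≤ U,
    (∀ u ∈ U, ∃ x ∈ X, x⁻¹ * u ∈ Qk B (P i) ∧ x⁻¹ * u ∈ Qk B (P j)) →
    ∀ u ∈ U, ∃ x ∈ X, x⁻¹ * u ∈ Qk B (P i ⊔ P j)

/-! ### Hall subgroups -/

/-- elements of `B` modulo `U` -/
theorem exists_pow_of_index {p : ℕ} {B U : Subgroup G} (norm : B ≤ normalizer (U : Set G))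
    (index : p.Coprime (U.relIndex B)) {x : G} (hx : x ∈ B) : ∃ k : ℕ, p.Coprime k ∧ x ^ k ∈ U :=
  ⟨U.relIndex B, index, Hall.pow_relIndex_mem norm hx⟩

/-- **The Hall complement.** -/
theorem exists_hall_of_index [Finite G] {p : ℕ} [hp : Fact p.Prime] {B U : Subgroup G} (U_le : U ≤ B)
    (norm : B ≤ normalizer (U : Set G)) (isP : IsPGroup p U) (index : p.Coprime (U.relIndex B)) :
    ∃ H : Subgroup G, Hall.HallData p B U H ∧ U ⊔ H = B := by
  have hn : (U.subgroupOf B).Normal := Subgroup.normal_subgroupOf_of_le_normalizer norm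
  have hcop : (Nat.card (U.subgroupOf B)).Coprime (U.subgroupOf B).index := by
    have h1 : Nat.card (U.subgroupOf B) = Nat.card U := Nat.card_congr (Subgroup.subgroupOfEquivOfLe U_le).toEquiv
    obtain ⟨a, ha⟩ := (IsPGroup.iff_card (p := p)).mp isP
    rw [h1, ha]
    exact Nat.Coprime.pow_left _ index
  obtain ⟨H', hH'⟩ := Subgroup.exists_right_complement'_of_coprime hcop
  set H : Subgroup G := H'.map B.subtype with hH
  have hHB : H ≤ B := by
    rintro _ ⟨x, -, rfl⟩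
    exact x.2
  have hsup : U ⊔ H = B := by
    apply le_antisymm (sup_le U_le hHB)
    intro x hx
    have h1 := hH'.sup_eq_top
    have h2 : (⟨x, hx⟩ : B) ∈ U.subgroupOf B ⊔ H' := by rw [h1]; trivial
    have h3 := Subgroup.mem_map_of_mem B.subtype h2
    rw [Subgroup.map_sup, Subgroup.subgroupOf_map_subtype] at h3
    have h4 : U ⊓ B ⊔ H'.map B.subtype ≤ U ⊔ H := sup_le_sup_right inf_le_left _
    exact h4 h3
  refine ⟨H, ?_, hsup⟩
  exact {
    U_le := U_le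
    H_le := hHB
    U_norm := norm
    U_pgroup := isP
    H_cop := by
      have h1 : Nat.card H = Nat.card H' := Nat.card_congr
        (Subgroup.equivMapOfInjective H' _ B.subtype_injective).symm.toEquiv
      have h2 : Nat.card H' = (U.subgroupOf B).index := by
        rw [← hH'.symm.index_eq_card]
      rw [h1, h2]
      exact index
    UH_norm := by rw [hsup]; exact Subgroup.le_normalizer
    index := ⟨0, by rw [hsup, Subgroup.relIndex_self, pow_zero]⟩
    core := by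
      intro T hTB hT _ x hx
      obtain ⟨a, ha⟩ := hT ⟨x, hx⟩
      obtain ⟨k, hk, hxk⟩ := exists_pow_of_index norm index (hTB hx)
      have ha' : x ^ p ^ a = 1 := by simpa using congrArg Subtype.val ha
      exact Hall.mem_of_pow_mem_of_coprime (a := p ^ a) (b := k) (by rw [ha']; exact one_mem _) hxk
        (hk.pow_left a) }

/-- `Sep` for a Hall subgroup gives `SepG`. -/
theorem sepG_of_sep {p : ℕ} {B U H : Subgroup G} (D : Hall.HallData p B U H) {Pi Pj : Subgroup G}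
    (h : Sep B U H Pi Pj) : SepG p B U Pi Pj := by
  obtain ⟨b, hb, h1, h2⟩ := h
  exact ⟨b, D.H_le hb, ⟨Nat.card H, D.H_cop, Hall.pow_card_of_mem hb⟩, h1, h2⟩

namespace Pre

variable {p : ℕ} {B U : Subgroup G} {P : I → Subgroup G} {m : I → I → ℕ} (D : Pre p B U P m)

include D

/-- **From `Pre` to a parabolic system with tori.** -/
theorem exists_sys [Finite G] [hp : Fact p.Prime] (gen : ⨆ i, P i = ⊤) : ∃ H : Subgroup G, Sys p B U H P m := by
  obtain ⟨H, hall, -⟩ := exists_hall_of_index D.U_le D.norm D.isP D.index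
  exact ⟨H, {
    hall := hall
    gen := gen
    le := D.le
    three := D.three
    ptr := D.ptr
    reg := D.reg
    fix := fun i => fix_of_fpfG hall (D.le i) (D.fpf i)
    m_two := D.m_two
    m_symm := D.m_symm
    poly := D.poly
    torus := fun i j hij => (D.sep i j hij).imp
      (fun h => (sep_of_sepG hall (D.le i) (D.le j) h).sepT hall (D.le j))
      (fun h => (sep_of_sepG hall (D.le j) (D.le i) h).sepT hall (D.le i))
    frat := fun i j hij T hT _ h => D.frat i j hij T hT h }⟩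

/-- **The BN-pair.** -/
theorem exists_bnPair [Finite G] [Finite I] [hp : Fact p.Prime] (gen : ⨆ i, P i = ⊤) (h3 : 3 ≤ Nat.card I)
    (conn : ∀ J : Set I, J.Nonempty → Jᶜ.Nonempty → ∃ i ∈ J, ∃ j ∈ Jᶜ, 3 ≤ m i j) :
    ∃ Q : Cfsg.BNPair G, 3 ≤ Q.rank ∧ Q.Irreducible := by
  obtain ⟨H, S⟩ := D.exists_sys gen
  obtain ⟨Q, -, h1, h2⟩ := S.exists_bnPair
  exact ⟨Q, h1 ▸ h3, h2 conn⟩

end Pre

/-! ### Change of the index set -/

theorem map_alt {J : Type*} (f : J → I) (a b : J) (k : ℕ) : (alt a b k).map f = alt (f a) (f b) k := by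
  induction k generalizing a b with
  | zero => rfl
  | succ k ih => rw [alt, alt, List.map_cons, ih]

theorem galE_map {J : Type*} {B : Subgroup G} {P : I → Subgroup G} (f : J → I) {w : List J} {l : List G} :
    GalE B P (w.map f) l ↔ GalE B (P ∘ f) w l := by
  induction w generalizing l with
  | nil => cases l <;> exact Iff.rfl
  | cons i w ih =>
    cases l with
    | nil => exact Iff.rfl
    | cons x l => exact and_congr Iff.rfl ih

theorem polygon_reindex {J : Type*} {B : Subgroup G} {P : I → Subgroup G} (f : J → I) {a b : J} {m : ℕ} :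
    Polygon B P (f a) (f b) m ↔ Polygon B (P ∘ f) a b m := by
  constructor
  · rintro ⟨h1, h2, h3, h4, h5⟩
    simp only [← map_alt, galE_map] at h1 h2 h3 h4 h5
    exact ⟨h1, h2, h3, h4, h5⟩
  · rintro ⟨h1, h2, h3, h4, h5⟩
    simp only [← galE_map, map_alt] at h1 h2 h3 h4 h5
    exact ⟨h1, h2, h3, h4, h5⟩

/-- `Polygon` depends only on `P a`, `P b`. -/
theorem polygon_congr {I' : Type*} {B : Subgroup G} {P : I → Subgroup G} {P' : I' → Subgroup G} {a b : I} {a' b' : I'}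
    (ha : P a = P' a') (hb : P b = P' b') {m : ℕ} : Polygon B P a b m ↔ Polygon B P' a' b' m := by
  have h1 := polygon_reindex (B := B) (P := P) (fun t : Bool => if t then a else b) (a := true) (b := false) (m := m)
  have h2 := polygon_reindex (B := B) (P := P') (fun t : Bool => if t then a' else b') (a := true) (b := false) (m := m)
  have e : (P ∘ fun t : Bool => if t then a else b) = P' ∘ fun t : Bool => if t then a' else b' := by
    funext t
    cases t
    · exact hb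
    · exact ha
  rw [e] at h1
  exact h1.trans h2.symm

end Cfsg.Agent.Omega.Lie.End

end

section


/-!
# The end of NODE LIE: enlarging the Borel subgroup

`K ≤ H`, `B`, `S`, `P k` subgroups of `K`; `C ≤ H` normalises the `P k`, `C ⊓ K = B`; `U ≤ C` acts on `K` as `S`
(`Enl K C U B S P`).  For `L ≤ K` let `Mx K C L = L C`.  All the facts on the panels and pairs of `(K, B, S, P)` carry over
to `(H, C, U, Mx K C (P ·))`.
-/

set_option autoImplicit false
set_option linter.unusedSectionVars false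

namespace Cfsg.Agent.Omega.Lie.End

open Subgroup Cfsg.Agent.ParSys

variable {H : Type*} [Group H]

/-- `L C` -/
def Mx (K C : Subgroup H) (L : Subgroup K) : Subgroup H := L.map K.subtype ⊔ C

/-- `C` normalises `L` -/
def Cn (K C : Subgroup H) (L : Subgroup K) : Prop := ∀ c ∈ C, ∀ x ∈ L, ∃ y ∈ L, (y : H) = c * x * c⁻¹

section mx

variable {K C : Subgroup H} {L L' : Subgroup K}

theorem C_le_Mx : C ≤ Mx K C L := le_sup_right

theorem coe_mem_Mx {x : K} (hx : x ∈ L) : (x : H) ∈ Mx K C L := mem_sup_left ⟨x, hx, rfl⟩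

theorem Cn.conj' (h : Cn K C L) {c : H} (hc : c ∈ C) {x : K} (hx : x ∈ L) : ∃ y ∈ L, (y : H) = c⁻¹ * x * c := by
  obtain ⟨y, hy, e⟩ := h c⁻¹ (inv_mem hc) x hx
  exact ⟨y, hy, by rw [e, inv_inv]⟩

theorem Cn.le_normalizer (h : Cn K C L) : C ≤ normalizer (L.map K.subtype : Set H) := by
  have key : ∀ c ∈ C, ∀ x ∈ L.map K.subtype, c * x * c⁻¹ ∈ L.map K.subtype := by
    rintro c hc _ ⟨x, hx, rfl⟩
    obtain ⟨y, hy, e⟩ := h c hc x hx
    exact ⟨y, hy, e⟩
  intro c hc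
  rw [mem_normalizer_iff]
  intro x
  refine ⟨fun hx => key c hc x hx, fun hx => ?_⟩
  have := key c⁻¹ (inv_mem hc) _ hx
  have e : c⁻¹ * (c * x * c⁻¹) * c⁻¹⁻¹ = x := by group
  rwa [e] at this

theorem Cn.mem_Mx (h : Cn K C L) {x : H} : x ∈ Mx K C L ↔ ∃ p ∈ L, ∃ c ∈ C, x = p * c := by
  constructor
  · intro hx
    unfold Mx at hx
    rw [sup_comm] at hx
    obtain ⟨k, ⟨p, hp, rfl⟩, c, hc, rfl⟩ := Solvable.Glauberman.exists_mul_of_mem_sup C _ h.le_normalizer hx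
    exact ⟨p, hp, c, hc, rfl⟩
  · rintro ⟨p, hp, c, hc, rfl⟩
    exact mul_mem (coe_mem_Mx hp) (C_le_Mx hc)

theorem Cn.sup (h : Cn K C L) (h' : Cn K C L') : Cn K C (L ⊔ L') := by
  intro c hc x hx
  rw [sup_eq_closure] at hx ⊢
  induction hx using Subgroup.closure_induction with
  | mem x hx =>
    rcases hx with hx | hx
    · obtain ⟨y, hy, e⟩ := h c hc x hx
      exact ⟨y, subset_closure (Or.inl hy), e⟩
    · obtain ⟨y, hy, e⟩ := h' c hc x hx
      exact ⟨y, subset_closure (Or.inr hy), e⟩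
  | one => exact ⟨1, one_mem _, by simp⟩
  | mul x y _ _ ihx ihy =>
    obtain ⟨x', hx', e⟩ := ihx
    obtain ⟨y', hy', e'⟩ := ihy
    refine ⟨x' * y', mul_mem hx' hy', ?_⟩
    rw [coe_mul, e, e', coe_mul]; group
  | inv x _ ih =>
    obtain ⟨x', hx', e⟩ := ih
    refine ⟨x'⁻¹, inv_mem hx', ?_⟩
    rw [coe_inv, e, coe_inv]; group

theorem Mx_sup : Mx K C (L ⊔ L') = Mx K C L ⊔ Mx K C L' := by
  unfold Mx
  rw [Subgroup.map_sup]
  apply le_antisymm
  · exact sup_le (sup_le (le_sup_left.trans le_sup_left) (le_sup_left.trans le_sup_right))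
      (le_sup_right.trans le_sup_left)
  · exact sup_le (sup_le (le_sup_left.trans le_sup_left) le_sup_right)
      (sup_le (le_sup_right.trans le_sup_left) le_sup_right)

end mx

/-- The situation. -/
structure Enl (K C U : Subgroup H) (B S : Subgroup K) : Prop where
  B_le : ∀ x ∈ B, (x : H) ∈ C
  of_C : ∀ x : K, (x : H) ∈ C → x ∈ B
  S_le : ∀ x ∈ S, (x : H) ∈ U
  S_B : S ≤ B
  U_le : U ≤ C
  dec : ∀ u ∈ U, ∃ s ∈ S, ∃ z ∈ U, (∀ x : K, z * x = x * z) ∧ u = s * z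

namespace Enl

variable {K C U : Subgroup H} {B S : Subgroup K} (E : Enl K C U B S) {L L' : Subgroup K}

include E

theorem mem_C_iff {x : K} : (x : H) ∈ C ↔ x ∈ B := ⟨E.of_C x, E.B_le x⟩

theorem mem_Mx_iff (hn : Cn K C L) (hB : B ≤ L) {x : K} : (x : H) ∈ Mx K C L ↔ x ∈ L := by
  refine ⟨fun hx => ?_, coe_mem_Mx⟩
  obtain ⟨p, hp, c, hc, e⟩ := hn.mem_Mx.1 hx
  have h1 : ((p⁻¹ * x : K) : H) ∈ C := by
    rw [coe_mul, coe_inv, e, inv_mul_cancel_left]; exact hc
  have h2 := mul_mem hp (hB (E.of_C _ h1))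
  rwa [mul_inv_cancel_left] at h2

theorem conj_iff {c : H} (hc : c ∈ C) {x : H} : c⁻¹ * x * c ∈ C ↔ x ∈ C := by
  constructor
  · intro h
    have := mul_mem (mul_mem hc h) (inv_mem hc)
    have e : c * (c⁻¹ * x * c) * c⁻¹ = x := by group
    rwa [e] at this
  · intro h
    exact mul_mem (mul_mem (inv_mem hc) h) hc

theorem mem_Qk_iff (hn : Cn K C L) {x : K} : (x : H) ∈ Qk C (Mx K C L) ↔ x ∈ Qk B L := by
  constructor
  · intro hx g hg
    have := hx g (coe_mem_Mx hg)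
    exact E.of_C (g⁻¹ * x * g) (by rw [coe_mul, coe_mul, coe_inv]; exact this)
  · intro hx g hg
    obtain ⟨p, hp, c, hc, rfl⟩ := hn.mem_Mx.1 hg
    have h1 := E.B_le _ (hx p hp)
    rw [coe_mul, coe_mul, coe_inv] at h1
    have e : ((p : H) * c)⁻¹ * x * (p * c) = c⁻¹ * ((p : H)⁻¹ * x * p) * c := by group
    rw [e]
    exact (E.conj_iff hc).2 h1

theorem cen_mem_Qk (hn : Cn K C L) {z : H} (hz : z ∈ C) (hc : ∀ x : K, z * x = x * z) : z ∈ Qk C (Mx K C L) := by
  intro g hg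
  obtain ⟨p, hp, c, hcC, rfl⟩ := hn.mem_Mx.1 hg
  have e : ((p : H) * c)⁻¹ * z * (p * c) = c⁻¹ * ((p : H)⁻¹ * (z * p)) * c := by group
  rw [e, hc p]
  have e2 : c⁻¹ * ((p : H)⁻¹ * (p * z)) * c = c⁻¹ * z * c := by group
  rw [e2]
  exact (E.conj_iff hcC).2 hz

/-- `s z ∈ Q ↔ s ∈ Q` -/
theorem mul_mem_Qk_iff (hn : Cn K C L) {s : K} {z : H} (hz : z ∈ C) (hc : ∀ x : K, z * x = x * z) :
    (s : H) * z ∈ Qk C (Mx K C L) ↔ s ∈ Qk B L := by
  have h1 := E.cen_mem_Qk hn hz hc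
  rw [← E.mem_Qk_iff hn]
  constructor
  · intro h
    have := mul_mem h (inv_mem h1)
    rwa [mul_inv_cancel_right] at this
  · intro h
    exact mul_mem h h1

/-! ### one panel -/

theorem three (h : ∃ x ∈ L, ∃ y ∈ L, x ∉ B ∧ y ∉ B ∧ x⁻¹ * y ∉ B) :
    ∃ x ∈ Mx K C L, ∃ y ∈ Mx K C L, x ∉ C ∧ y ∉ C ∧ x⁻¹ * y ∉ C := by
  obtain ⟨x, hx, y, hy, h1, h2, h3⟩ := h
  exact ⟨x, coe_mem_Mx hx, y, coe_mem_Mx hy, fun h => h1 (E.of_C _ h), fun h => h2 (E.of_C _ h), fun h =>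
    h3 (E.of_C _ (by rw [coe_mul, coe_inv]; exact h))⟩

theorem ptr (hn : Cn K C L) (h : Hall.HallData.PTr B S L) : Hall.HallData.PTr C U (Mx K C L) := by
  intro g hg hgC g' hg' hgC'
  obtain ⟨p, hp, c, hc, rfl⟩ := hn.mem_Mx.1 hg
  obtain ⟨p', hp', c', hc', rfl⟩ := hn.mem_Mx.1 hg'
  have h1 : p ∉ B := fun h1 => hgC (mul_mem (E.B_le _ h1) hc)
  have h2 : p' ∉ B := fun h1 => hgC' (mul_mem (E.B_le _ h1) hc')
  obtain ⟨u, hu, b, hb, e⟩ := h p hp h1 p' hp' h2
  refine ⟨u, E.S_le _ hu, c⁻¹ * b * c', mul_mem (mul_mem (inv_mem hc) (E.B_le _ hb)) hc', ?_⟩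
  rw [e, coe_mul, coe_mul]; group

theorem reg (hn : Cn K C L) (h : ∀ u ∈ S, ∀ g ∈ L, g ∉ B → g⁻¹ * u * g ∈ B → u ∈ Qk B L) :
    ∀ u ∈ U, ∀ g ∈ Mx K C L, g ∉ C → g⁻¹ * u * g ∈ C → u ∈ Qk C (Mx K C L) := by
  intro u hu g hg hgC hug
  obtain ⟨s, hs, z, hz, hzc, rfl⟩ := E.dec u hu
  obtain ⟨p, hp, c, hc, rfl⟩ := hn.mem_Mx.1 hg
  have h1 : p ∉ B := fun h1 => hgC (mul_mem (E.B_le _ h1) hc)
  have e : ((p : H) * c)⁻¹ * (s * z) * (p * c) = c⁻¹ * ((p : H)⁻¹ * s * p * ((p : H)⁻¹ * (z * p))) * c := by group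
  rw [e, hzc p, inv_mul_cancel_left, E.conj_iff hc] at hug
  have h2 := mul_mem hug (inv_mem (E.U_le hz))
  rw [mul_inv_cancel_right] at h2
  have h3 := h s hs p hp h1 (E.of_C _ (by rw [coe_mul, coe_mul, coe_inv]; exact h2))
  exact (E.mul_mem_Qk_iff hn (E.U_le hz) hzc).2 h3

/-- the commutator of `b ∈ B` with `s z` -/
theorem comm_eq (b s : K) {z : H} (hzc : ∀ x : K, z * x = x * z) :
    (b : H) * (s * z) * (b : H)⁻¹ * (s * z)⁻¹ = ((b * s * b⁻¹ * s⁻¹ : K) : H) := by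
  have h1 : z * (b : H)⁻¹ = (b : H)⁻¹ * z := by
    have := hzc b⁻¹
    rwa [coe_inv] at this
  have e : (b : H) * (s * z) * (b : H)⁻¹ * (s * z)⁻¹ = b * s * (z * (b : H)⁻¹) * z⁻¹ * (s : H)⁻¹ := by group
  rw [e, h1, coe_mul, coe_mul, coe_mul, coe_inv, coe_inv]; group

theorem fpfE (hn : Cn K C L) {b : K} (h : ∀ u ∈ S, b * u * b⁻¹ * u⁻¹ ∈ Qk B L → u ∈ Qk B L) :
    ∀ u ∈ U, (b : H) * u * (b : H)⁻¹ * u⁻¹ ∈ Qk C (Mx K C L) → u ∈ Qk C (Mx K C L) := by
  intro u hu h1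
  obtain ⟨s, hs, z, hz, hzc, rfl⟩ := E.dec u hu
  rw [E.comm_eq b s hzc, E.mem_Qk_iff hn] at h1
  exact (E.mul_mem_Qk_iff hn (E.U_le hz) hzc).2 (h s hs h1)

theorem cenE (hn : Cn K C L) {b : K} (h : ∀ u ∈ S, b * u * b⁻¹ * u⁻¹ ∈ Qk B L) :
    ∀ u ∈ U, (b : H) * u * (b : H)⁻¹ * u⁻¹ ∈ Qk C (Mx K C L) := by
  intro u hu
  obtain ⟨s, hs, z, hz, hzc, rfl⟩ := E.dec u hu
  rw [E.comm_eq b s hzc, E.mem_Qk_iff hn]
  exact h s hs

omit E in
theorem pow_coe {b : K} {k : ℕ} (h : b ^ k = 1) : (b : H) ^ k = 1 := by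
  have := congrArg Subtype.val h
  rwa [coe_pow, coe_one] at this

theorem fpf {p : ℕ} (hn : Cn K C L) (h : FpfG p B S L) : FpfG p C U (Mx K C L) := by
  obtain ⟨b, hb, ⟨k, hk, hbk⟩, h1⟩ := h
  exact ⟨b, E.B_le _ hb, ⟨k, hk, pow_coe hbk⟩, E.fpfE hn h1⟩

theorem sep {p : ℕ} (hn : Cn K C L) (hn' : Cn K C L') (h : SepG p B S L L') :
    SepG p C U (Mx K C L) (Mx K C L') := by
  obtain ⟨b, hb, ⟨k, hk, hbk⟩, h1, h2⟩ := h
  exact ⟨b, E.B_le _ hb, ⟨k, hk, pow_coe hbk⟩, E.cenE hn h1, E.fpfE hn' h2⟩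

/-! ### two panels -/

theorem frat (hn : Cn K C L) (hn' : Cn K C L')
    (h : ∀ X ≤ S, (∀ u ∈ S, ∃ x ∈ X, x⁻¹ * u ∈ Qk B L ∧ x⁻¹ * u ∈ Qk B L') →
      ∀ u ∈ S, ∃ x ∈ X, x⁻¹ * u ∈ Qk B (L ⊔ L')) :
    ∀ X ≤ U, (∀ u ∈ U, ∃ x ∈ X, x⁻¹ * u ∈ Qk C (Mx K C L) ∧ x⁻¹ * u ∈ Qk C (Mx K C L')) →
      ∀ u ∈ U, ∃ x ∈ X, x⁻¹ * u ∈ Qk C (Mx K C L ⊔ Mx K C L') := by
  intro X hX hcov
  have hns := hn.sup hn'
  -- the projection of `X`
  let Y : Subgroup K :=
    { carrier := {s | s ∈ S ∧ ∃ z ∈ U, (∀ x : K, z * x = x * z) ∧ (s : H) * z ∈ X}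
      mul_mem' := by
        rintro s s' ⟨hs, z, hz, hzc, h1⟩ ⟨hs', z', hz', hzc', h1'⟩
        refine ⟨mul_mem hs hs', z * z', mul_mem hz hz', fun x => ?_, ?_⟩
        · rw [mul_assoc, hzc', ← mul_assoc, hzc, mul_assoc]
        · have e : ((s * s' : K) : H) * (z * z') = s * z * (s' * z') := by
            have h2 : z * (s' : H) = s' * z := hzc s'
            calc ((s * s' : K) : H) * (z * z') = s * (s' * z) * z' := by rw [coe_mul]; group
              _ = s * z * (s' * z') := by rw [← h2]; group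
          rw [e]
          exact mul_mem h1 h1'
      one_mem' := ⟨one_mem _, 1, one_mem _, fun x => by rw [one_mul, mul_one], by
        rw [coe_one, one_mul]; exact one_mem _⟩
      inv_mem' := by
        rintro s ⟨hs, z, hz, hzc, h1⟩
        refine ⟨inv_mem hs, z⁻¹, inv_mem hz, fun x => ?_, ?_⟩
        · have h2 := hzc x
          rw [inv_mul_eq_iff_eq_mul, ← mul_assoc, h2, mul_assoc, mul_inv_cancel, mul_one]
        · have h2 : z * (s : H) = s * z := hzc s
          have e : ((s⁻¹ : K) : H) * z⁻¹ = ((s : H) * z)⁻¹ := by rw [coe_inv, ← h2, mul_inv_rev]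
          rw [e]
          exact inv_mem h1 }
  have hY : ∀ s, s ∈ Y ↔ s ∈ S ∧ ∃ z ∈ U, (∀ x : K, z * x = x * z) ∧ (s : H) * z ∈ X := fun s => Iff.rfl
  -- `(s' z')⁻¹ (s z) = (s'⁻¹ s) (z'⁻¹ z)`
  have key : ∀ (s s' : K) (z z' : H), (∀ x : K, z' * x = x * z') →
      ((s' : H) * z')⁻¹ * (s * z) = ((s'⁻¹ * s : K) : H) * (z'⁻¹ * z) := by
    intro s s' z z' hzc'
    have h2 : ∀ y : K, z'⁻¹ * y = y * z'⁻¹ := fun y => by
      rw [inv_mul_eq_iff_eq_mul, ← mul_assoc, hzc', mul_assoc, mul_inv_cancel, mul_one]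
    have e : ((s' : H) * z')⁻¹ * (s * z) = z'⁻¹ * ((s'⁻¹ * s : K) : H) * z := by
      rw [coe_mul, coe_inv]; group
    rw [e, h2]; group
  have hcz : ∀ {z z' : H}, (∀ x : K, z' * x = x * z') → (∀ x : K, z * x = x * z) → ∀ x : K, z'⁻¹ * z * x = x * (z'⁻¹ * z) := by
    intro z z' h1 h2 x
    have h3 : z'⁻¹ * (x : H) = x * z'⁻¹ := by
      rw [inv_mul_eq_iff_eq_mul, ← mul_assoc, h1, mul_assoc, mul_inv_cancel, mul_one]
    rw [mul_assoc, h2, ← mul_assoc, h3, mul_assoc]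
  have h1 := h Y (fun s hs => ((hY s).1 hs).1) (by
    intro s hs
    obtain ⟨x, hx, hx1, hx2⟩ := hcov s (E.S_le _ hs)
    obtain ⟨s', hs', z', hz', hzc', rfl⟩ := E.dec x (hX hx)
    refine ⟨s', (hY s').2 ⟨hs', z', hz', hzc', hx⟩, ?_, ?_⟩
    · have e := key s s' 1 z' hzc'
      rw [mul_one, mul_one] at e
      rw [e] at hx1
      exact (E.mul_mem_Qk_iff hn (inv_mem (E.U_le hz')) (fun y => by
        have := hcz hzc' (z := 1) (fun x => by rw [one_mul, mul_one]) y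
        rwa [mul_one] at this)).1 hx1
    · have e := key s s' 1 z' hzc'
      rw [mul_one, mul_one] at e
      rw [e] at hx2
      exact (E.mul_mem_Qk_iff hn' (inv_mem (E.U_le hz')) (fun y => by
        have := hcz hzc' (z := 1) (fun x => by rw [one_mul, mul_one]) y
        rwa [mul_one] at this)).1 hx2)
  intro u hu
  obtain ⟨s, hs, z, hz, hzc, rfl⟩ := E.dec u hu
  obtain ⟨s', hs', h2⟩ := h1 s hs
  obtain ⟨hs1, z', hz', hzc', hx⟩ := (hY s').1 hs'
  refine ⟨_, hx, ?_⟩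
  rw [← Mx_sup, key s s' z z' hzc',
    E.mul_mem_Qk_iff hns (mul_mem (inv_mem (E.U_le hz')) (E.U_le hz)) (hcz hzc' hzc)]
  exact h2

theorem link {I : Type*} {P : I → Subgroup K} (hn : ∀ i, Cn K C (P i)) (hB : ∀ i, B ≤ P i) (a b : I) :
    Link C (fun i => Mx K C (P i)) a b B P (fun g e => (e : H)⁻¹ * g ∈ C) where
  one := by rw [coe_one, inv_one, one_mul]; exact one_mem _
  memB := by
    intro g e g' e' h1 h2
    rw [← E.mem_C_iff]
    have e1 : g⁻¹ * g' = ((e : H)⁻¹ * g)⁻¹ * ((e⁻¹ * e' : K) : H) * ((e' : H)⁻¹ * g') := by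
      rw [coe_mul, coe_inv]; group
    rw [e1]
    constructor
    · intro h3
      have h4 := mul_mem (mul_mem h1 h3) (inv_mem h2)
      have e2 : (e : H)⁻¹ * g * (((e : H)⁻¹ * g)⁻¹ * ((e⁻¹ * e' : K) : H) * ((e' : H)⁻¹ * g')) *
        ((e' : H)⁻¹ * g')⁻¹ = ((e⁻¹ * e' : K) : H) := by group
      rwa [e2] at h4
    · intro h3
      exact mul_mem (mul_mem (inv_mem h1) h3) h2
  memP := by
    intro i _ g e g' e' h1 h2
    rw [← E.mem_Mx_iff (hn i) (hB i)]
    have h1' : (e : H)⁻¹ * g ∈ Mx K C (P i) := C_le_Mx h1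
    have h2' : (e' : H)⁻¹ * g' ∈ Mx K C (P i) := C_le_Mx h2
    have e1 : g⁻¹ * g' = ((e : H)⁻¹ * g)⁻¹ * ((e⁻¹ * e' : K) : H) * ((e' : H)⁻¹ * g') := by
      rw [coe_mul, coe_inv]; group
    rw [e1]
    constructor
    · intro h3
      have h4 := mul_mem (mul_mem h1' h3) (inv_mem h2')
      have e2 : (e : H)⁻¹ * g * (((e : H)⁻¹ * g)⁻¹ * ((e⁻¹ * e' : K) : H) * ((e' : H)⁻¹ * g')) *
        ((e' : H)⁻¹ * g')⁻¹ = ((e⁻¹ * e' : K) : H) := by group
      rwa [e2] at h4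
    · intro h3
      exact mul_mem (mul_mem (inv_mem h1') h3) h2'
  ex := by
    intro i _ g e h1 x hx
    obtain ⟨p, hp, c, hc, rfl⟩ := (hn i).mem_Mx.1 hx
    obtain ⟨y, -, hy⟩ := hn i _ h1 p hp
    refine ⟨e * y, ?_⟩
    rw [coe_mul, hy]
    have e1 : ((e : H) * ((e : H)⁻¹ * g * p * ((e : H)⁻¹ * g)⁻¹))⁻¹ * (g * (p * c)) = (e : H)⁻¹ * g * c := by group
    rw [e1]
    exact mul_mem h1 hc
  sur := fun e => ⟨e, by rw [inv_mul_cancel]; exact one_mem _⟩
  act := fun z => ⟨z, fun g e h1 => by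
    rw [coe_mul]
    have e1 : ((z : H) * e)⁻¹ * (z * g) = (e : H)⁻¹ * g := by group
    rwa [e1]⟩

theorem poly {I : Type*} {P : I → Subgroup K} (hn : ∀ i, Cn K C (P i)) (hB : ∀ i, B ≤ P i) {a b : I} {m : ℕ}
    (h : Polygon B P a b m) : Polygon C (fun i => Mx K C (P i)) a b m :=
  (E.link hn hB a b).polygon h

end Enl

end Cfsg.Agent.Omega.Lie.End

end

section


/-!
# The field `opp` of the K-side of NODE LIE: chambers opposite to a chamber

`Opp B S P`: there is `w` such that a set of chambers which contains the chambers `s w B`, `s ∈ S`, and every chamber `x B`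
such that some panel of `x B` minus `x B` is in the set, is the set of all chambers.
* `Opp.of_rgd`: root group data (`w = w₀`, descending induction on the length);
* `Opp.lift`: along a surjective homomorphism;
* `Opp.congr`.
-/

set_option autoImplicit false
set_option linter.unusedSectionVars false

namespace Cfsg.Agent.Omega.Lie.End

/-- the chambers opposite to `B` and the panels generate all chambers -/
def Opp {K : Type*} [Group K] {J : Type*} (B S : Subgroup K) (P : J → Subgroup K) : Prop :=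
  ∃ w : K, ∀ C : Set K, (∀ x ∈ C, ∀ b ∈ B, x * b ∈ C) → (∀ s ∈ S, s * w ∈ C) →
    (∀ x i, (∀ y ∈ P i, y ∉ B → x * y ∈ C) → x ∈ C) → ∀ x, x ∈ C

/-- transfer along a surjective homomorphism -/
theorem Opp.lift {K Y J : Type*} [Group K] [Group Y] {B S : Subgroup K} {P : J → Subgroup K} {B' S' : Subgroup Y}
    {P' : J → Subgroup Y} (f : K →* Y) (hf : Function.Surjective f) (hB : ∀ x, x ∈ B ↔ f x ∈ B')
    (hS : ∀ y ∈ S', ∃ x ∈ S, f x = y) (hP : ∀ i x, x ∈ P i ↔ f x ∈ P' i) (h : Opp B' S' P') : Opp B S P := by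
  obtain ⟨w', hw⟩ := h
  obtain ⟨w, rfl⟩ := hf w'
  refine ⟨w, fun C h1 h2 h3 x => ?_⟩
  have hk : ∀ x y : K, x ∈ C → f x = f y → y ∈ C := by
    intro x y hx e
    have h4 : x⁻¹ * y ∈ B := by
      rw [hB, map_mul, map_inv, e, inv_mul_cancel]
      exact one_mem _
    have h5 := h1 x hx _ h4
    rwa [mul_inv_cancel_left] at h5
  have key := hw {y | ∃ x ∈ C, f x = y} ?_ ?_ ?_ (f x)
  · obtain ⟨y, hy, e⟩ := key
    exact hk y x hy e
  · rintro _ ⟨x, hx, rfl⟩ b hb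
    obtain ⟨b, rfl⟩ := hf b
    exact ⟨x * b, h1 x hx b ((hB b).2 hb), map_mul f x b⟩
  · intro s' hs'
    obtain ⟨s, hs, e⟩ := hS s' hs'
    exact ⟨s * w, h2 s hs, by rw [map_mul, e]⟩
  · intro x i hx
    obtain ⟨x, rfl⟩ := hf x
    refine ⟨x, h3 x i fun y hy hyB => ?_, rfl⟩
    obtain ⟨z, hz, e⟩ := hx (f y) ((hP i y).1 hy) (fun h => hyB ((hB y).2 h))
    exact hk z _ hz (by rw [e, map_mul])

theorem Opp.congr {K Y J : Type*} [Group K] [Group Y] {B S : Subgroup K} {P : J → Subgroup K} {B' S' : Subgroup Y}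
    {P' : J → Subgroup Y} (f : K ≃* Y) (hB : ∀ x, x ∈ B ↔ f x ∈ B') (hS : ∀ x, x ∈ S ↔ f x ∈ S')
    (hP : ∀ i x, x ∈ P i ↔ f x ∈ P' i) (h : Opp B' S' P') : Opp B S P :=
  Opp.lift (f : K →* Y) f.surjective hB
    (fun y hy => ⟨f.symm y, (hS _).2 (by rw [f.apply_symm_apply]; exact hy), f.apply_symm_apply y⟩) hP h

/-- reindexing -/
theorem Opp.of_family {K J J' : Type*} [Group K] {B S : Subgroup K} {P : J → Subgroup K} {P' : J' → Subgroup K}
    (hP : ∀ i, ∃ j, P j = P' i) (h : Opp B S P') : Opp B S P := by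
  obtain ⟨w, hw⟩ := h
  refine ⟨w, fun C h1 h2 h3 => hw C h1 h2 fun x i hx => ?_⟩
  obtain ⟨j, hj⟩ := hP i
  exact h3 x j (by rwa [hj])

section rgd

open CoxeterSystem Cfsg.Agent.ChevalleyStructure.CoxeterGeom Cfsg.Agent.Tits.Roots Cfsg.Agent.Tits.Core
  Cfsg.Agent.Tits.Exchange Cfsg.Agent.Nodes.Reps Cfsg.Agent.Nodes.BNOf Cfsg.Agent.Nodes.StabComb
  Cfsg.Agent.Nodes.Bruhat Cfsg.Agent.Nodes.OppDec Cfsg.Agent.Nodes.LeviDec

variable {I W Y : Type*} [Fintype I] [DecidableEq I] [Group W] [Group Y] {M : CoxeterMatrix I}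
  {cs : CoxeterSystem M W} {A : I → I → ℤ} {h : IsCartan M A} {p : ℕ} {T : Subgroup Y} {n : I → Y}
  {X : (I → ℤ) → Subgroup Y}

/-- the longest element -/
theorem exists_top (cs : CoxeterSystem M W) (h : IsCartan M A) [Finite W] :
    ∃ w₀ : W, (∀ w, cs.length w ≤ cs.length w₀) ∧
      ∀ v : W, (∀ i, ¬ cs.length v < cs.length (v * cs.simple i)) → v = w₀ := by
  obtain ⟨w₀, hw₀⟩ := Finite.exists_max (fun w : W => cs.length w)
  refine ⟨w₀, hw₀, fun v hv => ?_⟩
  have key : ∀ v : W, (∀ i, ¬ cs.length v < cs.length (v * cs.simple i)) →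
      ∀ z, IsRoot cs h z → z ≤ 0 → 0 ≤ rep cs h v z := by
    intro v hv z _ hz
    have h1 : ∀ i, rep cs h v (Pi.single i 1) ≤ 0 := by
      intro i
      refine nonpos_of_lt cs h v i ?_
      have h2 := hv i
      rcases cs.length_mul_simple v i with h3 | h3 <;> omega
    have e : z = ∑ k, z k • sr k := by
      funext j
      simp [Finset.sum_apply, sr, Pi.single_apply]
    rw [e, map_sum]
    refine Finset.sum_nonneg fun k _ => ?_
    rw [map_smul]
    intro j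
    have h2 := h1 k j
    have h3 := hz k
    rw [Pi.smul_apply, smul_eq_mul]
    exact mul_nonneg_of_nonpos_of_nonpos h3 h2
  -- `w₀⁻¹` makes positive roots negative
  have h0 : ∀ i, ¬ cs.length w₀ < cs.length (w₀ * cs.simple i) := fun i => not_lt.2 (hw₀ _)
  have h0' : ∀ i, rep cs h w₀⁻¹ (Pi.single i 1) ≤ 0 := by
    intro i
    refine nonpos_of_lt cs h w₀⁻¹ i ?_
    have h1 : (w₀⁻¹ * cs.simple i) = (cs.simple i * w₀)⁻¹ := by rw [mul_inv_rev, inv_simple]
    rw [h1, cs.length_inv, cs.length_inv]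
    have h2 : cs.length (cs.simple i * w₀) ≤ cs.length w₀ := hw₀ (cs.simple i * w₀)
    rcases cs.length_simple_mul w₀ i with h3 | h3 <;> omega
  have h1 : v * w₀⁻¹ = 1 := by
    refine eq_one_of_nonneg cs h _ fun i => ?_
    rw [map_mul, Module.End.mul_apply]
    exact key v hv _ ((isRoot_sr cs h i).act w₀⁻¹) (h0' i)
  exact mul_inv_eq_one.1 h1

/-- **the field `opp` from root group data** -/
theorem Opp.of_rgd [Finite W] (R : RGD cs h p T n X) (hG : GG cs h T X = ⊤) :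
    Opp (RGD.B cs h T X) (RGD.Sup X (RGD.Pos cs h)) (fun i : I => PJ cs h T X {i}) := by
  obtain ⟨w₀, hmax, huni⟩ := exists_top cs h
  obtain ⟨k₀, hk₀⟩ := exists_rp cs R.nsys w₀
  refine ⟨k₀, fun C h1 h2 h3 x => ?_⟩
  have key : ∀ (m : ℕ) (v : W), cs.length w₀ - cs.length v = m → ∀ g, Cell R.nsys cs h X v g → g ∈ C := by
    intro m
    induction m using Nat.strong_induction_on with
    | _ m ih =>
    intro v hv g hg
    by_cases hv0 : ∀ i, ¬ cs.length v < cs.length (v * cs.simple i)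
    · obtain rfl := huni v hv0
      obtain ⟨b₁, hb₁, k, hk, b₂, hb₂, rfl⟩ := hg
      obtain ⟨t, ht, u, hu, e⟩ := R.mem_B.1 (inv_mem hb₁)
      have e1 : b₁ = u⁻¹ * t⁻¹ := by rw [← mul_inv_rev, ← e, inv_inv]
      have ht1 : k₀⁻¹ * t⁻¹ * k₀ ∈ T := by
        have h4 := (mem_normalizer_iff_cj.1 hk₀.inv.mem_normalizer)
        have h5 : k₀⁻¹ * t⁻¹ * k₀⁻¹⁻¹ ∈ cj k₀⁻¹ T := conj_mem_cj.2 (inv_mem ht)
        rwa [h4, inv_inv] at h5
      have h4 := h1 _ (h2 _ (inv_mem hu)) (k₀⁻¹ * t⁻¹ * k₀ * (k₀⁻¹ * k) * b₂)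
        (mul_mem (mul_mem (RGD.T_le_B ht1) (RGD.T_le_B (hk₀.unique hk))) hb₂)
      have e2 : u⁻¹ * k₀ * (k₀⁻¹ * t⁻¹ * k₀ * (k₀⁻¹ * k) * b₂) = b₁ * k * b₂ := by
        rw [e1]; group
      rwa [e2] at h4
    · push Not at hv0
      obtain ⟨i, hi⟩ := hv0
      refine h3 g i fun y hy hyB => ?_
      obtain ⟨w, hw, hc⟩ := (mem_PJ_iff_cell R).1 hy
      have hw' : w = 1 ∨ w = cs.simple i := by
        obtain ⟨ω, hω, hred, rfl⟩ := exists_reduced_of_mem_WJ cs hw
        match ω, hω, hred with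
        | [], _, _ => left; simp
        | [a], hω, _ =>
          right
          have := hω a (by simp)
          rw [Set.mem_singleton_iff] at this
          rw [this]; simp
        | a :: b :: ω, hω, hred =>
          exfalso
          have ha : a = i := by simpa using hω a (by simp)
          have hb : b = i := by simpa using hω b (by simp)
          subst ha
          subst hb
          have h4 : cs.length (cs.wordProd (b :: b :: ω)) = (b :: b :: ω).length := hred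
          rw [wordProd_cons, wordProd_cons, ← mul_assoc, cs.simple_mul_simple_self, one_mul] at h4
          have h5 := cs.length_wordProd_le ω
          simp only [List.length_cons] at h4
          omega
      rcases hw' with rfl | rfl
      · exact absurd hc.mem_of_one hyB
      · have hl : cs.length (v * cs.simple i) = cs.length v + cs.length (cs.simple i) := by
          rw [cs.length_simple]
          rcases cs.length_mul_simple v i with h4 | h4 <;> omega
        have h5 := Cell.mul_of_length R hl hg hc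
        have h6 := hmax (v * cs.simple i)
        rw [cs.length_simple] at hl
        exact ih (cs.length w₀ - cs.length (v * cs.simple i)) (by omega) (v * cs.simple i) rfl _ h5
  obtain ⟨w, hw⟩ := (mem_GG R).1 (hG ▸ Subgroup.mem_top x : x ∈ GG cs h T X)
  exact key _ w rfl x hw

end rgd

end Cfsg.Agent.Omega.Lie.End

end

section


/-!
# `Pre`: the panels have an odd number of chambers

* `Pre.odd_panel` : `[P i : B]` is odd (`p = 2`);
* `Pre.odd_relIndex` : `U` is a Sylow 2-subgroup of `P i`;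
* `Pre.inf_norm_le` : `P i ⊓ N(U) ≤ B`.
-/

set_option autoImplicit false
set_option linter.unusedSectionVars false

namespace Cfsg.Agent.Omega.Lie.End

open Subgroup Cfsg.Agent.ParSys

variable {G : Type*} [Group G] {B U P : Subgroup G}

/-- `U` transitive on `P / B ∖ {B}`, at least three chambers, `U` a 2-group: `[P : B]` is odd -/
theorem odd_panel_of [Finite G] (hUB : U ≤ B) (hBP : B ≤ P) (hU : IsPGroup 2 U)
    (h3 : ∃ x ∈ P, ∃ y ∈ P, x ∉ B ∧ y ∉ B ∧ x⁻¹ * y ∉ B) (hptr : Hall.HallData.PTr B U P) :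
    Odd (B.relIndex P) := by
  have hfact : Fact (Nat.Prime 2) := ⟨Nat.prime_two⟩
  have hU' : IsPGroup 2 (U.subgroupOf P) := hU.comap_of_injective P.subtype P.subtype_injective
  have h1 := hU'.card_modEq_card_fixedPoints (↥P ⧸ B.subgroupOf P)
  have h2 : MulAction.fixedPoints (U.subgroupOf P) (↥P ⧸ B.subgroupOf P) = {((1 : P) : ↥P ⧸ B.subgroupOf P)} := by
    ext x
    obtain ⟨g, rfl⟩ := QuotientGroup.mk_surjective x
    rw [MulAction.mem_fixedPoints, Set.mem_singleton_iff]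
    constructor
    · intro h
      by_contra hne
      have hgB : (g : G) ∉ B := by
        intro hg
        apply hne
        rw [QuotientGroup.eq]
        rw [mul_one]
        exact inv_mem (mem_subgroupOf.2 hg)
      have key : ∀ y ∈ P, y ∉ B → (g : G)⁻¹ * y ∈ B := by
        intro y hy hyB
        obtain ⟨u, hu, b, hb, e⟩ := hptr g g.2 hgB y hy hyB
        have h5 := h ⟨⟨u, hBP (hUB hu)⟩, mem_subgroupOf.2 hu⟩
        have h6 : ((((⟨u, hBP (hUB hu)⟩ : P) * g : P)) : ↥P ⧸ B.subgroupOf P) = (g : ↥P ⧸ B.subgroupOf P) := h5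
        rw [QuotientGroup.eq] at h6
        have h7 := mem_subgroupOf.1 h6
        have h8 : (u * g)⁻¹ * g ∈ B := h7
        have e2 : (g : G)⁻¹ * y = ((u * g)⁻¹ * g)⁻¹ * b := by rw [e]; group
        rw [e2]
        exact mul_mem (inv_mem h8) hb
      obtain ⟨x, hx, y, hy, hxB, hyB, hxy⟩ := h3
      apply hxy
      have e : x⁻¹ * y = ((g : G)⁻¹ * x)⁻¹ * ((g : G)⁻¹ * y) := by group
      rw [e]
      exact mul_mem (inv_mem (key x hx hxB)) (key y hy hyB)
    · intro h u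
      rw [h]
      change ((((u : P) * 1 : P)) : ↥P ⧸ B.subgroupOf P) = _
      rw [QuotientGroup.eq, mul_one, mul_one]
      exact inv_mem (mem_subgroupOf.2 (hUB (mem_subgroupOf.1 u.2)))
  rw [h2, Nat.card_coe_set_eq, Set.ncard_singleton] at h1
  have h4 : B.relIndex P = Nat.card (↥P ⧸ B.subgroupOf P) := rfl
  rw [h4, Nat.odd_iff]
  exact h1

/-- `P ⊓ N(U) ≤ B` -/
theorem inf_norm_le_of (hUB : U ≤ B) (h3 : ∃ x ∈ P, ∃ y ∈ P, x ∉ B ∧ y ∉ B ∧ x⁻¹ * y ∉ B)
    (hptr : Hall.HallData.PTr B U P) (hreg : ∀ u ∈ U, ∀ g ∈ P, g ∉ B → g⁻¹ * u * g ∈ B → u ∈ Qk B P) :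
    P ⊓ normalizer (U : Set G) ≤ B := by
  rintro g ⟨hg, hN⟩
  by_contra hgB
  have h1 : ∀ u ∈ U, u ∈ Qk B P := by
    intro u hu
    refine hreg u hu g hg hgB ?_
    have h2 := (mem_normalizer_iff.1 (inv_mem hN) u).1 hu
    rw [inv_inv] at h2
    exact hUB h2
  have key : ∀ y ∈ P, y ∉ B → (g : G)⁻¹ * y ∈ B := by
    intro y hy hyB
    obtain ⟨u, hu, b, hb, e⟩ := hptr g hg hgB y hy hyB
    have h2 := ParSys.mem_Qk.1 (h1 u hu) g hg
    have e2 : g⁻¹ * y = (g⁻¹ * u * g) * b := by rw [e]; group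
    rw [e2]
    exact mul_mem h2 hb
  obtain ⟨x, hx, y, hy, hxB, hyB, hxy⟩ := h3
  apply hxy
  have e : x⁻¹ * y = (g⁻¹ * x)⁻¹ * (g⁻¹ * y) := by group
  rw [e]
  exact mul_mem (inv_mem (key x hx hxB)) (key y hy hyB)

variable {I : Type*} {Q : I → Subgroup G} {m : I → I → ℕ}

theorem Pre.odd_panel [Finite G] (D : Pre 2 B U Q m) (i : I) : Odd (B.relIndex (Q i)) :=
  odd_panel_of D.U_le (D.le i) D.isP (D.three i) (D.ptr i)

theorem Pre.odd_relIndex [Finite G] (D : Pre 2 B U Q m) (i : I) : Odd (U.relIndex (Q i)) := by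
  rw [← relIndex_mul_relIndex U B (Q i) D.U_le (D.le i)]
  exact (Nat.coprime_two_left.1 D.index).mul (D.odd_panel i)

theorem Pre.inf_norm_le (D : Pre 2 B U Q m) (i : I) : Q i ⊓ normalizer (U : Set G) ≤ B :=
  inf_norm_le_of D.U_le (D.three i) (D.ptr i) (D.reg i)

/-- `U` is a Sylow 2-subgroup of every `L ≤ Q i` which contains it -/
theorem Pre.odd_relIndex' [Finite G] (D : Pre 2 B U Q m) (i : I) {L : Subgroup G} (hU : U ≤ L) (hL : L ≤ Q i) :
    Odd (U.relIndex L) := by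
  have h1 := relIndex_mul_relIndex U L (Q i) hU hL
  have h2 := D.odd_relIndex i
  rw [← h1] at h2
  exact (Nat.odd_mul.1 h2).1

end Cfsg.Agent.Omega.Lie.End

end

section


/-!
# The K-side of NODE LIE with two more facts

`KSideX` : `KSide`, and for the system `P` : `Opp` (chambers opposite to `B`, needed for `C_M(S_E) = e`) and
`OneL` (a system with one node belongs to `L₂(F)`).
-/

set_option autoImplicit false

namespace Cfsg.Agent.Omega.Lie.End

open Subgroup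

/-- a system with one node belongs to `L₂(F)` -/
def OneL (K : Type*) [Group K] (J : Type) : Prop :=
  (∀ i i' : J, i = i') → ∃ (F : Type) (_ : Field F) (_ : Fintype F), ringChar F = 2 ∧
    Nonempty (K ≃* Matrix.ProjectiveSpecialLinearGroup (Fin 2) F)

universe u

/-- **The K-side of NODE LIE, with `Opp` and `OneL`.** -/
def KSideX : Prop :=
  ∀ (K : Type u) [Group K] [Finite K], commutator K = ⊤ → IsSimpleGroup (K ⧸ center K) →
    Odd (Nat.card (center K)) → IsLieTypeChar 2 (K ⧸ center K) →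
    ∀ (S : Sylow 2 K) (T : Subgroup (MulAut K)), TAct (S : Subgroup K) T →
      (∃ (J : Type) (_ : Finite J) (P : J → Subgroup K) (m : J → J → ℕ), KSys (S : Subgroup K) T P m ∧
        Opp (normalizer ((S : Subgroup K) : Set K)) (S : Subgroup K) P ∧ OneL K J) ∨
        KExc K (S : Subgroup K) T

theorem KSideX.kSide (h : KSideX.{u}) : KSide.{u} := by
  intro K _ _ h1 h2 h3 h4 S T hT
  rcases h K h1 h2 h3 h4 S T hT with ⟨J, hJ, P, m, h5, -, -⟩ | h5
  · exact Or.inl ⟨J, hJ, P, m, h5⟩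
  · exact Or.inr h5

end Cfsg.Agent.Omega.Lie.End

end
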