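import Cfsg.Agent.Mrg.Omega.Lie.End.OfLay
import Cfsg.Agent.Mrg.Omega.SQEnd.KBase
import Cfsg.Agent.HexGlob.SLQuot
import Cfsg.Agent.SignalizersComponents.Components
import Mathlib
import Cfsg.Agent.KFacts.RgdRigid
import Cfsg.Agent.KFacts.RgdPar
import Cfsg.Agent.KFacts.RgdCharP
import Cfsg.Agent.Mrg.Omega.Lie.End.KSys

section


/-!
# `KD` from a moved component of Lie rank one

* `AT_eq_self`: if the parabolic system of a quasisimple group `K` with odd centre has only one node, then `[S, T] = S`;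
* `kd_of`: `K₀ ⊴ N(R i)/O₂`, `K₀ ≅ SL₂(k)`, `A` a Sylow 2-subgroup of `K₀` and `O₂(N(R i)) = W i` give `SQEnd.KD` for
  the preimage of `K₀`;
* `kd_of_lay`: the same from LAYER, if `K₀` is the only moved component and its parabolic system has only one node.
-/

set_option autoImplicit false
set_option linter.unusedSectionVars false

namespace Cfsg.Agent.Omega.Lie.End.KDOf

open Subgroup Cfsg Cfsg.Agent.Omega.BTwo Cfsg.Agent.Omega.Lie Cfsg.Agent.Omega.Lie.Quot Cfsg.Agent.Omega.IIa4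
open Cfsg.Agent.ParSys Cfsg.Agent.Omega.Lie.End.OfLay

universe u v w

/-! ### `[S, T] = S` in rank one -/

section rank

variable {K : Type*} [Group K] {S : Subgroup K} {T : Subgroup (MulAut K)} {J : Type} {P : J → Subgroup K}
  {m : J → J → ℕ}

theorem Qk_normal (B : Subgroup K) : (Qk B ⊤).Normal :=
  ⟨fun _ hx g => Qk_conj' hx (mem_top g)⟩

/-- the kernel on the panel of a one-node system is central -/
theorem Qk_le_center (hK : IsQuasisimple K) (h : KSys S T P m) {i : J} (hP : P i = ⊤) :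
    Qk (normalizer (S : Set K)) ⊤ ≤ center K := by
  rcases SignalizersComponents.Components.quasisimple_normal hK _ (Qk_normal (normalizer (S : Set K))) with h1 | h1
  · exfalso
    have h2 : normalizer (S : Set K) = ⊤ := by
      rw [eq_top_iff, ← h1]
      exact Qk_le _ _
    have h3 := h.five i
    rw [hP, h2, relIndex_self] at h3
    omega
  · exact h1

/-- **`[S, T] = S`** if there is only one node -/
theorem AT_eq_self [Finite K] (hK : IsQuasisimple K) (hodd : Odd (Nat.card (center K))) (h : KSys S T P m)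
    (ht : TAct S T) (hJ : ∀ i j : J, i = j) : AT S T = S := by
  refine le_antisymm ?_ ?_
  · unfold AT
    rw [closure_le]
    rintro a ⟨t, htT, u, hu, rfl⟩
    exact mul_mem (inv_mem hu) (ht.stab t htT u hu)
  obtain ⟨i, hi⟩ := h.moved
  have hP : P i = ⊤ := by
    rw [eq_top_iff, ← h.gen, iSup_le_iff]
    intro j
    rw [hJ j i]
  -- `1 ≠ t ∈ T`
  obtain ⟨t, htT, ht1⟩ : ∃ t ∈ T, t ≠ 1 := by
    by_contra hcon
    push Not at hcon
    have h1 : T = ⊥ := (eq_bot_iff_forall _).2 hcon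
    have h2 := ht.three
    rw [h1, card_bot] at h2
    omega
  have hQ : ∀ u ∈ S, u⁻¹ * t u ∈ Qk (normalizer (S : Set K)) (P i) → u = 1 := by
    intro u hu h1
    have h2 := hi t htT ht1 u hu h1
    rw [hP] at h2
    have h3 := Qk_le_center hK h hP h2
    obtain ⟨n, hn⟩ := h.isP ⟨u, hu⟩
    have hn' : u ^ 2 ^ n = 1 := congrArg Subtype.val hn
    have h4 : orderOf u ∣ 2 ^ n := orderOf_dvd_of_pow_eq_one hn'
    have h5 : orderOf u ∣ Nat.card (center K) := by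
      have := orderOf_dvd_natCard (⟨u, h3⟩ : center K)
      rwa [Subgroup.orderOf_mk] at this
    have h6 : Nat.Coprime (2 ^ n) (Nat.card (center K)) := (Nat.coprime_two_left.2 hodd).pow_left n
    exact orderOf_eq_one_iff.1 (Nat.eq_one_of_dvd_coprimes h6 h4 h5)
  let β : S → S := fun x => ⟨(x : K)⁻¹ * t x, mul_mem (inv_mem x.2) (ht.stab t htT _ x.2)⟩
  have hinj : Function.Injective β := by
    intro x y hxy
    have h1 : (x : K)⁻¹ * t x = (y : K)⁻¹ * t y := congrArg Subtype.val hxy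
    have h2 : t ((y : K) * (x : K)⁻¹) = (y : K) * (x : K)⁻¹ := by
      rw [map_mul, map_inv]
      have h3 : t x = x * ((y : K)⁻¹ * t y) := by rw [← h1]; group
      rw [h3]
      group
    have h4 : (y : K) * (x : K)⁻¹ = 1 := by
      refine hQ _ (mul_mem y.2 (inv_mem x.2)) ?_
      rw [h2, inv_mul_cancel]
      exact one_mem _
    exact Subtype.ext (mul_inv_eq_one.1 h4).symm
  intro s hs
  obtain ⟨x, hx⟩ := (Finite.injective_iff_surjective.1 hinj) ⟨s, hs⟩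
  exact subset_closure ⟨t, htT, x, x.2, (congrArg Subtype.val hx).symm⟩

end rank

/-! ### `KD` -/

section kd

variable {G : Type u} [Group G] {ι : Type v} {V : Subgroup G} {R : ι → Subgroup G} {i j : ι}

/-- the preimage in `G` of a subgroup of `N(R)/O₂(N(R))` -/
def up {R : Subgroup G} (L : Subgroup (HQ R)) : Subgroup G :=
  (L.comap (pr R)).map (normalizer (R : Set G)).subtype

theorem mem_up {R : Subgroup G} {L : Subgroup (HQ R)} {g : G} :
    g ∈ up L ↔ ∃ hg : g ∈ normalizer (R : Set G), pr R ⟨g, hg⟩ ∈ L := by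
  unfold up
  rw [mem_map]
  constructor
  · rintro ⟨x, hx, rfl⟩
    exact ⟨x.2, hx⟩
  · rintro ⟨hg, h⟩
    exact ⟨⟨g, hg⟩, h, rfl⟩

theorem up_le {R : Subgroup G} (L : Subgroup (HQ R)) : up L ≤ normalizer (R : Set G) := fun _ hg => (mem_up.1 hg).1

/-- the projection `up L → L` -/
def prL {R : Subgroup G} (L : Subgroup (HQ R)) : up L →* L :=
  ((pr R).comp (inclusion (up_le L))).codRestrict L fun g => (mem_up.1 g.2).2

theorem prL_val {R : Subgroup G} (L : Subgroup (HQ R)) (g : up L) :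
    (prL L g : HQ R) = pr R ⟨g, up_le L g.2⟩ := rfl

theorem prL_surjective {R : Subgroup G} (L : Subgroup (HQ R)) : Function.Surjective (prL L) := by
  rintro ⟨x, hx⟩
  obtain ⟨g, hg, rfl⟩ := exists_pr x
  exact ⟨⟨g, mem_up.2 ⟨hg, hx⟩⟩, rfl⟩

theorem up_normal {R : Subgroup G} {L : Subgroup (HQ R)} (hL : L.Normal) :
    normalizer (R : Set G) ≤ normalizer (up L : Set G) := by
  intro n hn
  rw [mem_normalizer_iff]
  have key : ∀ n ∈ normalizer (R : Set G), ∀ x ∈ up L, n * x * n⁻¹ ∈ up L := by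
    intro n hn x hx
    obtain ⟨h1, h2⟩ := mem_up.1 hx
    exact mem_up.2 ⟨mul_mem (mul_mem hn h1) (inv_mem hn), hL.conj_mem _ h2 (pr R ⟨n, hn⟩)⟩
  refine fun x => ⟨key n hn x, fun h => ?_⟩
  have := key _ (inv_mem hn) _ h
  have e : n⁻¹ * (n * x * n⁻¹) * n⁻¹⁻¹ = x := by group
  rwa [e] at this

/-- **`KD`** for the preimage of a normal subgroup `K₀ ≅ SL₂(k)` of `N(R i)/O₂(N(R i))` with Sylow 2-subgroup `A`, if
`O₂(N(R i)) = W i` -/
theorem kd_of [Finite G] (b : BTC V R) (hij : i ≠ j) (hQ : QQ (R i) = WW V (R i)) {k : Type w} [Field k] [Finite k]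
    [CharP k 2] {K₀ : Subgroup (HQ (R i))} (hH : K₀ ≤ H0 R i) (hn : K₀.Normal) (hA : AA V R i j ≤ K₀)
    (hodd : Odd ((AA V R i j).relIndex K₀)) (e : K₀ ≃* Matrix.SpecialLinearGroup (Fin 2) k) :
    ∃ φ : up K₀ →* Matrix.SpecialLinearGroup (Fin 2) k, SQEnd.KD V R i j (up K₀) φ (k := k) := by
  have hWN : WW V (R i) ≤ normalizer (R i : Set G) :=
    (b.W_le_Q i).trans ((Q_le_C b.toBT i).trans (centralizer_le_normalizer _))
  refine SQEnd.exists_kd b hij (ψ := e.toMonoidHom.comp (prL K₀)) (e.surjective.comp (prL_surjective K₀)) ?_ ?_ ?_ ?_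
    (up_normal hn) ?_
  · intro g
    have h1 : (e.toMonoidHom.comp (prL K₀)) g = e (prL K₀ g) := rfl
    rw [h1, MulEquiv.map_eq_one_iff, ← hQ, ← pr_eq_one (up_le K₀ g.2), ← prL_val]
    exact ⟨fun h => by rw [h]; rfl, fun h => Subtype.ext h⟩
  · intro x hx
    rw [← hQ] at hx
    have hxN : x ∈ normalizer (R i : Set G) := by rw [hQ] at hx; exact hWN hx
    exact mem_up.2 ⟨hxN, by rw [(pr_eq_one hxN).2 hx]; exact one_mem _⟩
  · intro x hx
    exact mem_up.2 ⟨U_le_N b.toBT i j hx, hA ((mem_AA b.toBT).2 ⟨x, hx, rfl⟩)⟩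
  · intro x hx
    obtain ⟨h1, h2⟩ := mem_up.1 hx
    exact (pr_mem_im_iff (Q_le_C b.toBT i) h1).1 (hH h2)
  · have h1 : (WW V (R i) ⊔ UU V R j).subgroupOf (up K₀) = ((AA V R i j).subgroupOf K₀).comap (prL K₀) := by
      ext g
      rw [mem_subgroupOf, mem_comap, mem_subgroupOf, prL_val, mem_AA b.toBT]
      constructor
      · intro hg
        have hN : UU V R j ≤ normalizer (WW V (R i) : Set G) := (UU_le_cen j).trans (b.cen_le_NW i)
        obtain ⟨w, hw, u, hu, e⟩ := SQEnd.exists_mul hN le_rfl hg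
        refine ⟨u, hu, ?_⟩
        rw [pr_eq_pr]
        have h2 : (u : G)⁻¹ * g = u⁻¹ * w * u := by rw [e]; group
        rw [h2, hQ]
        have h3 := BTwo.conj_mem_of_normalizer (inv_mem (hN hu)) hw
        rwa [inv_inv] at h3
      · rintro ⟨u, hu, h2⟩
        rw [pr_eq_pr, hQ] at h2
        have e : (g : G) = u * (u⁻¹ * g) := by group
        rw [e]
        exact mul_mem ((le_sup_right : UU V R j ≤ _) hu) ((le_sup_left : WW V (R i) ≤ _) h2)
    change Odd ((WW V (R i) ⊔ UU V R j).subgroupOf (up K₀)).index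
    rw [h1, index_comap_of_surjective _ (prL_surjective K₀)]
    exact hodd

end kd

/-! ### A node on which `A` acts regularly -/

section reg

variable {K : Type*} [Group K] {S : Subgroup K} {T : Subgroup (MulAut K)} {J : Type} {P : J → Subgroup K}
  {m : J → J → ℕ}

/-- `T` stabilises `S` -/
theorem mem_S_iff (ht : TAct S T) {t : MulAut K} (htT : t ∈ T) {x : K} : t x ∈ S ↔ x ∈ S := by
  refine ⟨fun h => ?_, ht.stab t htT x⟩
  have h1 := ht.stab t⁻¹ (inv_mem htT) _ h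
  rwa [MulAut.inv_apply_self] at h1

/-- `T` stabilises `N(S)` -/
theorem mem_B (ht : TAct S T) {t : MulAut K} (htT : t ∈ T) {x : K} (hx : x ∈ normalizer (S : Set K)) :
    t x ∈ normalizer (S : Set K) := by
  rw [mem_normalizer_iff] at hx ⊢
  intro y
  have h1 := hx (t⁻¹ y)
  have e : t (x * t⁻¹ y * x⁻¹) = t x * y * (t x)⁻¹ := by
    rw [map_mul, map_mul, map_inv, MulAut.apply_inv_self]
  change y ∈ S ↔ t x * y * (t x)⁻¹ ∈ S
  rw [← e, mem_S_iff ht htT]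
  change t⁻¹ y ∈ S ↔ _ at h1
  rw [← mem_S_iff ht (inv_mem htT) (x := y)]
  exact h1

/-- `T` stabilises the kernel on a panel -/
theorem mem_Q (h : KSys S T P m) (ht : TAct S T) {t : MulAut K} (htT : t ∈ T) {i : J} {x : K}
    (hx : x ∈ Qk (normalizer (S : Set K)) (P i)) : t x ∈ Qk (normalizer (S : Set K)) (P i) := by
  intro g hg
  have h1 := mem_B ht htT (hx _ (h.T_P i t⁻¹ (inv_mem htT) g hg))
  have e : t ((t⁻¹ g)⁻¹ * x * t⁻¹ g) = g⁻¹ * t x * g := by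
    rw [map_mul, map_mul, map_inv, MulAut.apply_inv_self]
  rwa [e] at h1

theorem exists_two [Finite K] {B P : Subgroup K} (h3 : 3 ≤ B.relIndex P) :
    ∃ x ∈ P, ∃ y ∈ P, x ∉ B ∧ y ∉ B ∧ x⁻¹ * y ∉ B := by
  classical
  by_contra hcon
  push Not at hcon
  have hinj : Function.Injective
      (fun q : P ⧸ B.subgroupOf P => (decide (q = ((1 : P) : P ⧸ B.subgroupOf P)) : Bool)) := by
    intro q q' h
    obtain ⟨x, rfl⟩ := QuotientGroup.mk_surjective q
    obtain ⟨y, rfl⟩ := QuotientGroup.mk_surjective q'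
    have hx : ∀ z : P, ((z : P) : P ⧸ B.subgroupOf P) = ((1 : P) : P ⧸ B.subgroupOf P) ↔ (z : K) ∈ B := by
      intro z
      rw [eq_comm, QuotientGroup.eq, inv_one, one_mul, mem_subgroupOf]
    simp only [decide_eq_decide, hx] at h
    rw [QuotientGroup.eq, mem_subgroupOf]
    by_cases h1 : (x : K) ∈ B
    · exact mul_mem (inv_mem h1) (h.1 h1)
    · exact hcon x x.2 y y.2 h1 fun h2 => h1 (h.2 h2)
  have h1 := Nat.card_le_card_of_injective _ hinj
  rw [Nat.card_eq_fintype_card (α := Bool), Fintype.card_bool] at h1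
  change 3 ≤ Nat.card (P ⧸ B.subgroupOf P) at h3
  omega

/-- a 2-element of `N(S)` lies in `S` -/
theorem mem_S_of_two (h : KSys S T P m) {x : K} (hx : x ∈ normalizer (S : Set K)) {n : ℕ} (hn : x ^ 2 ^ n = 1) :
    x ∈ S := by
  have hN : (S.subgroupOf (normalizer (S : Set K))).Normal := normal_in_normalizer
  have h1 := pow_index_mem (S.subgroupOf (normalizer (S : Set K))) ⟨x, hx⟩
  have h2 : x ^ S.relIndex (normalizer (S : Set K)) ∈ S := h1
  have h3 : orderOf x ∣ 2 ^ n := orderOf_dvd_of_pow_eq_one hn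
  have h4 : (S.relIndex (normalizer (S : Set K))).Coprime (orderOf x) :=
    (Nat.Coprime.coprime_dvd_left h3 ((Nat.coprime_two_left.2 h.odd).pow_left n)).symm
  obtain ⟨l, hl⟩ := exists_pow_eq_self_of_coprime h4
  rw [← hl]
  exact pow_mem h2 l

theorem exists_two_pow (h : KSys S T P m) {x : K} (hx : x ∈ S) : ∃ n : ℕ, x ^ 2 ^ n = 1 := by
  obtain ⟨n, hn⟩ := h.isP ⟨x, hx⟩
  exact ⟨n, congrArg Subtype.val hn⟩

/-- odd powers -/
theorem mem_of_odd_pow (h : KSys S T P m) {x : K} (hx : x ∈ S) {n : ℕ} (hn : Odd n) {X : Subgroup K}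
    (h1 : x ^ n ∈ X) : x ∈ X := by
  obtain ⟨k, hk⟩ := exists_two_pow h hx
  have h3 : orderOf x ∣ 2 ^ k := orderOf_dvd_of_pow_eq_one hk
  have h4 : n.Coprime (orderOf x) := (Nat.Coprime.coprime_dvd_left h3 ((Nat.coprime_two_left.2 hn).pow_left k)).symm
  obtain ⟨l, hl⟩ := exists_pow_eq_self_of_coprime h4
  rw [← hl]
  exact pow_mem h1 l

theorem odd_orderOf [Finite K] (ht : TAct S T) {t : MulAut K} (htT : t ∈ T) : Odd (orderOf t) := by
  have h1 : orderOf t ∣ Nat.card T := by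
    have := orderOf_dvd_natCard (⟨t, htT⟩ : T)
    rwa [Subgroup.orderOf_mk] at this
  exact Odd.of_dvd_nat ht.odd h1

/-- `T` fixes the chambers of an unmoved panel -/
theorem unmoved_fix [Finite K] (h : KSys S T P m) (ht : TAct S T) {k : J} (hk : Unmoved S T (P k)) {t : MulAut K}
    (htT : t ∈ T) {g : K} (hg : g ∈ P k) : g⁻¹ * t g ∈ normalizer (S : Set K) := by
  by_cases hgB : g ∈ normalizer (S : Set K)
  · exact mul_mem (inv_mem hgB) (mem_B ht htT hgB)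
  have htg : t g ∉ normalizer (S : Set K) := by
    intro h1
    have h2 := mem_B ht (inv_mem htT) h1
    rw [MulAut.inv_apply_self] at h2
    exact hgB h2
  obtain ⟨u, hu, c, hc, e⟩ := h.ptr k g hg hgB (t g) (h.T_P k t htT g hg) htg
  have hSP : S ≤ P k := le_normalizer.trans (h.le k)
  have key : ∀ r : ℕ, ∃ q ∈ Qk (normalizer (S : Set K)) (P k), ∃ c ∈ normalizer (S : Set K),
      (t ^ r) g = q * u ^ r * g * c := by
    intro r
    induction r with
    | zero => exact ⟨1, one_mem _, 1, one_mem _, by simp⟩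
    | succ r ih =>
      obtain ⟨q, hq, c₁, hc₁, e₁⟩ := ih
      have hur : u ^ r ∈ S := pow_mem hu r
      have h1 := hk t htT _ hur
      refine ⟨t q * (u ^ r * ((u ^ r)⁻¹ * t (u ^ r)) * (u ^ r)⁻¹),
        mul_mem (mem_Q h ht htT hq) (Qk_conj' h1 (hSP hur)), c * t c₁, mul_mem hc (mem_B ht htT hc₁), ?_⟩
      rw [pow_succ', MulAut.mul_apply, e₁, map_mul, map_mul, map_mul, e, pow_succ]
      group
  obtain ⟨q, hq, c₁, hc₁, e₁⟩ := key (orderOf t)
  rw [pow_orderOf_eq_one, MulAut.one_apply] at e₁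
  have h1 : g⁻¹ * u ^ orderOf t * g ∈ normalizer (S : Set K) := by
    have h2 := hq g hg
    have e2 : g⁻¹ * u ^ orderOf t * g = (g⁻¹ * q * g)⁻¹ * c₁⁻¹ := by
      have e3 : c₁ = (q * u ^ orderOf t * g)⁻¹ * g := eq_inv_mul_of_mul_eq e₁.symm
      rw [e3]
      group
    rw [e2]
    exact mul_mem (inv_mem h2) (inv_mem hc₁)
  have h2 := h.reg k _ (pow_mem hu _) g hg hgB h1
  have h3 := mem_of_odd_pow h hu (odd_orderOf ht htT) h2
  rw [e]
  have e4 : g⁻¹ * (u * g * c) = g⁻¹ * u * g * c := by group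
  rw [e4]
  exact mul_mem (h3 g hg) hc

theorem unmoved_Q [Finite K] (h : KSys S T P m) (ht : TAct S T) {k : J} (hk : Unmoved S T (P k)) {t : MulAut K}
    (htT : t ∈ T) {g : K} (hg : g ∈ P k) : g⁻¹ * t g ∈ Qk (normalizer (S : Set K)) (P k) := by
  intro x hx
  have h1 := unmoved_fix h ht hk htT (mul_mem hg hx)
  have h2 := unmoved_fix h ht hk htT hx
  have h3 := mul_mem h1 (inv_mem h2)
  have e : (g * x)⁻¹ * t (g * x) * (x⁻¹ * t x)⁻¹ = x⁻¹ * (g⁻¹ * t g) * x := by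
    rw [map_mul]
    group
  rwa [e] at h3

theorem sub_S (ht : TAct S T) : AT S T ≤ S := by
  unfold AT
  rw [closure_le]
  rintro a ⟨t, htT, u, hu, rfl⟩
  exact mul_mem (inv_mem hu) (ht.stab t htT u hu)

theorem exists_t (ht : TAct S T) : ∃ t ∈ T, t ≠ 1 := by
  by_contra hcon
  push Not at hcon
  have h1 : T = ⊥ := (eq_bot_iff_forall _).2 hcon
  have h2 := ht.three
  rw [h1, card_bot] at h2
  omega

theorem T_AT (ht : TAct S T) {t : MulAut K} (htT : t ∈ T) {a : K} (ha : a ∈ AT S T) : t a ∈ AT S T := by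
  have h1 : a⁻¹ * t a ∈ AT S T := subset_closure ⟨t, htT, a, sub_S ht ha, rfl⟩
  have h2 := mul_mem ha h1
  rwa [mul_inv_cancel_left] at h2

/-- `[A, t] = A` -/
theorem AT_surj [Finite K] (ht : TAct S T) {t : MulAut K} (htT : t ∈ T) (ht1 : t ≠ 1) {a : K} (ha : a ∈ AT S T) :
    ∃ c ∈ AT S T, c⁻¹ * t c = a := by
  let β : AT S T → AT S T := fun x => ⟨(x : K)⁻¹ * t x, mul_mem (inv_mem x.2) (T_AT ht htT x.2)⟩
  have hinj : Function.Injective β := by
    intro x y hxy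
    have h1 : (x : K)⁻¹ * t x = (y : K)⁻¹ * t y := congrArg Subtype.val hxy
    have h2 : t ((y : K) * (x : K)⁻¹) = (y : K) * (x : K)⁻¹ := by
      rw [map_mul, map_inv]
      have h3 : t x = x * ((y : K)⁻¹ * t y) := by rw [← h1]; group
      rw [h3]
      group
    have h4 := ht.fpf t htT ht1 _ (mul_mem y.2 (inv_mem x.2)) h2
    exact Subtype.ext (mul_inv_eq_one.1 h4).symm
  obtain ⟨x, hx⟩ := (Finite.injective_iff_surjective.1 hinj) ⟨a, ha⟩
  exact ⟨x, x.2, congrArg Subtype.val hx⟩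

/-- `S = A (S ∩ Q_j)` for a moved node `j` -/
theorem exists_decomp [Finite K] (h : KSys S T P m) (ht : TAct S T) {j : J} (hj : Moved S T (P j)) {s : K}
    (hs : s ∈ S) : ∃ a ∈ AT S T, ∃ d ∈ S, d ∈ Qk (normalizer (S : Set K)) (P j) ∧ s = a * d := by
  obtain ⟨t, htT, ht1⟩ := exists_t ht
  have hSP : S ≤ P j := le_normalizer.trans (h.le j)
  let N : Subgroup S := (Qk (normalizer (S : Set K)) (P j)).subgroupOf S
  have hN : N.Normal := ⟨fun x hx y => mem_subgroupOf.2 (Qk_conj' (mem_subgroupOf.1 hx) (hSP y.2))⟩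
  let τ : S →* S := (t.toMonoidHom.comp S.subtype).codRestrict S fun x => ht.stab t htT x x.2
  have hτ : ∀ x : S, ((τ x : S) : K) = t x := fun x => rfl
  have hNτ : N ≤ N.comap τ := by
    intro x hx
    change t (x : K) ∈ Qk (normalizer (S : Set K)) (P j)
    exact mem_Q h ht htT (mem_subgroupOf.1 hx)
  let f : S ⧸ N →* S ⧸ N := QuotientGroup.map N N τ hNτ
  have hinj : Function.Injective (fun x : S ⧸ N => x⁻¹ * f x) := by
    intro x y hxy
    have hxy' : x⁻¹ * f x = y⁻¹ * f y := hxy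
    have h2 : f (y * x⁻¹) = y * x⁻¹ := by
      rw [map_mul, map_inv]
      have h3 : f x = x * (y⁻¹ * f y) := by rw [← hxy']; group
      rw [h3]
      group
    obtain ⟨z, hz⟩ := QuotientGroup.mk_surjective (y * x⁻¹)
    rw [← hz] at h2
    have h4 : ((τ z : S) : S ⧸ N) = (z : S ⧸ N) := h2
    rw [eq_comm, QuotientGroup.eq, mem_subgroupOf] at h4
    have h5 := hj t htT ht1 z z.2 h4
    have h6 : ((z : S) : S ⧸ N) = 1 := (QuotientGroup.eq_one_iff z).2 (mem_subgroupOf.2 h5)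
    rw [h6] at hz
    exact (mul_inv_eq_one.1 hz.symm).symm
  obtain ⟨x, hx⟩ := (Finite.injective_iff_surjective.1 hinj) ((⟨s, hs⟩ : S) : S ⧸ N)
  obtain ⟨u, rfl⟩ := QuotientGroup.mk_surjective x
  have h1 : ((u⁻¹ * τ u : S) : S ⧸ N) = ((⟨s, hs⟩ : S) : S ⧸ N) := hx
  rw [QuotientGroup.eq, mem_subgroupOf] at h1
  have h2 : ((u : K)⁻¹ * t u)⁻¹ * s ∈ Qk (normalizer (S : Set K)) (P j) := h1
  have h3 : (u : K)⁻¹ * t u ∈ AT S T := subset_closure ⟨t, htT, u, u.2, rfl⟩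
  exact ⟨_, h3, _, mul_mem (inv_mem (sub_S ht h3)) hs, h2, by group⟩

section gamma

variable [Finite K] (h : KSys S T P m) (ht : TAct S T) {j : J} (hj : Moved S T (P j))
  (hreg : ∀ a ∈ AT S T, a ∈ Qk (normalizer (S : Set K)) (P j) → a = 1)
include h ht hj hreg

theorem comm_D {a d : K} (ha : a ∈ AT S T) (hd : d ∈ S) (hdQ : d ∈ Qk (normalizer (S : Set K)) (P j)) :
    a * d = d * a := by
  have hSP : S ≤ P j := le_normalizer.trans (h.le j)
  have h1 := mul_mem ha (h.B_A d (le_normalizer hd) _ (inv_mem ha))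
  have e : a * (d * a⁻¹ * d⁻¹) = a * d * a⁻¹ * d⁻¹ := by group
  rw [e] at h1
  have h2 := hreg _ h1 (mul_mem (Qk_conj' hdQ (hSP (sub_S ht ha))) (inv_mem hdQ))
  rw [mul_inv_eq_one, mul_inv_eq_iff_eq_mul] at h2
  exact h2

theorem T_D {t : MulAut K} (htT : t ∈ T) {d : K} (hd : d ∈ S) (hdQ : d ∈ Qk (normalizer (S : Set K)) (P j)) :
    t d = d := by
  have h1 : d⁻¹ * t d ∈ AT S T := subset_closure ⟨t, htT, d, hd, rfl⟩
  have h2 := hreg _ h1 (mul_mem (inv_mem hdQ) (mem_Q h ht htT hdQ))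
  exact (inv_mul_eq_one.1 h2).symm

theorem comm_S {a s : K} (ha : a ∈ AT S T) (hs : s ∈ S) : a * s = s * a := by
  obtain ⟨a', ha', d, hd, hdQ, rfl⟩ := exists_decomp h ht hj hs
  rw [← mul_assoc, ht.ab a ha a' ha', mul_assoc, comm_D h ht hj hreg ha hd hdQ, mul_assoc]

/-- `[S^g, T] ≤ A` for `g` in an unmoved parabolic subgroup -/
theorem conj_S {k : J} (hk : Unmoved S T (P k)) {g : K} (hg : g ∈ P k) {u : K} (hu : g⁻¹ * u * g ∈ S)
    {t : MulAut K} (htT : t ∈ T) : u⁻¹ * t u ∈ AT S T := by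
  have hSP : S ≤ P k := le_normalizer.trans (h.le k)
  have huP : u ∈ P k := by
    have := mul_mem (mul_mem hg (hSP hu)) (inv_mem hg)
    have e : g * (g⁻¹ * u * g) * g⁻¹ = u := by group
    rwa [e] at this
  have h1 := unmoved_Q h ht hk htT huP
  -- `u⁻¹ t u ∈ g S g⁻¹`
  have h2 := unmoved_Q h ht hk htT hg
  have h3 : g⁻¹ * (u⁻¹ * t u) * g ∈ S := by
    have h4 := ht.stab t htT _ hu
    have h5 := (mem_normalizer_iff.1 (Qk_le _ _ h2) _).1 h4
    have e : g⁻¹ * (u⁻¹ * t u) * g = (g⁻¹ * u * g)⁻¹ * (g⁻¹ * t g * t (g⁻¹ * u * g) * (g⁻¹ * t g)⁻¹) := by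
      rw [map_mul, map_mul, map_inv]
      group
    rw [e]
    exact mul_mem (inv_mem hu) h5
  have h4 : u⁻¹ * t u ∈ S := by
    obtain ⟨n, hn⟩ := exists_two_pow h h3
    refine mem_S_of_two h (Qk_le _ _ h1) (n := n) ?_
    have e : u⁻¹ * t u = g * (g⁻¹ * (u⁻¹ * t u) * g) * g⁻¹ := by group
    rw [e, conj_pow, hn, mul_one, mul_inv_cancel]
  obtain ⟨a, ha, d, hd, hdQ, e⟩ := exists_decomp h ht hj h4
  have key : ∀ r : ℕ, ∃ a' ∈ AT S T, (t ^ r) u = u * a' * d ^ r := by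
    intro r
    induction r with
    | zero => exact ⟨1, one_mem _, by simp⟩
    | succ r ih =>
      obtain ⟨a', ha', e'⟩ := ih
      refine ⟨a * t a', mul_mem ha (T_AT ht htT ha'), ?_⟩
      have h5 : t u = u * (a * d) := by rw [← e]; group
      have h6 := comm_D h ht hj hreg (T_AT ht htT ha') hd hdQ
      rw [pow_succ', MulAut.mul_apply, e', map_mul, map_mul, map_pow, T_D h ht hj hreg htT hd hdQ, h5, pow_succ']
      calc u * (a * d) * t a' * d ^ r = u * a * (d * t a') * d ^ r := by group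
        _ = u * a * (t a' * d) * d ^ r := by rw [h6]
        _ = u * (a * t a') * (d * d ^ r) := by group
  obtain ⟨a', ha', e'⟩ := key (orderOf t)
  rw [pow_orderOf_eq_one, MulAut.one_apply] at e'
  have h5 : d ^ orderOf t = a'⁻¹ := by
    have h6 : a' * d ^ orderOf t = 1 := by
      have h7 : u * (a' * d ^ orderOf t) = u * 1 := by rw [← mul_assoc, ← e', mul_one]
      exact mul_left_cancel h7
    exact eq_inv_of_mul_eq_one_right h6
  have h6 : d ^ orderOf t = 1 := by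
    refine hreg _ ?_ (pow_mem hdQ _)
    rw [h5]
    exact inv_mem ha'
  have h7 : d ∈ (⊥ : Subgroup K) := mem_of_odd_pow h hd (odd_orderOf ht htT) (mem_bot.2 h6)
  rw [mem_bot] at h7
  rw [e, h7, mul_one]
  exact ha

/-- `A ≤ S^g` for `g` in an unmoved parabolic subgroup -/
theorem A_le_conj {k : J} (hk : Unmoved S T (P k)) {g : K} (hg : g ∈ P k) {a : K} (ha : a ∈ AT S T) :
    g⁻¹ * a * g ∈ S := by
  have h1 : a ∈ Qk (normalizer (S : Set K)) (P k) := by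
    have h2 : AT S T ≤ Qk (normalizer (S : Set K)) (P k) := by
      unfold AT
      rw [closure_le]
      rintro a ⟨t, htT, u, hu, rfl⟩
      exact hk t htT u hu
    exact h2 ha
  obtain ⟨n, hn⟩ := exists_two_pow h (sub_S ht ha)
  refine mem_S_of_two h (h1 g hg) (n := n) ?_
  have e : g⁻¹ * a * g = g⁻¹ * a * g⁻¹⁻¹ := by rw [inv_inv]
  rw [e, conj_pow, hn, mul_one, mul_inv_cancel]

/-- `S^g` normalises `A` -/
theorem conj_A {k : J} (hk : Unmoved S T (P k)) {g : K} (hg : g ∈ P k) {x : K} (hx : g⁻¹ * x * g ∈ S) {a : K}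
    (ha : a ∈ AT S T) : x * a * x⁻¹ ∈ AT S T := by
  obtain ⟨t, htT, ht1⟩ := exists_t ht
  obtain ⟨c, hc, rfl⟩ := AT_surj ht htT ht1 ha
  have hxi : g⁻¹ * x⁻¹ * g ∈ S := by
    have := inv_mem hx
    have e : (g⁻¹ * x * g)⁻¹ = g⁻¹ * x⁻¹ * g := by group
    rwa [e] at this
  have hw : g⁻¹ * (c * x⁻¹) * g ∈ S := by
    have h1 := mul_mem (A_le_conj h ht hj hreg hk hg hc) hxi
    have e : g⁻¹ * c * g * (g⁻¹ * x⁻¹ * g) = g⁻¹ * (c * x⁻¹) * g := by group
    rwa [e] at h1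
  have h1 := conj_S h ht hj hreg hk hg hw htT
  have h2 := conj_S h ht hj hreg hk hg hxi htT
  have h3 := mul_mem h1 (inv_mem h2)
  have e : (c * x⁻¹)⁻¹ * t (c * x⁻¹) * (x⁻¹⁻¹ * t x⁻¹)⁻¹ = x * (c⁻¹ * t c) * x⁻¹ := by
    rw [map_mul]
    group
  rwa [e] at h3

/-- the normal closure of `S` in an unmoved parabolic subgroup centralises `A` -/
theorem NCl_comm {k : J} (hk : Unmoved S T (P k)) {x : K} (hx : x ∈ NCl S (P k)) {a : K} (ha : a ∈ AT S T) :
    x * a = a * x := by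
  have hSP : S ≤ P k := le_normalizer.trans (h.le k)
  have hN : NCl S (P k) ≤ normalizer (AT S T : Set K) := by
    unfold NCl
    rw [closure_le]
    rintro x ⟨g, hg, hx⟩
    change x ∈ normalizer (AT S T : Set K)
    rw [mem_normalizer_iff]
    refine fun a => ⟨fun ha => conj_A h ht hj hreg hk hg hx ha, fun ha => ?_⟩
    have hxi : g⁻¹ * x⁻¹ * g ∈ S := by
      have := inv_mem hx
      have e : (g⁻¹ * x * g)⁻¹ = g⁻¹ * x⁻¹ * g := by group
      rwa [e] at this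
    have h1 := conj_A h ht hj hreg hk hg hxi ha
    have e : x⁻¹ * (x * a * x⁻¹) * x⁻¹⁻¹ = a := by group
    rwa [e] at h1
  have hSN : S ≤ NCl S (P k) := fun s hs => subset_closure ⟨1, one_mem _, by rwa [inv_one, one_mul, mul_one]⟩
  have hconj : ∀ g ∈ P k, ∀ s ∈ S, g * s * g⁻¹ ∈ NCl S (P k) := fun g hg s hs =>
    subset_closure ⟨g, hg, by
      have e : g⁻¹ * (g * s * g⁻¹) * g = s := by group
      rwa [e]⟩
  -- an element of `NCl` outside `N(S)`
  obtain ⟨g₀, hg₀, hg₀P, hg₀B⟩ : ∃ g₀ ∈ NCl S (P k), g₀ ∈ P k ∧ g₀ ∉ normalizer (S : Set K) := by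
    by_contra hcon
    push Not at hcon
    have h5 := h.five k
    obtain ⟨x, hx, y, hy, h1, h2, h3⟩ := exists_two (B := normalizer (S : Set K)) (P := P k) (by omega)
    obtain ⟨u, hu, c, hc, e⟩ := h.ptr k x hx h1 y hy h2
    apply h3
    have h4 : x⁻¹ * u * x ∈ normalizer (S : Set K) := by
      refine hcon _ ?_ (mul_mem (mul_mem (inv_mem hx) (hSP hu)) hx)
      have := hconj x⁻¹ (inv_mem hx) u hu
      rwa [inv_inv] at this
    have e2 : x⁻¹ * y = x⁻¹ * u * x * c := by rw [e]; group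
    rw [e2]
    exact mul_mem h4 hc
  -- `P k = NCl N(S)`
  have hP : ∀ g ∈ P k, ∃ n ∈ NCl S (P k), ∃ c ∈ normalizer (S : Set K), g = n * c := by
    intro g hg
    by_cases hgB : g ∈ normalizer (S : Set K)
    · exact ⟨1, one_mem _, g, hgB, (one_mul g).symm⟩
    · obtain ⟨u, hu, c, hc, e⟩ := h.ptr k g₀ hg₀P hg₀B g hg hgB
      exact ⟨u * g₀, mul_mem (hSN hu) hg₀, c, hc, e⟩
  have hC : NCl S (P k) ≤ centralizer (AT S T : Set K) := by
    have h0 : closure {x | ∃ g ∈ P k, g⁻¹ * x * g ∈ S} ≤ centralizer (AT S T : Set K) := by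
      rw [closure_le]
      rintro x ⟨g, hg, hx⟩
      obtain ⟨n, hn, c, hc, rfl⟩ := hP g hg
      have h1 : n⁻¹ * x * n ∈ S := by
        have h2 := (mem_normalizer_iff.1 hc _).1 hx
        have e : c * ((n * c)⁻¹ * x * (n * c)) * c⁻¹ = n⁻¹ * x * n := by group
        rwa [e] at h2
      change x ∈ centralizer (AT S T : Set K)
      rw [mem_centralizer_iff]
      intro a ha
      have h2 : n⁻¹ * a * n ∈ AT S T := by
        have := (mem_normalizer_iff.1 (inv_mem (hN hn)) a).1 ha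
        rwa [inv_inv] at this
      have h3 := comm_S h ht hj hreg h2 h1
      calc a * x = n * (n⁻¹ * a * n * (n⁻¹ * x * n)) * n⁻¹ := by group
        _ = n * (n⁻¹ * x * n * (n⁻¹ * a * n)) * n⁻¹ := by rw [h3]
        _ = x * a := by group
    exact h0
  exact (mem_centralizer_iff.1 (hC hx) a ha).symm

/-- **a node on which `A` acts regularly is the only node** -/
theorem one_node (i i' : J) : i = i' := by
  by_contra hne
  have h1 : ∃ k, k ≠ j := by
    by_cases hi : i = j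
    · exact ⟨i', fun h2 => hne (hi.trans h2.symm)⟩
    · exact ⟨i, hi⟩
  obtain ⟨k, hk, b, -, hbN, -, hb⟩ := h.nbr j hj h1
  apply ht.ne
  rw [eq_bot_iff_forall]
  intro a ha
  refine hreg a ha (hb a (sub_S ht ha) ?_)
  rw [NCl_comm h ht hj hreg hk hbN ha, mul_inv_cancel_right, mul_inv_cancel]
  exact one_mem _

end gamma

end reg

/-! ### The real situation -/

section real

variable {G : Type u} [Group G] {ι : Type v} {V : Subgroup G} {R : ι → Subgroup G} {i j : ι}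
  {T S : Subgroup (HQ (R i))}

/-- **`KD` from LAYER**, if `K₀` is the only moved component and its parabolic system has only one node -/
theorem kd_of_lay [Finite G] (b : BTC V R) (hij : i ≠ j) (hQ : QQ (R i) = WW V (R i)) (l : Lay V R i j T S)
    {K₀ : Subgroup (HQ (R i))} (hK : MComp V R i j K₀) (ht : TAct (S.subgroupOf K₀) (Tact T K₀))
    (hn : (⨆ K ∈ {K : Subgroup (HQ (R i)) | MComp V R i j K}, K).Normal)
    (huniq : ∀ K : Subgroup (HQ (R i)), MComp V R i j K → K = K₀) {J : Type} {P : J → Subgroup K₀} {m : J → J → ℕ}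
    (h : KSys (S.subgroupOf K₀) (Tact T K₀) P m) (hJ : ∀ a c : J, a = c)
    (hone : ∃ (F : Type) (_ : Field F) (_ : Fintype F), ringChar F = 2 ∧
      Nonempty (K₀ ≃* Matrix.ProjectiveSpecialLinearGroup (Fin 2) F)) :
    ∃ (k : Type) (_ : Field k) (_ : Finite k) (_ : CharP k 2)
      (φ : up K₀ →* Matrix.SpecialLinearGroup (Fin 2) k), SQEnd.KD V R i j (up K₀) φ (k := k) := by
  obtain ⟨k, _, _, hk2, ⟨e⟩⟩ := hone
  have hc : CharP k 2 := ringChar.of_eq hk2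
  obtain ⟨e'⟩ := HexGlob.SLQuot.exists_equiv (F' := k) (K := k) Nat.card_eq_fintype_card.symm
  have h1 : (⨆ K ∈ {K : Subgroup (HQ (R i)) | MComp V R i j K}, K) = K₀ :=
    le_antisymm (iSup₂_le fun K hK' => (huniq K hK').le)
      (le_iSup₂ (f := fun (K : Subgroup (HQ (R i))) (_ : K ∈ {K : Subgroup (HQ (R i)) | MComp V R i j K}) => K) K₀ hK)
  rw [h1] at hn
  have hA : AA V R i j ≤ K₀ :=
    (l.A_le b.toBT hij).trans (iSup₂_le fun K hK' => inf_le_right.trans (huniq K hK').le)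
  have h2 : S.subgroupOf K₀ = (AA V R i j).subgroupOf K₀ := by
    rw [← AT_eq_self hK.1.2 (OfLay.odd_center (pCore_HQ (R i)) hK.1) h ht hJ, OfLay.AT_eq (l.hyp K₀ hK),
      inf_subgroupOf_right]
  have hodd : Odd ((AA V R i j).relIndex K₀) := by
    have : Fact (Nat.Prime 2) := ⟨Nat.prime_two⟩
    obtain ⟨X, hX⟩ := OfLay.exists_sylow (l.hyp K₀ hK).toPre
    rw [relIndex, ← h2, ← hX, ← Nat.not_even_iff_odd, even_iff_two_dvd]
    exact X.not_dvd_index
  obtain ⟨φ, hφ⟩ := kd_of b hij hQ hK.2.1 hn hA hodd (e.trans e')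
  exact ⟨k, inferInstance, inferInstance, hc, φ, hφ⟩

/-- **(gamma)**: if `A` acts regularly on the points `≠ e` of the orbit `e^{P j₀}`, then `K₀` is the only moved component,
and its parabolic system has only one node.  `E₀` is the stabiliser of the point `e`. -/
theorem uniq_of_reg [Finite G] (l : Lay V R i j T S) {K₀ : Subgroup (HQ (R i))} (hK : MComp V R i j K₀)
    (ht : ∀ K, MComp V R i j K → TAct (S.subgroupOf K) (Tact T K))
    {J : Type} {P : J → Subgroup K₀} {m : J → J → ℕ} (h : KSys (S.subgroupOf K₀) (Tact T K₀) P m) {j₀ : J}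
    (hj : Moved (S.subgroupOf K₀) (Tact T K₀) (P j₀)) (E₀ : Subgroup (HQ (R i))) (hAE : AA V R i j ≤ E₀)
    (hBE : ∀ x : K₀, x ∈ normalizer (S.subgroupOf K₀ : Set K₀) → (x : HQ (R i)) ∈ E₀)
    (hmv : ∃ g ∈ P j₀, (g : HQ (R i)) ∉ E₀)
    (hreg : ∀ a ∈ AA V R i j, ∀ g ∈ P j₀, (g : HQ (R i)) ∉ E₀ → (g : HQ (R i))⁻¹ * a * g ∈ E₀ → a = 1) :
    (∀ K : Subgroup (HQ (R i)), MComp V R i j K → K = K₀) ∧ ∀ a c : J, a = c := by
  obtain ⟨g, hg, hgE⟩ := hmv
  constructor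
  · intro K hK'
    by_contra hne
    have h1 := (ht K hK').ne
    apply h1
    rw [OfLay.AT_eq (l.hyp K hK'), eq_bot_iff_forall]
    intro x hx
    have h2 := mem_subgroupOf.1 hx
    have h3 : ((x : K) : HQ (R i)) * g = g * x := Layer.comm_of_ne hK'.1 hK.1 hne x.2 g.2
    refine Subtype.ext (hreg _ h2.1 g hg hgE ?_)
    rw [mul_assoc, h3, inv_mul_cancel_left]
    exact hAE h2.1
  · refine one_node h (ht K₀ hK) hj fun a ha haQ => ?_
    rw [OfLay.AT_eq (l.hyp K₀ hK)] at ha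
    exact Subtype.ext (hreg _ (mem_subgroupOf.1 ha).1 g hg hgE (hBE _ (haQ g hg)))

/-- **`KD` for a (gamma) node** -/
theorem kd_of_reg [Finite G] (b : BTC V R) (hij : i ≠ j) (hQ : QQ (R i) = WW V (R i)) (l : Lay V R i j T S)
    {K₀ : Subgroup (HQ (R i))} (hK : MComp V R i j K₀)
    (ht : ∀ K, MComp V R i j K → TAct (S.subgroupOf K) (Tact T K))
    (hn : (⨆ K ∈ {K : Subgroup (HQ (R i)) | MComp V R i j K}, K).Normal)
    {J : Type} {P : J → Subgroup K₀} {m : J → J → ℕ} (h : KSys (S.subgroupOf K₀) (Tact T K₀) P m)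
    (hone : (∀ a c : J, a = c) → ∃ (F : Type) (_ : Field F) (_ : Fintype F), ringChar F = 2 ∧
      Nonempty (K₀ ≃* Matrix.ProjectiveSpecialLinearGroup (Fin 2) F)) {j₀ : J}
    (hj : Moved (S.subgroupOf K₀) (Tact T K₀) (P j₀)) (E₀ : Subgroup (HQ (R i))) (hAE : AA V R i j ≤ E₀)
    (hBE : ∀ x : K₀, x ∈ normalizer (S.subgroupOf K₀ : Set K₀) → (x : HQ (R i)) ∈ E₀)
    (hmv : ∃ g ∈ P j₀, (g : HQ (R i)) ∉ E₀)
    (hreg : ∀ a ∈ AA V R i j, ∀ g ∈ P j₀, (g : HQ (R i)) ∉ E₀ → (g : HQ (R i))⁻¹ * a * g ∈ E₀ → a = 1) :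
    ∃ (k : Type) (_ : Field k) (_ : Finite k) (_ : CharP k 2)
      (φ : up K₀ →* Matrix.SpecialLinearGroup (Fin 2) k), SQEnd.KD V R i j (up K₀) φ (k := k) := by
  obtain ⟨h1, h2⟩ := uniq_of_reg l hK ht h hj E₀ hAE hBE hmv hreg
  exact kd_of_lay b hij hQ l hK (ht K₀ hK) hn h1 h h2 (hone h2)

end real

end Cfsg.Agent.Omega.Lie.End.KDOf

end

section


/-!
# Groups of odd automorphisms of a group with a root group datum: the commutator of two root elements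

`R : RGD cs h p T n X`, `i` a node, `η = w α_m` a positive root with `w ∈ W_J`, `m ∈ J`, `i ∉ J` and
`⟨η, α_i^∨⟩ ≠ 0`; `δ = s_i η`.

* `comp` : for `a ∈ X_i#`, `v ∈ X_η#` the commutator `v⁻¹ a⁻¹ v a` is `x z`, `1 ≠ x ∈ X_δ`, `z` in the product `Z` of
  the root groups in the interval `(δ, η]`; `X_δ ∩ Z = 1`, `X_δ ≤ N(Z)`;
* `mem_of_fpf` : `A` abelian, `β` fixed-point-free on `A`, `b⁻¹ β b ∈ Z` implies `b ∈ Z`;
* `no_fix` : `β` is not trivial on `X_δ` if the commutator is in `A` and `β` is fixed-point-free on `A`;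
* `exists_rp_fix` : a frame automorphism fixing an element of `X_i#` fixes a representative of `s_i`.
-/

set_option autoImplicit false
set_option linter.unusedSectionVars false

namespace Cfsg.Agent.Omega.Lie.End.Mov

open CoxeterSystem Cfsg.Agent.ChevalleyStructure.CoxeterGeom Cfsg.Agent.Tits.Roots Cfsg.Agent.Tits.Core
  Cfsg.Agent.Tits.Exchange Cfsg.Agent.Tits.RootComb Cfsg.Agent.Nodes.Reps Cfsg.Agent.Nodes.BNOf
  Cfsg.Agent.Nodes.StabComb Cfsg.Agent.Nodes.Bruhat Cfsg.Agent.Nodes.OppDec Cfsg.Agent.Nodes.LeviDec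
  Cfsg.Agent.Nodes.NormalForm Cfsg.Agent.KFacts.RgdOpp Cfsg.Agent.KFacts.RgdAut Cfsg.Agent.KFacts.RgdDiag
  Cfsg.Agent.KFacts.RgdRigid Cfsg.Agent.KFacts.RgdPar
open scoped commutatorElement

/-- `β` fixed-point-free on the abelian group `A`, `b ∈ A` and `b⁻¹ β b ∈ Z` imply `b ∈ Z`. -/
theorem mem_of_fpf {Y : Type*} [Group Y] [Finite Y] {A Z : Subgroup Y} {β : MulAut Y}
    (hβ : ∀ a ∈ A, β a ∈ A) (hf : ∀ a ∈ A, β a = a → a = 1)
    (hZ : ∀ z ∈ Z, β z ∈ Z) {b : Y} (hb : b ∈ A) (h : b⁻¹ * β b ∈ Z) : b ∈ Z := by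
  have key : ∀ x ∈ A, ∀ y ∈ A, x⁻¹ * β x = y⁻¹ * β y → x = y := by
    intro x hx y hy e
    have h1 : β (x * y⁻¹) = x * y⁻¹ := by
      have h2 : β x = x * (y⁻¹ * β y) := by rw [← e]; group
      rw [map_mul, map_inv, h2]; group
    exact mul_inv_eq_one.1 (hf _ (mul_mem hx (inv_mem hy)) h1)
  let φ : ↥(A ⊓ Z) → ↥(A ⊓ Z) := fun z => ⟨(z : Y)⁻¹ * β z, Subgroup.mem_inf.2
    ⟨A.mul_mem (A.inv_mem z.2.1) (hβ _ z.2.1), Z.mul_mem (Z.inv_mem z.2.2) (hZ _ z.2.2)⟩⟩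
  have hinj : Function.Injective φ := fun x y e => Subtype.ext (key _ x.2.1 _ y.2.1 (congrArg Subtype.val e))
  obtain ⟨z, hz⟩ := (Finite.surjective_of_injective hinj)
    ⟨b⁻¹ * β b, Subgroup.mem_inf.2 ⟨A.mul_mem (A.inv_mem hb) (hβ _ hb), h⟩⟩
  rw [← key _ z.2.1 _ hb (congrArg Subtype.val hz)]
  exact z.2.2

variable {I W Y : Type*} [Fintype I] [DecidableEq I] [Group W] [Group Y] {M : CoxeterMatrix I}
  {cs : CoxeterSystem M W} {A : I → I → ℤ} {h : IsCartan M A} {p : ℕ} {T : Subgroup Y} {n : I → Y}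
  {X : (I → ℤ) → Subgroup Y}

/-! ### roots -/

/-- `m z = a y` for two roots and positive coefficients gives `z = y`. -/
theorem root_eq_of_smul {z y : I → ℤ} (hz : IsRoot cs h z) (hy : IsRoot cs h y) {m a : ℤ} (hm : 0 < m) (ha : 0 < a)
    (e : m • z = a • y) : z = y := by
  obtain ⟨w, i, rfl⟩ := hy
  have e1 : m • rep cs h w⁻¹ z = a • (sr i : I → ℤ) := by
    rw [← map_smul, e, map_smul, rep_inv_apply]
  have h1 : ∀ k, k ≠ i → rep cs h w⁻¹ z k = 0 := by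
    intro k hk
    have h2 := congrFun e1 k
    rw [Pi.smul_apply, Pi.smul_apply, sr_ne hk, smul_zero, smul_eq_mul] at h2
    exact (mul_eq_zero.1 h2).resolve_left hm.ne'
  have h0 : 0 < rep cs h w⁻¹ z i := by
    have h2 := congrFun e1 i
    rw [Pi.smul_apply, Pi.smul_apply, sr_self, smul_eq_mul, smul_eq_mul, mul_one] at h2
    by_contra hcon
    push Not at hcon
    nlinarith
  have h3 := (hz.act w⁻¹).eq_sr (nonneg_of_pos_apply (hz.act w⁻¹) h0) i h1
  rw [← h3, rep_apply_inv]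

theorem sr_eq (i : I) : (sr i : I → ℤ) = Pi.single i 1 := rfl

theorem pairing_sr (i j : I) : pairing A i (sr j) = A i j := by
  rw [sr_eq, pairing_single, mul_one]

/-- a root with a positive coefficient off `i`, nonnegative except possibly at `i`, is not cancelled by `α_i` -/
theorem not_mixed {z : I → ℤ} (hz : IsRoot cs h z) {i k : I} (hi : z i < 0) (hk : 0 < z k) : False := by
  rcases hz.pos_or_neg with h1 | h1
  · exact absurd (h1 i) (not_le.2 hi)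
  · exact absurd (h1 k) (not_le.2 hk)

theorem exists_pos {η : I → ℤ} (hη : IsRoot cs h η) (h0 : 0 ≤ η) : ∃ k, 0 < η k := by
  by_contra hcon
  push Not at hcon
  exact hη.ne_zero (funext fun k => le_antisymm (hcon k) (h0 k))

/-- the pairing of a nonnegative vector with zero coefficient at `i` -/
theorem pairing_nonpos {η : I → ℤ} (h0 : 0 ≤ η) {i : I} (hi : η i = 0) (h : IsCartan M A) : pairing A i η ≤ 0 := by
  unfold pairing
  refine Finset.sum_nonpos fun k _ => ?_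
  by_cases hk : k = i
  · subst hk; rw [hi, mul_zero]
  · exact mul_nonpos_of_nonpos_of_nonneg (cartan_nonpos (M := M) h (Ne.symm hk)) (h0 k)

/-- the interval `(δ, η]` -/
def Zs (cs : CoxeterSystem M W) (h : IsCartan M A) (δ η : I → ℤ) : Set (I → ℤ) :=
  {z | z = η ∨ Btwn cs h δ η z}

/-- `η = w α_m ≥ 0` with `w ∈ W_J`, `m ∈ J`, `i ∉ J`, `⟨η, α_i^∨⟩ ≠ 0` -/
structure Nb (cs : CoxeterSystem M W) (h : IsCartan M A) (i : I) (J : Set I) (m : I) (w : W) : Prop where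
  iJ : i ∉ J
  mJ : m ∈ J
  wJ : w ∈ WJ cs J
  pos : 0 ≤ rep cs h w (sr m)
  ne : pairing A i (rep cs h w (sr m)) ≠ 0

namespace Nb

variable {i m : I} {J : Set I} {w : W} (N : Nb cs h i J m w)

include N

theorem root : IsRoot cs h (rep cs h w (sr m)) := ⟨w, m, rfl⟩

theorem apply_i : rep cs h w (sr m) i = 0 := by
  rw [rep_apply_of_mem cs h N.wJ _ N.iJ]
  exact sr_ne (fun e => N.iJ (e ▸ N.mJ))

theorem neg : pairing A i (rep cs h w (sr m)) < 0 :=
  lt_of_le_of_ne (pairing_nonpos N.pos N.apply_i h) N.ne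

theorem delta_eq : rep cs h (cs.simple i) (rep cs h w (sr m)) =
    rep cs h w (sr m) + (-pairing A i (rep cs h w (sr m))) • (sr i : I → ℤ) := by
  rw [rep_simple_eq, neg_smul, sub_eq_add_neg]

theorem delta_root : IsRoot cs h (rep cs h (cs.simple i) (rep cs h w (sr m))) := N.root.act _

theorem delta_pos : 0 ≤ rep cs h (cs.simple i) (rep cs h w (sr m)) :=
  N.root.simple_nonneg N.pos i (fun e => by
    have := N.apply_i
    rw [e, sr_self] at this
    exact one_ne_zero this)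

theorem exists_k : ∃ k, k ≠ i ∧ 0 < rep cs h w (sr m) k := by
  obtain ⟨k, hk⟩ := exists_pos N.root N.pos
  exact ⟨k, fun e => by rw [e, N.apply_i] at hk; exact lt_irrefl _ hk, hk⟩

/-- no root is a positive combination of `η` and `-α_i` -/
theorem not_btwn_neg {z : I → ℤ} (hz : Btwn cs h (rep cs h w (sr m)) (-sr i) z) : False := by
  obtain ⟨hz, a, b, c, ha, hb, hc, e⟩ := hz
  obtain ⟨k, hki, hk⟩ := N.exists_k
  have e1 := congrFun e i
  have e2 := congrFun e k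
  simp only [Pi.smul_apply, Pi.add_apply, Pi.neg_apply, smul_eq_mul, sr_self, sr_ne hki, N.apply_i] at e1 e2
  refine not_mixed hz (i := i) (k := k) ?_ ?_
  · by_contra hcon
    push Not at hcon
    nlinarith
  · by_contra hcon
    push Not at hcon
    nlinarith [mul_pos hb hk]

/-- the roots between `δ` and `-α_i` are in `(δ, η]` -/
theorem btwn_mem {z : I → ℤ} (hz : Btwn cs h (rep cs h (cs.simple i) (rep cs h w (sr m))) (-sr i) z) :
    z ∈ Zs cs h (rep cs h (cs.simple i) (rep cs h w (sr m))) (rep cs h w (sr m)) := by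
  have hz0 := hz
  obtain ⟨hz, a, b, c, ha, hb, hc, e⟩ := hz
  obtain ⟨d, hd⟩ : ∃ d, d = -pairing A i (rep cs h w (sr m)) := ⟨_, rfl⟩
  have hd0 : 0 < d := by have := N.neg; omega
  have e0 := N.delta_eq
  rw [← hd] at e0
  rcases lt_trichotomy (b * d - c) 0 with h1 | h1 | h1
  · exfalso
    refine N.not_btwn_neg ⟨hz, a, b, c - b * d, ha, hb, by linarith, ?_⟩
    rw [e, e0]
    funext k
    simp only [Pi.smul_apply, Pi.add_apply, Pi.neg_apply, smul_eq_mul]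
    ring
  · left
    refine root_eq_of_smul hz N.root ha hb ?_
    rw [e, e0]
    have hcd : c = b * d := by linarith
    rw [hcd]
    funext k
    simp only [Pi.smul_apply, Pi.add_apply, Pi.neg_apply, smul_eq_mul]
    ring
  · right
    refine ⟨hz, d * a, b * d - c, c, mul_pos hd0 ha, h1, hc, ?_⟩
    rw [mul_smul, e, e0]
    funext k
    simp only [Pi.smul_apply, Pi.add_apply, Pi.neg_apply, smul_eq_mul]
    ring

theorem Zs_root {z : I → ℤ} (hz : z ∈ Zs cs h (rep cs h (cs.simple i) (rep cs h w (sr m))) (rep cs h w (sr m))) :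
    IsRoot cs h z ∧ 0 ≤ z := by
  rcases hz with rfl | hz
  · exact ⟨N.root, N.pos⟩
  · exact ⟨hz.1, RGD.nonneg_of_btwn N.delta_pos N.pos hz⟩

/-- an element `u₀` of `W` with `u₀ δ = -α_m` and `u₀ (δ, η] > 0` -/
theorem exists_sep : ∃ u : W, rep cs h u (rep cs h (cs.simple i) (rep cs h w (sr m))) = -sr m ∧
    ∀ z ∈ Zs cs h (rep cs h (cs.simple i) (rep cs h w (sr m))) (rep cs h w (sr m)), 0 ≤ rep cs h u z := by
  obtain ⟨d, hd⟩ : ∃ d, d = -pairing A i (rep cs h w (sr m)) := ⟨_, rfl⟩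
  have hd0 : 0 < d := by have := N.neg; omega
  have e0 := N.delta_eq
  rw [← hd] at e0
  have hmi : m ≠ i := fun e => N.iJ (e ▸ N.mJ)
  have hw' : w⁻¹ ∈ WJ cs J := inv_mem N.wJ
  have hξi : rep cs h w⁻¹ (sr i) i = 1 := by rw [rep_apply_of_mem cs h hw' _ N.iJ, sr_self]
  have hξ : IsRoot cs h (rep cs h w⁻¹ (sr i)) := ⟨_, _, rfl⟩
  have hξ0 : 0 ≤ rep cs h w⁻¹ (sr i) := nonneg_of_pos_apply hξ (by rw [hξi]; exact one_pos)
  -- `y = w⁻¹ δ = α_m + d w⁻¹ α_i`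
  have ey : rep cs h w⁻¹ (rep cs h (cs.simple i) (rep cs h w (sr m))) = sr m + d • rep cs h w⁻¹ (sr i) := by
    rw [e0, map_add, map_smul, rep_inv_apply]
  have ess : rep cs h (cs.simple i) (rep cs h (cs.simple i) (rep cs h w (sr m))) = rep cs h w (sr m) := by
    rw [← rep_mul_apply, cs.simple_mul_simple_self, map_one, Module.End.one_apply]
  have hy0 : 0 ≤ rep cs h w⁻¹ (rep cs h (cs.simple i) (rep cs h w (sr m))) := by
    rw [ey]
    exact add_nonneg (sr_nonneg m) (smul_nonneg hd0.le hξ0)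
  have hyi : 0 < rep cs h w⁻¹ (rep cs h (cs.simple i) (rep cs h w (sr m))) i := by
    rw [ey, Pi.add_apply, Pi.smul_apply, hξi, sr_ne (Ne.symm hmi), smul_eq_mul]
    linarith
  refine ⟨cs.simple m * w⁻¹ * cs.simple i, ?_, ?_⟩
  · rw [rep_mul_apply, rep_mul_apply, ess, rep_inv_apply, rep_simple_sr]
  · have key : ∀ z, IsRoot cs h z → 0 ≤ rep cs h w⁻¹ (rep cs h (cs.simple i) z) →
        0 < rep cs h w⁻¹ (rep cs h (cs.simple i) z) i → 0 ≤ rep cs h (cs.simple m * w⁻¹ * cs.simple i) z := by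
      intro z hz h1 h2
      rw [rep_mul_apply, rep_mul_apply]
      refine ((hz.act _).act _).simple_nonneg h1 m fun e => ?_
      rw [e, sr_ne (Ne.symm hmi)] at h2
      exact lt_irrefl _ h2
    rintro z (rfl | hz)
    · exact key _ N.root hy0 hyi
    · have h1 := (hz.act (cs.simple i)).act w⁻¹
      rw [ess, rep_inv_apply] at h1
      refine key z hz.1 (RGD.nonneg_of_btwn (sr_nonneg m) hy0 h1) ?_
      obtain ⟨-, a, b, c, ha, hb, hc, e⟩ := h1
      have e1 := congrFun e i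
      rw [Pi.smul_apply, Pi.add_apply, Pi.smul_apply, Pi.smul_apply, sr_ne (Ne.symm hmi), smul_zero, zero_add,
        smul_eq_mul, smul_eq_mul] at e1
      by_contra hcon
      push Not at hcon
      nlinarith [mul_pos hc hyi]

end Nb

section

variable (R : RGD cs h p T n X)

include R

/-- the rank one decomposition of `a ∈ X_i#` -/
theorem exists_dec [Finite W] {i : I} {a : Y} (ha : a ∈ X (sr i)) (ha1 : a ≠ 1) :
    ∃ b ∈ X (-sr i), ∃ k, Rp cs R.nsys (cs.simple i) k ∧ ∃ c ∈ X (-sr i), a = b * k * c := by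
  have ha' : a ∈ X (- -sr i) := by rw [neg_neg]; exact ha
  obtain ⟨b, hb, t, ht, c, hc, e⟩ := (opp R).rk1 i a ha' ha1
  refine ⟨b, hb, t * n i, ?_, c, hc, by rw [e]; group⟩
  have := (rp_of_mem (cs := cs) (hN := R.nsys) ht).mul (rp_simple cs R.nsys i)
  rwa [one_mul] at this

/-- **A frame automorphism fixing an element of `X_i#` fixes a representative of `s_i`.** -/
theorem exists_rp_fix [Finite W] {i : I} {a : Y} (ha : a ∈ X (sr i)) (ha1 : a ≠ 1) :
    ∃ k, Rp cs R.nsys (cs.simple i) k ∧ (∃ b ∈ X (-sr i), ∃ c ∈ X (-sr i), a = b * k * c) ∧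
      ∀ β : MulAut Y, Diag T X β 1 → β a = a → β k = k := by
  obtain ⟨b, hb, k, hk, c, hc, e⟩ := exists_dec R ha ha1
  refine ⟨k, hk, ⟨b, hb, c, hc, e⟩, fun β D hβ => ?_⟩
  have hneg : ∀ x ∈ X (-sr i), β x ∈ X (-sr i) := fun x hx => by
    have := (D.neg i x).2 hx
    rwa [Equiv.Perm.one_apply] at this
  have hM : ∀ a b, M ((1 : Equiv.Perm I) a) ((1 : Equiv.Perm I) b) = M a b := fun a b => rfl
  have hhat : ∀ j, hat cs (1 : Equiv.Perm I) hM (cs.simple j) = cs.simple j := fun j => hat_simple _ hM j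
  have hβk : Rp cs R.nsys (cs.simple i) (β k) := by
    have := D.rp' (R := R) hM hk
    rwa [hhat] at this
  have e2 : b * k * c = β b * β k * β c := by rw [← e, ← map_mul, ← map_mul, ← e, hβ]
  -- `t = β k * k⁻¹ ∈ T`
  obtain ⟨t, ht⟩ : ∃ t, t = β k * k⁻¹ := ⟨_, rfl⟩
  have htT : t ∈ T := by
    have h1 := hβk.inv.unique hk.inv
    rwa [inv_inv, ← ht] at h1
  obtain ⟨x, hx⟩ : ∃ x, x = k * (β c * c⁻¹) * k⁻¹ := ⟨_, rfl⟩
  have hxX : x ∈ X (sr i) := by
    have := R.conj_mem hk (isRoot_sr cs h i).neg (mul_mem (hneg c hc) (inv_mem hc))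
    rwa [map_neg, rep_simple_sr, neg_neg, ← hx] at this
  have e3 : (β b)⁻¹ * b = t * x := by
    have : (β b)⁻¹ * b = (β b)⁻¹ * (b * k * c) * c⁻¹ * k⁻¹ := by group
    rw [this, e2, ht, hx]; group
  have h1 : (β b)⁻¹ * b ∈ X (-sr i) := mul_mem (inv_mem (hneg b hb)) hb
  have h2 : (β b)⁻¹ * b = 1 := by
    refine eq_one_of_mem_UN_of_mem_B R (X_le_UN (isRoot_sr cs h i).neg (neg_nonpos.2 (sr_nonneg i)) h1) ?_
    rw [e3]
    exact mul_mem (RGD.T_le_B htT) (RGD.X_le_B (isRoot_sr cs h i) (sr_nonneg i) hxX)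
  have h3 : t = x⁻¹ := eq_inv_of_mul_eq_one_left (by rw [← e3, h2])
  have h4 : t = 1 := by
    have h5 := X_inf_T R (isRoot_sr cs h i)
    rw [Subgroup.eq_bot_iff_forall] at h5
    exact h5 t (Subgroup.mem_inf.2 ⟨by rw [h3]; exact (X (sr i)).inv_mem hxX, htT⟩)
  rw [h4] at ht
  exact (mul_inv_eq_one.1 ht.symm)

/-- a frame automorphism with trivial permutation fixes all root groups -/
theorem Diag.mem_iff [Finite W] {β : MulAut Y} (D : Diag T X β 1) {r : I → ℤ} (hr : IsRoot cs h r) (x : Y) :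
    β x ∈ X r ↔ x ∈ X r := by
  have := D.root_comp R (fun _ _ => rfl) hr x
  exact this

theorem Diag.fix_Sup [Finite W] {β : MulAut Y} (D : Diag T X β 1) {S : Set (I → ℤ)} (hS : ∀ z ∈ S, IsRoot cs h z)
    {x : Y} (hx : x ∈ RGD.Sup X S) : β x ∈ RGD.Sup X S := by
  have h1 : RGD.Sup X S ≤ (RGD.Sup X S).comap β.toMonoidHom :=
    RGD.Sup_le fun z hz y hy => Subgroup.mem_comap.2 (RGD.le_Sup hz ((Diag.mem_iff R D (hS z hz) y).2 hy))
  exact h1 hx

variable {i m : I} {J : Set I} {w : W} (N : Nb cs h i J m w)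

include N

/-- `X_η` and `X_{-i}` commute -/
theorem Nb.commute {v b : Y} (hv : v ∈ X (rep cs h w (sr m))) (hb : b ∈ X (-sr i)) : v * b = b * v := by
  obtain ⟨k, hki, hk⟩ := N.exists_k
  have h1 : rep cs h w (sr m) ≠ -sr i := fun e => by
    rw [e, Pi.neg_apply, sr_ne hki, neg_zero] at hk
    exact lt_irrefl _ hk
  have h2 : rep cs h w (sr m) ≠ - -sr i := fun e => by
    rw [neg_neg] at e
    rw [e, sr_ne hki] at hk
    exact lt_irrefl _ hk
  have h3 := R.comm _ _ N.root (isRoot_sr cs h i).neg h1 h2 v hv b hb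
  have h4 : btw cs h X (rep cs h w (sr m)) (-sr i) = ⊥ := by
    unfold Cfsg.Agent.Nodes.Reps.btw
    rw [eq_bot_iff]
    refine iSup_le ?_
    rintro ⟨z, hz⟩
    exact (N.not_btwn_neg hz).elim
  rw [h4, Subgroup.mem_bot, commutatorElement_eq_one_iff_mul_comm] at h3
  exact h3

/-- `X_δ` normalises `Z` -/
theorem Nb.le_norm : X (rep cs h (cs.simple i) (rep cs h w (sr m))) ≤
    Subgroup.normalizer (RGD.Sup X (Zs cs h (rep cs h (cs.simple i) (rep cs h w (sr m))) (rep cs h w (sr m))) : Set Y) := by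
  refine R.le_normalizer N.delta_root ?_
  intro y hy
  refine ⟨(N.Zs_root hy).1, Or.inr ⟨?_, ?_⟩⟩
  · intro e
    have h1 := N.delta_pos
    rw [e] at h1
    exact (N.Zs_root hy).1.neg.not_pos_neg h1 (neg_nonpos.2 (N.Zs_root hy).2)
  · rcases hy with rfl | hy
    · exact fun z hz => Or.inr hz
    · rintro z ⟨hz, a, b, c, ha, hb, hc, e⟩
      obtain ⟨-, a', b', c', ha', hb', hc', e'⟩ := hy
      refine Or.inr ⟨hz, a' * a, a' * b + c * b', c * c', mul_pos ha' ha,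
        add_pos (mul_pos ha' hb) (mul_pos hc hb'), mul_pos hc hc', ?_⟩
      rw [mul_smul, e, smul_add, ← mul_smul, ← mul_smul, mul_comm a' c, mul_smul c a' y, e', smul_add, ← mul_smul,
        ← mul_smul, add_smul]
      abel

/-- `X_δ ∩ Z = 1` -/
theorem Nb.inf_eq [Finite W] {x : Y} (hx : x ∈ X (rep cs h (cs.simple i) (rep cs h w (sr m))))
    (hZ : x ∈ RGD.Sup X (Zs cs h (rep cs h (cs.simple i) (rep cs h w (sr m))) (rep cs h w (sr m)))) : x = 1 := by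
  obtain ⟨u, hu1, hu2⟩ := N.exists_sep
  obtain ⟨g, hg⟩ := exists_rp cs R.nsys u
  have h1 : g * x * g⁻¹ ∈ UN cs h X := by
    have := R.conj_mem hg N.delta_root hx
    rw [hu1] at this
    exact X_le_UN (isRoot_sr cs h m).neg (neg_nonpos.2 (sr_nonneg m)) this
  have h2 : g * x * g⁻¹ ∈ RGD.Sup X (RGD.Pos cs h) := by
    have h3 : g * x * g⁻¹ ∈ cj g (RGD.Sup X (Zs cs h (rep cs h (cs.simple i) (rep cs h w (sr m))) (rep cs h w (sr m)))) :=
      conj_mem_cj.2 hZ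
    rw [cj_Sup_eq R hg (fun z hz => (N.Zs_root hz).1)] at h3
    refine RGD.Sup_mono ?_ h3
    intro z hz
    have hz' : rep cs h u⁻¹ z ∈ Zs cs h (rep cs h (cs.simple i) (rep cs h w (sr m))) (rep cs h w (sr m)) := hz
    have h4 := (N.Zs_root hz').1.act u
    have h5 := hu2 _ hz'
    rw [rep_apply_inv] at h4 h5
    exact ⟨h4, h5⟩
  have h3 := U_inf_UN R
  rw [Subgroup.eq_bot_iff_forall] at h3
  have h4 := h3 _ ⟨h2, h1⟩
  have h5 : x = g⁻¹ * (g * x * g⁻¹) * g := by group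
  rw [h5, h4]; group

/-- **The commutator of two root elements.** -/
theorem Nb.comp [Finite W] {a v : Y} (ha : a ∈ X (sr i)) (ha1 : a ≠ 1) (hv : v ∈ X (rep cs h w (sr m))) (hv1 : v ≠ 1) :
    ∃ x ∈ X (rep cs h (cs.simple i) (rep cs h w (sr m))), x ≠ 1 ∧
      ∃ z ∈ RGD.Sup X (Zs cs h (rep cs h (cs.simple i) (rep cs h w (sr m))) (rep cs h w (sr m))),
        v⁻¹ * a⁻¹ * v * a = x * z := by
  obtain ⟨b, hb, k, hk, c, hc, e⟩ := exists_dec R ha ha1
  obtain ⟨x, hx⟩ : ∃ x, x = k⁻¹ * v * k := ⟨_, rfl⟩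
  have hxX : x ∈ X (rep cs h (cs.simple i) (rep cs h w (sr m))) := by
    have := R.conj_mem' hk N.root hv
    rwa [cs.inv_simple, ← hx] at this
  have hx1 : x ≠ 1 := fun e1 => hv1 (by
    have h1 : v = k * x * k⁻¹ := by rw [hx]; group
    rw [h1, e1]; group)
  obtain ⟨q, hqi, hq⟩ := N.exists_k
  have hδq : 0 < rep cs h (cs.simple i) (rep cs h w (sr m)) q := by
    rw [rep_simple_apply cs h i _ q hqi]; exact hq
  have hne1 : rep cs h (cs.simple i) (rep cs h w (sr m)) ≠ -sr i := fun e => by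
    rw [e, Pi.neg_apply, sr_ne hqi, neg_zero] at hδq
    exact lt_irrefl _ hδq
  have hne2 : rep cs h (cs.simple i) (rep cs h w (sr m)) ≠ - -sr i := fun e => by
    rw [neg_neg] at e
    rw [e, sr_ne hqi] at hδq
    exact lt_irrefl _ hδq
  have h1 := R.comm _ _ N.delta_root (isRoot_sr cs h i).neg hne1 hne2 x⁻¹ (inv_mem hxX) c⁻¹ (inv_mem hc)
  have h2 : x⁻¹ * c⁻¹ * x * c ∈ RGD.Sup X (Zs cs h (rep cs h (cs.simple i) (rep cs h w (sr m))) (rep cs h w (sr m))) := by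
    have h3 := R.btw_le_Sup (fun z hz => N.btwn_mem hz) h1
    rw [commutatorElement_def, inv_inv, inv_inv] at h3
    exact h3
  have e1 : v⁻¹ * a⁻¹ * v * a = x * ((x⁻¹ * v⁻¹ * x) * (x⁻¹ * c⁻¹ * x * c)) := by
    have h3 : b⁻¹ * v * b = v := by
      have := Nb.commute R N hv hb
      rw [mul_assoc, this]; group
    have h4 : v⁻¹ * a⁻¹ * v * a = v⁻¹ * c⁻¹ * (k⁻¹ * (b⁻¹ * v * b) * k) * c := by rw [e]; group
    rw [h4, h3, ← hx]; group
  refine ⟨x, hxX, hx1, _, mul_mem ?_ h2, e1⟩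
  have h3 := Nb.le_norm R N (inv_mem hxX)
  rw [Subgroup.mem_normalizer_iff] at h3
  have h4 := (h3 v⁻¹).1 (inv_mem (RGD.le_Sup (Or.inl rfl) hv))
  rwa [inv_inv] at h4

/-- `X_i#` and `X_η#` do not commute. -/
theorem Nb.not_comm [Finite W] {a v : Y} (ha : a ∈ X (sr i)) (ha1 : a ≠ 1) (hv : v ∈ X (rep cs h w (sr m)))
    (hv1 : v ≠ 1) : v * a ≠ a * v := by
  intro e
  obtain ⟨x, hx, hx1, z, hz, e1⟩ := Nb.comp R N ha ha1 hv hv1
  have h1 : x * z = 1 := by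
    rw [← e1]
    have : v⁻¹ * a⁻¹ * v * a = v⁻¹ * a⁻¹ * (v * a) := by group
    rw [this, e]; group
  apply hx1
  refine Nb.inf_eq R N hx ?_
  rw [eq_inv_of_mul_eq_one_left h1]
  exact inv_mem hz

/-- **`β` is not trivial on `X_δ`** if `β` is fixed-point-free on a subgroup containing the commutator. -/
theorem Nb.no_fix [Finite W] [Finite Y] {A' : Subgroup Y} {β : MulAut Y} (D : Diag T X β 1)
    (hβ : ∀ a ∈ A', β a ∈ A') (hf : ∀ a ∈ A', β a = a → a = 1) {a v : Y} (ha : a ∈ X (sr i)) (ha1 : a ≠ 1)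
    (hv : v ∈ X (rep cs h w (sr m))) (hv1 : v ≠ 1) (hA : v⁻¹ * a⁻¹ * v * a ∈ A') :
    ∃ x ∈ X (rep cs h (cs.simple i) (rep cs h w (sr m))), β x ≠ x := by
  by_contra hcon
  push Not at hcon
  obtain ⟨x, hx, hx1, z, hz, e1⟩ := Nb.comp R N ha ha1 hv hv1
  have hZ : ∀ z ∈ RGD.Sup X (Zs cs h (rep cs h (cs.simple i) (rep cs h w (sr m))) (rep cs h w (sr m))),
      β z ∈ RGD.Sup X (Zs cs h (rep cs h (cs.simple i) (rep cs h w (sr m))) (rep cs h w (sr m))) :=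
    fun z hz => Diag.fix_Sup R D (fun y hy => (N.Zs_root hy).1) hz
  have h1 : (v⁻¹ * a⁻¹ * v * a)⁻¹ * β (v⁻¹ * a⁻¹ * v * a) ∈
      RGD.Sup X (Zs cs h (rep cs h (cs.simple i) (rep cs h w (sr m))) (rep cs h w (sr m))) := by
    rw [e1, map_mul, hcon x hx]
    have : (x * z)⁻¹ * (x * β z) = z⁻¹ * β z := by group
    rw [this]
    exact mul_mem (inv_mem hz) (hZ z hz)
  have h2 := mem_of_fpf hβ hf hZ hA h1
  apply hx1
  refine Nb.inf_eq R N hx ?_
  rw [e1] at h2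
  have h3 : x = x * z * z⁻¹ := by group
  rw [h3]
  exact mul_mem h2 (inv_mem hz)

end

end Cfsg.Agent.Omega.Lie.End.Mov

end

section


/-!
# Groups of odd automorphisms of a group with a root group datum

`Γ` a group of frame automorphisms of odd order, `AA = ⟨s⁻¹ γ s : s ∈ U, γ ∈ Γ⟩` abelian, every `1 ≠ γ ∈ Γ`
fixed-point-free on `AA ≠ 1`; the diagram is connected, of rank at least two (`Act`).  Then

* `diag_one` : every `γ` fixes all nodes;
* `nadj` : two moved nodes are not adjacent;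
* `fpf_node` : every `1 ≠ γ ∈ Γ` is fixed-point-free on `X_i`, `i` moved; `le_AA` : `X_i ≤ AA`;
* `fixL` : `Γ` centralises `⟨X_i, X_{-i}⟩`, `i` not moved;
* `four` : `4 ≤ |X_i|` for all `i`;
* `conj_le` : `X_{w i} ≤ AA`, `i` moved, `w ∈ W_J`, `J` the nodes which are not moved.
-/

set_option autoImplicit false
set_option linter.unusedSectionVars false

namespace Cfsg.Agent.Omega.Lie.End.Mov

open CoxeterSystem Cfsg.Agent.ChevalleyStructure.CoxeterGeom Cfsg.Agent.Tits.Roots Cfsg.Agent.Tits.Core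
  Cfsg.Agent.Tits.Exchange Cfsg.Agent.Tits.RootComb Cfsg.Agent.Nodes.Reps Cfsg.Agent.Nodes.BNOf
  Cfsg.Agent.Nodes.StabComb Cfsg.Agent.Nodes.Bruhat Cfsg.Agent.Nodes.OppDec Cfsg.Agent.Nodes.LeviDec
  Cfsg.Agent.Nodes.NormalForm Cfsg.Agent.KFacts.RgdOpp Cfsg.Agent.KFacts.RgdAut Cfsg.Agent.KFacts.RgdDiag
  Cfsg.Agent.KFacts.RgdRigid Cfsg.Agent.KFacts.RgdPar Cfsg.Agent.KFacts.RgdCharP
open scoped commutatorElement

/-- The group generated by the elements `s⁻¹ γ s`. -/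
def AA {Y : Type*} [Group Y] (U : Subgroup Y) (Γ : Subgroup (MulAut Y)) : Subgroup Y :=
  Subgroup.closure {x | ∃ s ∈ U, ∃ γ ∈ Γ, x = s⁻¹ * γ s}

section

variable {Y : Type*} [Group Y] {U : Subgroup Y} {Γ : Subgroup (MulAut Y)}

theorem mem_AA {s : Y} (hs : s ∈ U) {γ : MulAut Y} (hγ : γ ∈ Γ) : s⁻¹ * γ s ∈ AA U Γ :=
  Subgroup.subset_closure ⟨s, hs, γ, hγ, rfl⟩

theorem AA_le (hU : ∀ γ ∈ Γ, Fix γ U) : AA U Γ ≤ U := by
  unfold AA
  rw [Subgroup.closure_le]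
  rintro x ⟨s, hs, γ, hγ, rfl⟩
  exact mul_mem (inv_mem hs) ((hU γ hγ s).2 hs)

/-- `U` normalises `AA`. -/
theorem conj_AA {u x : Y} (hu : u ∈ U) (hx : x ∈ AA U Γ) : u⁻¹ * x * u ∈ AA U Γ := by
  have h1 : AA U Γ ≤ (AA U Γ).comap (MulAut.conj u⁻¹).toMonoidHom := by
    conv_lhs => unfold AA
    rw [Subgroup.closure_le]
    rintro x ⟨s, hs, γ, hγ, rfl⟩
    show u⁻¹ * (s⁻¹ * γ s) * u⁻¹⁻¹ ∈ AA U Γ
    have e : u⁻¹ * (s⁻¹ * γ s) * u⁻¹⁻¹ = ((s * u)⁻¹ * γ (s * u)) * (u⁻¹ * γ u)⁻¹ := by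
      rw [map_mul]; group
    rw [e]
    exact mul_mem (mem_AA (mul_mem hs hu) hγ) (inv_mem (mem_AA hu hγ))
  have h2 : u⁻¹ * x * u⁻¹⁻¹ ∈ AA U Γ := h1 hx
  rwa [inv_inv] at h2

/-- `Γ` acts on `AA`. -/
theorem map_AA (hU : ∀ γ ∈ Γ, Fix γ U) {γ : MulAut Y} (hγ : γ ∈ Γ) {x : Y} (hx : x ∈ AA U Γ) : γ x ∈ AA U Γ := by
  have h1 : AA U Γ ≤ (AA U Γ).comap γ.toMonoidHom := by
    conv_lhs => unfold AA
    rw [Subgroup.closure_le]
    rintro x ⟨s, hs, γ', hγ', rfl⟩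
    show γ (s⁻¹ * γ' s) ∈ AA U Γ
    have e : γ (s⁻¹ * γ' s) = (γ s)⁻¹ * (γ * γ' * γ⁻¹) (γ s) := by
      rw [map_mul, map_inv, MulAut.mul_apply, MulAut.mul_apply, MulAut.inv_apply_self]
    rw [e]
    exact mem_AA ((hU γ hγ s).2 hs) (mul_mem (mul_mem hγ hγ') (inv_mem hγ))
  exact h1 hx

universe u in
theorem exists_quot {Y : Type u} [Group Y] {V N : Subgroup Y} (hN : N ≤ Subgroup.normalizer (V : Set Y)) :
    ∃ (Q : Type u) (_ : Group Q) (q : ↥N →* Q), ∀ x : ↥N, q x = 1 ↔ (x : Y) ∈ V := by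
  have : (V.subgroupOf N).Normal := by
    constructor
    intro x hx g
    rw [Subgroup.mem_subgroupOf] at hx ⊢
    exact (Subgroup.mem_normalizer_iff.1 (hN g.2) x).1 hx
  refine ⟨↥N ⧸ V.subgroupOf N, inferInstance, QuotientGroup.mk' _, fun x => ?_⟩
  rw [← MonoidHom.mem_ker, QuotientGroup.ker_mk', Subgroup.mem_subgroupOf]

end

variable {I W Y : Type*} [Fintype I] [DecidableEq I] [Group W] [Group Y] {M : CoxeterMatrix I}
  {cs : CoxeterSystem M W} {A : I → I → ℤ} {h : IsCartan M A} {p : ℕ} {T : Subgroup Y} {n : I → Y}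
  {X : (I → ℤ) → Subgroup Y}

/-! ### the link of an orbit -/

theorem nb_simple {i j : I} (hij : i ≠ j) (hM : M i j ≠ 2) : Nb cs h i {j} j 1 where
  iJ := hij
  mJ := rfl
  wJ := one_mem _
  pos := by rw [map_one, Module.End.one_apply]; exact sr_nonneg j
  ne := by rw [map_one, Module.End.one_apply, pairing_sr]; exact (cartan_neg h hij hM).ne

theorem exists_link (hc : Conn M) {O : Set I} {i₀ : I} (hi₀ : i₀ ∈ O) (hO : ∃ i ∈ O, i ≠ i₀) :
    ∃ i₂ ∈ O, i₂ ≠ i₀ ∧ (M i₀ i₂ ≠ 2 ∨ ∃ m w, Nb cs h i₀ Oᶜ m w ∧ Nb cs h i₂ Oᶜ m w) := by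
  obtain ⟨S, hS⟩ : ∃ S : Set I, S = {p | p = i₀ ∨ (p ∉ O ∧ ∃ m w, Nb cs h i₀ Oᶜ m w ∧ 0 < rep cs h w (sr m) p)} :=
    ⟨_, rfl⟩
  have hmem : ∀ p, p ∈ S ↔ (p = i₀ ∨ (p ∉ O ∧ ∃ m w, Nb cs h i₀ Oᶜ m w ∧ 0 < rep cs h w (sr m) p)) := by
    intro p; rw [hS]; rfl
  have hSn : S.Nonempty := ⟨i₀, (hmem _).2 (Or.inl rfl)⟩
  have hSu : S ≠ Set.univ := by
    obtain ⟨i, hi, hne⟩ := hO
    intro e
    have h1 : i ∈ S := by rw [e]; exact Set.mem_univ i
    rcases (hmem _).1 h1 with h2 | h2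
    · exact hne h2
    · exact h2.1 hi
  obtain ⟨a, ha, b, hb, hab⟩ := hc S hSn hSu
  have hbi : b ≠ i₀ := fun e => hb ((hmem _).2 (Or.inl e))
  have hba : b ≠ a := fun e => hb (e ▸ ha)
  rcases (hmem _).1 ha with rfl | ⟨haO, m, w, N, hpos⟩
  · by_cases hbO : b ∈ O
    · exact ⟨b, hbO, hbi, Or.inl hab⟩
    · exfalso
      refine hb ((hmem _).2 (Or.inr ⟨hbO, b, 1, ⟨fun h1 => h1 hi₀, hbO, one_mem _, ?_, ?_⟩, ?_⟩))
      · rw [map_one, Module.End.one_apply]; exact sr_nonneg b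
      · rw [map_one, Module.End.one_apply, pairing_sr]; exact (cartan_neg h (Ne.symm hbi) hab).ne
      · rw [map_one, Module.End.one_apply, sr_self]; exact one_pos
  · have hMab : M b a ≠ 2 := by rw [M.symmetric]; exact hab
    have hbO' : b ∉ Oᶜ → b ∈ O := fun h1 => by by_contra h2; exact h1 h2
    by_cases hbO : b ∈ O
    · have h0 : rep cs h w (sr m) b = 0 := by
        rw [rep_apply_of_mem cs h N.wJ _ (fun h1 => h1 hbO)]
        exact sr_ne (fun e => N.mJ (e ▸ hbO))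
      refine ⟨b, hbO, hbi, Or.inr ⟨m, w, N, ⟨fun h1 => h1 hbO, N.mJ, N.wJ, N.pos, ?_⟩⟩⟩
      exact (pairing_neg h N.pos h0 hpos hMab).ne
    · exfalso
      rcases (N.pos b).lt_or_eq with h1 | h1
      · exact hb ((hmem _).2 (Or.inr ⟨hbO, m, w, N, h1⟩))
      · have h0 : rep cs h w (sr m) b = 0 := h1.symm
        have h2 := pairing_neg h N.pos h0 hpos hMab
        have h3 : rep cs h (cs.simple b * w) (sr m) b = - pairing A b (rep cs h w (sr m)) := by
          rw [rep_mul_apply, rep_simple_apply_self, h0, zero_sub]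
        have h4 : 0 ≤ rep cs h (cs.simple b * w) (sr m) := by
          rw [rep_mul_apply]
          refine N.root.simple_nonneg N.pos b fun e => ?_
          rw [e, sr_self] at h0
          exact one_ne_zero h0
        refine hb ((hmem _).2 (Or.inr ⟨hbO, m, cs.simple b * w, ⟨N.iJ, N.mJ,
          mul_mem (simple_mem_WJ cs hbO) N.wJ, h4, ?_⟩, ?_⟩))
        · rw [rep_mul_apply, rep_simple_eq, sub_eq_add_neg, ← neg_smul, pairing_add, pairing_smul, pairing_sr]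
          have h5 := N.neg
          have h6 : A i₀ b ≤ 0 := cartan_nonpos h (Ne.symm hbi)
          have h7 : -pairing A b (rep cs h w (sr m)) * A i₀ b ≤ 0 :=
            mul_nonpos_of_nonneg_of_nonpos (by linarith) h6
          linarith
        · rw [h3]; linarith

section

variable (R : RGD cs h p T n X)

include R

/-- two elements of an abelian normal subgroup of `U` whose images modulo `V_{I - i₁}` are in `X_{i₀}#`, `X_{i₂}#` -/
theorem pair_false [Finite W] {A' : Subgroup Y} (hab : ∀ a ∈ A', ∀ b ∈ A', a * b = b * a)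
    (hn : ∀ u ∈ RGD.Sup X (RGD.Pos cs h), ∀ a ∈ A', u⁻¹ * a * u ∈ A') {i₀ i₁ i₂ : I} (h01 : i₀ ≠ i₁) (h02 : i₀ ≠ i₂)
    (h21 : i₂ ≠ i₁) {u₀ u₂ y₀ y₂ : Y} (hu₀ : u₀ ∈ X (sr i₁)) (hu₂ : u₂ ∈ X (sr i₁)) (hy₀ : y₀ ∈ X (sr i₀))
    (hy₂ : y₂ ∈ X (sr i₂)) (hy₀1 : y₀ ≠ 1) (hy₂1 : y₂ ≠ 1) (ha₀ : u₀⁻¹ * y₀ ∈ A') (ha₂ : u₂⁻¹ * y₂ ∈ A')
    {O : Set I} (hO₁ : i₁ ∈ O)
    (hl : M i₀ i₂ ≠ 2 ∨ ∃ m w, Nb cs h i₀ Oᶜ m w ∧ Nb cs h i₂ Oᶜ m w) : False := by
  have hVN : RGD.Sup X (RGD.Pos cs h) ≤ Subgroup.normalizer (VJ cs h X {i₁}ᶜ : Set Y) :=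
    le_trans (le_trans RGD.U_le_B B_le_PJ) (PJ_le_normalizer_VJ R {i₁}ᶜ)
  obtain ⟨Q, _, q, hq⟩ := exists_quot hVN
  have hXU : ∀ i, X (sr i) ≤ RGD.Sup X (RGD.Pos cs h) := fun i =>
    RGD.le_Sup (S := RGD.Pos cs h) ⟨isRoot_sr cs h i, sr_nonneg i⟩
  have hXV : X (sr i₁) ≤ VJ cs h X {i₁}ᶜ :=
    RGD.le_Sup (S := NotJ cs h {i₁}ᶜ) (sr_mem_NotJ (fun h1 => h1 rfl))
  have hXL : ∀ i, i ≠ i₁ → X (sr i) ≤ UJ cs h X {i₁}ᶜ := fun i hi =>
    RGD.le_Sup (S := PosJ cs h {i₁}ᶜ) (sr_mem_PosJ hi)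
  have hinf := UJ_inf_VJ R {i₁}ᶜ
  rw [Subgroup.eq_bot_iff_forall] at hinf
  have hUL : UJ cs h X {i₁}ᶜ ≤ RGD.Sup X (RGD.Pos cs h) := RGD.Sup_mono fun z hz => ⟨hz.1, hz.2.1⟩
  -- the elements of `U`
  obtain ⟨Y₀, hY₀⟩ : ∃ Y₀ : ↥(RGD.Sup X (RGD.Pos cs h)), (Y₀ : Y) = y₀ := ⟨⟨_, hXU i₀ hy₀⟩, rfl⟩
  obtain ⟨Y₂, hY₂⟩ : ∃ Y₂ : ↥(RGD.Sup X (RGD.Pos cs h)), (Y₂ : Y) = y₂ := ⟨⟨_, hXU i₂ hy₂⟩, rfl⟩
  obtain ⟨U₀, hU₀⟩ : ∃ U₀ : ↥(RGD.Sup X (RGD.Pos cs h)), (U₀ : Y) = u₀ := ⟨⟨_, hXU i₁ hu₀⟩, rfl⟩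
  obtain ⟨U₂, hU₂⟩ : ∃ U₂ : ↥(RGD.Sup X (RGD.Pos cs h)), (U₂ : Y) = u₂ := ⟨⟨_, hXU i₁ hu₂⟩, rfl⟩
  have hq₀ : q (U₀⁻¹ * Y₀) = q Y₀ := by
    rw [map_mul, map_inv, (hq U₀).2 (by rw [hU₀]; exact hXV hu₀), inv_one, one_mul]
  have hq₂ : q (U₂⁻¹ * Y₂) = q Y₂ := by
    rw [map_mul, map_inv, (hq U₂).2 (by rw [hU₂]; exact hXV hu₂), inv_one, one_mul]
  have hA₀ : ((U₀⁻¹ * Y₀ : ↥(RGD.Sup X (RGD.Pos cs h))) : Y) ∈ A' := by
    rw [Subgroup.coe_mul, Subgroup.coe_inv, hU₀, hY₀]; exact ha₀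
  have hA₂ : ((U₂⁻¹ * Y₂ : ↥(RGD.Sup X (RGD.Pos cs h))) : Y) ∈ A' := by
    rw [Subgroup.coe_mul, Subgroup.coe_inv, hU₂, hY₂]; exact ha₂
  -- commuting elements modulo `V`
  have hcomm : ∀ a b c d : ↥(RGD.Sup X (RGD.Pos cs h)), (a : Y) ∈ A' → (b : Y) ∈ A' → q a = q c → q b = q d →
      (c : Y) ∈ UJ cs h X {i₁}ᶜ → (d : Y) ∈ UJ cs h X {i₁}ᶜ → (c : Y) * d = d * c := by
    intro a b c d ha hb hac hbd hc hd
    have h1 : a * b = b * a := Subtype.ext (hab _ ha _ hb)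
    have h2 : q (c * d * (d * c)⁻¹) = 1 := by
      rw [map_mul, map_inv, map_mul, map_mul, ← hac, ← hbd, ← map_mul, ← map_mul, h1, mul_inv_cancel]
    have h3 := (hq _).1 h2
    have h4 : ((c * d * (d * c)⁻¹ : ↥(RGD.Sup X (RGD.Pos cs h))) : Y) ∈ UJ cs h X {i₁}ᶜ := by
      simp only [Subgroup.coe_mul, Subgroup.coe_inv]
      exact mul_mem (mul_mem hc hd) (inv_mem (mul_mem hd hc))
    have h5 := hinf _ (Subgroup.mem_inf.2 ⟨h4, h3⟩)
    simp only [Subgroup.coe_mul, Subgroup.coe_inv] at h5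
    exact mul_inv_eq_one.1 h5
  have hy₀L : (Y₀ : Y) ∈ UJ cs h X {i₁}ᶜ := by rw [hY₀]; exact hXL i₀ h01 hy₀
  have hy₂L : (Y₂ : Y) ∈ UJ cs h X {i₁}ᶜ := by rw [hY₂]; exact hXL i₂ h21 hy₂
  rcases hl with hl | ⟨m, w, N₀, N₂⟩
  · have h1 := hcomm _ _ _ _ hA₀ hA₂ hq₀ hq₂ hy₀L hy₂L
    rw [hY₀, hY₂] at h1
    exact Nb.not_comm R (nb_simple h02 hl) hy₀ hy₀1
      (by rw [map_one, Module.End.one_apply]; exact hy₂) hy₂1 h1.symm
  · obtain ⟨v, hv, hv1⟩ : ∃ v ∈ X (rep cs h w (sr m)), v ≠ 1 := by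
      obtain ⟨⟨y, hy⟩, hy1⟩ := Subgroup.ne_bot_iff_exists_ne_one.1 (X_ne_bot R N₀.root)
      exact ⟨y, hy, fun e => hy1 (Subtype.ext e)⟩
    have hηU : rep cs h w (sr m) ∈ RGD.Pos cs h := ⟨N₀.root, N₀.pos⟩
    have hηJ : rep cs h w (sr m) ∈ PosJ cs h {i₁}ᶜ := by
      refine ⟨N₀.root, N₀.pos, fun k hk => ?_⟩
      have hk1 : k = i₁ := by by_contra h1; exact hk h1
      subst hk1
      rw [rep_apply_of_mem cs h N₀.wJ _ (fun h1 => h1 hO₁)]
      exact sr_ne (fun e => N₀.mJ (e ▸ hO₁))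
    obtain ⟨V', hV'⟩ : ∃ V' : ↥(RGD.Sup X (RGD.Pos cs h)), (V' : Y) = v := ⟨⟨_, RGD.le_Sup hηU hv⟩, rfl⟩
    obtain ⟨e, he⟩ : ∃ e, e = v⁻¹ * y₀⁻¹ * v * y₀ := ⟨_, rfl⟩
    have he1 : e ≠ 1 := by
      intro h1
      refine Nb.not_comm R N₀ hy₀ hy₀1 hv hv1 ?_
      rw [he] at h1
      have h2 : v * y₀ = y₀ * v * (v⁻¹ * y₀⁻¹ * v * y₀) := by group
      rw [h2, h1, mul_one]
    have hvL : v ∈ UJ cs h X {i₁}ᶜ := RGD.le_Sup (S := PosJ cs h {i₁}ᶜ) hηJ hv
    have hcom : e * y₂ = y₂ * e := by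
      have h1 := hcomm (V'⁻¹ * (U₀⁻¹ * Y₀)⁻¹ * V' * (U₀⁻¹ * Y₀)) (U₂⁻¹ * Y₂) (V'⁻¹ * Y₀⁻¹ * V' * Y₀) Y₂ ?_ hA₂ ?_ hq₂ ?_ hy₂L
      · simp only [Subgroup.coe_mul, Subgroup.coe_inv, hV', hY₀, hY₂, ← he] at h1
        exact h1
      · have h2 := hn v (RGD.le_Sup hηU hv) _ (inv_mem hA₀)
        have h3 := mul_mem h2 hA₀
        simp only [Subgroup.coe_mul, Subgroup.coe_inv, hV'] at h3 ⊢
        exact h3
      · simp only [map_mul, map_inv] at hq₀ ⊢
        rw [hq₀]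
      · simp only [Subgroup.coe_mul, Subgroup.coe_inv, hV']
        exact mul_mem (mul_mem (mul_mem (inv_mem hvL) (inv_mem hy₀L)) hvL) hy₀L
    obtain ⟨b, hb, k, hk, c, hc, ek⟩ := exists_dec R hy₂ hy₂1
    have hcX : ∀ b ∈ X (-sr i₂), e * b = b * e := by
      intro b hb
      have h1 : v * b = b * v := Nb.commute R N₂ hv hb
      have h2 : y₀ * b = b * y₀ := commute_pos_neg R h02 hy₀ hb
      have h3 : Commute v b := h1
      have h4 : Commute y₀ b := h2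
      have h5 : Commute (v⁻¹ * y₀⁻¹ * v * y₀) b := ((h3.inv_left.mul_left h4.inv_left).mul_left h3).mul_left h4
      rw [he]
      exact h5
    have hek : k * e * k⁻¹ = e := by
      have h1 : Commute e b := hcX b hb
      have h2 : Commute e c := hcX c hc
      have h3 : Commute e y₂ := hcom
      have h4 : k = b⁻¹ * y₂ * c⁻¹ := by rw [ek]; group
      have h5 : Commute e k := by
        rw [h4]
        exact (h1.inv_right.mul_right h3).mul_right h2.inv_right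
      rw [← h5.eq, mul_inv_cancel_right]
    -- `e ∈ U_{I - i₂}` and `k e k⁻¹ ∈ V_{I - i₂}`
    have hne : ∀ z : I → ℤ, z = sr i₀ → z i₂ = 0 := fun z hz => by rw [hz]; exact sr_ne (Ne.symm h02)
    have hE : e ∈ btw cs h X (rep cs h w (sr m)) (sr i₀) := by
      have h1 : rep cs h w (sr m) ≠ sr i₀ := fun e1 => by
        have := N₀.apply_i
        rw [e1, sr_self] at this
        exact one_ne_zero this
      have h2 : rep cs h w (sr m) ≠ -sr i₀ := fun e1 => by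
        have := N₀.apply_i
        rw [e1, Pi.neg_apply, sr_self] at this
        exact absurd this (by decide)
      have h3 := R.comm _ _ N₀.root (isRoot_sr cs h i₀) h1 h2 v⁻¹ (inv_mem hv) y₀⁻¹ (inv_mem hy₀)
      rw [commutatorElement_def, inv_inv, inv_inv] at h3
      rw [he]
      exact h3
    have hz : ∀ z, Btwn cs h (rep cs h w (sr m)) (sr i₀) z → IsRoot cs h z ∧ 0 ≤ z ∧ z i₂ = 0 ∧
        pairing A i₂ z < 0 := by
      intro z hz
      refine ⟨hz.1, RGD.nonneg_of_btwn N₀.pos (sr_nonneg i₀) hz, ?_, ?_⟩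
      · obtain ⟨-, a, b, c, ha, hb, hc, e1⟩ := hz
        have e2 := congrFun e1 i₂
        rw [Pi.smul_apply, Pi.add_apply, Pi.smul_apply, Pi.smul_apply, N₂.apply_i, sr_ne (Ne.symm h02), smul_zero,
          smul_zero, add_zero, smul_eq_mul] at e2
        exact (mul_eq_zero.1 e2).resolve_left ha.ne'
      · obtain ⟨-, a, b, c, ha, hb, hc, e1⟩ := hz
        have e2 := congrArg (pairing A i₂) e1
        rw [pairing_add, pairing_smul, pairing_smul, pairing_smul, pairing_sr] at e2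
        have h1 := N₂.neg
        have h2 : A i₂ i₀ ≤ 0 := cartan_nonpos h (Ne.symm h02)
        have h3 : c * A i₂ i₀ ≤ 0 := mul_nonpos_of_nonneg_of_nonpos hc.le h2
        have h4 : b * pairing A i₂ (rep cs h w (sr m)) < 0 := mul_neg_of_pos_of_neg hb h1
        by_contra hcon
        push Not at hcon
        have h5 : 0 ≤ a * pairing A i₂ z := mul_nonneg ha.le hcon
        linarith
    have hEU : e ∈ UJ cs h X {i₂}ᶜ := by
      refine R.btw_le_Sup (fun z hz' => ?_) hE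
      obtain ⟨h1, h2, h3, -⟩ := hz z hz'
      refine ⟨h1, h2, fun k hk => ?_⟩
      have hk1 : k = i₂ := by by_contra h4; exact hk h4
      rw [hk1]; exact h3
    have hEV : k * e * k⁻¹ ∈ VJ cs h X {i₂}ᶜ := by
      have h1 : btw cs h X (rep cs h w (sr m)) (sr i₀) ≤ (VJ cs h X {i₂}ᶜ).comap (MulAut.conj k).toMonoidHom := by
        unfold Cfsg.Agent.Nodes.Reps.btw
        refine iSup_le ?_
        rintro ⟨z, hz'⟩ y hy
        obtain ⟨h1, h2, h3, h4⟩ := hz z hz'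
        show k * y * k⁻¹ ∈ VJ cs h X {i₂}ᶜ
        have h5 := R.conj_mem hk h1 hy
        have h6 : 0 < rep cs h (cs.simple i₂) z i₂ := by
          rw [rep_simple_apply_self, h3, zero_sub]; linarith
        exact RGD.le_Sup (S := NotJ cs h {i₂}ᶜ)
          ⟨h1.act _, nonneg_of_pos_apply (h1.act _) h6, i₂, fun h7 => h7 rfl, h6⟩ h5
      exact h1 hE
    have hinf2 := UJ_inf_VJ R {i₂}ᶜ
    rw [Subgroup.eq_bot_iff_forall] at hinf2
    rw [hek] at hEV
    exact he1 (hinf2 _ (Subgroup.mem_inf.2 ⟨hEU, hEV⟩))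

end

end Cfsg.Agent.Omega.Lie.End.Mov

end

section


/-!
# Groups of odd automorphisms of a group with a root group datum: moved nodes

See `MovB` for the statements.
-/

set_option autoImplicit false
set_option linter.unusedSectionVars false

namespace Cfsg.Agent.Omega.Lie.End.Mov

open CoxeterSystem Cfsg.Agent.ChevalleyStructure.CoxeterGeom Cfsg.Agent.Tits.Roots Cfsg.Agent.Tits.Core
  Cfsg.Agent.Tits.Exchange Cfsg.Agent.Tits.RootComb Cfsg.Agent.Nodes.Reps Cfsg.Agent.Nodes.BNOf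
  Cfsg.Agent.Nodes.StabComb Cfsg.Agent.Nodes.Bruhat Cfsg.Agent.Nodes.OppDec Cfsg.Agent.Nodes.LeviDec
  Cfsg.Agent.Nodes.NormalForm Cfsg.Agent.KFacts.RgdOpp Cfsg.Agent.KFacts.RgdAut Cfsg.Agent.KFacts.RgdDiag
  Cfsg.Agent.KFacts.RgdRigid Cfsg.Agent.KFacts.RgdPar Cfsg.Agent.KFacts.RgdCharP
open scoped commutatorElement

variable {I W Y : Type*} [Fintype I] [DecidableEq I] [Group W] [Group Y] {M : CoxeterMatrix I}
  {cs : CoxeterSystem M W} {A : I → I → ℤ} {h : IsCartan M A} {p : ℕ} {T : Subgroup Y} {n : I → Y}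
  {X : (I → ℤ) → Subgroup Y}

/-- A group of frame automorphisms of odd order, `AA` abelian, fixed-point-free on `AA ≠ 1`. -/
structure Act (cs : CoxeterSystem M W) (h : IsCartan M A) (X : (I → ℤ) → Subgroup Y) (Γ : Subgroup (MulAut Y)) :
    Prop where
  frame : ∀ γ ∈ Γ, γ ∈ Frame cs h X
  odd : ∀ γ ∈ Γ, Odd (orderOf γ)
  ab : ∀ a ∈ AA (RGD.Sup X (RGD.Pos cs h)) Γ, ∀ b ∈ AA (RGD.Sup X (RGD.Pos cs h)) Γ, a * b = b * a
  fpf : ∀ γ ∈ Γ, γ ≠ 1 → ∀ a ∈ AA (RGD.Sup X (RGD.Pos cs h)) Γ, γ a = a → a = 1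
  ne : AA (RGD.Sup X (RGD.Pos cs h)) Γ ≠ ⊥

/-- the node `i` is moved -/
def Mv (X : (I → ℤ) → Subgroup Y) (Γ : Subgroup (MulAut Y)) (i : I) : Prop :=
  ∃ γ ∈ Γ, ∃ u ∈ X (sr i), γ u ≠ u

theorem Diag.perm_eq (R : RGD cs h p T n X) [Finite W] {β : MulAut Y} {σ : Equiv.Perm I} (D : Diag T X β σ)
    (hβ : β = 1) (i : I) : σ i = i := by
  obtain ⟨u, hu, hu1⟩ := exists_ne_one R i
  exact Diag.apply_eq R D hu hu1 (by rw [hβ]; rfl)

theorem odd_fix {σ : Equiv.Perm I} {k : ℕ} (hk : Odd k) {i : I} (h1 : (σ ^ k) i = i) (h2 : σ (σ i) = i) : σ i = i := by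
  obtain ⟨m, rfl⟩ := hk
  have h3 : ∀ m : ℕ, (σ ^ (2 * m)) i = i := by
    intro m
    induction m with
    | zero => rfl
    | succ m ih =>
      have e : σ ^ (2 * (m + 1)) = σ * σ * σ ^ (2 * m) := by
        rw [mul_add, mul_one, add_comm, pow_add, pow_two]
      rw [e, Equiv.Perm.mul_apply, Equiv.Perm.mul_apply, ih, h2]
  have h4 : (σ ^ (2 * m + 1)) i = σ ((σ ^ (2 * m)) i) := by
    rw [pow_succ', Equiv.Perm.mul_apply]
  rw [h4, h3] at h1
  exact h1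

section

variable (R : RGD cs h p T n X) [Finite W] (hG1 : RGD.Sup X {x | IsRoot cs h x} = ⊤) {Γ : Subgroup (MulAut Y)}
  (H : Act cs h X Γ)

include R hG1 H

theorem Act.exists_diag {γ : MulAut Y} (hγ : γ ∈ Γ) : ∃ σ : Equiv.Perm I, Diag T X γ σ :=
  Cfsg.Agent.KFacts.RgdDiag.exists_diag R (GG_eq_top hG1) (H.frame γ hγ).1 (H.frame γ hγ).2

/-- **Type preservation.** -/
theorem Act.diag_one (hc : Conn M) {γ : MulAut Y} (hγ : γ ∈ Γ) : Diag T X γ 1 := by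
  obtain ⟨σ, D⟩ := H.exists_diag R hG1 hγ
  have hσ : σ = 1 := by
    by_contra hne
    obtain ⟨i, hi⟩ : ∃ i, σ i ≠ i := by
      by_contra hcon
      push Not at hcon
      exact hne (Equiv.ext hcon)
    have hodd := H.odd γ hγ
    have hpow : (σ ^ orderOf γ) i = i := Diag.perm_eq R (D.pow (orderOf γ)) (pow_orderOf_eq_one γ) i
    have h2 : σ (σ i) ≠ i := fun e => hi (odd_fix hodd hpow e)
    have h3 : σ (σ i) ≠ σ i := fun e => hi (σ.injective e)
    -- the orbit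
    obtain ⟨O, hO⟩ : ∃ O : Set I, O = {j | ∃ τ ∈ Subgroup.zpowers σ, τ i = j} := ⟨_, rfl⟩
    have hmem : ∀ j, j ∈ O ↔ ∃ τ ∈ Subgroup.zpowers σ, τ i = j := by intro j; rw [hO]; rfl
    have hσz : σ ∈ Subgroup.zpowers σ := Subgroup.mem_zpowers σ
    have hiO : i ∈ O := (hmem _).2 ⟨1, one_mem _, rfl⟩
    have h1O : σ i ∈ O := (hmem _).2 ⟨σ, hσz, rfl⟩
    have h2O : σ (σ i) ∈ O := (hmem _).2 ⟨σ * σ, mul_mem hσz hσz, rfl⟩
    -- the diagram action of the powers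
    have hP : ∀ τ ∈ Subgroup.zpowers σ, ∃ γ' ∈ Γ, Diag T X γ' τ := by
      rintro τ ⟨k, rfl⟩
      rcases k with k | k
      · exact ⟨γ ^ k, pow_mem hγ k, by simpa using D.pow k⟩
      · exact ⟨(γ ^ (k + 1))⁻¹, inv_mem (pow_mem hγ _), by simpa using (D.pow (k + 1)).inv⟩
    obtain ⟨i₂, hi₂, hne2, hl⟩ := exists_link (cs := cs) (h := h) hc hiO ⟨_, h1O, hi⟩
    obtain ⟨i₁, hi₁, h10, h12⟩ : ∃ i₁ ∈ O, i ≠ i₁ ∧ i₂ ≠ i₁ := by
      by_cases h4 : i₂ = σ i
      · exact ⟨σ (σ i), h2O, Ne.symm h2, by rw [h4]; exact Ne.symm h3⟩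
      · exact ⟨σ i, h1O, Ne.symm hi, h4⟩
    obtain ⟨u, hu, hu1⟩ := exists_ne_one R i₁
    have hmove : ∀ j ∈ O, j ≠ i₁ → ∃ y ∈ X (sr j), y ≠ 1 ∧ u⁻¹ * y ∈ AA (RGD.Sup X (RGD.Pos cs h)) Γ := by
      intro j hj hji
      obtain ⟨τ₁, hτ₁, e1⟩ := (hmem _).1 hi₁
      obtain ⟨τ₂, hτ₂, e2⟩ := (hmem _).1 hj
      obtain ⟨γ', hγ', D'⟩ := hP (τ₂ * τ₁⁻¹) (mul_mem hτ₂ (inv_mem hτ₁))
      have e3 : (τ₂ * τ₁⁻¹) i₁ = j := by
        rw [Equiv.Perm.mul_apply, ← e1, ← e2]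
        congr 1
        exact τ₁.symm_apply_apply i
      have h4 := (D'.pos i₁ u).2 hu
      rw [e3] at h4
      exact ⟨γ' u, h4, fun h5 => hu1 (γ'.injective (by rw [h5, map_one])),
        mem_AA (RGD.le_Sup (S := RGD.Pos cs h) ⟨isRoot_sr cs h i₁, sr_nonneg i₁⟩ hu) hγ'⟩
    obtain ⟨y₀, hy₀, hy₀1, ha₀⟩ := hmove i hiO h10
    obtain ⟨y₂, hy₂, hy₂1, ha₂⟩ := hmove i₂ hi₂ h12
    exact pair_false R H.ab (fun u hu a ha => conj_AA hu ha) h10 (Ne.symm hne2) h12 hu hu hy₀ hy₂ hy₀1 hy₂1 ha₀ ha₂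
      hi₁ hl
  rw [← hσ]
  exact D

variable (hc : Conn M)

include hc

omit hG1 hc in
theorem Act.X_le_U (i : I) : X (sr i) ≤ RGD.Sup X (RGD.Pos cs h) :=
  RGD.le_Sup (S := RGD.Pos cs h) ⟨isRoot_sr cs h i, sr_nonneg i⟩

theorem Act.map_X {γ : MulAut Y} (hγ : γ ∈ Γ) {r : I → ℤ} (hr : IsRoot cs h r) {x : Y} (hx : x ∈ X r) : γ x ∈ X r :=
  (Diag.mem_iff R (H.diag_one R hG1 hc hγ) hr x).2 hx

omit hc hG1 R in
theorem Act.fixU {γ : MulAut Y} (hγ : γ ∈ Γ) : Fix γ (RGD.Sup X (RGD.Pos cs h)) := (H.frame γ hγ).1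

theorem Act.mv_mem {i : I} (hi : Mv X Γ i) : ∃ a ∈ X (sr i), a ≠ 1 ∧ a ∈ AA (RGD.Sup X (RGD.Pos cs h)) Γ := by
  obtain ⟨γ, hγ, u, hu, hne⟩ := hi
  exact ⟨u⁻¹ * γ u, mul_mem (inv_mem hu) (H.map_X R hG1 hc hγ (isRoot_sr cs h i) hu),
    fun e => hne (inv_mul_eq_one.1 e).symm, mem_AA (H.X_le_U R i hu) hγ⟩

/-- **Adjacent nodes are not both moved.** -/
theorem Act.nadj {i j : I} (hij : i ≠ j) (hi : Mv X Γ i) (hj : Mv X Γ j) : M i j = 2 := by
  by_contra hM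
  obtain ⟨a, ha, ha1, haA⟩ := H.mv_mem R hG1 hc hi
  obtain ⟨b, hb, hb1, hbA⟩ := H.mv_mem R hG1 hc hj
  exact Nb.not_comm R (nb_simple hij hM) ha ha1 (by rw [map_one, Module.End.one_apply]; exact hb) hb1
    (H.ab b hbA a haA)

/-- `Γ` centralises `⟨X_i, X_{-i}⟩` if `i` is not moved. -/
theorem Act.fixL {i : I} (hi : ¬ Mv X Γ i) {γ : MulAut Y} (hγ : γ ∈ Γ) {x : Y} (hx : x ∈ X (sr i) ⊔ X (-sr i)) :
    γ x = x := by
  have hpos : ∀ u ∈ X (sr i), γ u = u := by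
    intro u hu
    by_contra h1
    exact hi ⟨γ, hγ, u, hu, h1⟩
  have h1 : X (sr i) ⊔ X (-sr i) ≤ γ.toMonoidHom.eqLocus (MonoidHom.id Y) :=
    sup_le (fun u hu => hpos u hu) fun u hu => Diag.apply_neg R (H.diag_one R hG1 hc hγ) hpos hu
  exact h1 hx

/-- **Every `1 ≠ γ ∈ Γ` is fixed-point-free on `X_i`, `i` moved.** -/
theorem Act.fpf_node [Finite Y] (h2 : ∀ i : I, ∃ j, j ≠ i) {i : I} (hi : Mv X Γ i) {γ : MulAut Y} (hγ : γ ∈ Γ)
    (hγ1 : γ ≠ 1) {c : Y} (hcX : c ∈ X (sr i)) (hfix : γ c = c) : c = 1 := by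
  by_contra hc1
  have D := H.diag_one R hG1 hc hγ
  -- a neighbour
  obtain ⟨k, hki, hM⟩ : ∃ k, k ≠ i ∧ M i k ≠ 2 := by
    obtain ⟨j, hj⟩ := h2 i
    obtain ⟨a, ha, b, hb, hab⟩ := hc {i} ⟨i, rfl⟩ (fun e => hj (by
      have : j ∈ ({i} : Set I) := by rw [e]; exact Set.mem_univ j
      exact this))
    have ha' : a = i := ha
    rw [ha'] at hab
    exact ⟨b, fun e => hb e, hab⟩
  have hk : ¬ Mv X Γ k := fun hk => hM (H.nadj R hG1 hc (Ne.symm hki) hi hk)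
  obtain ⟨a, ha, ha1, haA⟩ := H.mv_mem R hG1 hc hi
  obtain ⟨v, hv, hv1⟩ := exists_ne_one R k
  have N := nb_simple (cs := cs) (h := h) (Ne.symm hki) hM
  have e1 : rep cs h 1 (sr k) = sr k := by rw [map_one, Module.End.one_apply]
  have hbA : v⁻¹ * a⁻¹ * v * a ∈ AA (RGD.Sup X (RGD.Pos cs h)) Γ :=
    mul_mem (conj_AA (H.X_le_U R k hv) (inv_mem haA)) haA
  obtain ⟨x, hx, hne⟩ := Nb.no_fix R N D (fun a ha => map_AA (fun γ hγ => H.fixU hγ) hγ ha) (H.fpf γ hγ hγ1) ha ha1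
    (by rw [e1]; exact hv) hv1 hbA
  obtain ⟨g, hg, -, hgf⟩ := exists_rp_fix R hcX hc1
  have hgγ := hgf γ D hfix
  rw [e1] at hx
  have h3 := R.conj_mem' hg ((isRoot_sr cs h k).act (cs.simple i)) hx
  rw [cs.inv_simple, ← rep_mul_apply, cs.simple_mul_simple_self, map_one, Module.End.one_apply] at h3
  have h4 := H.fixL R hG1 hc hk hγ (Subgroup.mem_sup_left h3)
  apply hne
  rw [map_mul, map_mul, map_inv, hgγ] at h4
  have h5 : γ x = g * (g⁻¹ * γ x * g) * g⁻¹ := by group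
  rw [h5, h4]; group

/-- `X_i ≤ AA` for a root group on which some `γ ≠ 1` is fixed-point-free -/
theorem Act.le_of_fpf [Finite Y] {r : I → ℤ} (hr : IsRoot cs h r) (h0 : 0 ≤ r) {γ : MulAut Y} (hγ : γ ∈ Γ)
    (hf : ∀ c ∈ X r, γ c = c → c = 1) : X r ≤ AA (RGD.Sup X (RGD.Pos cs h)) Γ := by
  let φ : ↥(X r) → ↥(X r) := fun u => ⟨(u : Y)⁻¹ * γ u, (X r).mul_mem ((X r).inv_mem u.2) (H.map_X R hG1 hc hγ hr u.2)⟩
  have hinj : Function.Injective φ := by
    intro u v e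
    have e1 : (u : Y)⁻¹ * γ u = (v : Y)⁻¹ * γ v := congrArg Subtype.val e
    have h1 : γ ((u : Y) * (v : Y)⁻¹) = (u : Y) * (v : Y)⁻¹ := by
      have h3 : γ (u : Y) = u * ((v : Y)⁻¹ * γ v) := by rw [← e1]; group
      rw [map_mul, map_inv, h3]; group
    exact Subtype.ext (mul_inv_eq_one.1 (hf _ ((X r).mul_mem u.2 ((X r).inv_mem v.2)) h1))
  intro x hx
  obtain ⟨u, hu⟩ := (Finite.surjective_of_injective hinj) ⟨x, hx⟩
  have h1 : (u : Y)⁻¹ * γ u = x := congrArg Subtype.val hu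
  rw [← h1]
  exact mem_AA (RGD.le_Sup (S := RGD.Pos cs h) ⟨hr, h0⟩ u.2) hγ

/-- some node is moved -/
theorem Act.exists_mv : ∃ i, Mv X Γ i := by
  by_contra hcon
  push Not at hcon
  apply H.ne
  unfold AA
  rw [Subgroup.closure_eq_bot_iff]
  rintro x ⟨s, -, γ, hγ, rfl⟩
  have h1 : γ = 1 := Diag.eq_one R hG1 (H.diag_one R hG1 hc hγ)
    (fun i u hu => H.fixL R hG1 hc (hcon i) hγ (Subgroup.mem_sup_left hu))
  rw [h1, MulAut.one_apply, inv_mul_cancel]
  rfl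

theorem Act.exists_ne : ∃ γ ∈ Γ, γ ≠ 1 := by
  obtain ⟨i, γ, hγ, u, -, hne⟩ := H.exists_mv R hG1 hc
  exact ⟨γ, hγ, fun e => hne (by rw [e]; rfl)⟩

/-- `X_i ≤ AA`, `i` moved -/
theorem Act.le_AA [Finite Y] (h2 : ∀ i : I, ∃ j, j ≠ i) {i : I} (hi : Mv X Γ i) :
    X (sr i) ≤ AA (RGD.Sup X (RGD.Pos cs h)) Γ := by
  obtain ⟨γ, hγ, hγ1⟩ := H.exists_ne R hG1 hc
  exact H.le_of_fpf R hG1 hc (isRoot_sr cs h i) (sr_nonneg i) hγ (fun c hcX => H.fpf_node R hG1 hc h2 hi hγ hγ1 hcX)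

end

end Cfsg.Agent.Omega.Lie.End.Mov

end

section


/-!
# Groups of odd automorphisms of a group with a root group datum: the nodes which are not moved

`J = Un X Γ` : the nodes which are not moved.  `H : Act cs h X Γ`, `M` connected, at least two nodes:

* `exists_nb` : for `m ∈ J` there are `i ∉ J`, `w ∈ W_J` with `⟨w α_m, α_i^∨⟩ < 0`;
* `fix_rep` : every `w ∈ W_J` has a representative which is fixed by `Γ`; `fix_UJ`, `fix_X` : `Γ` centralises the root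
  groups of `Φ_J`;
* `three`, `four` : `|X_m| ≥ 3` (`≥ 4` for `p = 2`) for all nodes `m`;
* `el` : all root groups have exponent 2 if `AA` has;
* `AA_VJ`, `conj_rep`, `conj_le` : `AA = [V_J, Γ]` is normalised by the elements of `P_J` fixed by `Γ`;
  `X_r ≤ AA` implies `X_{w r} ≤ AA`, `w ∈ W_J`;
* `one` : only one node is moved; `six_false` : the groups with a bond of order 6;
* `map_PJ`, `dich_un`, `dich_mv` : the action of `Γ` on the parabolic subgroups and on the panels.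
-/

set_option autoImplicit false
set_option linter.unusedSectionVars false

namespace Cfsg.Agent.Omega.Lie.End.Mov

open CoxeterSystem Cfsg.Agent.ChevalleyStructure.CoxeterGeom Cfsg.Agent.Tits.Roots Cfsg.Agent.Tits.Core
  Cfsg.Agent.Tits.Exchange Cfsg.Agent.Tits.RootComb Cfsg.Agent.Nodes.Reps Cfsg.Agent.Nodes.BNOf
  Cfsg.Agent.Nodes.StabComb Cfsg.Agent.Nodes.Bruhat Cfsg.Agent.Nodes.OppDec Cfsg.Agent.Nodes.LeviDec
  Cfsg.Agent.Nodes.NormalForm Cfsg.Agent.KFacts.RgdOpp Cfsg.Agent.KFacts.RgdAut Cfsg.Agent.KFacts.RgdDiag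
  Cfsg.Agent.KFacts.RgdRigid Cfsg.Agent.KFacts.RgdPar Cfsg.Agent.KFacts.RgdCharP
open scoped commutatorElement

variable {I W Y : Type*} [Fintype I] [DecidableEq I] [Group W] [Group Y] {M : CoxeterMatrix I}
  {cs : CoxeterSystem M W} {A : I → I → ℤ} {h : IsCartan M A} {p : ℕ} {T : Subgroup Y} {n : I → Y}
  {X : (I → ℤ) → Subgroup Y}

/-- the nodes which are not moved -/
def Un (X : (I → ℤ) → Subgroup Y) (Γ : Subgroup (MulAut Y)) : Set I := {k | ¬ Mv X Γ k}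

/-- Every node of `J ≠ I` is joined to a node outside `J` by `W_J`. -/
theorem exists_nb (hc : Conn M) {J : Set I} (hJ : ∃ i, i ∉ J) {m : I} (hm : m ∈ J) :
    ∃ i, i ∉ J ∧ ∃ w, Nb cs h i J m w := by
  obtain ⟨S, hS⟩ : ∃ S : Set I, S = {k | k ∈ J ∧ ∃ w ∈ WJ cs J, 0 < rep cs h w (sr m) k} := ⟨_, rfl⟩
  have hmem : ∀ k, k ∈ S ↔ k ∈ J ∧ ∃ w ∈ WJ cs J, 0 < rep cs h w (sr m) k := by intro k; rw [hS]; rfl
  obtain ⟨i₀, hi₀⟩ := hJ
  obtain ⟨a, ha, b, hb, hab⟩ := hc S ⟨m, (hmem m).2 ⟨hm, 1, one_mem _, by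
    rw [map_one, Module.End.one_apply, sr_self]; exact one_pos⟩⟩
    (fun e => hi₀ ((hmem i₀).1 (by rw [e]; exact Set.mem_univ i₀)).1)
  obtain ⟨haJ, w, hw, hpos⟩ := (hmem a).1 ha
  have hroot : IsRoot cs h (rep cs h w (sr m)) := ⟨w, m, rfl⟩
  have h0 := nonneg_of_pos_apply hroot hpos
  have hMba : M b a ≠ 2 := by rw [M.symmetric]; exact hab
  by_cases hbJ : b ∈ J
  · exfalso
    have hb0 : rep cs h w (sr m) b = 0 := by
      refine le_antisymm ?_ (h0 b)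
      by_contra hcon
      push Not at hcon
      exact hb ((hmem b).2 ⟨hbJ, w, hw, hcon⟩)
    have h2 := pairing_neg h h0 hb0 hpos hMba
    refine hb ((hmem b).2 ⟨hbJ, cs.simple b * w, mul_mem (simple_mem_WJ cs hbJ) hw, ?_⟩)
    rw [rep_mul_apply, rep_simple_apply_self, hb0]
    linarith
  · have hb0 : rep cs h w (sr m) b = 0 := by
      rw [rep_apply_of_mem cs h hw _ hbJ]
      exact sr_ne (fun e => hbJ (e ▸ hm))
    exact ⟨b, hbJ, w, hbJ, hm, hw, h0, (pairing_neg h h0 hb0 hpos hMba).ne⟩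

/-- Two nodes outside `J`: a conjugate of one of them under `W_J` is not orthogonal to another node outside `J`. -/
theorem exists_nb_out (hc : Conn M) {J : Set I} {i j : I} (hj : j ∉ J) (hij : i ≠ j) :
    ∃ b, b ∉ J ∧ b ≠ i ∧ ∃ w ∈ WJ cs J, Nb cs h b (J ∪ {i}) i w := by
  obtain ⟨S, hS⟩ : ∃ S : Set I, S = {k | ∃ w ∈ WJ cs J, 0 < rep cs h w (sr i) k} := ⟨_, rfl⟩
  have hmem : ∀ k, k ∈ S ↔ ∃ w ∈ WJ cs J, 0 < rep cs h w (sr i) k := by intro k; rw [hS]; rfl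
  have hiS : i ∈ S := (hmem i).2 ⟨1, one_mem _, by rw [map_one, Module.End.one_apply, sr_self]; exact one_pos⟩
  obtain ⟨a, ha, b, hb, hab⟩ := hc S ⟨i, hiS⟩ (fun e => by
    have h1 : j ∈ S := by rw [e]; exact Set.mem_univ j
    obtain ⟨w, hw, h2⟩ := (hmem j).1 h1
    rw [rep_apply_of_mem cs h hw _ hj, sr_ne (Ne.symm hij)] at h2
    exact lt_irrefl _ h2)
  obtain ⟨w, hw, hpos⟩ := (hmem a).1 ha
  have hroot : IsRoot cs h (rep cs h w (sr i)) := ⟨w, i, rfl⟩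
  have h0 := nonneg_of_pos_apply hroot hpos
  have hMba : M b a ≠ 2 := by rw [M.symmetric]; exact hab
  have hbi : b ≠ i := fun e => hb (e ▸ hiS)
  have hb0 : rep cs h w (sr i) b = 0 := by
    refine le_antisymm ?_ (h0 b)
    by_contra hcon
    push Not at hcon
    exact hb ((hmem b).2 ⟨w, hw, hcon⟩)
  have h2 := pairing_neg h h0 hb0 hpos hMba
  by_cases hbJ : b ∈ J
  · exfalso
    refine hb ((hmem b).2 ⟨cs.simple b * w, mul_mem (simple_mem_WJ cs hbJ) hw, ?_⟩)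
    rw [rep_mul_apply, rep_simple_apply_self, hb0]
    linarith
  · refine ⟨b, hbJ, hbi, w, hw, ?_, Or.inr rfl, ?_, h0, h2.ne⟩
    · rintro (h3 | h3)
      · exact hbJ h3
      · exact hbi h3
    · exact WJ_mono cs Set.subset_union_left hw

section

variable (R : RGD cs h p T n X)

include R

/-- the commutator of two root elements, for a fixed element of `X_i#` -/
theorem Nb.comp' [Finite W] {i m : I} {J : Set I} {w : W} (N : Nb cs h i J m w) {a : Y} (ha : a ∈ X (sr i))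
    (ha1 : a ≠ 1) :
    ∃ k, Rp cs R.nsys (cs.simple i) k ∧ ∀ v ∈ X (rep cs h w (sr m)),
      ∃ z ∈ RGD.Sup X (Zs cs h (rep cs h (cs.simple i) (rep cs h w (sr m))) (rep cs h w (sr m))),
        v⁻¹ * a⁻¹ * v * a = (k⁻¹ * v * k) * z := by
  obtain ⟨b, hb, k, hk, c, hc, e⟩ := exists_dec R ha ha1
  refine ⟨k, hk, fun v hv => ?_⟩
  obtain ⟨x, hx⟩ : ∃ x, x = k⁻¹ * v * k := ⟨_, rfl⟩
  have hxX : x ∈ X (rep cs h (cs.simple i) (rep cs h w (sr m))) := by
    have := R.conj_mem' hk N.root hv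
    rwa [cs.inv_simple, ← hx] at this
  obtain ⟨q, hqi, hq⟩ := N.exists_k
  have hδq : 0 < rep cs h (cs.simple i) (rep cs h w (sr m)) q := by
    rw [rep_simple_apply cs h i _ q hqi]; exact hq
  have hne1 : rep cs h (cs.simple i) (rep cs h w (sr m)) ≠ -sr i := fun e => by
    rw [e, Pi.neg_apply, sr_ne hqi, neg_zero] at hδq
    exact lt_irrefl _ hδq
  have hne2 : rep cs h (cs.simple i) (rep cs h w (sr m)) ≠ - -sr i := fun e => by
    rw [neg_neg] at e
    rw [e, sr_ne hqi] at hδq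
    exact lt_irrefl _ hδq
  have h1 := R.comm _ _ N.delta_root (isRoot_sr cs h i).neg hne1 hne2 x⁻¹ (inv_mem hxX) c⁻¹ (inv_mem hc)
  have h2 : x⁻¹ * c⁻¹ * x * c ∈ RGD.Sup X (Zs cs h (rep cs h (cs.simple i) (rep cs h w (sr m))) (rep cs h w (sr m))) := by
    have h3 := R.btw_le_Sup (fun z hz => N.btwn_mem hz) h1
    rw [commutatorElement_def, inv_inv, inv_inv] at h3
    exact h3
  have e1 : v⁻¹ * a⁻¹ * v * a = x * ((x⁻¹ * v⁻¹ * x) * (x⁻¹ * c⁻¹ * x * c)) := by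
    have h3 : b⁻¹ * v * b = v := by
      have := Nb.commute R N hv hb
      rw [mul_assoc, this]; group
    have h4 : v⁻¹ * a⁻¹ * v * a = v⁻¹ * c⁻¹ * (k⁻¹ * (b⁻¹ * v * b) * k) * c := by rw [e]; group
    rw [h4, h3, ← hx]; group
  refine ⟨(x⁻¹ * v⁻¹ * x) * (x⁻¹ * c⁻¹ * x * c), mul_mem ?_ h2, by rw [e1, hx]⟩
  have h3 := Nb.le_norm R N (inv_mem hxX)
  rw [Subgroup.mem_normalizer_iff] at h3
  have h4 := (h3 v⁻¹).1 (inv_mem (RGD.le_Sup (Or.inl rfl) hv))
  rwa [inv_inv] at h4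

end

section

variable (R : RGD cs h p T n X) [Finite W] (hG1 : RGD.Sup X {x | IsRoot cs h x} = ⊤) {Γ : Subgroup (MulAut Y)}
  (H : Act cs h X Γ) (hc : Conn M)

include R hG1 H hc

/-- the elements of `W_J` have representatives fixed by `Γ`, `J` the nodes which are not moved -/
theorem Act.fix_rep {w : W} (hw : w ∈ WJ cs (Un X Γ)) :
    ∃ g, Rp cs R.nsys w g ∧ (∀ γ ∈ Γ, γ g = g) ∧ g ∈ PJ cs h T X (Un X Γ) := by
  unfold WJ at hw
  induction hw using Subgroup.closure_induction with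
  | mem w hw =>
    obtain ⟨k, hk, rfl⟩ := hw
    obtain ⟨a, ha, ha1⟩ := exists_ne_one R k
    obtain ⟨g, hg, ⟨b, hb, c, hc', e⟩, hgf⟩ := exists_rp_fix R ha ha1
    refine ⟨g, hg, fun γ hγ => hgf γ (H.diag_one R hG1 hc hγ) (H.fixL R hG1 hc hk hγ (Subgroup.mem_sup_left ha)), ?_⟩
    have h1 : sr k ∈ RootsJ cs h (Un X Γ) := PosJ_subset _ (sr_mem_PosJ hk)
    have h2 : X (sr k) ≤ PJ cs h T X (Un X Γ) := le_trans (X_le_LJ h1) LJ_le_PJ
    have h3 : X (-sr k) ≤ PJ cs h T X (Un X Γ) := le_trans (X_le_LJ (RootsJ.neg h1)) LJ_le_PJ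
    have h4 : g = b⁻¹ * a * c⁻¹ := by rw [e]; group
    rw [h4]
    exact mul_mem (mul_mem (inv_mem (h3 hb)) (h2 ha)) (inv_mem (h3 hc'))
  | one => exact ⟨1, rp_one, fun γ _ => map_one γ, one_mem _⟩
  | mul u v _ _ hu hv =>
    obtain ⟨g, hg, hgf, hgP⟩ := hu
    obtain ⟨g', hg', hgf', hgP'⟩ := hv
    exact ⟨g * g', hg.mul hg', fun γ hγ => by rw [map_mul, hgf γ hγ, hgf' γ hγ], mul_mem hgP hgP'⟩
  | inv u _ hu =>
    obtain ⟨g, hg, hgf, hgP⟩ := hu
    exact ⟨g⁻¹, hg.inv, fun γ hγ => by rw [map_inv, hgf γ hγ], inv_mem hgP⟩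

/-- `Γ` centralises the root groups of `Φ_J`. -/
theorem Act.fix_X {η : I → ℤ} (hη : η ∈ RootsJ cs h (Un X Γ)) {γ : MulAut Y} (hγ : γ ∈ Γ) {x : Y} (hx : x ∈ X η) :
    γ x = x := by
  obtain ⟨w, hw, m, hm, rfl⟩ := exists_of_mem_RootsJ hη
  obtain ⟨g, hg, hgf, -⟩ := H.fix_rep R hG1 hc hw
  have h1 := R.conj_mem' hg hη.1 hx
  rw [rep_inv_apply] at h1
  have h2 := H.fixL R hG1 hc hm hγ (Subgroup.mem_sup_left h1)
  rw [map_mul, map_mul, map_inv, hgf γ hγ] at h2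
  have h3 : γ x = g * (g⁻¹ * γ x * g) * g⁻¹ := by group
  rw [h3, h2]; group

/-- `Γ` centralises `U_J`. -/
theorem Act.fix_UJ {γ : MulAut Y} (hγ : γ ∈ Γ) {x : Y} (hx : x ∈ UJ cs h X (Un X Γ)) : γ x = x := by
  have h1 : UJ cs h X (Un X Γ) ≤ γ.toMonoidHom.eqLocus (MonoidHom.id Y) :=
    RGD.Sup_le fun η hη u hu => H.fix_X R hG1 hc (PosJ_subset _ hη) hγ hu
  exact h1 hx

/-- `γ` acts on `P_J`. -/
theorem Act.map_PJ {γ : MulAut Y} (hγ : γ ∈ Γ) {K : Set I} {x : Y} (hx : x ∈ PJ cs h T X K) :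
    γ x ∈ PJ cs h T X K := by
  have D := H.diag_one R hG1 hc hγ
  have h1 : PJ cs h T X K ≤ (PJ cs h T X K).comap γ.toMonoidHom := by
    refine sup_le (sup_le ?_ ?_) ?_
    · intro t ht
      exact le_trans T_le_LJ LJ_le_PJ ((D.tor t).2 ht)
    · exact RGD.Sup_le fun z hz y hy => le_trans (X_le_LJ hz) LJ_le_PJ (H.map_X R hG1 hc hγ hz.1 hy)
    · exact RGD.Sup_le fun z hz y hy =>
        le_trans (RGD.le_Sup (S := NotJ cs h K) hz) VJ_le_PJ (H.map_X R hG1 hc hγ hz.1 hy)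
  exact h1 hx

theorem Act.map_VJ {γ : MulAut Y} (hγ : γ ∈ Γ) {K : Set I} {x : Y} (hx : x ∈ VJ cs h X K) : γ x ∈ VJ cs h X K :=
  Diag.fix_Sup R (H.diag_one R hG1 hc hγ) (fun _ hz => hz.1) hx

/-- `AA = [V_J, Γ]` -/
theorem Act.AA_VJ : AA (RGD.Sup X (RGD.Pos cs h)) Γ = AA (VJ cs h X (Un X Γ)) Γ := by
  apply le_antisymm
  · conv_lhs => unfold AA
    rw [Subgroup.closure_le]
    rintro x ⟨s, hs, γ, hγ, rfl⟩
    obtain ⟨u, hu, v, hv, rfl⟩ := (mem_U_iff R (J := Un X Γ)).1 hs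
    have e : (u * v)⁻¹ * γ (u * v) = v⁻¹ * γ v := by
      rw [map_mul, H.fix_UJ R hG1 hc hγ hu]; group
    rw [e]
    exact mem_AA hv hγ
  · conv_lhs => unfold AA
    rw [Subgroup.closure_le]
    rintro x ⟨s, hs, γ, hγ, rfl⟩
    exact mem_AA (VJ_le_U _ hs) hγ

/-- `AA ≤ V_J` -/
theorem Act.AA_le_VJ : AA (RGD.Sup X (RGD.Pos cs h)) Γ ≤ VJ cs h X (Un X Γ) := by
  rw [H.AA_VJ R hG1 hc]
  unfold AA
  rw [Subgroup.closure_le]
  rintro x ⟨s, hs, γ, hγ, rfl⟩
  exact mul_mem (inv_mem hs) (H.map_VJ R hG1 hc hγ hs)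

/-- The elements of `P_J` fixed by `Γ` normalise `AA`. -/
theorem Act.conj_fix {g : Y} (hg : g ∈ PJ cs h T X (Un X Γ)) (hgf : ∀ γ ∈ Γ, γ g = g) {a : Y}
    (ha : a ∈ AA (RGD.Sup X (RGD.Pos cs h)) Γ) : g * a * g⁻¹ ∈ AA (RGD.Sup X (RGD.Pos cs h)) Γ := by
  rw [H.AA_VJ R hG1 hc] at ha ⊢
  have h1 : AA (VJ cs h X (Un X Γ)) Γ ≤ (AA (VJ cs h X (Un X Γ)) Γ).comap (MulAut.conj g).toMonoidHom := by
    conv_lhs => unfold AA
    rw [Subgroup.closure_le]
    rintro x ⟨s, hs, γ, hγ, rfl⟩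
    show g * (s⁻¹ * γ s) * g⁻¹ ∈ AA (VJ cs h X (Un X Γ)) Γ
    have e : g * (s⁻¹ * γ s) * g⁻¹ = (g * s * g⁻¹)⁻¹ * γ (g * s * g⁻¹) := by
      rw [map_mul, map_mul, map_inv, hgf γ hγ]; group
    rw [e]
    exact mem_AA ((Subgroup.mem_normalizer_iff.1 (PJ_le_normalizer_VJ R _ hg) s).1 hs) hγ
  exact h1 ha

/-- `X_r ≤ AA` implies `X_{w r} ≤ AA` for `w ∈ W_J`. -/
theorem Act.conj_rep {r : I → ℤ} (hr : IsRoot cs h r) (hle : X r ≤ AA (RGD.Sup X (RGD.Pos cs h)) Γ) {w : W}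
    (hw : w ∈ WJ cs (Un X Γ)) : X (rep cs h w r) ≤ AA (RGD.Sup X (RGD.Pos cs h)) Γ := by
  obtain ⟨g, hg, hgf, hgP⟩ := H.fix_rep R hG1 hc hw
  intro x hx
  have h1 := R.conj_mem' hg (hr.act w) hx
  rw [rep_inv_apply] at h1
  have h2 := H.conj_fix R hG1 hc hgP hgf (hle h1)
  have h3 : g * (g⁻¹ * x * g) * g⁻¹ = x := by group
  rwa [h3] at h2

variable [Finite Y] (h2 : ∀ i : I, ∃ j, j ≠ i)

include h2

/-- `X_{w i} ≤ AA` for `i` moved and `w ∈ W_J`. -/
theorem Act.conj_le {i : I} (hi : Mv X Γ i) {w : W} (hw : w ∈ WJ cs (Un X Γ)) :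
    X (rep cs h w (sr i)) ≤ AA (RGD.Sup X (RGD.Pos cs h)) Γ :=
  H.conj_rep R hG1 hc (isRoot_sr cs h i) (H.le_AA R hG1 hc h2 hi) hw

/-- **Only one node is moved.** -/
theorem Act.one {i j : I} (hi : Mv X Γ i) (hj : Mv X Γ j) : i = j := by
  by_contra hij
  obtain ⟨b, hb, hbi, w, hw, N⟩ := exists_nb_out (cs := cs) (h := h) (J := Un X Γ) hc (fun h1 => h1 hj) hij
  have hbm : Mv X Γ b := by by_contra h1; exact hb h1
  obtain ⟨a, ha, ha1⟩ := exists_ne_one R b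
  obtain ⟨⟨v, hv⟩, hv1⟩ := Subgroup.ne_bot_iff_exists_ne_one.1 (X_ne_bot R N.root)
  exact Nb.not_comm R N ha ha1 hv (fun e => hv1 (Subtype.ext e))
    (H.ab _ (H.conj_le R hG1 hc h2 hi hw hv) _ (H.le_AA R hG1 hc h2 hbm ha))

/-- there is an unmoved neighbour of a moved node -/
theorem Act.exists_un {i : I} (hi : Mv X Γ i) : ∃ k, k ≠ i ∧ M i k ≠ 2 ∧ ¬ Mv X Γ k := by
  obtain ⟨j, hj⟩ := h2 i
  obtain ⟨a, ha, b, hb, hab⟩ := hc {i} ⟨i, rfl⟩ (fun e => hj (by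
    have : j ∈ ({i} : Set I) := by rw [e]; exact Set.mem_univ j
    exact this))
  have ha' : a = i := ha
  rw [ha'] at hab
  have hbi : b ≠ i := fun e => hb e
  exact ⟨b, hbi, hab, fun hk => hab (H.nadj R hG1 hc (Ne.symm hbi) hi hk)⟩

/-- `X_i` and `X_{s_j i}` commute if `i` is moved and `j` is not. -/
theorem Act.comm_simple {i j : I} (hi : Mv X Γ i) (hj : ¬ Mv X Γ j) {x y : Y} (hx : x ∈ X (sr i))
    (hy : y ∈ X (rep cs h (cs.simple j) (sr i))) : x * y = y * x :=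
  H.ab _ (H.le_AA R hG1 hc h2 hi hx) _ (H.conj_le R hG1 hc h2 hi (simple_mem_WJ cs hj) hy)

/-- **The groups of rank two with a bond of order 6 have no such group of automorphisms.** -/
theorem Act.six_false {i j : I} (hM : M i j = 6) (hij : ∀ k, k = i ∨ k = j)
    (hi : ∃ x ∈ X (sr i), ∃ y ∈ X (rep cs h (cs.simple j) (sr i)), x * y ≠ y * x)
    (hj : ∃ x ∈ X (sr j), ∃ y ∈ X (rep cs h (cs.simple i) (sr j)), x * y ≠ y * x) : False := by
  have hne : i ≠ j := by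
    rintro rfl
    have := M.diagonal i
    omega
  obtain ⟨k, hk⟩ := H.exists_mv R hG1 hc
  rcases hij k with rfl | rfl
  · have hj' : ¬ Mv X Γ j := fun h1 => hne (H.one R hG1 hc h2 hk h1)
    obtain ⟨x, hx, y, hy, hxy⟩ := hi
    exact hxy (H.comm_simple R hG1 hc h2 hk hj' hx hy)
  · have hi' : ¬ Mv X Γ i := fun h1 => hne (H.one R hG1 hc h2 h1 hk)
    obtain ⟨x, hx, y, hy, hxy⟩ := hj
    exact hxy (H.comm_simple R hG1 hc h2 hk hi' hx hy)

end

section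

variable (R : RGD cs h p T n X) [Finite W] (hG1 : RGD.Sup X {x | IsRoot cs h x} = ⊤) {Γ : Subgroup (MulAut Y)}
  (H : Act cs h X Γ) (hc : Conn M)

theorem card_le_two {Q : Type*} [Group Q] [Finite Q] (h1 : Nat.card Q ≤ 2) {x y : Q} (hx : x ≠ 1) (hy : y ≠ 1) :
    x = y := by
  by_contra hne
  have h3 : 3 ≤ Nat.card Q := by
    have := Fintype.ofFinite Q
    classical
    rw [Nat.card_eq_fintype_card]
    have h4 : ({1, x, y} : Finset Q).card = 3 := by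
      rw [Finset.card_eq_three]
      exact ⟨1, x, y, Ne.symm hx, Ne.symm hy, hne, rfl⟩
    rw [← h4]
    exact Finset.card_le_univ _
  omega

include R hG1 H hc

/-- **`|X_m| ≥ 3` for all nodes `m`.** -/
theorem Act.three [Finite Y] (h2 : ∀ i : I, ∃ j, j ≠ i) (m : I) : 3 ≤ Nat.card (X (sr m)) := by
  by_contra hcon
  obtain ⟨γ, hγ, hγ1⟩ := H.exists_ne R hG1 hc
  have key : ∀ r : I → ℤ, IsRoot cs h r → Nat.card (X r) ≤ 2 → ∀ x ∈ X r, γ x = x := by
    intro r hr hcard x hx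
    by_cases hx1 : x = 1
    · rw [hx1, map_one]
    have h1 := card_le_two hcard (x := ⟨γ x, H.map_X R hG1 hc hγ hr hx⟩) (y := ⟨x, hx⟩)
      (fun e => hx1 (γ.injective (by rw [map_one]; exact congrArg Subtype.val e)))
      (fun e => hx1 (congrArg Subtype.val e))
    exact congrArg Subtype.val h1
  by_cases hm : Mv X Γ m
  · obtain ⟨a, ha, ha1⟩ := exists_ne_one R m
    exact ha1 (H.fpf_node R hG1 hc h2 hm hγ hγ1 ha (key _ (isRoot_sr cs h m) (by omega) a ha))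
  · obtain ⟨i₀, hi₀⟩ := H.exists_mv R hG1 hc
    obtain ⟨i, hi, w, N⟩ := exists_nb (cs := cs) (h := h) (J := Un X Γ) hc ⟨i₀, fun h1 => h1 hi₀⟩ hm
    have hi' : Mv X Γ i := by by_contra h1; exact hi h1
    obtain ⟨a, ha, ha1⟩ := exists_ne_one R i
    obtain ⟨⟨v, hv⟩, hv1⟩ := Subgroup.ne_bot_iff_exists_ne_one.1 (X_ne_bot R N.root)
    have haA := H.le_AA R hG1 hc h2 hi' ha
    have hvU : v ∈ RGD.Sup X (RGD.Pos cs h) := RGD.le_Sup (S := RGD.Pos cs h) ⟨N.root, N.pos⟩ hv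
    obtain ⟨x, hx, hne⟩ := Nb.no_fix R N (H.diag_one R hG1 hc hγ) (fun a ha => map_AA (fun γ hγ => H.fixU hγ) hγ ha)
      (H.fpf γ hγ hγ1) ha ha1 hv (fun e => hv1 (Subtype.ext e)) (mul_mem (conj_AA hvU (inv_mem haA)) haA)
    obtain ⟨g, hg⟩ := exists_rp cs R.nsys (cs.simple i * w)
    have hcard : Nat.card (X (rep cs h (cs.simple i) (rep cs h w (sr m)))) = Nat.card (X (sr m)) := by
      rw [← rep_mul_apply, ← R.conj_rp hg (isRoot_sr cs h m)]
      exact (Nat.card_congr ((X (sr m)).equivMapOfInjective _ (MulAut.conj g).injective).toEquiv).symm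
    exact hne (key _ N.delta_root (by rw [hcard]; omega) x hx)

/-- **All root groups have exponent 2** if `AA` has. -/
theorem Act.el [Finite Y] (h2 : ∀ i : I, ∃ j, j ≠ i) (hsq : ∀ a ∈ AA (RGD.Sup X (RGD.Pos cs h)) Γ, a * a = 1)
    {m : I} {x : Y} (hx : x ∈ X (sr m)) : x * x = 1 := by
  by_cases hm : Mv X Γ m
  · exact hsq x (H.le_AA R hG1 hc h2 hm hx)
  · obtain ⟨i₀, hi₀⟩ := H.exists_mv R hG1 hc
    obtain ⟨i, hi, w, N⟩ := exists_nb (cs := cs) (h := h) (J := Un X Γ) hc ⟨i₀, fun h1 => h1 hi₀⟩ hm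
    have hi' : Mv X Γ i := by by_contra h1; exact hi h1
    obtain ⟨a, ha, ha1⟩ := exists_ne_one R i
    have haA := H.le_AA R hG1 hc h2 hi' ha
    obtain ⟨k, hk, hcomp⟩ := Nb.comp' R N ha ha1
    obtain ⟨g, hg⟩ := exists_rp cs R.nsys w
    have hv : g * x * g⁻¹ ∈ X (rep cs h w (sr m)) := R.conj_mem hg (isRoot_sr cs h m) hx
    obtain ⟨v, hv'⟩ : ∃ v, v = g * x * g⁻¹ := ⟨_, rfl⟩
    rw [← hv'] at hv
    have hvU : v ∈ RGD.Sup X (RGD.Pos cs h) := RGD.le_Sup (S := RGD.Pos cs h) ⟨N.root, N.pos⟩ hv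
    obtain ⟨z, hz, e⟩ := hcomp v hv
    obtain ⟨y, hy⟩ : ∃ y, y = k⁻¹ * v * k := ⟨_, rfl⟩
    have hyX : y ∈ X (rep cs h (cs.simple i) (rep cs h w (sr m))) := by
      have := R.conj_mem' hk N.root hv
      rwa [cs.inv_simple, ← hy] at this
    have h3 : y * z * (y * z) = 1 := by
      rw [hy, ← e]
      exact hsq _ (mul_mem (conj_AA hvU (inv_mem haA)) haA)
    have h4 : y * y = (y * z⁻¹ * y⁻¹) * z⁻¹ := by
      have h5 : y * z = z⁻¹ * y⁻¹ := by
        rw [← mul_inv_rev]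
        exact eq_inv_of_mul_eq_one_left h3
      have h6 : y * y = y * (y * z) * z⁻¹ := by group
      rw [h6, h5]; group
    have h5 : y * y = 1 := by
      refine Nb.inf_eq R N (mul_mem hyX hyX) ?_
      rw [h4]
      exact mul_mem ((Subgroup.mem_normalizer_iff.1 (Nb.le_norm R N hyX) z⁻¹).1 (inv_mem hz)) (inv_mem hz)
    have h6 : x = g⁻¹ * (k * y * k⁻¹) * g := by rw [hy, hv']; group
    have h7 : x * x = g⁻¹ * (k * (y * y) * k⁻¹) * g := by
      conv_lhs => rw [h6]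
      group
    rw [h7, h5]; group

end

end Cfsg.Agent.Omega.Lie.End.Mov

end

section


/-!
# Groups of odd automorphisms of a group with a root group datum: `AA = V_J`

* `no_between` : without bonds of order 6 there is no root between two roots at an acute angle;
* `X_le` : `X_δ ≤ AA` for every positive root `δ` outside `Φ_J`, `J` the nodes which are not moved;
* `AA_eq` : `AA = V_J`; so `P_J` normalises `AA`, in particular `B` and `T`.
-/

set_option autoImplicit false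
set_option linter.unusedSectionVars false

namespace Cfsg.Agent.Omega.Lie.End.Mov

open CoxeterSystem Cfsg.Agent.ChevalleyStructure.CoxeterGeom Cfsg.Agent.Tits.Roots Cfsg.Agent.Tits.Core
  Cfsg.Agent.Tits.Exchange Cfsg.Agent.Tits.RootComb Cfsg.Agent.Nodes.Reps Cfsg.Agent.Nodes.BNOf
  Cfsg.Agent.Nodes.StabComb Cfsg.Agent.Nodes.Bruhat Cfsg.Agent.Nodes.OppDec Cfsg.Agent.Nodes.LeviDec
  Cfsg.Agent.Nodes.NormalForm Cfsg.Agent.KFacts.RgdOpp Cfsg.Agent.KFacts.RgdAut Cfsg.Agent.KFacts.RgdDiag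
  Cfsg.Agent.KFacts.RgdRigid Cfsg.Agent.KFacts.RgdPar Cfsg.Agent.KFacts.RgdCharP
open scoped commutatorElement

variable {I W Y : Type*} [Fintype I] [DecidableEq I] [Group W] [Group Y] {M : CoxeterMatrix I}
  {cs : CoxeterSystem M W} {A : I → I → ℤ} {h : IsCartan M A} {p : ℕ} {T : Subgroup Y} {n : I → Y}
  {X : (I → ℤ) → Subgroup Y}

/-! ### no root between two roots at an acute angle -/

section len

theorem ml {x y : ℤ} (e : x = y) (t : ℤ) : t * x = t * y := by rw [e]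

theorem pow_two_ne_three (a b : ℕ) : (2 : ℤ) ^ a ≠ 3 * 2 ^ b := by
  intro e
  have h1 : (3 : ℤ) ∣ 2 ^ a := ⟨_, e⟩
  have h2 : (3 : ℤ) ∣ 2 := Int.Prime.dvd_pow' (by norm_num) h1
  omega

variable [Fintype W]

theorem two_form' {y : I → ℤ} (hy : IsRoot cs h y) (x : I → ℤ) :
    ∃ N : ℤ, 2 * form cs h x y = N * form cs h y y := by
  obtain ⟨w, j, rfl⟩ := hy
  refine ⟨pairing A j (rep cs h w⁻¹ x), ?_⟩
  rw [form_rep, ← two_form, ← form_rep cs h w (rep cs h w⁻¹ x) (sr j), rep_apply_inv]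

/-- the squares of the lengths differ by powers of 2 -/
theorem len_rel (hc : Conn M) (h6 : ∀ i j, M i j ≠ 6) {x y : I → ℤ} (hx : IsRoot cs h x) (hy : IsRoot cs h y) :
    ∃ a b : ℕ, 2 ^ a * form cs h x x = 2 ^ b * form cs h y y := by
  obtain ⟨u, i, rfl⟩ := hx
  obtain ⟨w, j, rfl⟩ := hy
  rw [form_rep, form_rep]
  obtain ⟨S, hS⟩ : ∃ S : Set I, S = {k | ∃ a b : ℕ, 2 ^ a * form cs h (sr i) (sr i) =
    2 ^ b * form cs h (sr k) (sr k)} := ⟨_, rfl⟩
  have hmem : ∀ k, k ∈ S ↔ ∃ a b : ℕ, 2 ^ a * form cs h (sr i) (sr i) = 2 ^ b * form cs h (sr k) (sr k) := by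
    intro k; rw [hS]; rfl
  rw [← hmem]
  by_contra hj
  obtain ⟨a, ha, b, hb, hab⟩ := hc S ⟨i, (hmem i).2 ⟨0, 0, rfl⟩⟩ (fun e => hj (by rw [e]; exact Set.mem_univ j))
  have hne : a ≠ b := fun e => hb (e ▸ ha)
  have e1 := two_form cs h a (sr b)
  have e2 := two_form cs h b (sr a)
  rw [pairing_sr] at e1 e2
  rw [form_comm] at e1
  obtain ⟨c, d, e3⟩ := (hmem a).1 ha
  refine hb ((hmem b).2 ?_)
  rcases h.rel a b hne with ⟨h0, -⟩ | ⟨-, h1, h2⟩ | ⟨-, ⟨h1, h2⟩ | ⟨h1, h2⟩⟩ | ⟨h0, -⟩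
  · exact absurd h0 hab
  · refine ⟨c, d, ?_⟩
    rw [e3]
    rw [h1] at e1; rw [h2] at e2
    have : form cs h (sr a) (sr a) = form cs h (sr b) (sr b) := by linarith
    rw [this]
  · rw [h1] at e1; rw [h2] at e2
    have e4 : form cs h (sr a) (sr a) = 2 * form cs h (sr b) (sr b) := by linarith
    refine ⟨c, d + 1, ?_⟩
    rw [e3, e4, pow_succ]; ring
  · rw [h1] at e1; rw [h2] at e2
    have e4 : 2 * form cs h (sr a) (sr a) = form cs h (sr b) (sr b) := by linarith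
    refine ⟨c + 1, d, ?_⟩
    rw [pow_succ, ← e4]
    linarith
  · exact absurd h0 (h6 a b)

/-- two roots at an acute angle -/
theorem cart (hc : Conn M) (h6 : ∀ i j, M i j ≠ 6) {x y : I → ℤ} (hx : IsRoot cs h x) (hy : IsRoot cs h y)
    (hne : x ≠ y) (hpos : 0 < form cs h x y) :
    (2 * form cs h x y = form cs h x x ∧ 2 * form cs h x y = form cs h y y) ∨
      (2 * form cs h x y = form cs h y y ∧ form cs h x y = form cs h x x) ∨
        (2 * form cs h x y = form cs h x x ∧ form cs h x y = form cs h y y) := by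
  obtain ⟨N₁, e1⟩ := two_form' (cs := cs) (h := h) hy x
  obtain ⟨N₂, e2⟩ := two_form' (cs := cs) (h := h) hx y
  rw [form_comm cs h y x] at e2
  have hX := form_pos cs h hx.ne_zero
  have hY := form_pos cs h hy.ne_zero
  obtain ⟨a, b, e3⟩ := len_rel hc h6 hx hy
  -- strict Cauchy-Schwarz
  have hcs : form cs h x y * form cs h x y < form cs h x x * form cs h y y := by
    have hv : form cs h y y • x - form cs h x y • y ≠ 0 := by
      intro e
      exact hne (root_eq_of_smul hx hy hY hpos (sub_eq_zero.1 e))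
    have h1 := form_pos cs h hv
    rw [form_sub_left, form_sub_right, form_sub_right, form_smul_left, form_smul_left, form_smul_right,
      form_smul_right, form_smul_left, form_smul_left, form_smul_right, form_smul_right, form_comm cs h y x] at h1
    by_contra hcon
    push Not at hcon
    nlinarith [mul_nonneg hY.le (sub_nonneg.2 hcon)]
  obtain ⟨P, hP⟩ : ∃ P, P = form cs h x y := ⟨_, rfl⟩
  obtain ⟨Q, hQ⟩ : ∃ Q, Q = form cs h x x := ⟨_, rfl⟩
  obtain ⟨S, hS⟩ : ∃ S, S = form cs h y y := ⟨_, rfl⟩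
  rw [← hP] at hpos e1 e2 hcs ⊢
  rw [← hQ] at hX e2 e3 hcs ⊢
  rw [← hS] at hY e1 e3 hcs ⊢
  have hN₁ : 0 < N₁ := by
    by_contra hcon
    push Not at hcon
    nlinarith
  have hN₂ : 0 < N₂ := by
    by_contra hcon
    push Not at hcon
    nlinarith
  have h4 : N₁ * N₂ < 4 := by
    by_contra hcon
    push Not at hcon
    have h5 : 4 * (P * P) = N₁ * N₂ * (Q * S) := by
      have : (2 * P) * (2 * P) = (N₁ * S) * (N₂ * Q) := by rw [← e1, ← e2]
      linarith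
    nlinarith [mul_pos hX hY]
  have h1 : N₁ < 4 := by nlinarith
  have h2 : N₂ < 4 := by nlinarith
  interval_cases N₁ <;> interval_cases N₂
  · left; exact ⟨by linarith, by linarith⟩
  · right; left; exact ⟨by linarith, by linarith⟩
  · exfalso
    have e4 : S = 3 * Q := by linarith
    rw [e4] at e3
    refine pow_two_ne_three a b ?_
    have e5 : (2 ^ a - 3 * 2 ^ b) * Q = 0 := by linarith
    rcases mul_eq_zero.1 e5 with h5 | h5
    · linarith
    · exact absurd h5 hX.ne'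
  · right; right; exact ⟨by linarith, by linarith⟩
  · omega
  · omega
  · exfalso
    have e4 : Q = 3 * S := by linarith
    rw [e4] at e3
    refine pow_two_ne_three b a ?_
    have e5 : (2 ^ b - 3 * 2 ^ a) * S = 0 := by linarith
    rcases mul_eq_zero.1 e5 with h5 | h5
    · linarith
    · exact absurd h5 hY.ne'
  · omega
  · omega

theorem arith {X Y Z P F G a b c : ℤ} (ha : 0 < a) (hb : 0 < b) (hc : 0 < c) (hP : 0 < P)
    (e1 : a * F = b * X + c * P) (e2 : a * G = b * P + c * Y) (e3 : a * Z = b * F + c * G)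
    (h1 : (2 * P = X ∧ 2 * P = Y) ∨ (2 * P = Y ∧ P = X) ∨ (2 * P = X ∧ P = Y))
    (h2 : (2 * F = Z ∧ 2 * F = X) ∨ (2 * F = X ∧ F = Z) ∨ (2 * F = Z ∧ F = X))
    (h3 : (2 * G = Z ∧ 2 * G = Y) ∨ (2 * G = Y ∧ G = Z) ∨ (2 * G = Z ∧ G = Y)) : False := by
  have pa := mul_pos ha hP
  have pb := mul_pos hb hP
  have pc := mul_pos hc hP
  rcases h1 with ⟨d1, d2⟩ | ⟨d1, d2⟩ | ⟨d1, d2⟩ <;> rcases h2 with ⟨d3, d4⟩ | ⟨d3, d4⟩ | ⟨d3, d4⟩ <;>
    rcases h3 with ⟨d5, d6⟩ | ⟨d5, d6⟩ | ⟨d5, d6⟩ <;>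
    linarith [ml d1 a, ml d1 b, ml d1 c, ml d2 a, ml d2 b, ml d2 c, ml d3 a, ml d3 b, ml d3 c, ml d4 a, ml d4 b, ml d4 c,
      ml d5 a, ml d5 b, ml d5 c, ml d6 a, ml d6 b, ml d6 c]

/-- **No root between two roots at an acute angle.** -/
theorem no_between (hc : Conn M) (h6 : ∀ i j, M i j ≠ 6) {x y z : I → ℤ} (hx : IsRoot cs h x) (hy : IsRoot cs h y)
    (hne : x ≠ y) (hpos : 0 < form cs h x y) (hz : Btwn cs h x y z) : False := by
  obtain ⟨hz, a, b, c, ha, hb, hc', e⟩ := hz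
  have hX := form_pos cs h hx.ne_zero
  have hY := form_pos cs h hy.ne_zero
  have e1 : a * form cs h z x = b * form cs h x x + c * form cs h x y := by
    rw [← form_smul_left, e, form_add_left, form_smul_left, form_smul_left, form_comm cs h y x]
  have e2 : a * form cs h z y = b * form cs h x y + c * form cs h y y := by
    rw [← form_smul_left, e, form_add_left, form_smul_left, form_smul_left]
  have e3 : a * form cs h z z = b * form cs h z x + c * form cs h z y := by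
    rw [← form_smul_right, e, form_add_right, form_smul_right, form_smul_right]
  have hF : 0 < form cs h z x := by
    by_contra hcon
    push Not at hcon
    nlinarith [mul_pos hb hX, mul_pos hc' hpos]
  have hG : 0 < form cs h z y := by
    by_contra hcon
    push Not at hcon
    nlinarith [mul_pos hb hpos, mul_pos hc' hY]
  have hzx : z ≠ x := by
    rintro rfl
    have h1 : (a - b) • z = c • y := by rw [sub_smul, e]; abel
    have h2 : 0 < a - b := by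
      by_contra hcon
      push Not at hcon
      nlinarith [mul_pos hc' hpos]
    exact hne (root_eq_of_smul hz hy h2 hc' h1)
  have hzy : z ≠ y := by
    rintro rfl
    have h1 : (a - c) • z = b • x := by rw [sub_smul, e]; abel
    have h2 : 0 < a - c := by
      by_contra hcon
      push Not at hcon
      nlinarith [mul_pos hb hpos]
    exact hne (root_eq_of_smul hz hx h2 hb h1).symm
  exact arith ha hb hc' hpos e1 e2 e3 (cart hc h6 hx hy hne hpos) (cart hc h6 hz hx hzx hF)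
    (cart hc h6 hz hy hzy hG)

end len

section

variable (R : RGD cs h p T n X) [Finite W] (hG1 : RGD.Sup X {x | IsRoot cs h x} = ⊤) {Γ : Subgroup (MulAut Y)}
  (H : Act cs h X Γ) (hc : Conn M)

include R hG1 H hc

variable [Finite Y] (h2 : ∀ i : I, ∃ j, j ≠ i) (h6 : ∀ i j, M i j ≠ 6)

include h2 h6

theorem Act.X_le (N : ℕ) : ∀ δ ∈ NotJ cs h (Un X Γ), ht δ ≤ N → X δ ≤ AA (RGD.Sup X (RGD.Pos cs h)) Γ := by
  have := Fintype.ofFinite W
  induction N with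
  | zero =>
    rintro δ ⟨hδ, h0, -⟩ hN
    have := sum_pos h0 hδ.ne_zero
    omega
  | succ N ih =>
    rintro δ ⟨hδ, h0, q, hq, hq0⟩ hN
    obtain ⟨k, hk0, hk⟩ := exists_pairing_pos cs h h0 hδ.ne_zero
    by_cases hδk : δ = sr k
    · have hkq : k = q := by
        by_contra hne
        rw [hδk, sr_ne (fun e => hne e.symm)] at hq0
        exact lt_irrefl _ hq0
      have hk' : Mv X Γ k := by
        by_contra h3
        exact hq (hkq ▸ h3)
      rw [hδk]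
      exact H.le_AA R hG1 hc h2 hk'
    have hη : IsRoot cs h (rep cs h (cs.simple k) δ) := hδ.act _
    have hη0 : 0 ≤ rep cs h (cs.simple k) δ := hδ.simple_nonneg h0 k hδk
    have hss : rep cs h (cs.simple k) (rep cs h (cs.simple k) δ) = δ := by
      rw [← rep_mul_apply, cs.simple_mul_simple_self, map_one, Module.End.one_apply]
    have hht : ht (rep cs h (cs.simple k) δ) ≤ N := by
      rw [ht_simple]; push_cast at hN; omega
    by_cases hkJ : k ∈ Un X Γ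
    · -- `k` is not moved
      have hηJ : rep cs h (cs.simple k) δ ∈ NotJ cs h (Un X Γ) :=
        NotJ.act (simple_mem_WJ cs hkJ) ⟨hδ, h0, q, hq, hq0⟩
      have h3 := H.conj_rep R hG1 hc hη (ih _ hηJ hht) (simple_mem_WJ cs hkJ)
      rwa [hss] at h3
    · -- `k` is moved
      have hk' : Mv X Γ k := by by_contra h3; exact hkJ h3
      have hneg : pairing A k (rep cs h (cs.simple k) δ) < 0 := by
        rw [rep_simple_eq, sub_eq_add_neg, ← neg_smul, pairing_add, pairing_smul, pairing_sr, h.diag]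
        linarith
      rcases mem_PosJ_or_NotJ (Un X Γ) hη hη0 with hηJ | hηJ
      · -- the component lemma
        obtain ⟨w, hw, m, hm, e⟩ := exists_of_mem_PosJ _ _ hηJ hht
        have Nb' : Nb cs h k (Un X Γ) m w :=
          { iJ := hkJ, mJ := hm, wJ := hw, pos := by rw [← e]; exact hη0, ne := by rw [← e]; exact hneg.ne }
        obtain ⟨γ, hγ, hγ1⟩ := H.exists_ne R hG1 hc
        obtain ⟨a, ha, ha1⟩ := exists_ne_one R k
        have haA := H.le_AA R hG1 hc h2 hk' ha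
        obtain ⟨g, hg, hcomp⟩ := Nb.comp' R Nb' ha ha1
        have hD := H.diag_one R hG1 hc hγ
        refine H.le_of_fpf R hG1 hc hδ h0 hγ (fun x hx hfx => ?_)
        rw [← hss, e] at hx
        have hv : g * x * g⁻¹ ∈ X (rep cs h w (sr m)) := by
          have h3 := R.conj_mem hg Nb'.delta_root hx
          rwa [← rep_mul_apply, cs.simple_mul_simple_self, map_one, Module.End.one_apply] at h3
        obtain ⟨z, hz, ez⟩ := hcomp _ hv
        have hvU : g * x * g⁻¹ ∈ RGD.Sup X (RGD.Pos cs h) :=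
          RGD.le_Sup (S := RGD.Pos cs h) ⟨Nb'.root, Nb'.pos⟩ hv
        have hbA := mul_mem (conj_AA hvU (inv_mem haA)) haA
        have ex : g⁻¹ * (g * x * g⁻¹) * g = x := by group
        rw [ez, ex] at hbA
        have hZ : ∀ z ∈ RGD.Sup X (Zs cs h (rep cs h (cs.simple k) (rep cs h w (sr m))) (rep cs h w (sr m))),
            γ z ∈ RGD.Sup X (Zs cs h (rep cs h (cs.simple k) (rep cs h w (sr m))) (rep cs h w (sr m))) :=
          fun z hz => Diag.fix_Sup R hD (fun y hy => (Nb'.Zs_root hy).1) hz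
        have h4 : (x * z)⁻¹ * γ (x * z) ∈
            RGD.Sup X (Zs cs h (rep cs h (cs.simple k) (rep cs h w (sr m))) (rep cs h w (sr m))) := by
          rw [map_mul, hfx]
          have : (x * z)⁻¹ * (x * γ z) = z⁻¹ * γ z := by group
          rw [this]
          exact mul_mem (inv_mem hz) (hZ z hz)
        have h5 := mem_of_fpf (fun a ha => map_AA (fun γ hγ => H.fixU hγ) hγ ha) (H.fpf γ hγ hγ1) hZ hbA h4
        refine Nb.inf_eq R Nb' hx ?_
        have h6' : x = x * z * z⁻¹ := by group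
        rw [h6']
        exact mul_mem h5 (inv_mem hz)
      · -- `X_η`, `X_k ≤ AA`: impossible
        exfalso
        have hle := ih _ hηJ hht
        obtain ⟨⟨v, hv⟩, hv1⟩ := Subgroup.ne_bot_iff_exists_ne_one.1 (X_ne_bot R hη)
        have hv1' : v ≠ 1 := fun e => hv1 (Subtype.ext e)
        obtain ⟨a, ha, ha1⟩ := exists_ne_one R k
        have hva : v * a = a * v := H.ab _ (hle hv) _ (H.le_AA R hG1 hc h2 hk' ha)
        -- `v` commutes with `X_{-k}`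
        have hform : 0 < form cs h (rep cs h (cs.simple k) δ) (-sr k) := by
          rw [form_neg_right, neg_pos]
          by_contra hcon
          push Not at hcon
          exact absurd ((form_sr_nonneg_iff cs h k _).1 hcon) (not_le.2 hneg)
        have hne1 : rep cs h (cs.simple k) δ ≠ -sr k := fun e => by
          have h3 := hη0 k
          rw [e, Pi.neg_apply, sr_self] at h3
          have h4 : (0 : ℤ) ≤ -1 := h3
          omega
        have hne2 : rep cs h (cs.simple k) δ ≠ - -sr k := fun e => by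
          rw [neg_neg] at e
          rw [e, pairing_sr, h.diag] at hneg
          exact absurd hneg (by decide)
        have hcm : ∀ b ∈ X (-sr k), v * b = b * v := by
          intro b hb
          have h3 := R.comm _ _ hη (isRoot_sr cs h k).neg hne1 hne2 v hv b hb
          have h4 : btw cs h X (rep cs h (cs.simple k) δ) (-sr k) = ⊥ := by
            unfold Cfsg.Agent.Nodes.Reps.btw
            rw [eq_bot_iff]
            refine iSup_le ?_
            rintro ⟨z, hz⟩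
            exact (no_between hc h6 hη (isRoot_sr cs h k).neg hne1 hform hz).elim
          rw [h4, Subgroup.mem_bot, commutatorElement_eq_one_iff_mul_comm] at h3
          exact h3
        obtain ⟨b, hb, g, hg, c, hc', e⟩ := exists_dec R ha ha1
        have hvg : g * v * g⁻¹ = v := by
          have h3 : Commute v b := hcm b hb
          have h4 : Commute v c := hcm c hc'
          have h5 : Commute v a := hva
          have h7 : g = b⁻¹ * a * c⁻¹ := by rw [e]; group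
          have h8 : Commute v g := by
            rw [h7]
            exact (h3.inv_right.mul_right h5).mul_right h4.inv_right
          rw [← h8.eq, mul_inv_cancel_right]
        have hvδ : v ∈ X δ := by
          have h3 := R.conj_mem hg hη hv
          rwa [hss, hvg] at h3
        have hne : rep cs h (cs.simple k) δ ≠ δ := fun e1 => by
          have h3 := congrFun e1 k
          rw [rep_simple_apply_self] at h3
          linarith
        have h3 := X_inf_X R hη hδ hne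
        rw [Subgroup.eq_bot_iff_forall] at h3
        exact hv1' (h3 v (Subgroup.mem_inf.2 ⟨hv, hvδ⟩))

/-- **`AA = V_J`**, `J` the nodes which are not moved. -/
theorem Act.AA_eq : AA (RGD.Sup X (RGD.Pos cs h)) Γ = VJ cs h X (Un X Γ) := by
  refine le_antisymm (H.AA_le_VJ R hG1 hc) (RGD.Sup_le fun δ hδ => ?_)
  exact H.X_le R hG1 hc h2 h6 (ht δ).toNat δ hδ (by
    have := sum_pos hδ.2.1 hδ.1.ne_zero
    omega)

/-- **`P_J` normalises `AA`.** -/
theorem Act.PJ_AA {b a : Y} (hb : b ∈ PJ cs h T X (Un X Γ)) (ha : a ∈ AA (RGD.Sup X (RGD.Pos cs h)) Γ) :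
    b * a * b⁻¹ ∈ AA (RGD.Sup X (RGD.Pos cs h)) Γ := by
  rw [H.AA_eq R hG1 hc h2 h6] at ha ⊢
  exact (Subgroup.mem_normalizer_iff.1 (PJ_le_normalizer_VJ R _ hb) a).1 ha

/-- **`B` normalises `AA`.** -/
theorem Act.B_AA {b a : Y} (hb : b ∈ RGD.B cs h T X) (ha : a ∈ AA (RGD.Sup X (RGD.Pos cs h)) Γ) :
    b * a * b⁻¹ ∈ AA (RGD.Sup X (RGD.Pos cs h)) Γ :=
  H.PJ_AA R hG1 hc h2 h6 (B_le_PJ hb) ha

end

end Cfsg.Agent.Omega.Lie.End.Mov

end

section


/-!
# Groups of odd automorphisms of a group with a root group datum: the form needed for `KSys`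

* `AT_eq` : `AT S Γ = AA S Γ`; `Act.of_tact` : `TAct` gives `Act`;
* `four` : `|X_m| ≥ 4` for `p = 2`;
* `dich_un`, `dich_mv` : the action of `Γ` on `U` modulo `V_{i}`.
-/

set_option autoImplicit false
set_option linter.unusedSectionVars false

namespace Cfsg.Agent.Omega.Lie.End.Mov

open CoxeterSystem Cfsg.Agent.ChevalleyStructure.CoxeterGeom Cfsg.Agent.Tits.Roots Cfsg.Agent.Tits.Core
  Cfsg.Agent.Tits.Exchange Cfsg.Agent.Tits.RootComb Cfsg.Agent.Nodes.Reps Cfsg.Agent.Nodes.BNOf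
  Cfsg.Agent.Nodes.StabComb Cfsg.Agent.Nodes.Bruhat Cfsg.Agent.Nodes.OppDec Cfsg.Agent.Nodes.LeviDec
  Cfsg.Agent.Nodes.NormalForm Cfsg.Agent.KFacts.RgdOpp Cfsg.Agent.KFacts.RgdAut Cfsg.Agent.KFacts.RgdDiag
  Cfsg.Agent.KFacts.RgdRigid Cfsg.Agent.KFacts.RgdPar Cfsg.Agent.KFacts.RgdCharP

variable {I W Y : Type*} [Fintype I] [DecidableEq I] [Group W] [Group Y] {M : CoxeterMatrix I}
  {cs : CoxeterSystem M W} {A : I → I → ℤ} {h : IsCartan M A} {p : ℕ} {T : Subgroup Y} {n : I → Y}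
  {X : (I → ℤ) → Subgroup Y}

theorem AT_eq (S : Subgroup Y) (Γ : Subgroup (MulAut Y)) : AT S Γ = AA S Γ := by
  unfold AT AA
  congr 1
  ext x
  constructor
  · rintro ⟨γ, hγ, u, hu, e⟩; exact ⟨u, hu, γ, hγ, e⟩
  · rintro ⟨u, hu, γ, hγ, e⟩; exact ⟨γ, hγ, u, hu, e⟩

theorem Act.of_tact [Finite Y] {Γ : Subgroup (MulAut Y)} (hfr : ∀ γ ∈ Γ, γ ∈ Frame cs h X)
    (hT : TAct (RGD.Sup X (RGD.Pos cs h)) Γ) : Act cs h X Γ where
  frame := hfr
  odd γ hγ := by
    have : Finite (MulAut Y) := Finite.of_injective (fun e : MulAut Y => (e : Y → Y))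
      fun a b hab => MulEquiv.ext (congrFun hab)
    have h1 : orderOf (⟨γ, hγ⟩ : Γ) ∣ Nat.card Γ := orderOf_dvd_natCard _
    rw [Subgroup.orderOf_mk] at h1
    exact Odd.of_dvd_nat hT.odd h1
  ab := by rw [← AT_eq]; exact hT.ab
  fpf := by rw [← AT_eq]; exact hT.fpf
  ne := by rw [← AT_eq]; exact hT.ne

theorem posJ_singleton (i : I) : PosJ cs h {i} = {sr i} := by
  ext x
  constructor
  · rintro ⟨hx, h0, h1⟩
    exact hx.eq_sr h0 i (fun k hk => h1 k hk)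
  · rintro rfl
    exact sr_mem_PosJ rfl

theorem UJ_singleton (i : I) : UJ cs h X {i} = X (sr i) := by
  have h1 : UJ cs h X {i} = RGD.Sup X (PosJ cs h {i}) := rfl
  rw [h1, posJ_singleton]
  exact le_antisymm (RGD.Sup_le fun x hx => by rw [Set.mem_singleton_iff.1 hx]) (RGD.le_Sup rfl)

section

variable (R : RGD cs h p T n X) [Finite W] (hG1 : RGD.Sup X {x | IsRoot cs h x} = ⊤) {Γ : Subgroup (MulAut Y)}
  (H : Act cs h X Γ) (hc : Conn M)

include R hG1 H hc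

/-- `Γ` centralises `U / V_{i}` if `i` is not moved. -/
theorem Act.dich_un {i : I} (hi : ¬ Mv X Γ i) {γ : MulAut Y} (hγ : γ ∈ Γ) {u : Y}
    (hu : u ∈ RGD.Sup X (RGD.Pos cs h)) : u⁻¹ * γ u ∈ VJ cs h X {i} := by
  obtain ⟨x, hx, v, hv, rfl⟩ := (mem_U_iff R (J := {i})).1 hu
  rw [UJ_singleton] at hx
  have e : (x * v)⁻¹ * γ (x * v) = v⁻¹ * γ v := by
    rw [map_mul, H.fixL R hG1 hc hi hγ (Subgroup.mem_sup_left hx)]; group
  rw [e]
  exact mul_mem (inv_mem hv) (H.map_VJ R hG1 hc hγ hv)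

/-- Every `1 ≠ γ ∈ Γ` is fixed-point-free on `U / V_{i}` if `i` is moved. -/
theorem Act.dich_mv [Finite Y] (h2 : ∀ i : I, ∃ j, j ≠ i) {i : I} (hi : Mv X Γ i) {γ : MulAut Y} (hγ : γ ∈ Γ)
    (hγ1 : γ ≠ 1) {u : Y} (hu : u ∈ RGD.Sup X (RGD.Pos cs h)) (hf : u⁻¹ * γ u ∈ VJ cs h X {i}) :
    u ∈ VJ cs h X {i} := by
  obtain ⟨x, hx, v, hv, rfl⟩ := (mem_U_iff R (J := {i})).1 hu
  have hxU : x ∈ RGD.Sup X (RGD.Pos cs h) := UJ_le_U _ hx
  have hxn : x ∈ Subgroup.normalizer (VJ cs h X {i} : Set Y) :=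
    (PJ_le_normalizer_VJ R {i}) (B_le_PJ (RGD.U_le_B hxU))
  have hx' := hx
  rw [UJ_singleton] at hx'
  have hγx : γ x ∈ UJ cs h X {i} := by
    rw [UJ_singleton]
    exact H.map_X R hG1 hc hγ (isRoot_sr cs h i) hx'
  have h3 : x⁻¹ * γ x ∈ VJ cs h X {i} := by
    have e : x⁻¹ * γ x = v * ((x * v)⁻¹ * γ (x * v)) * (γ v)⁻¹ := by rw [map_mul]; group
    rw [e]
    exact mul_mem (mul_mem hv hf) (inv_mem (H.map_VJ R hG1 hc hγ hv))
  have h4 := UJ_inf_VJ R {i}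
  rw [Subgroup.eq_bot_iff_forall] at h4
  have h5 := h4 _ (Subgroup.mem_inf.2 ⟨mul_mem (inv_mem hx) hγx, h3⟩)
  have h6 : x = 1 := H.fpf_node R hG1 hc h2 hi hγ hγ1 hx' (inv_mul_eq_one.1 h5).symm
  rw [h6, one_mul]
  exact hv

/-- `|X_m| ≥ 4` -/
theorem Act.four [Finite Y] (hp : p = 2) (h2 : ∀ i : I, ∃ j, j ≠ i) (m : I) : 4 ≤ Nat.card (X (sr m)) := by
  subst hp
  have : Fact (Nat.Prime 2) := ⟨Nat.prime_two⟩
  have h1 := H.three R hG1 hc h2 m
  obtain ⟨k, hk⟩ := (IsPGroup.iff_card (p := 2)).1 (R.pgrp m)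
  rw [hk] at h1 ⊢
  rcases k with _ | _ | k
  · norm_num at h1
  · norm_num at h1
  · have : 1 ≤ 2 ^ k := Nat.one_le_two_pow
    rw [pow_succ, pow_succ]
    omega

end

end Cfsg.Agent.Omega.Lie.End.Mov

end
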