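import Cfsg.Agent.Mrg.Omega.Lie.End.ZeroLone
import Cfsg.Agent.Mrg.Omega.EH3.Rank1.LTwo
import Cfsg.Agent.S0102
import Cfsg.Agent.S0262
import Cfsg.Agent.Schreier.Tools2
import Cfsg.Agent.Schreier.TwoGen
import Cfsg.Agent.Mrg.Omega.Lie.End.KSys

section


/-!
# The K-side of the END of NODE LIE: the groups `L₂(q)` (helper578)

`kLTwo : KLTwo`: let `K` be perfect with odd centre and `K / Z(K) ≅ L₂(F)`, `F` of characteristic 2, `|F| ≥ 4`. Then
`Z(K) = 1` (transfer) and `TAct S T` implies `KSys` with one node, or `|T| = 3` and `T` acts by field automorphisms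
(`KExc`).

* `Co S F` : coordinates on `S`: `S = φ(F)`, and `N(S)` acts on it as `Fˣ`;
* `Co.card_three` : if some `1 ≠ t₀ ∈ T` fixes `1 ≠ u₀ ∈ S`, then `|T| = 3` and `T` fixes `u₀` (Dedekind's lemma).
-/

set_option autoImplicit false

namespace Cfsg.Agent.Omega.Lie.End.LTwoSide

open Subgroup Cfsg.Agent.ParSys Cfsg.Agent.Omega.EH3.Rank1.LTwo
open scoped Matrix MatrixGroups Pointwise

section coord

variable {K : Type*} [Group K] {F : Type*} [Field F]

/-- coordinates on `S` -/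
structure Co (S : Subgroup K) (φ : F → K) : Prop where
  add : ∀ x y, φ (x + y) = φ x * φ y
  inj : ∀ x y, φ x = φ y → x = y
  mem : ∀ u, u ∈ S ↔ ∃ a, φ a = u
  dia : ∀ c : F, c ≠ 0 → ∃ d ∈ normalizer (S : Set K), ∀ a, d * φ a * d⁻¹ = φ (c * a)
  nor : ∀ b ∈ normalizer (S : Set K), ∃ c : F, ∀ a, b * φ a * b⁻¹ = φ (c * a)

variable {S : Subgroup K} {φ : F → K} {T : Subgroup (MulAut K)}

theorem Co.zero (C : Co S φ) : φ 0 = 1 := by
  have h := C.add 0 0
  rw [add_zero] at h
  exact (mul_eq_left.1 h.symm)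

theorem Co.neg (C : Co S φ) (x : F) : φ (-x) = (φ x)⁻¹ := by
  rw [eq_inv_iff_mul_eq_one, ← C.add, neg_add_cancel, C.zero]

theorem stab_norm (h : TAct S T) {t : MulAut K} (ht : t ∈ T) {b : K} (hb : b ∈ normalizer (S : Set K)) :
    t b ∈ normalizer (S : Set K) := by
  have hs : ∀ x, t x ∈ S ↔ x ∈ S := by
    intro x
    refine ⟨fun hx => ?_, h.stab t ht x⟩
    have := h.stab t⁻¹ (inv_mem ht) _ hx
    rwa [MulAut.inv_apply_self] at this
  rw [mem_normalizer_iff] at hb ⊢
  intro x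
  have e : t b * x * (t b)⁻¹ = t (b * t⁻¹ x * b⁻¹) := by
    rw [map_mul, map_mul, map_inv, MulAut.apply_inv_self]
  rw [e, hs, ← hb]
  have h2 := hs (t⁻¹ x)
  rwa [MulAut.apply_inv_self] at h2

theorem AT_le (h : TAct S T) : AT S T ≤ S := by
  rw [AT, closure_le]
  rintro _ ⟨t, ht, u, hu, rfl⟩
  exact mul_mem (inv_mem hu) (h.stab t ht u hu)

/-- only `1` is trivial on `S` -/
theorem eq_one_of_triv (h : TAct S T) {t : MulAut K} (ht : t ∈ T) (hS : ∀ u ∈ S, t u = u) : t = 1 := by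
  by_contra h1
  apply h.ne
  rw [eq_bot_iff]
  intro a ha
  exact h.fpf t ht h1 a ha (hS a (AT_le h ha))

/-- a fixed point of one `t₀ ≠ 1` is fixed by `T` -/
theorem fix_all (h : TAct S T) {t₀ : MulAut K} (ht₀ : t₀ ∈ T) (h1 : t₀ ≠ 1) {u : K} (hu : u ∈ S) (hf : t₀ u = u)
    {t : MulAut K} (ht : t ∈ T) : t u = u := by
  have h2 := h.fpf t₀ ht₀ h1 (u⁻¹ * t u) (subset_closure ⟨t, ht, u, hu, rfl⟩) (by
    have h3 : t₀ (t u) = t (t₀ u) := by
      rw [← MulAut.mul_apply, ← MulAut.mul_apply, h.comm t₀ ht₀ t ht]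
    rw [map_mul, map_inv, h3, hf])
  exact (inv_mul_eq_one.1 h2).symm

variable [CharP F 2]

theorem Co.card_three [Finite K] (C : Co S φ) (h : TAct S T) {t₀ : MulAut K} (ht₀ : t₀ ∈ T) (h1 : t₀ ≠ 1) {u₀ : K}
    (hu₀ : u₀ ∈ S) (hu1 : u₀ ≠ 1) (hf : t₀ u₀ = u₀) : Nat.card T = 3 := by
  classical
  obtain ⟨x₀, hx₀⟩ := (C.mem u₀).1 hu₀
  have hx0 : x₀ ≠ 0 := by
    rintro rfl
    exact hu1 (hx₀.symm.trans C.zero)
  -- the action on the coordinates
  have hex : ∀ t : T, ∀ x : F, ∃ y, φ y = (t : MulAut K) (φ x) := fun t x =>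
    (C.mem _).1 (h.stab t t.2 _ ((C.mem _).2 ⟨x, rfl⟩))
  choose f hfe using hex
  have f_add : ∀ t x y, f t (x + y) = f t x + f t y := by
    intro t x y
    apply C.inj
    rw [C.add, hfe, hfe, hfe, C.add, map_mul]
  have f_x₀ : ∀ t, f t x₀ = x₀ := by
    intro t
    apply C.inj
    rw [hfe, hx₀]
    exact fix_all h ht₀ h1 hu₀ hf t.2
  have f_zero : ∀ t, f t 0 = 0 := by
    intro t
    apply C.inj
    rw [hfe, C.zero, map_one]
  have f_mul : ∀ t s x, f (t * s) x = f t (f s x) := by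
    intro t s x
    apply C.inj
    rw [hfe, hfe, hfe]
    rfl
  -- semilinearity
  have hsemi : ∀ t : T, ∀ c : F, ∃ α, ∀ y, f t (c * y) = α * f t y := by
    intro t c
    by_cases hc : c = 0
    · refine ⟨0, fun y => ?_⟩
      rw [hc, zero_mul, zero_mul, f_zero]
    obtain ⟨d, hd, hdc⟩ := C.dia c hc
    obtain ⟨α, hα⟩ := C.nor _ (stab_norm h t.2 hd)
    refine ⟨α, fun y => ?_⟩
    apply C.inj
    rw [hfe, ← hdc, map_mul, map_mul, map_inv, ← hfe, hα]
  have hs : ∀ t c y, f t (c * y) = (f t (c * x₀) / x₀) * f t y := by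
    intro t c y
    obtain ⟨α, hα⟩ := hsemi t c
    rw [hα, hα, f_x₀, mul_div_assoc, div_self hx0, mul_one]
  let σ : T → (F →* F) := fun t =>
    { toFun := fun c => f t (c * x₀) / x₀
      map_one' := by rw [one_mul, f_x₀, div_self hx0]
      map_mul' := by
        intro c c'
        rw [mul_assoc, hs, mul_div_assoc] }
  have σ_def : ∀ t c, σ t c = f t (c * x₀) / x₀ := fun _ _ => rfl
  have σ_inj : Function.Injective σ := by
    intro t t' htt
    have h2 : ∀ y, f t y = f t' y := by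
      intro y
      have h3 := DFunLike.congr_fun htt (y / x₀)
      rw [σ_def, σ_def, div_mul_cancel₀ _ hx0] at h3
      have h4 := (div_left_inj' hx0).1 h3
      exact h4
    have h3 := eq_one_of_triv h (mul_mem (inv_mem t'.2) t.2) (by
      intro u hu
      obtain ⟨y, rfl⟩ := (C.mem u).1 hu
      rw [MulAut.mul_apply, ← hfe, h2, hfe, MulAut.inv_apply_self])
    exact Subtype.ext (inv_mul_eq_one.1 h3).symm
  -- Dedekind
  have hli : LinearIndependent F (fun t : T => (σ t : F → F)) :=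
    (linearIndependent_monoidHom F F).comp σ σ_inj
  -- the relation
  have hrel : ∀ t t' t'' : T, (∀ a ∈ AT S T, (t : MulAut K) a * (t' : MulAut K) a = (t'' : MulAut K) a) → ∀ s : T, ∀ c,
      σ (t * s) c + σ t c + (σ (t' * s) c + σ t' c) + (σ (t'' * s) c + σ t'' c) = 0 := by
    intro t t' t'' hr s c
    set y := c * x₀ with hy
    have ha : φ (f s y - y) ∈ AT S T := by
      refine subset_closure ⟨s, s.2, φ y, (C.mem _).2 ⟨y, rfl⟩, ?_⟩
      rw [sub_eq_neg_add, C.add, C.neg, hfe]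
    have h2 := hr _ ha
    rw [← hfe, ← hfe, ← hfe, ← C.add] at h2
    have h3 := C.inj _ _ h2
    have f_sub : ∀ t : T, f t (f s y - y) = f (t * s) y + f t y := by
      intro t
      have h4 : f t (f s y - y) + f t y = f (t * s) y := by rw [← f_add, sub_add_cancel, f_mul]
      rw [← h4, add_assoc, CharTwo.add_self_eq_zero, add_zero]
    rw [f_sub, f_sub, f_sub] at h3
    have e : σ (t * s) c + σ t c + (σ (t' * s) c + σ t' c) + (σ (t'' * s) c + σ t'' c)
        = ((f (t * s) y + f t y + (f (t' * s) y + f t' y)) + (f (t'' * s) y + f t'' y)) / x₀ := by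
      simp only [σ_def]
      ring
    rw [e, h3, CharTwo.add_self_eq_zero, zero_div]
  -- two different elements of `T`
  have : Finite (MulAut K) := Finite.of_injective (fun a : MulAut K => (a : K → K)) DFunLike.coe_injective
  have hnt : Nontrivial T := by
    rw [← Finite.one_lt_card_iff_nontrivial]
    have := h.three
    omega
  obtain ⟨t, t', htt⟩ := exists_pair_ne T
  obtain ⟨t'', ht'', hr⟩ := h.scal t t.2 t' t'.2 (fun e => htt (Subtype.ext e))
  -- the six terms
  have hr6 := hrel t t' ⟨t'', ht''⟩ hr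
  set r : T := ⟨t'', ht''⟩ with hrdef
  have key : ∀ x : T, x = t ∨ x = t' ∨ x = r := by
    intro x
    by_contra hx
    rw [not_or, not_or] at hx
    obtain ⟨hx1, hx2, hx3⟩ := hx
    -- the six-term relation, for every `s`
    have h6 : ∀ s : T, (if t * s = x then (1 : F) else 0) + (if t' * s = x then (1 : F) else 0)
        + (if r * s = x then (1 : F) else 0) = 0 := by
      intro s
      let l : T →₀ F := Finsupp.single (t * s) 1 + Finsupp.single t 1 + (Finsupp.single (t' * s) 1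
        + Finsupp.single t' 1) + (Finsupp.single (r * s) 1 + Finsupp.single r 1)
      have hl : l = 0 := by
        apply (linearIndependent_iff.1 hli) l
        simp only [l, map_add, Finsupp.linearCombination_single, one_smul]
        funext c
        exact hr6 s c
      have hlx : l x = 0 := by rw [hl]; rfl
      simp only [l, Finsupp.add_apply, Finsupp.single_apply] at hlx
      rw [if_neg (Ne.symm hx1), if_neg (Ne.symm hx2), if_neg (Ne.symm hx3), add_zero, add_zero, add_zero] at hlx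
      exact hlx
    have aux : ∀ a b : T, a * (b⁻¹ * x) = x → a = b := by
      intro a b e
      rw [← mul_assoc] at e
      exact mul_inv_eq_one.1 (mul_eq_right.1 e)
    by_cases hrt : r = t
    · have h7 := h6 (t'⁻¹ * x)
      rw [hrt, if_neg (fun e => htt (aux _ _ e)), if_pos (mul_inv_cancel_left _ _), add_zero, zero_add] at h7
      exact one_ne_zero h7
    · have h7 := h6 (t⁻¹ * x)
      rw [if_pos (mul_inv_cancel_left _ _), if_neg (fun e => htt (aux _ _ e).symm), if_neg (fun e => hrt (aux _ _ e)),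
        add_zero, add_zero] at h7
      exact one_ne_zero h7
  have hle : Nat.card T ≤ 3 := by
    have : Fintype T := Fintype.ofFinite T
    rw [Nat.card_eq_fintype_card, ← Finset.card_univ]
    refine le_trans (Finset.card_le_card (t := {t, t', r}) ?_) Finset.card_le_three
    intro x _
    rcases key x with rfl | rfl | rfl <;> simp
  exact le_antisymm hle h.three

end coord

section sl

variable {F : Type*} [Field F]

theorem sl_mul (g h : SL(2, F)) (i j : Fin 2) : (g * h).1 i j = g.1 i 0 * h.1 0 j + g.1 i 1 * h.1 1 j := by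
  rw [Matrix.SpecialLinearGroup.coe_mul, Matrix.mul_apply, Fin.sum_univ_two]

theorem up_entries (x : F) : (up x).1 0 0 = 1 ∧ (up x).1 0 1 = x ∧ (up x).1 1 0 = 0 ∧ (up x).1 1 1 = 1 :=
  ⟨rfl, rfl, rfl, rfl⟩

/-- the inverse of `wm` -/
def wi : SL(2, F) := ⟨!![0, -1; 1, 0], by rw [Matrix.det_fin_two_of]; ring⟩

theorem wm_mul_wi : (wm : SL(2, F)) * wi = 1 := by
  apply Subtype.ext
  rw [Matrix.SpecialLinearGroup.coe_mul, Matrix.SpecialLinearGroup.coe_one]
  show !![0, 1; -1, 0] * !![0, -1; 1, 0] = (1 : Matrix (Fin 2) (Fin 2) F)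
  rw [Matrix.mul_fin_two]
  ext i j
  fin_cases i <;> fin_cases j <;> simp

theorem bruhat {g : SL(2, F)} (h : g.1 1 0 ≠ 0) : ∃ x : F, ∃ b : SL(2, F), b.1 1 0 = 0 ∧ g = up x * wm * b := by
  refine ⟨g.1 0 0 / g.1 1 0, wi * (up (-(g.1 0 0 / g.1 1 0)) * g), ?_, ?_⟩
  · rw [sl_mul, sl_mul, sl_mul]
    show (1 : F) * (1 * g.1 0 0 + -(g.1 0 0 / g.1 1 0) * g.1 1 0) + 0 * _ = 0
    field_simp
    ring
  · rw [← mul_assoc, mul_assoc (up _) wm wi, wm_mul_wi, mul_one, ← mul_assoc, up_mul, add_neg_cancel, up_zero, one_mul]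

theorem lower_mul {g h : SL(2, F)} (hg : g.1 1 0 = 0) (hh : h.1 1 0 = 0) : (g * h).1 1 0 = 0 := by
  rw [sl_mul, hg, hh, zero_mul, mul_zero, add_zero]

theorem lower_inv {g : SL(2, F)} (hg : g.1 1 0 = 0) : (g⁻¹).1 1 0 = 0 := by
  rw [Matrix.SpecialLinearGroup.coe_inv, Matrix.adjugate_fin_two]
  simpa using hg

theorem wm_up {x : F} (h : (wm⁻¹ * up x * wm).1 1 0 = 0) : x = 0 := by
  have h1 := wm_conj (1 : Fˣ) x
  rw [dg_one, one_mul, h, Units.val_one, one_mul] at h1
  exact neg_eq_zero.1 h1.symm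

theorem reg {g : SL(2, F)} (hg : g.1 1 0 ≠ 0) {x : F} (h : (g⁻¹ * up x * g).1 1 0 = 0) : x = 0 := by
  obtain ⟨y, b, hb, rfl⟩ := bruhat hg
  apply wm_up
  have e : wm⁻¹ * up x * wm = b * ((up y * wm * b)⁻¹ * up x * (up y * wm * b)) * b⁻¹ := by
    have h1 : up x = (up y)⁻¹ * up x * up y := by
      rw [up_inv, up_mul, up_mul]
      congr 1
      ring
    conv_lhs => rw [h1]
    group
  rw [e]
  exact lower_mul (lower_mul hb h) (lower_inv hb)

theorem cent_up [CharP F 2] {y : F} (hy : y ≠ 0) {g : SL(2, F)} (h : g * up y = up y * g) : g ∈ U F := by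
  have h00 := congrArg (fun m : SL(2, F) => m.1 0 0) h
  have h01 := congrArg (fun m : SL(2, F) => m.1 0 1) h
  simp only [sl_mul, (up_entries y).1, (up_entries y).2.1, (up_entries y).2.2.1, (up_entries y).2.2.2] at h00 h01
  have h10 : g.1 1 0 = 0 := by
    have : y * g.1 1 0 = 0 := by linear_combination -h00
    exact (mul_eq_zero.1 this).resolve_left hy
  have h11 : g.1 0 0 = g.1 1 1 := by
    have : y * (g.1 0 0 - g.1 1 1) = 0 := by linear_combination h01
    exact sub_eq_zero.1 ((mul_eq_zero.1 this).resolve_left hy)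
  have hd := det_eq g
  rw [h10, mul_zero, sub_zero, h11] at hd
  have h1 : g.1 1 1 = 1 := by
    have h2 : (2 : F) = 0 := CharTwo.two_eq_zero
    have h5 : (g.1 1 1 - 1) * (g.1 1 1 - 1) = 0 := by linear_combination hd + (1 - g.1 1 1) * h2
    exact sub_eq_zero.1 (mul_self_eq_zero.1 h5)
  refine mem_U.2 ⟨g.1 0 1, ?_⟩
  apply Subtype.ext
  rw [up_val]
  ext i j
  fin_cases i <;> fin_cases j
  · simp [h11, h1]
  · simp
  · simp [h10]
  · simp [h1]

end sl

section main

variable {K : Type*} [Group K] {F : Type*} [Field F] {S : Subgroup K} {e : K ≃* SL(2, F)}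

theorem mem_N (hS : ∀ x, x ∈ S ↔ e x ∈ U F) {x : K} : x ∈ normalizer (S : Set K) ↔ (e x).1 1 0 = 0 := by
  rw [← mem_norm, mem_normalizer_iff, mem_normalizer_iff]
  constructor
  · intro h y
    have h1 := h (e.symm y)
    rw [hS, hS, map_mul, map_mul, map_inv, MulEquiv.apply_symm_apply] at h1
    exact h1
  · intro h y
    rw [hS, hS, map_mul, map_mul, map_inv]
    exact h (e y)

theorem co [CharP F 2] [Finite F] (hS : ∀ x, x ∈ S ↔ e x ∈ U F) : Co S (fun a : F => e.symm (up a)) where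
  add x y := by rw [← up_mul, map_mul]
  inj x y h := by
    have h1 := e.symm.injective h
    exact congrArg (fun m : SL(2, F) => m.1 0 1) h1
  mem u := by
    rw [hS, mem_U]
    constructor
    · rintro ⟨x, hx⟩
      exact ⟨x, by rw [hx, MulEquiv.symm_apply_apply]⟩
    · rintro ⟨x, hx⟩
      exact ⟨x, by rw [← hx, MulEquiv.apply_symm_apply]⟩
  dia c hc := by
    obtain ⟨k, hk⟩ := FiniteField.isSquare_of_char_two (ringChar.eq_iff.2 inferInstance) c
    have hk0 : k ≠ 0 := by
      rintro rfl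
      exact hc (by rw [hk, mul_zero])
    refine ⟨e.symm (dg (Units.mk0 k hk0)), (mem_N hS).2 ?_, fun a => ?_⟩
    · rw [MulEquiv.apply_symm_apply]
      rfl
    · rw [← map_mul, ← map_inv, ← map_mul, dg_up, hk, pow_two]
      rfl
  nor b hb := by
    rw [mem_N hS] at hb
    obtain ⟨k, x, hkx⟩ := eq_of_lower hb
    refine ⟨(k : F) ^ 2, fun a => ?_⟩
    apply e.injective
    rw [map_mul, map_mul, map_inv, MulEquiv.apply_symm_apply, MulEquiv.apply_symm_apply, hkx, ← dg_up]
    have h1 : up a = up x * up a * (up x)⁻¹ := by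
      rw [up_inv, up_mul, up_mul]
      congr 1
      ring
    conv_rhs => rw [h1]
    group

theorem qk (hS : ∀ x, x ∈ S ↔ e x ∈ U F) {u : K} (hu : u ∈ S) (h : u ∈ Qk (normalizer (S : Set K)) ⊤) : u = 1 := by
  obtain ⟨x, hx⟩ := mem_U.1 ((hS u).1 hu)
  have h1 := h (e.symm wm) (mem_top _)
  rw [mem_N hS, map_mul, map_mul, map_inv, MulEquiv.apply_symm_apply, ← hx] at h1
  rw [wm_up h1, up_zero] at hx
  exact (MulEquiv.map_eq_one_iff e).1 hx.symm

theorem AT_eq [Finite K] {T : Subgroup (MulAut K)} (h : TAct S T)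
    (hf : ∀ t ∈ T, t ≠ 1 → ∀ u ∈ S, t u = u → u = 1) : ∀ u ∈ S, u ∈ AT S T := by
  have : Finite (MulAut K) := Finite.of_injective (fun a : MulAut K => (a : K → K)) DFunLike.coe_injective
  have hnt : Nontrivial T := by
    rw [← Finite.one_lt_card_iff_nontrivial]
    have := h.three
    omega
  obtain ⟨t, ht1⟩ := exists_ne (1 : T)
  have ht1' : (t : MulAut K) ≠ 1 := fun h1 => ht1 (Subtype.ext h1)
  let β : S → S := fun u => ⟨(u : K)⁻¹ * (t : MulAut K) u, mul_mem (inv_mem u.2) (h.stab t t.2 u u.2)⟩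
  have hinj : Function.Injective β := by
    intro u v huv
    have h1 : (u : K)⁻¹ * (t : MulAut K) u = (v : K)⁻¹ * (t : MulAut K) v := congrArg Subtype.val huv
    have h2 := hf t t.2 ht1' (v * (u : K)⁻¹) (mul_mem v.2 (inv_mem u.2)) (by
      rw [map_mul, map_inv]
      have h3 : (t : MulAut K) v = v * ((u : K)⁻¹ * (t : MulAut K) u) := by rw [h1, mul_inv_cancel_left]
      rw [h3]
      group)
    exact Subtype.ext (mul_inv_eq_one.1 h2).symm
  intro u hu
  obtain ⟨v, hv⟩ := Finite.injective_iff_surjective.1 hinj ⟨u, hu⟩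
  have hv' : (v : K)⁻¹ * (t : MulAut K) v = u := congrArg Subtype.val hv
  exact subset_closure ⟨t, t.2, v, v.2, hv'.symm⟩

theorem ksys [Finite K] [Finite F] [CharP F 2] (h4 : 4 ≤ Nat.card F) (hP : IsPGroup 2 S)
    (hodd : Odd (S.relIndex (normalizer (S : Set K)))) (hS : ∀ x, x ∈ S ↔ e x ∈ U F) {T : Subgroup (MulAut K)}
    (h : TAct S T) (hf : ∀ t ∈ T, t ≠ 1 → ∀ u ∈ S, t u = u → u = 1) :
    KSys S T (fun _ : Unit => (⊤ : Subgroup K)) (fun _ _ => 2) := by
  classical
  have := Fintype.ofFinite F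
  have hmv : Moved S T (⊤ : Subgroup K) := by
    intro t ht ht1 u hu h1
    have h2 := qk hS (mul_mem (inv_mem hu) (h.stab t ht u hu)) h1
    have h3 := hf t ht ht1 u hu (inv_mul_eq_one.1 h2).symm
    rw [h3]
    exact one_mem _
  have wm_not : (wm : SL(2, F)).1 1 0 ≠ 0 := by
    show (-1 : F) ≠ 0
    exact neg_ne_zero.2 one_ne_zero
  refine
    { isP := hP
      odd := hodd
      le := fun _ => le_top
      gen := by rw [iSup_const]
      T_P := fun _ _ _ _ _ => mem_top _
      B_A := ?_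
      dich := fun _ => Or.inr hmv
      moved := ⟨(), hmv⟩
      five := fun _ => ?_
      ptr := fun _ => ?_
      reg := fun _ => ?_
      m_two := fun i j hij => (hij (Subsingleton.elim i j)).elim
      m_symm := fun _ _ => rfl
      conn := ?_
      poly := fun i j hij => (hij (Subsingleton.elim i j)).elim
      frat := fun i j hij => (hij (Subsingleton.elim i j)).elim
      fpf := fun _ => ?_
      sep := fun i j hij => (hij (Subsingleton.elim i j)).elim
      nbr := fun i _ hj => (hj.choose_spec (Subsingleton.elim _ _)).elim }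
  · intro b hb a ha
    exact AT_eq h hf _ (((mem_normalizer_iff.1 hb) a).1 (AT_le h ha))
  · -- five chambers
    rw [relIndex_top_right]
    let f : Option F → K ⧸ normalizer (S : Set K) := fun o => match o with
      | none => ((1 : K) : K ⧸ normalizer (S : Set K))
      | some x => ((e.symm (up x * wm) : K) : K ⧸ normalizer (S : Set K))
    have hwm : ∀ x : F, ¬ (e.symm (up x * wm) ∈ normalizer (S : Set K)) := by
      intro x hx
      rw [mem_N hS, MulEquiv.apply_symm_apply, sl_mul] at hx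
      have h1 : (0 : F) * (wm : SL(2, F)).1 0 0 + 1 * (wm : SL(2, F)).1 1 0 = 0 := hx
      rw [zero_mul, zero_add, one_mul] at h1
      exact wm_not h1
    have hinj : Function.Injective f := by
      intro o o' ho
      match o, o', ho with
      | none, none, _ => rfl
      | none, some x, ho =>
        exfalso
        have h1 := QuotientGroup.eq.1 ho
        rw [inv_one, one_mul] at h1
        exact hwm x h1
      | some x, none, ho =>
        exfalso
        have h1 := QuotientGroup.eq.1 ho.symm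
        rw [inv_one, one_mul] at h1
        exact hwm x h1
      | some x, some y, ho =>
        have h1 := QuotientGroup.eq.1 ho
        rw [← map_inv, ← map_mul, mem_N hS, MulEquiv.apply_symm_apply] at h1
        have h2 : (up x * wm)⁻¹ * (up y * wm) = wm⁻¹ * up (-x + y) * (wm : SL(2, F)) := by
          rw [← up_mul, ← up_inv]
          group
        rw [h2] at h1
        have h3 := wm_up h1
        have h4 : x = y := by linear_combination -h3
        rw [h4]
    have h5 := Nat.card_le_card_of_injective f hinj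
    rw [Finite.card_option] at h5
    rw [Subgroup.index]
    omega
  · intro g _ hg g' _ hg'
    rw [mem_N hS] at hg hg'
    obtain ⟨x, b, hb, hx⟩ := bruhat hg
    obtain ⟨x', b', hb', hx'⟩ := bruhat hg'
    refine ⟨e.symm (up (x' - x)), (hS _).2 ?_, e.symm (b⁻¹ * b'), (mem_N hS).2 ?_, ?_⟩
    · rw [MulEquiv.apply_symm_apply]
      exact ⟨_, rfl⟩
    · rw [MulEquiv.apply_symm_apply]
      exact lower_mul (lower_inv hb) hb'
    · apply e.injective
      have h1 : up x' = up (x' - x) * up x := by rw [up_mul, sub_add_cancel]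
      rw [map_mul, map_mul, MulEquiv.apply_symm_apply, MulEquiv.apply_symm_apply, hx, hx', h1]
      group
  · intro u hu g _ hg hgu
    rw [mem_N hS] at hg hgu
    obtain ⟨x, hx⟩ := mem_U.1 ((hS u).1 hu)
    rw [map_mul, map_mul, map_inv, ← hx] at hgu
    rw [reg hg hgu, up_zero] at hx
    rw [(MulEquiv.map_eq_one_iff e).1 hx.symm]
    exact one_mem _
  · intro I hI hI'
    obtain ⟨a, ha⟩ := hI
    obtain ⟨b, hb⟩ := hI'
    exact (hb (by rwa [Subsingleton.elim b a])).elim
  · -- a torus element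
    have hc : 1 < Fintype.card Fˣ := by
      rw [Fintype.card_units, ← Nat.card_eq_fintype_card]
      omega
    obtain ⟨k, hk⟩ := Fintype.exists_ne_of_one_lt_card hc 1
    refine ⟨e.symm (dg k), (mem_N hS).2 ?_, ⟨Fintype.card Fˣ, ?_, ?_⟩, ?_⟩
    · rw [MulEquiv.apply_symm_apply]
      rfl
    · obtain ⟨n, -, hn⟩ := FiniteField.card F 2
      rw [Nat.coprime_two_left, Fintype.card_units, hn]
      exact Nat.Even.sub_odd Nat.one_le_two_pow ((Nat.even_pow' n.ne_zero).2 even_two) odd_one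
    · rw [← map_pow, dg_pow, pow_card_eq_one, dg_one, map_one]
    · intro u hu h1
      obtain ⟨x, hx⟩ := mem_U.1 ((hS u).1 hu)
      have hu' : u = e.symm (up x) := by rw [hx, MulEquiv.symm_apply_apply]
      have h2 : e.symm (dg k) * u * (e.symm (dg k))⁻¹ * u⁻¹ ∈ S := by
        refine mul_mem ?_ (inv_mem hu)
        rw [hS, map_mul, map_mul, map_inv, MulEquiv.apply_symm_apply, ← hx, dg_up]
        exact ⟨_, rfl⟩
      have h3 := qk hS h2 h1
      have h4 := congrArg e (mul_inv_eq_one.1 h3)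
      rw [map_mul, map_mul, map_inv, MulEquiv.apply_symm_apply, ← hx, dg_up] at h4
      have h5 : (k : F) ^ 2 * x = x := congrArg (fun m : SL(2, F) => m.1 0 1) h4
      have h6 : x = 0 := by
        by_contra hx0
        apply hk
        have h7 : (k : F) ^ 2 = 1 := mul_right_cancel₀ hx0 (h5.trans (one_mul x).symm)
        have h8 : ((k : F) - 1) * ((k : F) - 1) = 0 := by
          have h2 : (2 : F) = 0 := CharTwo.two_eq_zero
          linear_combination h7 + (1 - (k : F)) * h2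
        exact Units.ext (sub_eq_zero.1 (mul_self_eq_zero.1 h8))
      rw [h6, up_zero] at hx
      rw [(MulEquiv.map_eq_one_iff e).1 hx.symm]
      exact one_mem _

end main

/-- **The K-side for `K ≅ SL₂(F)`.** -/
theorem side {K : Type*} [Group K] [Finite K] {F : Type} [Field F] [Finite F] [CharP F 2] (h4 : 4 ≤ Nat.card F)
    (e : K ≃* SL(2, F)) {S : Subgroup K} (hP : IsPGroup 2 S) (hodd : Odd (S.relIndex (normalizer (S : Set K))))
    (hS : ∀ x, x ∈ S ↔ e x ∈ U F) {T : Subgroup (MulAut K)} (h : TAct S T) :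
    (∃ (J : Type) (_ : Finite J) (P : J → Subgroup K) (m : J → J → ℕ), KSys S T P m) ∨ KExc K S T := by
  by_cases hf : ∀ t ∈ T, t ≠ 1 → ∀ u ∈ S, t u = u → u = 1
  · exact Or.inl ⟨Unit, inferInstance, _, _, ksys h4 hP hodd hS h hf⟩
  · right
    simp only [not_forall] at hf
    obtain ⟨t₀, ht₀, h1, u₀, hu₀, hfx, hu1⟩ := hf
    obtain ⟨e'⟩ := psl_equiv (F := F)
    exact ⟨(co hS).card_three h ht₀ h1 hu₀ hu1 hfx, ⟨u₀, hu₀, hu1, fun t ht => fix_all h ht₀ h1 hu₀ hfx ht⟩,
      F, inferInstance, Fintype.ofFinite F, ringChar.eq_iff.2 inferInstance, ⟨e.trans e'.symm⟩⟩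

/-- the unitriangular group is a Sylow 2-subgroup -/
theorem sylow_eq {K : Type*} [Group K] [Finite K] {F : Type*} [Field F] [CharP F 2] (e : K ≃* SL(2, F)) :
    ∃ Q : Sylow 2 K, ∀ x, x ∈ Q ↔ e x ∈ U F := by
  have hU : IsPGroup 2 ((U F).comap e.toMonoidHom : Subgroup K) := by
    rintro ⟨x, hx⟩
    obtain ⟨y, hy⟩ := hx
    refine ⟨1, ?_⟩
    apply Subtype.ext
    apply e.injective
    show e (x ^ 2 ^ 1) = e 1
    have hy' : up y = e x := hy
    rw [pow_one, pow_two, map_mul, map_one, ← hy', up_mul, CharTwo.add_self_eq_zero, up_zero]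
  obtain ⟨Q, hQ⟩ := hU.exists_le_sylow
  refine ⟨Q, fun x => ⟨fun hx => ?_, fun hx => hQ hx⟩⟩
  have hup : ∀ y : F, e.symm (up y) ∈ (Q : Subgroup K) := fun y => hQ (by
    show e (e.symm (up y)) ∈ U F
    rw [MulEquiv.apply_symm_apply]
    exact ⟨y, rfl⟩)
  have hne : e.symm (up (1 : F)) ≠ 1 := by
    intro h
    rw [MulEquiv.map_eq_one_iff] at h
    exact one_ne_zero (congrArg (fun m : SL(2, F) => m.1 0 1) h)
  have : Nontrivial (Q : Subgroup K) := ⟨⟨⟨_, hup 1⟩, 1, fun h => hne (congrArg Subtype.val h)⟩⟩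
  have hc := Q.isPGroup'.center_nontrivial
  obtain ⟨⟨⟨z, hzQ⟩, hzc⟩, hz1⟩ := exists_ne (1 : center (Q : Subgroup K))
  have hz1' : z ≠ 1 := fun h => hz1 (Subtype.ext (Subtype.ext h))
  have hcomm : ∀ w ∈ (Q : Subgroup K), w * z = z * w := fun w hw =>
    congrArg Subtype.val ((mem_center_iff.1 hzc) ⟨w, hw⟩)
  have hcU : ∀ {y : F}, y ≠ 0 → ∀ w, w * e.symm (up y) = e.symm (up y) * w → e w ∈ U F := by
    intro y hy w hw
    apply cent_up hy
    have := congrArg e hw
    rwa [map_mul, map_mul, MulEquiv.apply_symm_apply] at this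
  obtain ⟨y, hy⟩ := hcU one_ne_zero z (hcomm _ (hup 1)).symm
  have hzy : z = e.symm (up y) := by rw [hy, MulEquiv.symm_apply_apply]
  have hy0 : y ≠ 0 := by
    rintro rfl
    apply hz1'
    rw [hzy, up_zero, map_one]
  exact hcU hy0 x (by rw [← hzy]; exact hcomm x hx)

/-- `Z(K) = 1` -/
theorem exists_equiv {K : Type*} [Group K] [Finite K] (hp : commutator K = ⊤) (hodd : Odd (Nat.card (center K)))
    {F : Type*} [Field F] [Finite F] [CharP F 2] (e : (K ⧸ center K) ≃* SL(2, F)) : Nonempty (K ≃* SL(2, F)) := by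
  have : Fintype F := Fintype.ofFinite F
  have : Fact (Nat.Prime 2) := ⟨Nat.prime_two⟩
  let π : K →* SL(2, F) := e.toMonoidHom.comp (QuotientGroup.mk' (center K))
  have hsurj : Function.Surjective π := e.surjective.comp (QuotientGroup.mk'_surjective _)
  have hker : π.ker = center K := by
    ext x
    rw [MonoidHom.mem_ker]
    show e (QuotientGroup.mk' (center K) x) = 1 ↔ _
    rw [MulEquiv.map_eq_one_iff]
    exact QuotientGroup.eq_one_iff x
  have hG : commutator SL(2, F) = ⊤ := by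
    rw [eq_top_iff]
    intro g _
    obtain ⟨x, rfl⟩ := hsurj g
    have hx : x ∈ commutator K := by rw [hp]; trivial
    rw [commutator_def] at hx ⊢
    have h2 := Subgroup.mem_map_of_mem π hx
    rw [Subgroup.map_commutator] at h2
    exact Subgroup.commutator_mono le_top le_top h2
  have hbot : π.ker = ⊥ := by
    by_contra hne
    have h1 : Nat.card π.ker ≠ 1 := by rwa [Ne, Subgroup.card_eq_one]
    obtain ⟨p, hpr, hdvd⟩ := Nat.exists_prime_and_dvd h1
    have : Fact p.Prime := ⟨hpr⟩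
    have hp2 : p ≠ 2 := by
      rintro rfl
      rw [hker] at hdvd
      exact (Nat.not_even_iff_odd.2 hodd) (even_iff_two_dvd.2 hdvd)
    exact Cfsg.Agent.S0102.result hG (p := p) (fun P => Cfsg.Agent.S0262.result 2 p hp2 hp2 P) π hsurj hker.le hp hdvd
  exact ⟨MulEquiv.ofBijective π ⟨(MonoidHom.ker_eq_bot_iff π).1 hbot, hsurj⟩⟩

universe u

/-- **The groups `L₂(q)`.** -/
theorem kLTwo : KLTwo.{u} := by
  intro K _ _ hp hodd hL S T h
  obtain ⟨F, _, _, _, h4, ⟨e₀⟩⟩ := hL
  obtain ⟨e₁⟩ := psl_equiv (F := F)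
  obtain ⟨e⟩ := exists_equiv hp hodd (e₀.trans e₁)
  obtain ⟨Q, hQ⟩ := sylow_eq e
  obtain ⟨g, hg⟩ := MulAction.exists_smul_eq K Q S
  have hS : ∀ x, x ∈ (S : Subgroup K) ↔ ((MulAut.conj g⁻¹).trans e) x ∈ U F := by
    intro x
    have h1 : x ∈ (S : Subgroup K) ↔ g⁻¹ * x * g ∈ Q := by
      rw [← hg]
      show x ∈ MulAut.conj g • (Q : Subgroup K) ↔ _
      rw [Subgroup.mem_pointwise_smul_iff_inv_smul_mem]
      show ((MulAut.conj g)⁻¹ x ∈ (Q : Subgroup K)) ↔ _
      rw [MulAut.conj_inv_apply]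
      rfl
    rw [h1, hQ]
    show e (g⁻¹ * x * g) ∈ U F ↔ e (g⁻¹ * x * g⁻¹⁻¹) ∈ U F
    rw [inv_inv]
  have ho : Odd ((S : Subgroup K).relIndex (normalizer ((S : Subgroup K) : Set K))) := by
    have : Fact (Nat.Prime 2) := ⟨Nat.prime_two⟩
    have h1 : ¬ 2 ∣ (S : Subgroup K).index := S.not_dvd_index
    rw [← Nat.not_even_iff_odd, even_iff_two_dvd]
    exact fun h2 => h1 (h2.trans (relIndex_dvd_index_of_le le_normalizer))
  exact side (by rw [Nat.card_eq_fintype_card]; exact h4) _ S.isPGroup' ho hS h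

end Cfsg.Agent.Omega.Lie.End.LTwoSide

end

section


/-!
# K-side of NODE LIE, the dead families: the criterion `PhiAb`

`PhiAb P`: every normal elementary abelian 2-subgroup of the group `P` lies in the Frattini subgroup.
If `P` is a finite 2-group with `PhiAb P`, and `Γ` is a group of automorphisms of odd order such that `[P, Γ]` is
elementary abelian, then `Γ = 1` (`eq_one_of_phiAb`).  `PhiAb.trivial`, `false_of_tact`: the form with a subgroup `S` of a
group `K` and `Γ ≤ Aut K`.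
-/

set_option autoImplicit false

namespace Cfsg.Agent.Omega.Lie.End.DeadPhi

open Cfsg.Agent.Schreier.Tools2 Cfsg.Agent.Schreier.TwoGen

/-- Every normal elementary abelian 2-subgroup lies in the Frattini subgroup. -/
def PhiAb (P : Type*) [Group P] : Prop :=
  ∀ A : Subgroup P, A.Normal → (∀ a ∈ A, ∀ b ∈ A, a * b = b * a) → (∀ a ∈ A, a * a = 1) → A ≤ frattini P

variable {P : Type*} [Group P]

theorem PhiAb.map {Q : Type*} [Group Q] (e : P ≃* Q) (h : PhiAb P) : PhiAb Q := by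
  intro A hA hab hsq x hx
  have h1 : A.comap e.toMonoidHom ≤ frattini P := by
    refine h _ (hA.comap _) ?_ ?_
    · intro a ha b hb
      apply e.injective
      rw [map_mul, map_mul]
      exact hab _ ha _ hb
    · intro a ha
      apply e.injective
      rw [map_mul, map_one]
      exact hsq _ ha
  have h2 : e.symm x ∈ frattini P := h1 (by show e (e.symm x) ∈ A; rwa [e.apply_symm_apply])
  have h3 : e.symm x ∈ (frattini Q).comap e.toMonoidHom :=
    frattini_le_comap_frattini_of_surjective (φ := e.toMonoidHom) e.surjective h2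
  have h4 : e (e.symm x) ∈ frattini Q := h3
  rwa [e.apply_symm_apply] at h4

/-- `[P, Γ]` -/
def com (Γ : Subgroup (MulAut P)) : Subgroup P := Subgroup.closure {x | ∃ γ ∈ Γ, ∃ s, x = s⁻¹ * γ s}

theorem com_normal (Γ : Subgroup (MulAut P)) : (com Γ).Normal := by
  have key : ∀ g : P, ∀ γ ∈ Γ, ∀ s : P, g * (s⁻¹ * γ s) * g⁻¹ ∈ com Γ := by
    intro g γ hγ s
    have h1 : (s * g⁻¹)⁻¹ * γ (s * g⁻¹) ∈ com Γ := Subgroup.subset_closure ⟨γ, hγ, _, rfl⟩
    have h2 : (g⁻¹)⁻¹ * γ g⁻¹ ∈ com Γ := Subgroup.subset_closure ⟨γ, hγ, _, rfl⟩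
    have h3 := mul_mem h1 (inv_mem h2)
    have e : g * (s⁻¹ * γ s) * g⁻¹ = (s * g⁻¹)⁻¹ * γ (s * g⁻¹) * ((g⁻¹)⁻¹ * γ g⁻¹)⁻¹ := by
      rw [map_mul, map_inv]
      group
    rw [e]
    exact h3
  refine ⟨fun x hx g => ?_⟩
  have h1 : com Γ ≤ (com Γ).comap (MulAut.conj g).toMonoidHom := by
    conv_lhs => rw [com]
    rw [Subgroup.closure_le]
    rintro _ ⟨γ, hγ, s, rfl⟩
    exact key g γ hγ s
  exact h1 hx

/-- **The criterion.** -/
theorem eq_one_of_phiAb [Finite P] (hP : IsPGroup 2 P) (h : PhiAb P) {Γ : Subgroup (MulAut P)}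
    (hodd : Odd (Nat.card Γ)) (hab : ∀ a ∈ com Γ, ∀ b ∈ com Γ, a * b = b * a) (hsq : ∀ a ∈ com Γ, a * a = 1) :
    ∀ γ ∈ Γ, γ = 1 := by
  have : Fact (Nat.Prime 2) := ⟨Nat.prime_two⟩
  have h1 := h (com Γ) (com_normal Γ) hab hsq
  intro γ hγ
  refine eq_one_of_coprime hP γ ?_ fun t => ?_
  · rw [Nat.coprime_two_right]
    exact Odd.of_dvd_nat hodd (Subgroup.orderOf_dvd_natCard Γ hγ)
  · have h2 : t⁻¹ * γ t ∈ frattini P := h1 (Subgroup.subset_closure ⟨γ, hγ, t, rfl⟩)
    have h3 := (inferInstance : (frattini P).Normal).conj_mem _ h2 t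
    have e : t * (t⁻¹ * γ t) * t⁻¹ = γ t * t⁻¹ := by group
    rwa [e] at h3

/-- The restriction of a group of automorphisms stabilising `S`. -/
theorem exists_res {K : Type*} [Group K] [Finite K] {S : Subgroup K} {T : Subgroup (MulAut K)}
    (hst : ∀ t ∈ T, ∀ u ∈ S, t u ∈ S) :
    ∃ r : T →* MulAut S, ∀ (t : T) (u : S), ((r t u : S) : K) = (t : MulAut K) (u : K) := by
  have hst' : ∀ t ∈ T, ∀ u ∈ S, t.symm u ∈ S := fun t ht u hu => hst t⁻¹ (inv_mem ht) u hu
  let f : T → MulAut S := fun t =>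
    { toFun := fun u => ⟨(t : MulAut K) (u : K), hst t t.2 u u.2⟩
      invFun := fun u => ⟨(t : MulAut K).symm (u : K), hst' t t.2 u u.2⟩
      left_inv := fun u => Subtype.ext ((t : MulAut K).symm_apply_apply u)
      right_inv := fun u => Subtype.ext ((t : MulAut K).apply_symm_apply u)
      map_mul' := fun u v => Subtype.ext (map_mul (t : MulAut K) (u : K) (v : K)) }
  exact ⟨{ toFun := f, map_one' := rfl, map_mul' := fun _ _ => rfl }, fun t u => rfl⟩

/-- **The criterion for a subgroup `S` of a group `K`.** -/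
theorem PhiAb.trivial {K : Type*} [Group K] [Finite K] {S : Subgroup K} (hS : IsPGroup 2 S) (h : PhiAb S)
    {T : Subgroup (MulAut K)} (hodd : Odd (Nat.card T)) (hst : ∀ t ∈ T, ∀ u ∈ S, t u ∈ S) {A : Subgroup K}
    (hA : ∀ t ∈ T, ∀ u ∈ S, u⁻¹ * t u ∈ A) (hab : ∀ a ∈ A, ∀ b ∈ A, a * b = b * a) (hsq : ∀ a ∈ A, a * a = 1) :
    ∀ t ∈ T, ∀ u ∈ S, t u = u := by
  obtain ⟨r, hr⟩ := exists_res hst
  have h1 : com r.range ≤ A.subgroupOf S := by
    rw [com, Subgroup.closure_le]
    rintro _ ⟨_, ⟨t, rfl⟩, s, rfl⟩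
    rw [SetLike.mem_coe, Subgroup.mem_subgroupOf, Subgroup.coe_mul, Subgroup.coe_inv, hr]
    exact hA t t.2 s s.2
  have key := eq_one_of_phiAb hS h (Γ := r.range)
    (Odd.of_dvd_nat hodd (by
      have := Subgroup.card_range_dvd r
      exact this))
    (fun a ha b hb => Subtype.ext (hab _ (Subgroup.mem_subgroupOf.1 (h1 ha)) _ (Subgroup.mem_subgroupOf.1 (h1 hb))))
    (fun a ha => Subtype.ext (hsq _ (Subgroup.mem_subgroupOf.1 (h1 ha))))
  intro t ht u hu
  have h2 := key (r ⟨t, ht⟩) ⟨_, rfl⟩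
  have h3 := hr ⟨t, ht⟩ ⟨u, hu⟩
  rw [h2] at h3
  exact h3.symm

/-- elementwise form of `PhiAb S` for a 2-subgroup `S` of `K` -/
theorem phiAb_of {K : Type*} [Group K] {S : Subgroup K} [Finite S] (hS : IsPGroup 2 S)
    (h : ∀ A : Subgroup K, A ≤ S → (∀ s ∈ S, ∀ a ∈ A, s * a * s⁻¹ ∈ A) → (∀ a ∈ A, ∀ b ∈ A, a * b = b * a) →
      (∀ a ∈ A, a * a = 1) → A ≤ sqs S) : PhiAb S := by
  intro A hA hab hsq x hx
  have h1 := h (A.map S.subtype) (by rintro _ ⟨a, _, rfl⟩; exact a.2) (by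
      rintro s hs _ ⟨a, ha, rfl⟩
      exact ⟨⟨s, hs⟩ * a * ⟨s, hs⟩⁻¹, hA.conj_mem a ha _, rfl⟩) (by
      rintro _ ⟨a, ha, rfl⟩ _ ⟨b, hb, rfl⟩
      exact congrArg Subtype.val (hab a ha b hb)) (by
      rintro _ ⟨a, ha, rfl⟩
      exact congrArg Subtype.val (hsq a ha))
  obtain ⟨y, hy, e⟩ := sqs_le_frattini hS (h1 ⟨x, hx, rfl⟩)
  have : y = x := Subtype.ext e
  rwa [← this]

/-- `PhiAb P` if all the involutions of the 2-group `P` are squares. -/
theorem phiAb_of_sq [Finite P] (hP : IsPGroup 2 P) (h : ∀ x : P, x * x = 1 → ∃ y, x = y * y) : PhiAb P := by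
  have : Fact (Nat.Prime 2) := ⟨Nat.prime_two⟩
  intro A _ _ hsq x hx
  obtain ⟨y, rfl⟩ := h x (hsq x hx)
  rw [← pow_two]
  exact Cfsg.Agent.Lib.FrattiniPGroup.pow_mem_frattini hP y

/-- If one Sylow 2-subgroup has the property, so has every other one. -/
theorem PhiAb.sylow {K : Type*} [Group K] [Finite K] {S : Sylow 2 K} (h : PhiAb S) (P : Sylow 2 K) : PhiAb P := by
  have : Fact (Nat.Prime 2) := ⟨Nat.prime_two⟩
  exact h.map (S.equiv P)

/-- transport along an isomorphism of the ambient groups -/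
theorem PhiAb.of_iso {Y Z : Type*} [Group Y] [Group Z] [Finite Y] (f : Y ≃* Z) (h : ∀ P : Sylow 2 Z, PhiAb P)
    (S : Sylow 2 Y) : PhiAb S := by
  have : Fact (Nat.Prime 2) := ⟨Nat.prime_two⟩
  have : Finite Z := Finite.of_equiv Y f.toEquiv
  have h1 := h (S.mapSurjective (f := f.toMonoidHom) f.surjective)
  have h2 : ((S.mapSurjective (f := f.toMonoidHom) f.surjective : Sylow 2 Z) : Subgroup Z) =
      (S : Subgroup Y).map f.toMonoidHom := Sylow.coe_mapSurjective _ _
  exact h1.map ((MulEquiv.subgroupCongr h2).trans (f.subgroupMap (S : Subgroup Y)).symm)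

theorem false_of_tact {K : Type*} [Group K] [Finite K] {S : Subgroup K} (hS : IsPGroup 2 S) (h : PhiAb S)
    {T : Subgroup (MulAut K)} (hT : TAct S T) : False := by
  have h1 := h.trivial hS hT.odd hT.stab (A := AT S T)
    (fun t ht u hu => Subgroup.subset_closure ⟨t, ht, u, hu, rfl⟩) hT.ab hT.sq
  refine hT.ne (Subgroup.closure_eq_bot_iff.2 ?_)
  rintro _ ⟨t, ht, u, hu, rfl⟩
  rw [h1 t ht u hu, inv_mul_cancel]
  rfl

end Cfsg.Agent.Omega.Lie.End.DeadPhi

end
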