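import Cfsg.Agent.Mrg.Omega.Lie.End.KLTwo
import Cfsg.Agent.LieRecognition.PSUThreeSylow
import Cfsg.Agent.Mrg.Omega.EH3.Rank1.Suz


/-!
# K-side of NODE LIE, the dead families: `U₃(q)` and `Sz(q)`

The involutions of a Sylow 2-subgroup are squares (`PhiAb`).
-/

set_option autoImplicit false

namespace Cfsg.Agent.Omega.Lie.End.DeadPhi

open Cfsg.Agent.LieRecognition Cfsg.Agent.LieRecognition.HermHeis Cfsg.Agent.ThreePrime

section unitary

variable {F : Type*} [Field F] [CharP F 2] {σ : F →+* F} [hσ : Fact (∀ x, σ (σ x) = x)]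

theorem phiAb_heis [Finite F] {n : ℕ} (hn : 1 ≤ n) (hs : ∀ x, σ x = x ^ (2 ^ n))
    (hF : Nat.card F = (2 ^ n) ^ 2) : PhiAb (Heis σ) := by
  have : Fact (Nat.Prime 2) := ⟨Nat.prime_two⟩
  have hq : 1 < 2 ^ n := Nat.one_lt_two_pow (by omega)
  have h2 : IsPGroup 2 (Heis σ) :=
    IsPGroup.of_card (n := n * 3) (by rw [HermHeis.card_heis hq hs hF, ← pow_mul])
  refine phiAb_of_sq h2 fun x hx => ?_
  have ha : x.a = 0 := (mul_self_eq_one_iff x).1 hx
  have hb : σ x.b = x.b := b_fixed_of_a_eq_zero ha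
  have hring : ringChar F = 2 := ringChar.eq F 2 ▸ rfl
  obtain ⟨l, hl⟩ := FiniteField.isSquare_of_char_two hring x.b
  have hlf : σ l = l := by
    have h1 : σ l * σ l = l * l := by rw [← map_mul, ← hl, hb]
    have h2 : (σ l + l) * (σ l + l) = 0 := by
      linear_combination h1 + CharTwo.add_self_eq_zero (l * l + σ l * l)
    exact CharTwo.add_eq_zero.mp (mul_self_eq_zero.mp h2)
  obtain ⟨y, hy⟩ := exists_heis_a (σ := σ) hq hs hF l
  refine ⟨y, ?_⟩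
  ext
  · rw [mul_a, ha, CharTwo.add_self_eq_zero]
  · rw [mul_b, hy, hlf, CharTwo.add_self_eq_zero, zero_add, hl]

end unitary

/-- `U₃(q)` -/
theorem phiAb_uThree {F : Type*} [Field F] [Finite F] {n : ℕ} (hn : 1 ≤ n) (hF : Nat.card F = (2 ^ n) ^ 2)
    (S : Sylow 2 (Cfsg.PSU 3 F (2 ^ n))) : PhiAb S := by
  obtain ⟨_, σ, _, hs, -, h⟩ := PSUThreeSylow.exists_heis_equiv F hn hF
  obtain ⟨e⟩ := h S
  exact (phiAb_heis hn hs hF).map e

/-- `Sz(q)` -/
theorem phiAb_sz {J : Type*} [Group J] [Finite J] (h : Cfsg.Lie.IsoSuzuki J) (S : Sylow 2 J) : PhiAb S := by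
  have : Fact (Nat.Prime 2) := ⟨Nat.prime_two⟩
  obtain ⟨F, iF, iF', m, hm, hc, ⟨R⟩⟩ := SzRel.exists_rel h
  obtain ⟨-, ho, -⟩ := Cfsg.Agent.Omega.EH3.Rank1.arith hm
  obtain ⟨P, hP⟩ := Cfsg.Agent.Omega.EH3.Rank1.sz_sylow R (by rw [Nat.card_eq_fintype_card, hc]; exact ho)
  have key : PhiAb P := by
    refine phiAb_of_sq P.2 fun x hx => ?_
    have h1 : (x : J) ∈ R.T := by rw [← hP]; exact x.2
    obtain ⟨a, b, hab⟩ := h1
    have h2 : R.u a b * R.u a b = 1 := by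
      rw [← hab]
      exact congrArg Subtype.val hx
    have h3 : a = 0 := (R.u_sq_iff a b).1 h2
    subst h3
    obtain ⟨c, hc⟩ : ∃ c : F, c * R.θ c = b := by
      by_cases hb : b = 0
      · exact ⟨0, by rw [hb, zero_mul]⟩
      · obtain ⟨k, hk⟩ := R.exists_mul_theta (Units.mk0 b hb)
        exact ⟨k, by rw [hk, Units.val_mk0]⟩
    refine ⟨⟨R.u c 0, by rw [hP]; exact R.u_mem c 0⟩, Subtype.ext ?_⟩
    rw [Subgroup.coe_mul, R.u_mul_self, hc, hab]
  exact key.sylow S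

end Cfsg.Agent.Omega.Lie.End.DeadPhi
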