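import Cfsg.Agent.Mrg.Omega.Lie.End.ZeroLone
import Cfsg.Agent.Mrg.Omega.Lie.End.DeadRankOne
import Cfsg.Agent.Mrg.Omega.Lie.End.DeadTwF


/-!
# K-side of NODE LIE: `KDead` (`U₃(q)`, `Sz(q)`, `²F₄(q)`)

`kDead : KDead`, and `dead_cover`: the same for a group `K` with odd centre and `K / Z(K)` in the list.
-/

set_option autoImplicit false

namespace Cfsg.Agent.Omega.Lie.End

open Subgroup DeadPhi

theorem deadY_of {Y : Type*} [Group Y] [Finite Y] (h : ∀ S : Sylow 2 Y, PhiAb S) : DeadY Y :=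
  fun S _ hT => false_of_tact S.2 (h S) hT

theorem phiAb_isUThree {Y : Type*} [Group Y] [Finite Y] (h : IsUThree Y) (S : Sylow 2 Y) : PhiAb S := by
  have : Fact (Nat.Prime 2) := ⟨Nat.prime_two⟩
  obtain ⟨F, _, _, _, q, hc, -, ⟨f⟩⟩ := h
  obtain ⟨n, hn1, rfl⟩ : ∃ n, 1 ≤ n ∧ q = 2 ^ n := by
    obtain ⟨k, -, hk⟩ := FiniteField.card F 2
    rw [hc] at hk
    have h1 : q ∣ 2 ^ (k : ℕ) := ⟨q, by rw [← hk, pow_two]⟩
    obtain ⟨n, -, hn⟩ := (Nat.dvd_prime_pow Nat.prime_two).1 h1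
    refine ⟨n, ?_, hn⟩
    by_contra h0
    have h2 : n = 0 := by omega
    rw [h2, pow_zero] at hn
    have h3 := Fintype.one_lt_card (α := F)
    rw [hc, hn] at h3
    omega
  exact PhiAb.of_iso f (fun P => phiAb_uThree hn1 (by rw [Nat.card_eq_fintype_card, hc]) P) S

/-- the Sylow 2-subgroups of `U₃(q)`, `Sz(q)`, `²F₄(q)` -/
theorem phiAb_dead {Y : Type*} [Group Y] [Finite Y] (h : IsUThree Y ∨ Cfsg.Lie.IsoSuzuki Y ∨ Cfsg.Lie.Iso2F4 Y)
    (S : Sylow 2 Y) : PhiAb S := by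
  rcases h with h | h | h
  · exact phiAb_isUThree h S
  · exact phiAb_sz h S
  · exact phiAb_twoFFour h S

universe u

theorem kDead : KDead.{u} := fun _ _ _ _ h => deadY_of fun S => phiAb_dead h S

/-- passage to a covering group of odd degree -/
theorem phiAb_cover {K : Type*} [Group K] [Finite K] (hodd : Odd (Nat.card (center K)))
    (h : ∀ S : Sylow 2 (K ⧸ center K), PhiAb S) (S : Sylow 2 K) : PhiAb S := by
  have : Fact (Nat.Prime 2) := ⟨Nat.prime_two⟩
  have hs : Function.Surjective (QuotientGroup.mk' (center K)) := QuotientGroup.mk'_surjective _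
  have h1 := h (S.mapSurjective hs)
  have h2 : ((S.mapSurjective hs : Sylow 2 (K ⧸ center K)) : Subgroup (K ⧸ center K)) =
      (S : Subgroup K).map (QuotientGroup.mk' (center K)) := Sylow.coe_mapSurjective _ _
  have h3 : Function.Injective ((QuotientGroup.mk' (center K)).subgroupMap (S : Subgroup K)) := by
    rw [injective_iff_map_eq_one]
    rintro ⟨x, hx⟩ hx1
    have h4 : (QuotientGroup.mk' (center K)) x = 1 := congrArg Subtype.val hx1
    rw [← MonoidHom.mem_ker, QuotientGroup.ker_mk'] at h4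
    have h5 : Nat.Coprime (Nat.card (S : Subgroup K)) (Nat.card (center K)) := by
      obtain ⟨n, hn⟩ := S.2.exists_card_eq
      rw [hn]
      exact Nat.Coprime.pow_left n (Nat.coprime_two_left.2 hodd)
    have h6 := Subgroup.inf_eq_bot_of_coprime h5
    have h7 : x ∈ ((S : Subgroup K) ⊓ center K) := ⟨hx, h4⟩
    rw [h6, Subgroup.mem_bot] at h7
    exact Subtype.ext h7
  let e : (S : Subgroup K) ≃* (S : Subgroup K).map (QuotientGroup.mk' (center K)) :=
    MulEquiv.ofBijective _ ⟨h3, (QuotientGroup.mk' (center K)).subgroupMap_surjective _⟩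
  exact h1.map ((MulEquiv.subgroupCongr h2).trans e.symm)

/-- **`U₃(q)`, `Sz(q)`, `²F₄(q)` are dead**, for coverings of odd degree. -/
theorem dead_cover {K : Type*} [Group K] [Finite K] (hodd : Odd (Nat.card (center K)))
    (h : IsUThree (K ⧸ center K) ∨ Cfsg.Lie.IsoSuzuki (K ⧸ center K) ∨ Cfsg.Lie.Iso2F4 (K ⧸ center K)) : DeadY K :=
  deadY_of fun S => phiAb_cover hodd (fun P => phiAb_dead h P) S

end Cfsg.Agent.Omega.Lie.End
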