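import Cfsg.Agent.Mrg.Omega.Lie.End.KMain
import Cfsg.Agent.Mrg.Omega.Lie.End.KLTwo
import Cfsg.Agent.Mrg.Omega.Lie.End.KDead
import Cfsg.Agent.Mrg.Omega.CR.Com
import Cfsg.Agent.KFacts.SLRow.Psl
import Cfsg.Agent.KFacts.Mult.TypeA
import Mathlib
import Cfsg.Agent.KFacts.RgdOpp
import Cfsg.Agent.KFacts.RgdVJ
import Cfsg.Agent.KFacts.RgdDiag
import Cfsg.Agent.Mrg.Omega.BTwo.Conj
import Cfsg.Agent.Mrg.ParSys.Fam.TwoFFour

section


/-!
# The K-side: assembly (helper650)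

`kSide_of : KTable → KPhi → MovAll → KSide`.
-/

set_option autoImplicit false

namespace Cfsg.Agent.Omega.Lie.End

open Subgroup Cfsg.Agent.Omega.Lie.End.DeadPhi

universe u

/-- helper484: in the Sylow 2-subgroups of `U₃(q)`, `Sz(q)`, `²F₄(q)` every normal elementary abelian subgroup lies in the
Frattini subgroup. -/
def KPhi : Prop :=
  ∀ (Y : Type u) [Group Y] [Finite Y], (IsUThree Y ∨ Lie.IsoSuzuki Y ∨ Lie.Iso2F4 Y) → ∀ S : Sylow 2 Y, PhiAb S

/-- A 2-subgroup is isomorphic to its image modulo a normal subgroup of odd order. -/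
theorem exists_equiv_map {K Y : Type*} [Group K] [Group Y] (f : K →* Y) (hp : Odd (Nat.card f.ker)) {S : Subgroup K}
    (hS : IsPGroup 2 S) : Nonempty (S ≃* S.map f) := by
  refine ⟨MulEquiv.ofBijective (f.subgroupMap S) ⟨?_, f.subgroupMap_surjective S⟩⟩
  rw [injective_iff_map_eq_one]
  rintro ⟨x, hx⟩ h1
  have h2 : x ∈ f.ker := congrArg Subtype.val h1
  obtain ⟨k, hk⟩ := hS ⟨x, hx⟩
  have hk' : x ^ 2 ^ k = 1 := congrArg Subtype.val hk
  have h3 : x ^ Nat.card f.ker = 1 := by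
    have h4 : (⟨x, h2⟩ : f.ker) ^ Nat.card f.ker = 1 := pow_card_eq_one'
    exact congrArg Subtype.val h4
  have h5 : orderOf x ∣ 1 := by
    have hc : (Nat.card f.ker).Coprime (2 ^ k) := Nat.Coprime.pow_right k (Nat.coprime_two_right.2 hp)
    rw [← hc]
    exact Nat.dvd_gcd (orderOf_dvd_of_pow_eq_one h3) (orderOf_dvd_of_pow_eq_one hk')
  exact Subtype.ext (orderOf_eq_one_iff.1 (Nat.dvd_one.1 h5))

/-- **The K-side.** -/
theorem kSide_of (tab : KTable.{u}) (phi : KPhi.{u}) (mov : MovAll.{u}) : KSide.{u} := by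
  intro K _ _ hperf hsimple hodd hlie S Γ hT
  have : Fact (Nat.Prime 2) := ⟨Nat.prime_two⟩
  have hs : Function.Surjective (QuotientGroup.mk' (center K)) := QuotientGroup.mk'_surjective _
  have hker : (QuotientGroup.mk' (center K)).ker = center K := QuotientGroup.ker_mk' _
  have hp : Odd (Nat.card (QuotientGroup.mk' (center K)).ker) := by rw [hker]; exact hodd
  rcases tab (K ⧸ center K) hsimple hlie with h1 | h1 | h1
  · exact Or.inl (row_side mov (QuotientGroup.mk' (center K)) hker.le hp hs hperf h1 S hT)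
  · exact LTwoSide.kLTwo K hperf hodd h1 S Γ hT
  · exfalso
    obtain ⟨e⟩ := exists_equiv_map (QuotientGroup.mk' (center K)) hp S.2
    have h2 : PhiAb ((S : Subgroup K).map (QuotientGroup.mk' (center K))) := phi _ h1 (S.mapSurjective hs)
    exact false_of_tact S.2 (h2.map e.symm) hT

/-- The groups `L₂(q)` (helper578). -/
def KLTwoX : Prop :=
  ∀ (K : Type u) [Group K] [Finite K], commutator K = ⊤ → Odd (Nat.card (center K)) → IsLTwo (K ⧸ center K) →
    ∀ (S : Sylow 2 K) (T : Subgroup (MulAut K)), TAct (S : Subgroup K) T →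
      (∃ (J : Type) (_ : Finite J) (P : J → Subgroup K) (m : J → J → ℕ), KSys (S : Subgroup K) T P m ∧
        Opp (normalizer ((S : Subgroup K) : Set K)) (S : Subgroup K) P ∧ OneL K J) ∨
        KExc K (S : Subgroup K) T

/-- **The K-side, with `Opp` and `OneL`.** -/
theorem kSideX_of (tab : KTable.{u}) (phi : KPhi.{u}) (mov : MovAll.{u}) (ltwo : KLTwoX.{u}) : KSideX.{u} := by
  intro K _ _ hperf hsimple hodd hlie S Γ hT
  have : Fact (Nat.Prime 2) := ⟨Nat.prime_two⟩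
  have hs : Function.Surjective (QuotientGroup.mk' (center K)) := QuotientGroup.mk'_surjective _
  have hker : (QuotientGroup.mk' (center K)).ker = center K := QuotientGroup.ker_mk' _
  have hp : Odd (Nat.card (QuotientGroup.mk' (center K)).ker) := by rw [hker]; exact hodd
  rcases tab (K ⧸ center K) hsimple hlie with h1 | h1 | h1
  · exact Or.inl (row_sideX mov (QuotientGroup.mk' (center K)) hker.le hp hs hperf h1 S hT)
  · exact ltwo K hperf hodd h1 S Γ hT
  · exfalso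
    obtain ⟨e⟩ := exists_equiv_map (QuotientGroup.mk' (center K)) hp S.2
    have h2 : PhiAb ((S : Subgroup K).map (QuotientGroup.mk' (center K))) := phi _ h1 (S.mapSurjective hs)
    exact false_of_tact S.2 (h2.map e.symm) hT

end Cfsg.Agent.Omega.Lie.End

end

section


/-!
# The K-side: a root group datum on the component on which `T` acts diagonally, centralising the torus

* `KDiag S Γ` : a root group datum of `K` with `U = S`, `Γ` diagonal and trivial on the torus;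
* `core` : for a group with a root group datum, `Γ` in the frame group;
* `kdiag_of` : for a perfect central extension of odd degree;
* `kDiag_all` : `KTable`, `KPhi` and `TAct` imply `KDiag` or `KExc`.
-/

set_option autoImplicit false
set_option linter.unusedSectionVars false

namespace Cfsg.Agent.Omega.CR

open Subgroup CoxeterSystem Cfsg.Agent.ChevalleyStructure.CoxeterGeom Cfsg.Agent.Tits.Roots Cfsg.Agent.Tits.Core
  Cfsg.Agent.Tits.RootComb Cfsg.Agent.Nodes.Comb Cfsg.Agent.Nodes.Reps Cfsg.Agent.Nodes.BNOf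
  Cfsg.Agent.Nodes.Bruhat Cfsg.Agent.Nodes.StabComb Cfsg.Agent.Nodes.LeviDec Cfsg.Agent.Nodes.RGDLift
  Cfsg.Agent.KFacts.RgdAut Cfsg.Agent.KFacts.RgdDiag Cfsg.Agent.KFacts.RgdRigid Cfsg.Agent.KFacts.RgdCharP
  Cfsg.Agent.Omega.Lie.End Cfsg.Agent.Omega.Lie.End.Mov Cfsg.Agent.Omega.Lie.End.KTrFree

/-- **The root group datum of a component with the diagonal action.** -/
def KDiag {K : Type*} [Group K] (S : Subgroup K) (Γ : Subgroup (MulAut K)) : Prop :=
  ∃ (l : ℕ) (M : CoxeterMatrix (Fin l)) (A : Fin l → Fin l → ℤ) (h : IsCartan M A) (T : Subgroup K) (n : Fin l → K)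
    (X : (Fin l → ℤ) → Subgroup K), Finite M.Group ∧ Conn M ∧ RGD M.toCoxeterSystem h 2 T n X ∧
      RGD.Sup X {x | IsRoot M.toCoxeterSystem h x} = ⊤ ∧ RGD.Sup X (RGD.Pos M.toCoxeterSystem h) = S ∧
      ∀ γ ∈ Γ, Diag T X γ 1 ∧ ∀ t ∈ T, γ t = t

section core

variable {I W Y : Type*} [Fintype I] [DecidableEq I] [Group W] [Group Y] {M : CoxeterMatrix I}
  {cs : CoxeterSystem M W} {A : I → I → ℤ} {h : IsCartan M A} {T : Subgroup Y} {n : I → Y}
  {X : (I → ℤ) → Subgroup Y}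

/-- all positive roots are `sr i` if there is only one node -/
theorem U_one {i : I} (hi : ∀ j, j = i) : RGD.Sup X (RGD.Pos cs h) ≤ X (sr i) := by
  refine RGD.Sup_le fun x hx => ?_
  have h1 : x = sr i := hx.1.eq_sr hx.2 i fun k hk => absurd (hi k) hk
  rw [h1]

/-- **The action is diagonal and centralises the torus.** -/
theorem core [Finite W] [Finite Y] (R : RGD cs h 2 T n X) (hG1 : RGD.Sup X {x | IsRoot cs h x} = ⊤) (hc : Conn M)
    (hab : ∀ s ∈ T, ∀ t ∈ T, ∀ x : Y, (s * t) * x * (s * t)⁻¹ = (t * s) * x * (t * s)⁻¹)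
    (htr : ∀ i, (∀ x ∈ X (sr i), x * x = 1) → ∀ x ∈ X (sr i), ∀ y ∈ X (sr i), x ≠ 1 → y ≠ 1 →
      ∃ t ∈ T, t ∈ X (sr i) ⊔ X (-sr i) ∧ t * x * t⁻¹ = y)
    {Γ : Subgroup (MulAut Y)} (hT : TAct (RGD.Sup X (RGD.Pos cs h)) Γ) (hF : ∀ γ ∈ Γ, γ ∈ Frame cs h X)
    (hone : (∃ i : I, ∀ j, j = i) → RGD.Sup X (RGD.Pos cs h) ≤ AT (RGD.Sup X (RGD.Pos cs h)) Γ) :
    ∀ γ ∈ Γ, Diag T X γ 1 ∧ ∀ t ∈ T, γ t = t := by
  have H := Act.of_tact hF hT
  have hsqA : ∀ a ∈ AA (RGD.Sup X (RGD.Pos cs h)) Γ, a * a = 1 := by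
    rw [← Mov.AT_eq]
    exact hT.sq
  -- the two cases
  have key : (∀ i, ∀ x ∈ X (sr i), x * x = 1) ∧
      ∀ i, Mv X Γ i → X (sr i) ≤ AA (RGD.Sup X (RGD.Pos cs h)) Γ := by
    by_cases h2 : ∀ i : I, ∃ j, j ≠ i
    · exact ⟨fun i x hx => H.el R hG1 hc h2 hsqA hx, fun i hi => H.le_AA R hG1 hc h2 hi⟩
    · push Not at h2
      obtain ⟨i₀, hi₀⟩ := h2
      have h3 := hone ⟨i₀, hi₀⟩
      have h4 : ∀ i, X (sr i) ≤ AA (RGD.Sup X (RGD.Pos cs h)) Γ := by
        intro i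
        rw [← Mov.AT_eq]
        exact (RGD.le_Sup (S := RGD.Pos cs h) ⟨isRoot_sr cs h i, sr_nonneg i⟩).trans h3
      exact ⟨fun i x hx => hsqA x (h4 i hx), fun i _ => h4 i⟩
  obtain ⟨hsq, hle⟩ := key
  have nd : ∀ i, Com.Nd T X i := fun i => ⟨hsq i, htr i (hsq i)⟩
  have hTc := Com.abelian R hG1 hab nd
  intro γ hγ
  have hD := H.diag_one R hG1 hc hγ
  refine ⟨hD, Com.com R hTc hG1 hD fun i => ?_⟩
  by_cases hγ1 : γ = 1
  · exact Or.inl fun x _ => by rw [hγ1]; rfl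
  by_cases hi : Mv X Γ i
  · right
    obtain ⟨δ, hδ, e⟩ := hT.scal γ hγ 1 (one_mem Γ) hγ1
    refine ⟨nd i, δ, H.diag_one R hG1 hc hδ, fun x hx => ?_⟩
    have h1 : x ∈ AT (RGD.Sup X (RGD.Pos cs h)) Γ := by
      rw [Mov.AT_eq]
      exact hle i hi hx
    exact e x h1
  · left
    intro x hx
    by_contra h1
    exact hi ⟨γ, hγ, x, hx, h1⟩

end core

section lift

variable {l : ℕ} {M : CoxeterMatrix (Fin l)} {A : Fin l → Fin l → ℤ} {h : IsCartan M A}

/-- conjugation of the data by an element of `S` -/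
theorem KDiag.conj {K : Type*} [Group K] {S : Subgroup K} {Γ : Subgroup (MulAut K)} {v : K} (hv : v ∈ S)
    (hk : KDiag S (cG v Γ)) : KDiag S Γ := by
  obtain ⟨l, M, A, h, T, n, X, hW, hc, R, hG1, hU, hD⟩ := hk
  have hinj : Function.Injective (MulAut.conj v⁻¹).toMonoidHom := (MulAut.conj v⁻¹).injective
  have hmem : ∀ (P : Subgroup K) (y : K), y ∈ P.map (MulAut.conj v⁻¹).toMonoidHom ↔ v * y * v⁻¹ ∈ P := by
    intro P y
    constructor
    · rintro ⟨x, hx, rfl⟩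
      have e : v * ((MulAut.conj v⁻¹).toMonoidHom x) * v⁻¹ = x := by
        show v * (v⁻¹ * x * v⁻¹⁻¹) * v⁻¹ = x
        group
      rw [e]; exact hx
    · intro hy
      refine ⟨_, hy, ?_⟩
      show v⁻¹ * (v * y * v⁻¹) * v⁻¹⁻¹ = y
      group
  have hSup : ∀ S' : Set (Fin l → ℤ), RGD.Sup (fun x => (X x).map (MulAut.conj v⁻¹).toMonoidHom) S' =
      (RGD.Sup X S').map (MulAut.conj v⁻¹).toMonoidHom := by
    intro S'
    unfold RGD.Sup
    rw [Subgroup.map_iSup]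
  refine ⟨l, M, A, h, T.map (MulAut.conj v⁻¹).toMonoidHom, fun i => (MulAut.conj v⁻¹).toMonoidHom (n i),
    fun x => (X x).map (MulAut.conj v⁻¹).toMonoidHom, hW, hc, Nodes.RGDLib.rgd_map_of_injective R _ hinj, ?_, ?_, ?_⟩
  · rw [hSup, hG1, ← MonoidHom.range_eq_map, MonoidHom.range_eq_top]
    exact (MulAut.conj v⁻¹).surjective
  · rw [hSup, hU]
    ext y
    rw [hmem]
    constructor
    · intro hy
      have e : y = v⁻¹ * (v * y * v⁻¹) * v := by group
      rw [e]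
      exact mul_mem (mul_mem (inv_mem hv) hy) hv
    · intro hy
      exact mul_mem (mul_mem hv hy) (inv_mem hv)
  · intro γ hγ
    obtain ⟨D, hDt⟩ := hD (MulAut.conj v * γ * (MulAut.conj v)⁻¹) ⟨γ, hγ, rfl⟩
    have key : ∀ y, (MulAut.conj v * γ * (MulAut.conj v)⁻¹) (v * y * v⁻¹) = v * γ y * v⁻¹ := by
      intro y
      rw [cG_apply]
      congr 3
      group
    refine ⟨⟨fun y => ?_, fun i y => ?_, fun i y => ?_⟩, fun t ht => ?_⟩
    · rw [hmem, hmem, ← key, D.tor]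
    · rw [hmem, hmem, ← key, D.pos]
    · rw [hmem, hmem, ← key, D.neg]
    · have h1 := hDt _ ((hmem T t).1 ht)
      rw [key] at h1
      exact mul_left_cancel (mul_right_cancel h1)

universe u

/-- **Perfect central extensions of odd degree.** -/
theorem kdiag_of {K : Type u} [Group K] [Finite K] {Y : Type u} [Group Y] [Finite Y] (f : K →* Y)
    (hf : f.ker ≤ center K) (hp : Odd (Nat.card f.ker)) (hs : Function.Surjective f) (hperf : commutator K = ⊤)
    {T : Subgroup Y} {n : Fin l → Y} {X : (Fin l → ℤ) → Subgroup Y} (hW : Finite M.Group) (hc : Conn M)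
    (R : RGD M.toCoxeterSystem h 2 T n X) (hG1 : RGD.Sup X {x | IsRoot M.toCoxeterSystem h x} = ⊤)
    (hTc : ∀ s ∈ T, ∀ t ∈ T, s * t = t * s) (S : Sylow 2 K) {Γ : Subgroup (MulAut K)}
    (hT : TAct (S : Subgroup K) Γ) (hone : (∃ i : Fin l, ∀ j, j = i) → (S : Subgroup K) ≤ AT (S : Subgroup K) Γ) :
    KDiag (S : Subgroup K) Γ := by
  have : Fact (Nat.Prime 2) := ⟨Nat.prime_two⟩
  set cs := M.toCoxeterSystem with hcs
  -- `U` is a Sylow subgroup of `Y`
  let Q : Sylow 2 Y :=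
    { toSubgroup := RGD.Sup X (RGD.Pos cs h)
      isPGroup' := R.isPGroup_Upos
      is_maximal' := fun {P} hP hUP => by
        have hG : GG cs h T X = ⊤ := Cfsg.Agent.KFacts.RgdRigid.GG_eq_top hG1
        exact Cfsg.Agent.KFacts.RgdEx.eq_U R hUP (by rw [hG]; exact le_top) hP }
  obtain ⟨g, hg⟩ := MulAction.exists_smul_eq Y (S.mapSurjective hs) Q
  -- adjust `f`
  obtain ⟨f', hf'⟩ : ∃ f' : K →* Y, ∀ x, f' x = g * f x * g⁻¹ :=
    ⟨(MulAut.conj g).toMonoidHom.comp f, fun x => rfl⟩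
  have hker : f'.ker = f.ker := by
    ext x
    rw [MonoidHom.mem_ker, MonoidHom.mem_ker, hf']
    constructor
    · intro e
      have e1 : g⁻¹ * (g * f x * g⁻¹) * g = f x := by group
      rw [← e1, e]; group
    · intro e
      rw [e]; group
  have hf1 : f'.ker ≤ center K := by rw [hker]; exact hf
  have hp1 : (Nat.card f'.ker).Coprime 2 := by rw [hker]; exact Nat.coprime_two_right.2 hp
  have hs1 : Function.Surjective f' := by
    intro y
    obtain ⟨x, hx⟩ := hs (g⁻¹ * y * g)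
    exact ⟨x, by rw [hf', hx]; group⟩
  have hSmap : (S : Subgroup K).map f' = RGD.Sup X (RGD.Pos cs h) := by
    have h1 : ((g • S.mapSurjective hs : Sylow 2 Y) : Subgroup Y) = RGD.Sup X (RGD.Pos cs h) := by
      rw [hg]
    rw [← h1]
    ext y
    constructor
    · rintro ⟨x, hx, rfl⟩
      rw [hf']
      exact ⟨f x, ⟨x, hx, rfl⟩, rfl⟩
    · rintro ⟨_, ⟨x, hx, rfl⟩, rfl⟩
      exact ⟨x, hx, hf' x⟩
  -- the lifted root group datum
  choose n' hn' using fun i => hs1 (n i)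
  have R' := rgd_lift hf1 hp1 hs1 R hn'
  set T' := T.comap f' with hT'
  set X' : (Fin l → ℤ) → Subgroup K := fun x => lft 2 f' (X x) with hX'
  have hU : RGD.Sup X' (RGD.Pos cs h) = (S : Subgroup K) := by
    have h1 : lft 2 f' (RGD.Sup X (RGD.Pos cs h)) = RGD.Sup X' (RGD.Pos cs h) :=
      lft_iSup hf1 hp1 hs1 _ R.isPGroup_Upos
    rw [← h1]
    exact (eq_lft hf1 hp1 R.isPGroup_Upos S.2 hSmap).symm
  have hG1' : RGD.Sup X' {x | IsRoot cs h x} = ⊤ := by
    refine eq_top_of_map hf1 hperf ?_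
    rw [eq_top_iff, ← hG1]
    refine RGD.Sup_le fun x hx => ?_
    rw [← map_lft hf1 hp1 hs1 (R.pgrp' hx)]
    exact Subgroup.map_mono (RGD.le_Sup (X := X') (S := {x | IsRoot cs h x}) hx)
  -- transitivity
  have hab : ∀ s ∈ T', ∀ t ∈ T', ∀ x : K, (s * t) * x * (s * t)⁻¹ = (t * s) * x * (t * s)⁻¹ := by
    intro s hs' t ht' x
    have h1 : (t * s)⁻¹ * (s * t) ∈ f'.ker := by
      rw [MonoidHom.mem_ker, map_mul, map_inv, map_mul, map_mul, hTc _ hs' _ ht', inv_mul_cancel]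
    have h2 := Subgroup.mem_center_iff.1 (hf1 h1) x
    have e : s * t = t * s * ((t * s)⁻¹ * (s * t)) := by group
    obtain ⟨z, hz⟩ : ∃ z, z = (t * s)⁻¹ * (s * t) := ⟨_, rfl⟩
    rw [← hz] at h2 e
    rw [e]
    calc t * s * z * x * (t * s * z)⁻¹ = t * s * (z * x) * z⁻¹ * (t * s)⁻¹ := by group
      _ = t * s * (x * z) * z⁻¹ * (t * s)⁻¹ := by rw [h2]
      _ = _ := by group
  have htr : ∀ i, (∀ x ∈ X' (sr i), x * x = 1) → ∀ x ∈ X' (sr i), ∀ y ∈ X' (sr i), x ≠ 1 → y ≠ 1 →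
      ∃ t ∈ T', t ∈ X' (sr i) ⊔ X' (-sr i) ∧ t * x * t⁻¹ = y := by
    intro i hsq x hx y hy hx1 hy1
    have hri : IsRoot cs h (sr i) := isRoot_sr cs h i
    have hsqY := sq_of_lft hf1 hp1 hs1 (R.pgrp i) hsq
    have hxX : f' x ∈ X (sr i) := ((mem_lft hf1 (R.pgrp i)).1 hx).1
    have hyX : f' y ∈ X (sr i) := ((mem_lft hf1 (R.pgrp i)).1 hy).1
    obtain ⟨t, ht, htL, e⟩ := (one_of_rgd R hTc hsqY).tr hxX
      (fun e => hx1 (eq_one_of_mem_lft hf1 hp1 (R.pgrp i) hx e)) hyX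
      (fun e => hy1 (eq_one_of_mem_lft hf1 hp1 (R.pgrp i) hy e))
    have htL' : t ∈ (X' (sr i) ⊔ X' (-sr i)).map f' := by
      rw [Subgroup.map_sup]
      have e1 : (X' (sr i)).map f' = X (sr i) := map_lft hf1 hp1 hs1 (R.pgrp i)
      have e2 : (X' (-sr i)).map f' = X (-sr i) := map_lft hf1 hp1 hs1 (R.pgrp' hri.neg)
      rw [e1, e2]
      exact htL
    obtain ⟨t', ht'L, rfl⟩ := htL'
    have ht'T : t' ∈ T' := ht
    refine ⟨t', ht'T, ht'L, ?_⟩
    refine lft_inj hf1 hp1 (R.pgrp i) (Com.TX R' hri ht'T hx) hy ?_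
    rw [map_mul, map_mul, map_inv, e]
  -- the action
  rw [← hU] at hT hone ⊢
  have hGG : GG cs h T' X' = ⊤ := Cfsg.Agent.KFacts.RgdRigid.GG_eq_top hG1'
  obtain ⟨v, hv, hvF⟩ := exists_conj_frame R' hGG hT.odd hT.comm (fun γ hγ x => by
    refine ⟨fun h3 => ?_, hT.stab γ hγ x⟩
    have h4 := hT.stab γ⁻¹ (inv_mem hγ) _ h3
    rwa [MulAut.inv_apply_self] at h4)
  have hT1 := hT.cG hv
  have hF : ∀ γ ∈ cG v Γ, γ ∈ Frame cs h X' := by
    rintro _ ⟨γ, hγ, rfl⟩
    exact hvF γ hγ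
  refine KDiag.conj hv ⟨l, M, A, h, T', n', X', hW, hc, R', hG1', rfl, ?_⟩
  refine core R' hG1' hc hab htr hT1 hF fun h1 => ?_
  intro u hu
  rw [AT_cG_iff hv]
  exact hone h1 (mul_mem (mul_mem (inv_mem hv) hu) hv)

end lift

end Cfsg.Agent.Omega.CR

end

section


/-!
# Curtis–Richen, part 1: the operator `σ A = ∑_{a ∈ A} ρ a`, fixed vectors, eigenvectors
-/

set_option autoImplicit false

namespace Cfsg.Agent.Omega.CR

open Subgroup

variable {Y k V : Type*} [Group Y] [Finite Y] [Field k] [AddCommGroup V] [Module k V]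
  (ρ : Y →* Module.End k V)

theorem rho_mul {Y k V : Type*} [Group Y] [Field k] [AddCommGroup V] [Module k V]
    (ρ : Y →* Module.End k V) (g h : Y) (v : V) : ρ (g * h) v = ρ g (ρ h v) := by
  rw [map_mul]; rfl

theorem rho_one {Y k V : Type*} [Group Y] [Field k] [AddCommGroup V] [Module k V]
    (ρ : Y →* Module.End k V) (v : V) : ρ 1 v = v := by
  rw [map_one]; rfl

theorem rho_inv_rho {Y k V : Type*} [Group Y] [Field k] [AddCommGroup V] [Module k V]
    (ρ : Y →* Module.End k V) (g : Y) (v : V) : ρ g⁻¹ (ρ g v) = v := by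
  rw [← rho_mul, inv_mul_cancel, rho_one]

theorem rho_rho_inv {Y k V : Type*} [Group Y] [Field k] [AddCommGroup V] [Module k V]
    (ρ : Y →* Module.End k V) (g : Y) (v : V) : ρ g (ρ g⁻¹ v) = v := by
  rw [← rho_mul, mul_inv_cancel, rho_one]

theorem rho_ne_zero {Y k V : Type*} [Group Y] [Field k] [AddCommGroup V] [Module k V]
    (ρ : Y →* Module.End k V) (g : Y) {v : V} (hv : v ≠ 0) : ρ g v ≠ 0 := by
  intro h
  apply hv
  rw [← rho_inv_rho ρ g v, h, map_zero]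

/-- `∑_{a ∈ A} ρ a` -/
noncomputable def sg (A : Subgroup Y) : Module.End k V :=
  letI := Fintype.ofFinite A
  ∑ a : A, ρ (a : Y)

theorem sg_def (A : Subgroup Y) [Fintype A] (v : V) : sg ρ A v = ∑ a : A, ρ (a : Y) v := by
  unfold sg
  rw [LinearMap.sum_apply]
  exact Finset.sum_congr (by ext; simp) fun _ _ => rfl

theorem sg_bot (v : V) : sg ρ (⊥ : Subgroup Y) v = v := by
  classical
  let _ : Fintype (⊥ : Subgroup Y) := Fintype.ofFinite _
  rw [sg_def]
  rw [Finset.sum_eq_single (1 : (⊥ : Subgroup Y))]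
  · rw [Subgroup.coe_one, rho_one]
  · intro b _ hb
    exact absurd (Subtype.ext (Subgroup.mem_bot.1 b.2)) hb
  · intro h
    exact absurd (Finset.mem_univ _) h

theorem rho_sg_of_mem (A : Subgroup Y) {a : Y} (ha : a ∈ A) (v : V) :
    ρ a (sg ρ A v) = sg ρ A v := by
  classical
  let _ := Fintype.ofFinite A
  rw [sg_def, map_sum]
  refine Fintype.sum_equiv (Equiv.mulLeft (⟨a, ha⟩ : A)) _ _ fun b => ?_
  rw [← rho_mul]
  rfl

theorem sg_rho_of_mem (A : Subgroup Y) {a : Y} (ha : a ∈ A) (v : V) :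
    sg ρ A (ρ a v) = sg ρ A v := by
  classical
  let _ := Fintype.ofFinite A
  rw [sg_def, sg_def]
  refine Fintype.sum_equiv (Equiv.mulRight (⟨a, ha⟩ : A)) _ _ fun b => ?_
  rw [← rho_mul]
  rfl

/-- conjugation -/
theorem rho_sg (A : Subgroup Y) (g : Y) (v : V) :
    ρ g (sg ρ A v) = sg ρ (A.map (MulAut.conj g).toMonoidHom) (ρ g v) := by
  classical
  let _ := Fintype.ofFinite A
  let _ := Fintype.ofFinite (A.map (MulAut.conj g).toMonoidHom)
  rw [sg_def, sg_def, map_sum]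
  refine Fintype.sum_bijective
    (fun a : A => (⟨g * a * g⁻¹, ⟨a, a.2, rfl⟩⟩ : A.map (MulAut.conj g).toMonoidHom))
    ⟨?_, ?_⟩ _ _ ?_
  · intro a b h
    have h1 : g * (a : Y) * g⁻¹ = g * (b : Y) * g⁻¹ := congrArg Subtype.val h
    apply Subtype.ext
    exact mul_left_cancel (mul_right_cancel h1)
  · rintro ⟨_, a, ha, rfl⟩
    exact ⟨⟨a, ha⟩, rfl⟩
  · intro a
    change ρ g (ρ (a : Y) v) = ρ (g * a * g⁻¹) (ρ g v)
    rw [← rho_mul, ← rho_mul]
    congr 2
    group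

/-- product decomposition -/
theorem sg_mul {A B C : Subgroup Y} (hB : B ≤ A) (hC : C ≤ A) (hBC : B ⊓ C = ⊥)
    (hA : ∀ a ∈ A, ∃ b ∈ B, ∃ c ∈ C, a = b * c) (v : V) :
    sg ρ A v = sg ρ B (sg ρ C v) := by
  classical
  let _ := Fintype.ofFinite A
  let _ := Fintype.ofFinite B
  let _ := Fintype.ofFinite C
  rw [sg_def ρ A, sg_def ρ B, sg_def ρ C]
  simp only [map_sum]
  rw [← Fintype.sum_prod_type' (f := fun (b : B) (c : C) => ρ (b : Y) (ρ (c : Y) v))]
  symm
  refine Fintype.sum_bijective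
    (fun x : B × C => (⟨x.1 * x.2, mul_mem (hB x.1.2) (hC x.2.2)⟩ : A)) ⟨?_, ?_⟩ _ _ ?_
  · rintro ⟨b, c⟩ ⟨b', c'⟩ h
    have h1 : (b : Y) * c = b' * c' := congrArg Subtype.val h
    have h2 : (b' : Y)⁻¹ * b = c' * (c : Y)⁻¹ := by
      rw [inv_mul_eq_iff_eq_mul, ← mul_assoc, ← h1]; group
    have h3 : (b' : Y)⁻¹ * b ∈ B ⊓ C :=
      ⟨B.mul_mem (B.inv_mem b'.2) b.2, by rw [h2]; exact C.mul_mem c'.2 (C.inv_mem c.2)⟩
    rw [hBC, Subgroup.mem_bot] at h3
    have h4 : (b : Y) = b' := by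
      rw [inv_mul_eq_one] at h3; exact h3.symm
    have h5 : (c : Y) = c' := by
      rw [h4] at h1; exact mul_left_cancel h1
    exact Prod.ext (Subtype.ext h4) (Subtype.ext h5)
  · rintro ⟨a, ha⟩
    obtain ⟨b, hb, c, hc, e⟩ := hA a ha
    exact ⟨(⟨b, hb⟩, ⟨c, hc⟩), Subtype.ext e.symm⟩
  · intro x
    rw [← rho_mul]

/-- fixed vectors are killed when `p ∣ |A|` -/
theorem sg_fixed {p : ℕ} [CharP k p] {A : Subgroup Y} (hp : p ∣ Nat.card A) {v : V}
    (hv : ∀ a ∈ A, ρ a v = v) : sg ρ A v = 0 := by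
  classical
  let _ := Fintype.ofFinite A
  rw [sg_def, Finset.sum_congr rfl fun (a : A) _ => hv a a.2, Finset.sum_const, Finset.card_univ,
    ← Nat.cast_smul_eq_nsmul k, ← Nat.card_eq_fintype_card, (CharP.cast_eq_zero_iff k p _).2 hp,
    zero_smul]

/-- a `p`-group has a nonzero fixed vector in a nonzero invariant subspace, characteristic `p` -/
theorem exists_fixed {p : ℕ} [Fact p.Prime] [CharP k p] {A : Subgroup Y} (hA : IsPGroup p A)
    (N : Submodule k V) (hN : ∀ a ∈ A, ∀ v ∈ N, ρ a v ∈ N) (hN0 : N ≠ ⊥) :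
    ∃ v ∈ N, v ≠ 0 ∧ ∀ a ∈ A, ρ a v = v := by
  classical
  obtain ⟨v₀, hv₀, hv0⟩ := (Submodule.ne_bot_iff N).1 hN0
  -- the additive group generated by the orbit
  let S : AddSubgroup V := AddSubgroup.closure (Set.range fun a : A => ρ (a : Y) v₀)
  have hS : ∀ a ∈ A, ∀ v ∈ S, ρ a v ∈ S := by
    intro a ha v hv
    induction hv using AddSubgroup.closure_induction with
    | mem x hx =>
      obtain ⟨b, rfl⟩ := hx
      change ρ a (ρ (b : Y) v₀) ∈ S
      rw [← rho_mul]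
      exact AddSubgroup.subset_closure ⟨⟨a, ha⟩ * b, rfl⟩
    | zero => rw [map_zero]; exact zero_mem _
    | add x y _ _ hx hy => rw [map_add]; exact add_mem hx hy
    | neg x _ hx => rw [map_neg]; exact neg_mem hx
  have hSN : ∀ v ∈ S, v ∈ N := by
    intro v hv
    have : S ≤ N.toAddSubgroup := by
      rw [AddSubgroup.closure_le]
      rintro _ ⟨a, rfl⟩
      exact hN a a.2 v₀ hv₀
    exact this hv
  have hfin : Finite S := by
    have hp : ∀ x : V, p • x = 0 := by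
      intro x
      rw [← Nat.cast_smul_eq_nsmul k, CharP.cast_eq_zero, zero_smul]
    have hp' : ∀ x ∈ Set.range (fun a : A => ρ (a : Y) v₀), IsOfFinAddOrder x := by
      intro x _
      exact isOfFinAddOrder_iff_nsmul_eq_zero.2 ⟨p, (Fact.out : p.Prime).pos, hp x⟩
    let _ : Module (ZMod p) V := AddCommGroup.zmodModule (n := p) hp
    have h1 : (S : Set V) ⊆ (Submodule.span (ZMod p) (Set.range fun a : A => ρ (a : Y) v₀) : Set V) := by
      have : S ≤ (Submodule.span (ZMod p) (Set.range fun a : A => ρ (a : Y) v₀)).toAddSubgroup := by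
        rw [AddSubgroup.closure_le]
        exact Submodule.subset_span
      exact this
    have h2 : Module.Finite (ZMod p)
        (Submodule.span (ZMod p) (Set.range fun a : A => ρ (a : Y) v₀)) :=
      Module.Finite.span_of_finite _ (Set.finite_range _)
    have h3 : Finite (Submodule.span (ZMod p) (Set.range fun a : A => ρ (a : Y) v₀)) :=
      Module.finite_of_finite (ZMod p)
    exact Set.Finite.subset (Set.toFinite _) h1
  let _ : MulAction A S :=
    { smul := fun a v => ⟨ρ (a : Y) v, hS a a.2 v v.2⟩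
      one_smul := fun v => Subtype.ext (rho_one ρ _)
      mul_smul := fun a b v => Subtype.ext (rho_mul ρ _ _ _) }
  have hsm : ∀ (a : A) (v : S), ((a • v : S) : V) = ρ (a : Y) v := fun _ _ => rfl
  have hcard : p ∣ Nat.card S := by
    have h1 : (⟨ρ ((1 : A) : Y) v₀, AddSubgroup.subset_closure ⟨1, rfl⟩⟩ : S) ≠ 0 := by
      intro h
      have h2 : ρ ((1 : A) : Y) v₀ = 0 := congrArg Subtype.val h
      rw [Subgroup.coe_one, rho_one] at h2
      exact hv0 h2
    have h2 : addOrderOf (⟨ρ ((1 : A) : Y) v₀, AddSubgroup.subset_closure ⟨1, rfl⟩⟩ : S) = p := by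
      apply addOrderOf_eq_prime _ h1
      apply Subtype.ext
      change p • (ρ ((1 : A) : Y) v₀) = 0
      rw [← Nat.cast_smul_eq_nsmul k, CharP.cast_eq_zero, zero_smul]
    rw [← h2]
    exact addOrderOf_dvd_natCard _
  have hmod := hA.card_modEq_card_fixedPoints (α := S)
  have hdvd : p ∣ Nat.card (MulAction.fixedPoints A S) :=
    (Nat.modEq_zero_iff_dvd.1 ((hmod.symm.trans (Nat.modEq_zero_iff_dvd.2 hcard))))
  have h0 : (0 : S) ∈ MulAction.fixedPoints A S := by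
    intro a
    exact Subtype.ext (map_zero _)
  have h1 : 1 < Nat.card (MulAction.fixedPoints A S) := by
    have : 0 < Nat.card (MulAction.fixedPoints A S) :=
      Nat.card_pos_iff.2 ⟨⟨⟨0, h0⟩⟩, inferInstance⟩
    exact lt_of_lt_of_le (Fact.out : p.Prime).one_lt (Nat.le_of_dvd this hdvd)
  rw [Finite.one_lt_card_iff_nontrivial] at h1
  obtain ⟨⟨w, hw⟩, hne⟩ := exists_ne (⟨0, h0⟩ : MulAction.fixedPoints A S)
  refine ⟨w, hSN _ w.2, ?_, ?_⟩
  · intro h
    apply hne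
    apply Subtype.ext
    exact Subtype.ext h
  · intro a ha
    have := hw ⟨a, ha⟩
    exact congrArg Subtype.val this

omit [Finite Y] in
/-- a commuting family has a common eigenvector -/
theorem exists_eigen [IsAlgClosed k] [FiniteDimensional k V] {T : Subgroup Y}
    (hT : ∀ s ∈ T, ∀ t ∈ T, ∀ v, ρ s (ρ t v) = ρ t (ρ s v)) (N : Submodule k V)
    (hN : ∀ t ∈ T, ∀ v ∈ N, ρ t v ∈ N) (hN0 : N ≠ ⊥) :
    ∃ v ∈ N, v ≠ 0 ∧ ∃ χ : Y → k, ∀ t ∈ T, ρ t v = χ t • v := by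
  classical
  -- a minimal nonzero T-stable subspace
  obtain ⟨L, ⟨hLN, hL0, hL⟩, hmin⟩ := (wellFounded_lt (α := Submodule k V)).has_min
    {L : Submodule k V | L ≤ N ∧ L ≠ ⊥ ∧ ∀ t ∈ T, ∀ v ∈ L, ρ t v ∈ L} ⟨N, le_rfl, hN0, hN⟩
  have key : ∀ t ∈ T, ∃ c : k, ∀ v ∈ L, ρ t v = c • v := by
    intro t ht
    have : Nontrivial L := (Submodule.nontrivial_iff_ne_bot).2 hL0
    let f : Module.End k L := (ρ t).restrict (hL t ht)
    obtain ⟨c, hc⟩ := Module.End.exists_eigenvalue f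
    let L' : Submodule k V := (Module.End.eigenspace f c).map L.subtype
    have hL'1 : L' ≤ L := by
      rintro _ ⟨x, -, rfl⟩
      exact x.2
    have hmem : ∀ v, v ∈ L' ↔ v ∈ L ∧ ρ t v = c • v := by
      intro v
      constructor
      · rintro ⟨x, hx, rfl⟩
        refine ⟨x.2, ?_⟩
        have := Module.End.mem_eigenspace_iff.1 hx
        exact congrArg Subtype.val this
      · rintro ⟨hv, he⟩
        exact ⟨⟨v, hv⟩, Module.End.mem_eigenspace_iff.2 (Subtype.ext he), rfl⟩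
    have hL'0 : L' ≠ ⊥ := by
      obtain ⟨x, hx⟩ := hc.exists_hasEigenvector
      intro h
      have h1 : (x : V) ∈ L' := ⟨x, hx.1, rfl⟩
      rw [h, Submodule.mem_bot] at h1
      exact hx.2 (Subtype.ext h1)
    have hL'2 : ∀ s ∈ T, ∀ v ∈ L', ρ s v ∈ L' := by
      intro s hs v hv
      rw [hmem] at hv ⊢
      refine ⟨hL s hs v hv.1, ?_⟩
      rw [hT t ht s hs, hv.2, map_smul]
    have : L' = L := by
      by_contra hne
      exact hmin L' ⟨hL'1.trans hLN, hL'0, hL'2⟩ (lt_of_le_of_ne hL'1 hne)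
    refine ⟨c, fun v hv => ?_⟩
    rw [← this, hmem] at hv
    exact hv.2
  choose! c hc using key
  obtain ⟨v, hv, hv0⟩ := (Submodule.ne_bot_iff L).1 hL0
  exact ⟨v, hLN hv, hv0, c, fun t ht => hc t ht v hv⟩

end Cfsg.Agent.Omega.CR

end

section


/-!
# The theorem of Curtis and Richen for root group data, part 2: the operators `T_w`

`R : RGD cs h p T n X`, `ρ : Y →* End V`, `V` a vector space over a field `k` of characteristic `p` (any field, e.g. `F_p`).

* `Simp ρ T N` : `N` is a simple `T`-invariant subspace;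
* `Ti` : the operator `T_i = (∑_{x ∈ X_i} x) n_i`, `Tk` : the operator `T_w`;
* `exists_simul` : there is a simple `T`-invariant subspace of `V^U`, invariant under all `T_i`;
* `n_mem` : then `n_i N ⊆ k[X_{-i}] N`;
* `n_stable` : then `n_i` stabilises `k[U⁻] N`.
-/

set_option autoImplicit false
set_option linter.unusedSectionVars false

namespace Cfsg.Agent.Omega.CR

open CoxeterSystem Cfsg.Agent.ChevalleyStructure.CoxeterGeom Cfsg.Agent.Tits.Roots Cfsg.Agent.Tits.Core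
  Cfsg.Agent.Tits.Exchange Cfsg.Agent.Nodes.Reps Cfsg.Agent.Nodes.BNOf Cfsg.Agent.Nodes.StabComb
  Cfsg.Agent.Nodes.Bruhat Cfsg.Agent.Nodes.OppDec Cfsg.Agent.Nodes.LeviDec Cfsg.Agent.KFacts.RgdOpp

variable {I W Y : Type*} [Fintype I] [DecidableEq I] [Group W] [Group Y] {M : CoxeterMatrix I}
  {cs : CoxeterSystem M W} {A : I → I → ℤ} {h : IsCartan M A} {p : ℕ} {T : Subgroup Y} {n : I → Y}
  {X : (I → ℤ) → Subgroup Y}

variable (R : RGD cs h p T n X)

include R

/-! ### rank one relations -/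

theorem n_sq (i : I) : n i * n i ∈ T := by
  have := R.nsys.rel i i
  rwa [M.diagonal, pow_one] at this

theorem conj_n_T (i : I) {t : Y} (ht : t ∈ T) : n i * t * (n i)⁻¹ ∈ T :=
  (Subgroup.mem_normalizer_iff.1 (R.nsys.norm i) t).1 ht

theorem conj_n_T' (i : I) {t : Y} (ht : t ∈ T) : (n i)⁻¹ * t * n i ∈ T := by
  have h4 := (Subgroup.mem_normalizer_iff.1 (inv_mem (R.nsys.norm i)) t).1 ht
  rwa [inv_inv] at h4

theorem conj_n_X (i : I) {x : Y} (hx : x ∈ X (sr i)) : n i * x * (n i)⁻¹ ∈ X (-sr i) := by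
  have := R.conj_mem (rp_simple cs R.nsys i) (isRoot_sr cs h i) hx
  rwa [rep_simple_sr] at this

theorem conj_n_NX (i : I) {x : Y} (hx : x ∈ X (-sr i)) : n i * x * (n i)⁻¹ ∈ X (sr i) := by
  have := R.conj_mem (rp_simple cs R.nsys i) (isRoot_sr cs h i).neg hx
  rwa [map_neg, rep_simple_sr, neg_neg] at this

theorem conj_n_X' (i : I) {x : Y} (hx : x ∈ X (sr i)) : (n i)⁻¹ * x * n i ∈ X (-sr i) := by
  have := R.conj_mem' (rp_simple cs R.nsys i) (isRoot_sr cs h i) hx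
  rwa [inv_simple, rep_simple_sr] at this

theorem n_mul (i : I) {y : Y} (hy : y ∈ X (-sr i)) (hy1 : y ≠ 1) :
    ∃ y' ∈ X (-sr i), ∃ t ∈ T, ∃ b ∈ X (sr i), n i * y = y' * t * b := by
  obtain ⟨a, ha, t, ht, b, hb, e⟩ := R.rk1 i y hy hy1
  refine ⟨n i * a * (n i)⁻¹, conj_n_X R i ha, n i * t * (n i)⁻¹ * (n i * n i),
    mul_mem (conj_n_T R i ht) (n_sq R i), b, hb, ?_⟩
  rw [e]; group

theorem mul_n (i : I) {x : Y} (hx : x ∈ X (sr i)) (hx1 : x ≠ 1) :
    ∃ y ∈ X (-sr i), ∃ t ∈ T, ∃ b ∈ X (sr i), x * n i = y * t * b := by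
  have h1 : (n i)⁻¹ * x * n i ≠ 1 := by
    intro h
    apply hx1
    have : x = n i * ((n i)⁻¹ * x * n i) * (n i)⁻¹ := by group
    rw [this, h]; group
  obtain ⟨y, hy, t, ht, b, hb, e⟩ := n_mul R i (conj_n_X' R i hx) h1
  refine ⟨y, hy, t, ht, b, hb, ?_⟩
  rw [← e]; group

theorem n_mul_n (i : I) {x : Y} (hx : x ∈ X (sr i)) (hx1 : x ≠ 1) :
    ∃ a ∈ X (sr i), ∃ t ∈ T, ∃ b ∈ X (sr i), n i * x * n i = a * n i * t * b := by
  obtain ⟨y, hy, t, ht, b, hb, e⟩ := mul_n R i hx hx1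
  refine ⟨n i * y * (n i)⁻¹, conj_n_NX R i hy, t, ht, b, hb, ?_⟩
  rw [mul_assoc (n i), e]; group

/-! ### simple `T`-invariant subspaces -/

section Rep

variable {k V : Type*} [Field k] [AddCommGroup V] [Module k V] (ρ : Y →* Module.End k V)

omit R in
/-- invariance -/
def Ivt (ρ : Y →* Module.End k V) (B : Subgroup Y) (N : Submodule k V) : Prop := ∀ t ∈ B, ∀ v ∈ N, ρ t v ∈ N

omit R in
/-- the fixed vectors -/
def fx (ρ : Y →* Module.End k V) (B : Subgroup Y) : Submodule k V where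
  carrier := {v | ∀ b ∈ B, ρ b v = v}
  zero_mem' := fun b _ => map_zero _
  add_mem' := fun {x y} hx hy b hb => by rw [map_add, hx b hb, hy b hb]
  smul_mem' := fun c x hx b hb => by rw [map_smul, hx b hb]

omit R in
theorem mem_fx {B : Subgroup Y} {v : V} : v ∈ fx ρ B ↔ ∀ b ∈ B, ρ b v = v := Iff.rfl

omit R in
/-- `N` is a simple `T`-invariant subspace -/
structure Simp (ρ : Y →* Module.End k V) (T : Subgroup Y) (N : Submodule k V) : Prop where
  ne : N ≠ ⊥
  inv : Ivt ρ T N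
  simple : ∀ L ≤ N, Ivt ρ T L → L = ⊥ ∨ L = N

omit R in
theorem Simp.map {T : Subgroup Y} {N : Submodule k V} (hN : Simp ρ T N) (θ : Module.End k V)
    (h1 : ∀ t ∈ T, ∃ t' ∈ T, ∀ v ∈ N, ρ t (θ v) = θ (ρ t' v))
    (h2 : ∀ t ∈ T, ∃ t' ∈ T, ∀ v ∈ N, θ (ρ t v) = ρ t' (θ v)) (h0 : N.map θ ≠ ⊥) : Simp ρ T (N.map θ) where
  ne := h0
  inv := by
    rintro t ht _ ⟨v, hv, rfl⟩
    obtain ⟨t', ht', h3⟩ := h1 t ht
    rw [h3 v hv]
    exact ⟨_, hN.inv t' ht' v hv, rfl⟩
  simple := by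
    intro L hL hLi
    have h3 : Ivt ρ T (N ⊓ L.comap θ) := by
      rintro t ht v ⟨hv, hv'⟩
      obtain ⟨t', ht', h4⟩ := h2 t ht
      refine ⟨hN.inv t ht v hv, ?_⟩
      change θ (ρ t v) ∈ L
      rw [h4 v hv]
      exact hLi t' ht' _ hv'
    have h4 : ∀ w ∈ L, ∃ v ∈ N ⊓ L.comap θ, θ v = w := by
      intro w hw
      obtain ⟨v, hv, rfl⟩ := hL hw
      exact ⟨v, ⟨hv, hw⟩, rfl⟩
    rcases hN.simple _ inf_le_left h3 with h5 | h5
    · left
      rw [eq_bot_iff]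
      intro w hw
      obtain ⟨v, hv, rfl⟩ := h4 w hw
      rw [h5, Submodule.mem_bot] at hv
      rw [hv, map_zero]
      exact Submodule.zero_mem _
    · right
      refine le_antisymm hL ?_
      rintro _ ⟨v, hv, rfl⟩
      rw [← h5] at hv
      exact hv.2

variable [Finite Y]

omit R in
/-- the operator `T_i` -/
noncomputable def Ti (n : I → Y) (X : (I → ℤ) → Subgroup Y) (ρ : Y →* Module.End k V) (i : I) : Module.End k V :=
  sg ρ (X (sr i)) * ρ (n i)

omit R in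
theorem Ti_apply (i : I) (v : V) : Ti n X ρ i v = sg ρ (X (sr i)) (ρ (n i) v) := rfl

theorem rho_Ti (i : I) {t : Y} (ht : t ∈ T) (v : V) :
    ρ t (Ti n X ρ i v) = Ti n X ρ i (ρ ((n i)⁻¹ * t * n i) v) := by
  rw [Ti_apply, Ti_apply]
  have h1 : (X (sr i)).map (MulAut.conj t).toMonoidHom = X (sr i) := R.tor _ (isRoot_sr cs h i) t ht
  rw [rho_sg, h1, ← rho_mul, ← rho_mul]
  congr 3
  group

theorem Ti_rho (i : I) {t : Y} (ht : t ∈ T) (v : V) :
    Ti n X ρ i (ρ t v) = ρ (n i * t * (n i)⁻¹) (Ti n X ρ i v) := by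
  rw [rho_Ti R ρ i (conj_n_T R i ht)]
  congr 3
  group

theorem Simp.Ti {N : Submodule k V} (hN : Simp ρ T N) (i : I) (h0 : N.map (Ti n X ρ i) ≠ ⊥) :
    Simp ρ T (N.map (CR.Ti n X ρ i)) :=
  hN.map ρ _ (fun _ ht => ⟨_, conj_n_T' R i ht, fun v _ => rho_Ti R ρ i ht v⟩)
    (fun _ ht => ⟨_, conj_n_T R i ht, fun v _ => Ti_rho R ρ i ht v⟩) h0

/-- `T_i` preserves `V^U` -/
theorem Ti_fix {v : V} (hv : v ∈ fx ρ (RGD.Sup X (RGD.Pos cs h))) (i : I) :
    Ti n X ρ i v ∈ fx ρ (RGD.Sup X (RGD.Pos cs h)) := by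
  rw [mem_fx]
  have key : ∀ g ∈ RGD.Sup X (RGD.PosNe cs h i), ρ g (Ti n X ρ i v) = Ti n X ρ i v := by
    intro g hg
    classical
    let _ := Fintype.ofFinite (X (sr i))
    rw [Ti_apply, sg_def, map_sum]
    refine Finset.sum_congr rfl fun x _ => ?_
    have h1 : (x : Y)⁻¹ * g * x ∈ RGD.Sup X (RGD.PosNe cs h i) := by
      have := R.X_le_normalizer_V i x.2
      have h2 := (Subgroup.mem_normalizer_iff.1 (inv_mem this) g).1 hg
      rwa [inv_inv] at h2
    have h2 : (n i)⁻¹ * ((x : Y)⁻¹ * g * x) * n i ∈ RGD.Sup X (RGD.PosNe cs h i) := by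
      have := R.cj_n_V i
      rw [← this, mem_cj] at h1
      exact h1
    have h3 : (n i)⁻¹ * ((x : Y)⁻¹ * g * x) * n i ∈ RGD.Sup X (RGD.Pos cs h) :=
      RGD.Sup_mono (S := RGD.PosNe cs h i) (S' := RGD.Pos cs h) (fun z hz => ⟨hz.1, hz.2.1⟩) h2
    have h4 : g * ((x : Y) * n i) = (x : Y) * n i * ((n i)⁻¹ * ((x : Y)⁻¹ * g * x) * n i) := by group
    rw [← rho_mul ρ (x : Y), ← rho_mul, h4, rho_mul, hv _ h3]
  let K : Subgroup Y :=
    { carrier := {g | ρ g (Ti n X ρ i v) = Ti n X ρ i v}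
      one_mem' := rho_one ρ _
      mul_mem' := by
        intro a b (ha : ρ a _ = _) (hb : ρ b _ = _)
        change ρ (a * b) _ = _
        rw [rho_mul, hb, ha]
      inv_mem' := by
        intro a (ha : ρ a _ = _)
        change ρ a⁻¹ _ = _
        conv_lhs => rw [← ha]
        exact rho_inv_rho ρ a _ }
  have hK : RGD.Sup X (RGD.Pos cs h) ≤ K := by
    rw [R.Upos_eq i]
    exact sup_le (fun a ha => rho_sg_of_mem ρ _ ha _) key
  exact fun u hu => hK hu

theorem X_fix {v : V} (hv : v ∈ fx ρ (RGD.Sup X (RGD.Pos cs h))) (i : I) {x : Y} (hx : x ∈ X (sr i)) :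
    ρ x v = v := hv x (RGD.le_Sup (S := RGD.Pos cs h) ⟨isRoot_sr cs h i, sr_nonneg i⟩ hx)

theorem p_dvd [Fact p.Prime] (i : I) : p ∣ Nat.card (X (sr i)) := by
  obtain ⟨u, hu, hu1⟩ := exists_ne_one R i
  have h1 : 1 < Nat.card (X (sr i)) := by
    rw [Finite.one_lt_card_iff_nontrivial]
    exact nontrivial_of_ne (⟨u, hu⟩ : ↥(X (sr i))) 1 (fun h => hu1 (congrArg Subtype.val h))
  obtain ⟨j, hj⟩ := (IsPGroup.iff_card (p := p)).1 (R.pgrp i)
  rw [hj] at h1 ⊢
  have : j ≠ 0 := by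
    rintro rfl
    simp at h1
  exact dvd_pow_self p this

/-- `T_i (T_i N) ⊆ T_i N` for a `T`-invariant `N ⊆ V^U` -/
theorem Ti_sq [Fact p.Prime] [CharP k p] {N : Submodule k V} (hN : Ivt ρ T N)
    (hU : N ≤ fx ρ (RGD.Sup X (RGD.Pos cs h))) (i : I) {v : V} (hv : v ∈ N) :
    ∃ v' ∈ N, Ti n X ρ i (Ti n X ρ i v) = Ti n X ρ i v' := by
  classical
  let _ := Fintype.ofFinite (X (sr i))
  have key : ∀ x : X (sr i), ∃ v' ∈ N, sg ρ (X (sr i)) (ρ (n i) (ρ (x : Y) (ρ (n i) v))) = Ti n X ρ i v' := by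
    intro x
    by_cases hx1 : (x : Y) = 1
    · refine ⟨0, N.zero_mem, ?_⟩
      rw [hx1, rho_one, ← rho_mul ρ (n i), map_zero, sg_fixed ρ (p_dvd R i) fun a ha => X_fix R ρ (hU
        (hN _ (n_sq R i) v hv)) i ha]
    · obtain ⟨a, ha, t, ht, b, hb, e⟩ := n_mul_n R i x.2 hx1
      refine ⟨ρ t v, hN t ht v hv, ?_⟩
      rw [← rho_mul, ← rho_mul, e, rho_mul, X_fix R ρ (hU hv) i hb, rho_mul, rho_mul, sg_rho_of_mem ρ _ ha,
        Ti_apply]
  choose c hc hc' using key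
  refine ⟨∑ x, c x, N.sum_mem fun x _ => hc x, ?_⟩
  rw [map_sum]
  have h1 : Ti n X ρ i (Ti n X ρ i v) =
      ∑ x : X (sr i), sg ρ (X (sr i)) (ρ (n i) (ρ (x : Y) (ρ (n i) v))) := by
    rw [Ti_apply ρ i (Ti n X ρ i v), Ti_apply ρ i v, sg_def ρ (X (sr i)) (ρ (n i) v), map_sum, map_sum]
  rw [h1]
  exact Finset.sum_congr rfl fun x _ => hc' x

/-! ### the operators `T_w` -/

omit R in
/-- `T_w = (∑_{u ∈ U_w} u) g`, `g` over `w` -/
noncomputable def Tk (cs : CoxeterSystem M W) (h : IsCartan M A) (X : (I → ℤ) → Subgroup Y)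
    (ρ : Y →* Module.End k V) (w : W) (g : Y) : Module.End k V :=
  sg ρ (RGD.Sup X (RGD.Inv cs h w)) * ρ g

omit R in
theorem Tk_apply (w : W) (g : Y) (v : V) :
    Tk cs h X ρ w g v = sg ρ (RGD.Sup X (RGD.Inv cs h w)) (ρ g v) := rfl

omit R [Finite Y] in
theorem rep_simple_mul_inv (w : W) (i : I) : rep cs h (cs.simple i * w)⁻¹ (sr i) = - rep cs h w⁻¹ (sr i) := by
  rw [mul_inv_rev, cs.inv_simple, rep_mul_apply, rep_simple_sr, map_neg]

theorem Tk_up [Finite W] {w : W} {i : I} (hi : 0 ≤ rep cs h w⁻¹ (sr i)) (g : Y) (v : V) :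
    Ti n X ρ i (Tk cs h X ρ w g v) = Tk cs h X ρ (cs.simple i * w) (n i * g) v := by
  rw [Ti_apply, Tk_apply, Tk_apply]
  have hneg : rep cs h (cs.simple i * w)⁻¹ (sr i) ≤ 0 := by
    rw [rep_simple_mul_inv]; exact neg_nonpos.2 hi
  have hww : cs.simple i * (cs.simple i * w) = w := by
    rw [← mul_assoc, cs.simple_mul_simple_self, one_mul]
  have hss : ∀ y : I → ℤ, rep cs h (cs.simple i) (rep cs h (cs.simple i) y) = y := by
    intro y
    rw [← rep_mul_apply, cs.simple_mul_simple_self, map_one, Module.End.one_apply]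
  have hiff : ∀ x, x ∈ RGD.Inv cs h (cs.simple i * w) ↔
      x = sr i ∨ rep cs h (cs.simple i) x ∈ RGD.Inv cs h w := by
    intro x
    rw [RGD.mem_inv_iff hneg, hww]
  have hne : ∀ z ∈ RGD.Inv cs h w, z ≠ sr i := by
    rintro z ⟨hz, h0, h1⟩ rfl
    exact ((isRoot_sr cs h i).act w⁻¹).not_pos_neg hi h1
  rw [rho_sg, ← rho_mul]
  symm
  refine sg_mul ρ (RGD.le_Sup ((hiff _).2 (Or.inl rfl))) ?_ ?_ ?_ _
  · -- the conjugate is in
    refine cj_Sup_le R (rp_simple cs R.nsys i) (fun x hx => hx.1) ?_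
    intro x hx
    rw [hiff]
    right
    rw [hss]; exact hx
  · rw [eq_bot_iff]
    rintro u ⟨hu, hu'⟩
    rw [Subgroup.mem_bot]
    refine eq_one_of_mem_PosNe R hu ?_
    refine cj_Sup_le R (rp_simple cs R.nsys i) (fun x (hx : x ∈ RGD.Inv cs h w) => hx.1) ?_ hu'
    intro x hx
    refine ⟨hx.1.act _, hx.1.simple_nonneg hx.2.1 i (hne x hx), ?_⟩
    intro he
    have h1 : x = - sr i := by rw [← hss x, he, rep_simple_sr]
    have h2 := hx.2.1
    rw [h1] at h2
    exact (isRoot_sr cs h i).neg.not_pos_neg h2 (neg_nonpos.2 (sr_nonneg i))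
  · intro a ha
    have hS : ∀ x ∈ RGD.Inv cs h (cs.simple i * w), IsRoot cs h x ∧ 0 ≤ x := fun x hx => ⟨hx.1, hx.2.1⟩
    obtain ⟨r, hr, u, hu, e⟩ := exists_mul R hS ((hiff _).2 (Or.inl rfl)) (fun y hy hyi z hz =>
      ⟨hz.1, RGD.nonneg_of_btwn (sr_nonneg i) hy.2.1 hz, RGD.nonpos_of_btwn hneg hy.2.2 (hz.act _)⟩)
      (inv_mem ha)
    refine ⟨u⁻¹, inv_mem hu, r⁻¹, inv_mem ?_, ?_⟩
    · have hle : RGD.Sup X (RGD.Inv cs h (cs.simple i * w) \ {sr i}) ≤
          (RGD.Sup X (RGD.Inv cs h w)).map (MulAut.conj (n i)).toMonoidHom := by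
        refine RGD.Sup_le ?_
        rintro z ⟨hz, hz0⟩
        have h2 := ((hiff z).1 hz).resolve_left hz0
        have h3 := cj_mono (n i) (RGD.le_Sup (X := X) h2)
        rw [R.conj i _ h2.1, hss] at h3
        exact h3
      exact hle hr
    · rw [← mul_inv_rev, ← e, inv_inv]

/-- `T_w` of a simple `T`-invariant subspace of `V^U` -/
theorem Tk_wt [Finite W] {N : Submodule k V} (hN : Simp ρ T N) (hU : N ≤ fx ρ (RGD.Sup X (RGD.Pos cs h))) {w : W}
    {g : Y} (hg : Rp cs R.nsys w g) (h0 : N.map (Tk cs h X ρ w g) ≠ ⊥) :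
    Simp ρ T (N.map (Tk cs h X ρ w g)) ∧ N.map (Tk cs h X ρ w g) ≤ fx ρ (RGD.Sup X (RGD.Pos cs h)) := by
  induction hn : cs.length w using Nat.strong_induction_on generalizing w g with
  | _ N' ih =>
  by_cases hw1 : w = 1
  · subst hw1
    have hgT : g ∈ T := hg.mem_of_one
    have h1 : N.map (Tk cs h X ρ 1 g) = N := by
      have h2 : ∀ v, Tk cs h X ρ 1 g v = ρ g v := by
        intro v
        rw [Tk_apply, RGD.inv_one_eq, Sup_empty, sg_bot]
      apply le_antisymm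
      · rintro _ ⟨v, hv, rfl⟩
        rw [h2]
        exact hN.inv g hgT v hv
      · intro v hv
        exact ⟨_, hN.inv g⁻¹ (inv_mem hgT) v hv, by rw [h2, rho_rho_inv]⟩
    rw [h1]
    exact ⟨hN, hU⟩
  · obtain ⟨i, hi⟩ : ∃ i, cs.IsLeftDescent w i := cs.exists_leftDescent_of_ne_one hw1
    have hlt : cs.length (cs.simple i * w) < cs.length w := hi
    have hneg : rep cs h w⁻¹ (sr i) ≤ 0 := by
      refine nonpos_of_lt cs h w⁻¹ i ?_
      rw [cs.length_inv, ← cs.length_inv (w⁻¹ * cs.simple i), mul_inv_rev, inv_inv, cs.inv_simple]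
      exact hlt
    have hww : cs.simple i * (cs.simple i * w) = w := by
      rw [← mul_assoc, cs.simple_mul_simple_self, one_mul]
    have hg' : Rp cs R.nsys (cs.simple i * w) ((n i)⁻¹ * g) := by
      have := (rp_simple cs R.nsys i).inv.mul hg
      rwa [cs.inv_simple] at this
    have h2 : ∀ v, Ti n X ρ i (Tk cs h X ρ (cs.simple i * w) ((n i)⁻¹ * g) v) = Tk cs h X ρ w g v := by
      intro v
      have h3 := Tk_up R ρ (w := cs.simple i * w) (i := i) (by
        rw [rep_simple_mul_inv]; exact neg_nonneg.2 hneg) ((n i)⁻¹ * g) v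
      rwa [hww, mul_inv_cancel_left] at h3
    have h3 : (N.map (Tk cs h X ρ (cs.simple i * w) ((n i)⁻¹ * g))).map (CR.Ti n X ρ i) =
        N.map (Tk cs h X ρ w g) := by
      rw [← Submodule.map_comp]
      congr 1
      exact LinearMap.ext h2
    have h4 : N.map (Tk cs h X ρ (cs.simple i * w) ((n i)⁻¹ * g)) ≠ ⊥ := by
      intro h4
      rw [h4, Submodule.map_bot] at h3
      exact h0 h3.symm
    obtain ⟨h5, h6⟩ := ih _ (hn ▸ hlt) hg' h4 rfl
    rw [← h3] at h0 ⊢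
    refine ⟨h5.Ti R ρ i h0, ?_⟩
    rintro _ ⟨v, hv, rfl⟩
    exact Ti_fix R ρ (h6 hv) i

/-- **A simple `T`-invariant subspace of `V^U`, invariant under all `T_i`.** -/
theorem exists_simul [Finite W] [Fact p.Prime] [CharP k p] {N : Submodule k V} (hN : Simp ρ T N)
    (hU : N ≤ fx ρ (RGD.Sup X (RGD.Pos cs h))) : ∃ w : W, ∃ g ∈ Subgroup.closure (Set.range n),
      Simp ρ T (N.map (Tk cs h X ρ w g)) ∧ N.map (Tk cs h X ρ w g) ≤ fx ρ (RGD.Sup X (RGD.Pos cs h)) ∧
      ∀ i, ∀ v ∈ N.map (Tk cs h X ρ w g), Ti n X ρ i v ∈ N.map (Tk cs h X ρ w g) := by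
  classical
  let S : Set W := {w | ∃ g ∈ Subgroup.closure (Set.range n), Rp cs R.nsys w g ∧ N.map (Tk cs h X ρ w g) ≠ ⊥}
  have hS : S.Nonempty := by
    refine ⟨1, 1, one_mem _, rp_one, ?_⟩
    have h2 : Tk cs h X ρ 1 1 = 1 := by
      ext v
      rw [Tk_apply, RGD.inv_one_eq, Sup_empty, sg_bot, rho_one]; rfl
    rw [h2]
    intro h3
    apply hN.ne
    rw [eq_bot_iff, ← h3]
    intro v hv
    exact ⟨v, hv, rfl⟩
  obtain ⟨w, ⟨g, hgc, hg, hne⟩, hmax⟩ := Set.exists_max_image S (fun w => cs.length w) (Set.toFinite S) hS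
  obtain ⟨h5, h6⟩ := Tk_wt R ρ hN hU hg hne
  refine ⟨w, g, hgc, h5, h6, ?_⟩
  intro i
  have hni : n i ∈ Subgroup.closure (Set.range n) := Subgroup.subset_closure ⟨i, rfl⟩
  have hww : cs.simple i * (cs.simple i * w) = w := by
    rw [← mul_assoc, cs.simple_mul_simple_self, one_mul]
  rcases ((isRoot_sr cs h i).act w⁻¹).pos_or_neg with hpos | hneg
  · rintro _ ⟨v, hv, rfl⟩
    have h7 : Ti n X ρ i (Tk cs h X ρ w g v) = 0 := by
      by_contra hc
      have h1 := hmax (cs.simple i * w) ⟨_, mul_mem hni hgc, (rp_simple cs R.nsys i).mul hg, fun h8 => hc (by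
        rw [Tk_up R ρ hpos, ← Submodule.mem_bot k, ← h8]
        exact ⟨v, hv, rfl⟩)⟩
      have h2 := (lt_iff' cs h w⁻¹ i).2 hpos
      rw [cs.length_inv, ← cs.length_inv (w⁻¹ * cs.simple i), mul_inv_rev, inv_inv, cs.inv_simple] at h2
      exact absurd h1 (not_le.2 h2)
    rw [h7]
    exact Submodule.zero_mem _
  · have hg' : Rp cs R.nsys (cs.simple i * w) ((n i)⁻¹ * g) := by
      have := (rp_simple cs R.nsys i).inv.mul hg
      rwa [cs.inv_simple] at this
    have h2 : ∀ v, Tk cs h X ρ w g v = Ti n X ρ i (Tk cs h X ρ (cs.simple i * w) ((n i)⁻¹ * g) v) := by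
      intro v
      have h3 := Tk_up R ρ (w := cs.simple i * w) (i := i) (by
        rw [rep_simple_mul_inv]; exact neg_nonneg.2 hneg) ((n i)⁻¹ * g) v
      rw [hww, mul_inv_cancel_left] at h3
      exact h3.symm
    have h4 : N.map (Tk cs h X ρ (cs.simple i * w) ((n i)⁻¹ * g)) ≠ ⊥ := by
      intro h4
      apply hne
      rw [eq_bot_iff]
      rintro _ ⟨v, hv, rfl⟩
      have h8 : Tk cs h X ρ (cs.simple i * w) ((n i)⁻¹ * g) v ∈
          N.map (Tk cs h X ρ (cs.simple i * w) ((n i)⁻¹ * g)) := ⟨v, hv, rfl⟩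
      rw [h4, Submodule.mem_bot] at h8
      rw [h2, h8, map_zero]
      exact Submodule.zero_mem _
    obtain ⟨h8, h9⟩ := Tk_wt R ρ hN hU hg' h4
    rintro _ ⟨v, hv, rfl⟩
    rw [h2]
    obtain ⟨v', ⟨v'', hv'', rfl⟩, hv'⟩ := Ti_sq R ρ h8.inv h9 i (v := Tk cs h X ρ (cs.simple i * w) ((n i)⁻¹ * g) v)
      ⟨v, hv, rfl⟩
    rw [hv', ← h2]
    exact ⟨_, hv'', rfl⟩

/-! ### `n_i N ⊆ k[X_{-i}] N` -/

omit R [Finite Y] in
/-- `k[B] N` -/
def Sp (ρ : Y →* Module.End k V) (B : Subgroup Y) (N : Submodule k V) : Submodule k V :=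
  Submodule.span k {w | ∃ b ∈ B, ∃ v ∈ N, ρ b v = w}

omit R [Finite Y] in
theorem mem_Sp {B : Subgroup Y} {N : Submodule k V} {a : Y} (ha : a ∈ B) {v : V} (hv : v ∈ N) : ρ a v ∈ Sp ρ B N :=
  Submodule.subset_span ⟨a, ha, v, hv, rfl⟩

omit R [Finite Y] in
theorem le_Sp {B : Subgroup Y} {N : Submodule k V} : N ≤ Sp ρ B N := fun v hv => by
  have := mem_Sp ρ (one_mem B) hv
  rwa [rho_one] at this

omit R [Finite Y] in
theorem Sp_mono {B C : Subgroup Y} (hBC : B ≤ C) (N : Submodule k V) : Sp ρ B N ≤ Sp ρ C N := by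
  unfold Sp
  rw [Submodule.span_le]
  rintro _ ⟨b, hb, v, hv, rfl⟩
  exact mem_Sp ρ (hBC hb) hv

omit R [Finite Y] in
theorem rho_mem_Sp {B : Subgroup Y} {N : Submodule k V} {a : Y} (ha : a ∈ B) {v : V} (hv : v ∈ Sp ρ B N) :
    ρ a v ∈ Sp ρ B N := by
  induction hv using Submodule.span_induction with
  | mem x hx =>
    obtain ⟨b, hb, v, hv, rfl⟩ := hx
    rw [← rho_mul]
    exact mem_Sp ρ (mul_mem ha hb) hv
  | zero => rw [map_zero]; exact Submodule.zero_mem _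
  | add x y _ _ hx hy => rw [map_add]; exact Submodule.add_mem _ hx hy
  | smul c x _ hx => rw [map_smul]; exact Submodule.smul_mem _ _ hx

theorem n_mem {N : Submodule k V} (hN : Simp ρ T N) (hU : N ≤ fx ρ (RGD.Sup X (RGD.Pos cs h))) {i : I}
    (hc : ∀ v ∈ N, Ti n X ρ i v ∈ N) {m : V} (hm : m ∈ N) : ρ (n i) m ∈ Sp ρ (X (-sr i)) N := by
  classical
  let _ := Fintype.ofFinite (X (sr i))
  have hmap : N.map (Ti n X ρ i) ≤ N := by
    rintro _ ⟨v, hv, rfl⟩
    exact hc v hv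
  rcases hN.simple _ hmap (by
    rintro t ht _ ⟨v, hv, rfl⟩
    rw [rho_Ti R ρ i ht]
    exact ⟨_, hN.inv _ (conj_n_T' R i ht) v hv, rfl⟩) with h0 | h0
  · -- all terms with `x ≠ 1` are in the span
    have hz : Ti n X ρ i m = 0 := by
      rw [← Submodule.mem_bot k, ← h0]
      exact ⟨m, hm, rfl⟩
    have hterm : ∀ x : X (sr i), x ≠ 1 → ρ (x : Y) (ρ (n i) m) ∈ Sp ρ (X (-sr i)) N := by
      intro x hx
      obtain ⟨y, hy, t, ht, b, hb, e⟩ := mul_n R i x.2 (fun h => hx (Subtype.ext h))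
      rw [← rho_mul, e, rho_mul, X_fix R ρ (hU hm) i hb, rho_mul]
      exact mem_Sp ρ hy (hN.inv t ht m hm)
    rw [Ti_apply, sg_def, ← Finset.add_sum_erase _ _ (Finset.mem_univ (1 : X (sr i))), Subgroup.coe_one,
      rho_one] at hz
    have h1 : ρ (n i) m = - ∑ x ∈ Finset.univ.erase (1 : X (sr i)), ρ (x : Y) (ρ (n i) m) :=
      eq_neg_of_add_eq_zero_left hz
    rw [h1]
    refine Submodule.neg_mem _ (Submodule.sum_mem _ fun x hx => hterm x (Finset.ne_of_mem_erase hx))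
  · have h1 : ∀ v ∈ N, ρ (n i)⁻¹ v ∈ Sp ρ (X (-sr i)) N := by
      intro v hv
      rw [← h0] at hv
      obtain ⟨v', hv', rfl⟩ := hv
      rw [Ti_apply, sg_def, map_sum]
      refine Submodule.sum_mem _ fun x _ => ?_
      rw [← rho_mul, ← rho_mul]
      exact mem_Sp ρ (conj_n_X' R i x.2) hv'
    have h3 : ρ (n i) m = ρ (n i)⁻¹ (ρ (n i * n i) m) := by
      rw [← rho_mul]
      congr 2
      group
    rw [h3]
    exact h1 _ (hN.inv _ (n_sq R i) m hm)

/-! ### `k[C U⁻] N` is invariant -/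

omit R [Finite Y] in
/-- the stabiliser of a subspace -/
def stS (ρ : Y →* Module.End k V) (N : Submodule k V) : Subgroup Y where
  carrier := {g | ∀ v, v ∈ N ↔ ρ g v ∈ N}
  one_mem' := fun v => by rw [rho_one]
  mul_mem' := by
    intro a b (ha : ∀ v, v ∈ N ↔ ρ a v ∈ N) (hb : ∀ v, v ∈ N ↔ ρ b v ∈ N) v
    rw [rho_mul, ← ha, ← hb]
  inv_mem' := by
    intro a (ha : ∀ v, v ∈ N ↔ ρ a v ∈ N) v
    rw [ha (ρ a⁻¹ v), rho_rho_inv]

omit R [Finite Y] in
theorem mem_stS {N : Submodule k V} {g : Y} (h1 : ∀ v ∈ N, ρ g v ∈ N) (h2 : ∀ v ∈ N, ρ g⁻¹ v ∈ N) :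
    g ∈ stS ρ N := fun v => ⟨h1 v, fun hv => by
      have := h2 _ hv
      rwa [rho_inv_rho] at this⟩

omit R [Finite Y] in
theorem le_stS {N : Submodule k V} {B : Subgroup Y} (h1 : Ivt ρ B N) : B ≤ stS ρ N :=
  fun _ hg => mem_stS ρ (h1 _ hg) (h1 _ (inv_mem hg))

omit R [Finite Y] in
theorem Ivt_of_le {N : Submodule k V} {B : Subgroup Y} (h1 : B ≤ stS ρ N) : Ivt ρ B N :=
  fun _ hg v hv => (h1 hg v).1 hv

omit R [Finite Y] in
theorem T_stable {T C : Subgroup Y} {N : Submodule k V} (hN : Ivt ρ T N) (hT : ∀ t ∈ T, ∀ c ∈ C, t * c * t⁻¹ ∈ C) :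
    T ≤ stS ρ (Sp ρ C N) := by
  refine le_stS ρ fun t ht v hv => ?_
  induction hv using Submodule.span_induction with
  | mem x hx =>
    obtain ⟨b, hb, v, hv, rfl⟩ := hx
    have h1 : t * (b : Y) = t * b * t⁻¹ * t := by group
    rw [← rho_mul, h1, rho_mul]
    exact mem_Sp ρ (hT t ht b hb) (hN t ht v hv)
  | zero => rw [map_zero]; exact Submodule.zero_mem _
  | add x y _ _ hx hy => rw [map_add]; exact Submodule.add_mem _ hx hy
  | smul c x _ hx => rw [map_smul]; exact Submodule.smul_mem _ _ hx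

omit [Finite Y] in
theorem T_norm_UN [Finite W] {t u : Y} (ht : t ∈ T) (hu : u ∈ UN cs h X) : t * u * t⁻¹ ∈ UN cs h X := by
  have h1 := (opp R).T_le_normalizer_U ht
  rw [U_opp] at h1
  exact (Subgroup.mem_normalizer_iff.1 h1 u).1 hu

omit [Finite Y] in
theorem exists_UN [Finite W] (i : I) {u : Y} (hu : u ∈ UN cs h X) :
    ∃ r ∈ UN cs h X, n i * r * (n i)⁻¹ ∈ UN cs h X ∧ ∃ y ∈ X (-sr i), u = r * y := by
  rw [← U_opp] at hu ⊢
  obtain ⟨r, hr, y, hy, e⟩ := exists_mul (opp R) (S := RGD.Pos cs h) (i := i) (fun x hx => hx)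
    ⟨isRoot_sr cs h i, sr_nonneg i⟩ (fun y hy _ z hz => ⟨hz.1, RGD.nonneg_of_btwn (sr_nonneg i) hy.2 hz⟩) hu
  have hr' : r ∈ RGD.Sup (fun x => X (-x)) (RGD.PosNe cs h i) := by
    refine RGD.Sup_mono ?_ hr
    rintro z ⟨hz, hz0⟩
    exact ⟨hz.1, hz.2, hz0⟩
  have hmono : RGD.Sup (fun x => X (-x)) (RGD.PosNe cs h i) ≤ RGD.Sup (fun x => X (-x)) (RGD.Pos cs h) :=
    RGD.Sup_mono fun z hz => ⟨hz.1, hz.2.1⟩
  refine ⟨r, hmono hr', hmono ?_, y, hy, e⟩
  have h1 := (opp R).cj_n_V i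
  rw [← h1]
  exact conj_mem_cj.2 hr'

omit [Finite Y] in
theorem XN_le [Finite W] (i : I) : X (-sr i) ≤ UN cs h X :=
  X_le_UN (isRoot_sr cs h i).neg (neg_nonpos.2 (sr_nonneg i))

/-- `n_i` stabilises `k[C U⁻] N`, `C` a group commuting with everything -/
theorem n_stable [Finite W] {N : Submodule k V} (hN : Ivt ρ T N) (hU : N ≤ fx ρ (RGD.Sup X (RGD.Pos cs h)))
    {i : I} (hn : ∀ v ∈ N, ρ (n i) v ∈ Sp ρ (X (-sr i)) N) {C : Subgroup Y} (hC : ∀ c ∈ C, n i * c = c * n i)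
    {B : Subgroup Y} (hBC : C ≤ B) (hBU : UN cs h X ≤ B) (hB : ∀ b ∈ B, ∃ c ∈ C, ∃ u ∈ UN cs h X, b = c * u) :
    ∀ v ∈ Sp ρ B N, ρ (n i) v ∈ Sp ρ B N := by
  intro v hv
  induction hv using Submodule.span_induction with
  | mem x hx =>
    obtain ⟨b, hb, m, hm, rfl⟩ := hx
    obtain ⟨c, hc, u, hu, rfl⟩ := hB b hb
    obtain ⟨r, hr, hr', y, hy, e⟩ := exists_UN R i hu
    have h1 : n i * (c * u) = c * (n i * r * (n i)⁻¹ * (n i * y)) := by
      rw [e, ← mul_assoc (n i) c, hC c hc]; group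
    rw [← rho_mul, h1, rho_mul, rho_mul]
    refine rho_mem_Sp ρ (hBC hc) (rho_mem_Sp ρ (hBU hr') (Sp_mono ρ ((XN_le R i).trans hBU) N ?_))
    by_cases hy1 : y = 1
    · rw [hy1, mul_one]; exact hn m hm
    · obtain ⟨y', hy', t, ht, b, hb, e'⟩ := n_mul R i hy hy1
      rw [e', rho_mul, X_fix R ρ (hU hm) i hb, rho_mul]
      exact mem_Sp ρ hy' (hN t ht m hm)
  | zero => rw [map_zero]; exact Submodule.zero_mem _
  | add x y _ _ hx hy => rw [map_add]; exact Submodule.add_mem _ hx hy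
  | smul c x _ hx => rw [map_smul]; exact Submodule.smul_mem _ _ hx

/-- **`k[C U⁻] N` is invariant.** -/
theorem stable [Finite W] {N : Submodule k V} (hN : Ivt ρ T N) (hU : N ≤ fx ρ (RGD.Sup X (RGD.Pos cs h)))
    (hn : ∀ i, ∀ v ∈ N, ρ (n i) v ∈ Sp ρ (X (-sr i)) N) {C : Subgroup Y} (hC : ∀ i, ∀ c ∈ C, n i * c = c * n i)
    {B : Subgroup Y} (hBC : C ≤ B) (hBU : UN cs h X ≤ B) (hB : ∀ b ∈ B, ∃ c ∈ C, ∃ u ∈ UN cs h X, b = c * u)
    (hTB : ∀ t ∈ T, ∀ b ∈ B, t * b * t⁻¹ ∈ B) : GG cs h T X ≤ stS ρ (Sp ρ B N) := by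
  have hUN : UN cs h X ≤ stS ρ (Sp ρ B N) := le_stS ρ fun _ hg _ hv => rho_mem_Sp ρ (hBU hg) hv
  have hT : T ≤ stS ρ (Sp ρ B N) := T_stable ρ hN hTB
  have hn1 : ∀ i, ∀ v ∈ Sp ρ B N, ρ (n i) v ∈ Sp ρ B N := fun i =>
    n_stable R ρ hN hU (hn i) (hC i) hBC hBU hB
  have hn2 : ∀ i, n i ∈ stS ρ (Sp ρ B N) := by
    intro i
    refine mem_stS ρ (hn1 i) fun v hv => ?_
    have h1 : (n i)⁻¹ = n i * (n i * n i)⁻¹ := by group
    rw [h1, rho_mul]
    exact hn1 i _ ((hT (inv_mem (n_sq R i)) v).1 hv)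
  have hU' : RGD.Sup X (RGD.Pos cs h) ≤ stS ρ (Sp ρ B N) := by
    obtain ⟨g, hg, hgR⟩ := exists_rp_closure (cs := cs) (hN := R.nsys) (w0 cs)
    have hgS : g ∈ stS ρ (Sp ρ B N) := by
      refine (?_ : Subgroup.closure (Set.range n) ≤ _) hg
      rw [Subgroup.closure_le]
      rintro _ ⟨i, rfl⟩
      exact hn2 i
    have h1 := cj_UN R hgR
    intro u hu
    rw [← h1, mem_cj] at hu
    have h2 := mul_mem (mul_mem hgS (hUN hu)) (inv_mem hgS)
    have h3 : g * (g⁻¹ * u * g) * g⁻¹ = u := by group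
    rwa [h3] at h2
  unfold GG
  refine sup_le hT (RGD.Sup_le ?_)
  intro z hz
  rcases IsRoot.pos_or_neg hz with h0 | h0
  · exact (RGD.le_Sup (S := RGD.Pos cs h) ⟨hz, h0⟩).trans hU'
  · exact (X_le_UN hz h0).trans hUN

end Rep

end Cfsg.Agent.Omega.CR

end

section


/-!
# The theorem of Curtis and Richen for a family of commuting root group data with a common torus

`Fam` : root group data `R k`, `k ∈ κ`, in `Y`, with the same `T`, contained in commuting subgroups `C k`.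

`Fam.main` : `V` a simple module for `⟨T, all X_k⟩` over a field of characteristic `p` (any field, `F_p` included):
`V^U` is a simple `T`-module, `V = k[U⁻] V^U`, and the pairing between `V^U` and `(V*)^{U⁻}` is perfect.
-/

set_option autoImplicit false
set_option linter.unusedSectionVars false

namespace Cfsg.Agent.Omega.CR

open CoxeterSystem Cfsg.Agent.ChevalleyStructure.CoxeterGeom Cfsg.Agent.Tits.Roots Cfsg.Agent.Tits.Core
  Cfsg.Agent.Tits.Exchange Cfsg.Agent.Nodes.Reps Cfsg.Agent.Nodes.BNOf Cfsg.Agent.Nodes.StabComb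
  Cfsg.Agent.Nodes.Bruhat Cfsg.Agent.Nodes.OppDec Cfsg.Agent.Nodes.LeviDec Cfsg.Agent.KFacts.RgdOpp

variable {κ : Type*} [Fintype κ] {I W : κ → Type*} {Y : Type*} [∀ l, Fintype (I l)] [∀ l, DecidableEq (I l)]
  [∀ l, Group (W l)] [Group Y] {M : ∀ l, CoxeterMatrix (I l)}

/-- A family of root group data with a common torus, in commuting subgroups. -/
structure Fam (cs : ∀ l, CoxeterSystem (M l) (W l)) {A : ∀ l, I l → I l → ℤ} (h : ∀ l, IsCartan (M l) (A l)) (p : ℕ)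
    (T : Subgroup Y) (n : ∀ l, I l → Y) (X : ∀ l, (I l → ℤ) → Subgroup Y) (C : κ → Subgroup Y) : Prop where
  rgd : ∀ l, RGD (cs l) (h l) p T (n l) (X l)
  X_le : ∀ l x, IsRoot (cs l) (h l) x → X l x ≤ C l
  n_mem : ∀ l i, n l i ∈ C l
  comm : ∀ l m, l ≠ m → ∀ a ∈ C l, ∀ b ∈ C m, a * b = b * a

variable {cs : ∀ l, CoxeterSystem (M l) (W l)} {A : ∀ l, I l → I l → ℤ} {h : ∀ l, IsCartan (M l) (A l)} {p : ℕ}
  {T : Subgroup Y} {n : ∀ l, I l → Y} {X : ∀ l, (I l → ℤ) → Subgroup Y} {C : κ → Subgroup Y}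

/-- the product of the groups `U` of the members -/
def Ut (cs : ∀ l, CoxeterSystem (M l) (W l)) (h : ∀ l, IsCartan (M l) (A l)) (X : ∀ l, (I l → ℤ) → Subgroup Y) :
    Subgroup Y := ⨆ l, RGD.Sup (X l) (RGD.Pos (cs l) (h l))

/-- the product of the opposite groups -/
def UNt (cs : ∀ l, CoxeterSystem (M l) (W l)) (h : ∀ l, IsCartan (M l) (A l)) (X : ∀ l, (I l → ℤ) → Subgroup Y) :
    Subgroup Y := ⨆ l, UN (cs l) (h l) (X l)

/-- the group of the family -/
def GGt (cs : ∀ l, CoxeterSystem (M l) (W l)) (h : ∀ l, IsCartan (M l) (A l)) (T : Subgroup Y)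
    (X : ∀ l, (I l → ℤ) → Subgroup Y) : Subgroup Y := T ⊔ ⨆ l, GG (cs l) (h l) T (X l)

theorem U_le_Ut (l : κ) : RGD.Sup (X l) (RGD.Pos (cs l) (h l)) ≤ Ut cs h X :=
  le_iSup (fun l => RGD.Sup (X l) (RGD.Pos (cs l) (h l))) l

theorem UN_le_UNt (l : κ) : UN (cs l) (h l) (X l) ≤ UNt cs h X :=
  le_iSup (fun l => UN (cs l) (h l) (X l)) l

theorem GG_le_GGt (l : κ) : GG (cs l) (h l) T (X l) ≤ GGt cs h T X :=
  (le_iSup (fun l => GG (cs l) (h l) T (X l)) l).trans le_sup_right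

namespace Fam

variable (F : Fam cs h p T n X C)
include F

theorem U_le (l : κ) : RGD.Sup (X l) (RGD.Pos (cs l) (h l)) ≤ C l :=
  RGD.Sup_le fun x hx => F.X_le l x hx.1

/-- the opposite family -/
theorem opp [∀ l, Finite (W l)] : Fam cs h p T n (fun l x => X l (-x)) C where
  rgd l := KFacts.RgdOpp.opp (F.rgd l)
  X_le l x hx := F.X_le l (-x) hx.neg
  n_mem := F.n_mem
  comm := F.comm

omit F in
theorem Ut_opp : Ut cs h (fun l x => X l (-x)) = UNt cs h X := by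
  unfold Ut UNt
  congr 1
  ext1 l
  exact U_opp

omit F in
theorem UNt_opp : UNt cs h (fun l x => X l (-x)) = Ut cs h X := by
  unfold Ut UNt
  congr 1
  ext1 l
  exact UN_opp

omit F in
theorem GGt_opp : GGt cs h T (fun l x => X l (-x)) = GGt cs h T X := by
  unfold GGt
  congr 2
  ext1 l
  exact GG_opp

theorem UN_le [∀ l, Finite (W l)] (l : κ) : UN (cs l) (h l) (X l) ≤ C l := by
  rw [← U_opp]
  exact F.opp.U_le l

/-- the product of the other opposite groups commutes with `C l` -/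
theorem rest_comm [∀ l, Finite (W l)] (l : κ) {a : Y} (ha : a ∈ C l) :
    ∀ c ∈ ⨆ m : {m // m ≠ l}, UN (cs m) (h m) (X m), a * c = c * a := by
  have key : (⨆ m : {m // m ≠ l}, UN (cs m) (h m) (X m)) ≤ Subgroup.centralizer {a} := by
    refine iSup_le fun m => ?_
    intro c hc
    rw [Subgroup.mem_centralizer_iff]
    rintro _ rfl
    exact F.comm l m (Ne.symm m.2) _ ha c (F.UN_le m hc)
  intro c hc
  exact (Subgroup.mem_centralizer_iff.1 (key hc) a rfl)

theorem exists_dec [∀ l, Finite (W l)] (l : κ) {b : Y} (hb : b ∈ UNt cs h X) :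
    ∃ c ∈ ⨆ m : {m // m ≠ l}, UN (cs m) (h m) (X m), ∃ u ∈ UN (cs l) (h l) (X l), b = c * u := by
  have h1 : UNt cs h X ≤ (⨆ m : {m // m ≠ l}, UN (cs m) (h m) (X m)) ⊔ UN (cs l) (h l) (X l) := by
    refine iSup_le fun m => ?_
    by_cases hm : m = l
    · subst hm; exact le_sup_right
    · exact (le_iSup (fun m : {m // m ≠ l} => UN (cs m) (h m) (X m)) ⟨m, hm⟩).trans le_sup_left
  have h2 := h1 hb
  have h3 : UN (cs l) (h l) (X l) ≤ Subgroup.normalizer ((⨆ m : {m // m ≠ l}, UN (cs m) (h m) (X m) : Subgroup Y) : Set Y) := by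
    intro u hu
    rw [Subgroup.mem_normalizer_iff]
    intro c
    constructor
    · intro hc
      rwa [F.rest_comm l (F.UN_le l hu) c hc, mul_inv_cancel_right]
    · intro hc
      have h4 := F.rest_comm l (F.UN_le l (inv_mem hu)) _ hc
      have h5 : c = u * c * u⁻¹ := by
        have : u⁻¹ * (u * c * u⁻¹) = u * c * u⁻¹ * u⁻¹ := h4
        have h6 : c * u⁻¹ = u * c * u⁻¹ * u⁻¹ := by rw [← this]; group
        exact mul_right_cancel h6
      rw [h5]; exact hc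
  rw [sup_comm, ← SetLike.mem_coe, Subgroup.coe_mul_of_left_le_normalizer_right _ _ h3] at h2
  obtain ⟨u, hu, c, hc, e⟩ := Set.mem_mul.1 h2
  refine ⟨c, hc, u, hu, ?_⟩
  rw [← e]
  exact F.rest_comm l (F.UN_le l hu) c hc

theorem isPGroup_Ut [∀ l, Finite (W l)] : IsPGroup p (Ut cs h X) := by
  classical
  have key : ∀ s : Finset κ, IsPGroup p (⨆ l ∈ s, RGD.Sup (X l) (RGD.Pos (cs l) (h l)) : Subgroup Y) := by
    intro s
    induction s using Finset.induction_on with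
    | empty =>
      have h0 : (⨆ l ∈ (∅ : Finset κ), RGD.Sup (X l) (RGD.Pos (cs l) (h l)) : Subgroup Y) = ⊥ := by simp
      rw [h0]
      exact IsPGroup.of_bot
    | insert a s ha ih =>
      rw [Finset.iSup_insert]
      refine (F.rgd a).isPGroup_Upos.to_sup_of_normal_right' ih ?_
      have h1 : (⨆ l ∈ s, RGD.Sup (X l) (RGD.Pos (cs l) (h l)) : Subgroup Y) ≤
          Subgroup.centralizer (RGD.Sup (X a) (RGD.Pos (cs a) (h a)) : Set Y) := by
        refine iSup₂_le fun l hl => ?_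
        intro c hc
        rw [Subgroup.mem_centralizer_iff]
        intro g hg
        have hne : a ≠ l := by
          rintro rfl
          exact ha hl
        exact F.comm a l hne g (F.U_le a hg) c (F.U_le l hc)
      intro u hu
      rw [Subgroup.mem_normalizer_iff]
      intro c
      have h2 : ∀ c ∈ (⨆ l ∈ s, RGD.Sup (X l) (RGD.Pos (cs l) (h l)) : Subgroup Y), ∀ u ∈ RGD.Sup (X a) (RGD.Pos (cs a) (h a)),
          u * c * u⁻¹ = c := by
        intro c hc u hu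
        rw [Subgroup.mem_centralizer_iff.1 (h1 hc) u hu, mul_inv_cancel_right]
      constructor
      · intro hc
        exact (h2 c hc u hu).symm ▸ hc
      · intro hc
        have h3 := h2 _ hc u⁻¹ (inv_mem hu)
        have h4 : u⁻¹ * (u * c * u⁻¹) * u⁻¹⁻¹ = c := by group
        rw [h4] at h3
        exact h3 ▸ hc
  have h1 := key Finset.univ
  have h2 : (⨆ l ∈ (Finset.univ : Finset κ), RGD.Sup (X l) (RGD.Pos (cs l) (h l)) : Subgroup Y) = Ut cs h X := by
    unfold Ut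
    simp only [Finset.mem_univ, iSup_pos]
  rwa [h2] at h1

theorem T_norm_Ut {t u : Y} (ht : t ∈ T) (hu : u ∈ Ut cs h X) : t * u * t⁻¹ ∈ Ut cs h X := by
  have h1 : cj t (Ut cs h X) ≤ Ut cs h X := by
    unfold Ut
    rw [cj_iSup]
    refine iSup_le fun l => ?_
    rintro _ ⟨v, hv, rfl⟩
    exact U_le_Ut l ((Subgroup.mem_normalizer_iff.1 ((F.rgd l).T_le_normalizer_U ht) v).1 hv)
  exact h1 (conj_mem_cj.2 hu)

theorem T_norm_UNt [∀ l, Finite (W l)] {t u : Y} (ht : t ∈ T) (hu : u ∈ UNt cs h X) : t * u * t⁻¹ ∈ UNt cs h X := by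
  rw [← Ut_opp] at hu ⊢
  exact F.opp.T_norm_Ut ht hu

end Fam

section Rep

variable {k V : Type*} [Field k] [AddCommGroup V] [Module k V] (ρ : Y →* Module.End k V)

/-- the stabiliser of a vector -/
def stV (ρ : Y →* Module.End k V) (v : V) : Subgroup Y where
  carrier := {g | ρ g v = v}
  one_mem' := rho_one ρ v
  mul_mem' := by
    intro a b (ha : ρ a v = v) (hb : ρ b v = v)
    change ρ (a * b) v = v
    rw [rho_mul, hb, ha]
  inv_mem' := by
    intro a (ha : ρ a v = v)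
    change ρ a⁻¹ v = v
    conv_lhs => rw [← ha]
    exact rho_inv_rho ρ a v

theorem mem_fx_iff {B : Subgroup Y} {v : V} : v ∈ fx ρ B ↔ B ≤ stV ρ v := Iff.rfl

theorem fx_mono {B B' : Subgroup Y} (hB : B ≤ B') : fx ρ B' ≤ fx ρ B := fun _ hv b hb => hv b (hB hb)

theorem mem_fx_Ut {v : V} : v ∈ fx ρ (Ut cs h X) ↔ ∀ l, v ∈ fx ρ (RGD.Sup (X l) (RGD.Pos (cs l) (h l))) := by
  constructor
  · intro hv l
    exact fx_mono ρ (U_le_Ut l) hv
  · intro hv
    rw [mem_fx_iff]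
    exact iSup_le fun l => hv l

namespace Fam

variable (F : Fam cs h p T n X C)
include F

variable [Finite Y] [∀ l, Finite (W l)]

omit [∀ l, Finite (W l)] in
theorem comm_Tk {l m : κ} (hlm : m ≠ l) {w : W l} {g : Y} (hg : g ∈ C l) {a : Y} (ha : a ∈ C m) (v : V) :
    ρ a (Tk (cs l) (h l) (X l) ρ w g v) = Tk (cs l) (h l) (X l) ρ w g (ρ a v) := by
  classical
  let _ := Fintype.ofFinite (RGD.Sup (X l) (RGD.Inv (cs l) (h l) w))
  rw [Tk_apply, Tk_apply, sg_def, sg_def, map_sum]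
  refine Finset.sum_congr rfl fun x _ => ?_
  have hx : (x : Y) ∈ C l := (RGD.Sup_le (X := X l) (S := RGD.Inv (cs l) (h l) w) fun z hz => F.X_le l z hz.1) x.2
  have h1 : a * ((x : Y) * g) = x * g * a := F.comm m l hlm a ha _ (mul_mem hx hg)
  have h2 : ρ a (ρ (x : Y) (ρ g v)) = ρ (a * ((x : Y) * g)) v := by rw [rho_mul, rho_mul]
  rw [h2, h1, rho_mul, rho_mul]

omit [∀ l, Finite (W l)] in
theorem Ti_Tk {l m : κ} (hlm : m ≠ l) {w : W l} {g : Y} (hg : g ∈ C l) (i : I m) (v : V) :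
    Ti (n m) (X m) ρ i (Tk (cs l) (h l) (X l) ρ w g v) = Tk (cs l) (h l) (X l) ρ w g (Ti (n m) (X m) ρ i v) := by
  classical
  let _ := Fintype.ofFinite (X m (sr i))
  rw [Ti_apply, Ti_apply, sg_def, sg_def, map_sum]
  refine Finset.sum_congr rfl fun x _ => ?_
  rw [F.comm_Tk ρ hlm hg (F.n_mem m i), F.comm_Tk ρ hlm hg (F.X_le m _ (isRoot_sr _ _ i) x.2)]

/-- good subspaces -/
structure Good (_F : Fam cs h p T n X C) (ρ : Y →* Module.End k V) (s : Finset κ) (N : Submodule k V) : Prop where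
  simp : Simp ρ T N
  fix : N ≤ fx ρ (Ut cs h X)
  st : ∀ l ∈ s, ∀ i, ∀ v ∈ N, Ti (n l) (X l) ρ i v ∈ N

variable [Fact p.Prime] [CharP k p]

omit F in
theorem Good.insert [DecidableEq κ] {F : Fam cs h p T n X C} {ρ : Y →* Module.End k V} {s : Finset κ} {N : Submodule k V}
    (hN : Good F ρ s N) {l : κ} (hl : l ∉ s) : ∃ N' : Submodule k V, Good F ρ (insert l s) N' := by
  obtain ⟨w, g, hg, h1, h2, h3⟩ := exists_simul (F.rgd l) ρ hN.simp (hN.fix.trans (fx_mono ρ (U_le_Ut l)))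
  have hgC : g ∈ C l := by
    refine (?_ : Subgroup.closure (Set.range (n l)) ≤ _) hg
    rw [Subgroup.closure_le]
    rintro _ ⟨i, rfl⟩
    exact F.n_mem l i
  refine ⟨_, h1, ?_, ?_⟩
  · intro v hv
    rw [mem_fx_Ut]
    intro m
    by_cases hm : m = l
    · subst hm
      exact h2 hv
    · obtain ⟨v', hv', rfl⟩ := hv
      intro u hu
      rw [F.comm_Tk ρ hm hgC (F.U_le m hu)]
      congr 1
      exact (mem_fx_Ut ρ).1 (hN.fix hv') m u hu
  · intro m hm i v hv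
    by_cases hml : m = l
    · subst hml
      exact h3 i v hv
    · have hms : m ∈ s := (Finset.mem_insert.1 hm).resolve_left hml
      obtain ⟨v', hv', rfl⟩ := hv
      rw [F.Ti_Tk ρ hml hgC]
      exact ⟨_, hN.st m hms i v' hv', rfl⟩

omit [CharP k p] [Fact p.Prime] in
theorem inv_fx : Ivt ρ T (fx ρ (Ut cs h X)) := by
  intro t ht v hv u hu
  have h1 : u * t = t * (t⁻¹ * u * t) := by group
  rw [← rho_mul, h1, rho_mul]
  congr 1
  have := F.T_norm_Ut (inv_mem ht) hu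
  rw [inv_inv] at this
  exact hv _ this

/-- **There is a good subspace.** -/
theorem exists_good [FiniteDimensional k V] [Nontrivial V] : ∃ N : Submodule k V, Good F ρ Finset.univ N := by
  classical
  have h0 : fx ρ (Ut cs h X) ≠ ⊥ := by
    obtain ⟨v, -, hv0, hv⟩ := exists_fixed ρ (F.isPGroup_Ut) (⊤ : Submodule k V) (fun _ _ _ _ => trivial) top_ne_bot
    intro h1
    have h2 : v ∈ fx ρ (Ut cs h X) := hv
    rw [h1, Submodule.mem_bot] at h2
    exact hv0 h2
  obtain ⟨L, ⟨hLN, hL0, hL⟩, hmin⟩ := (wellFounded_lt (α := Submodule k V)).has_min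
    {L : Submodule k V | L ≤ fx ρ (Ut cs h X) ∧ L ≠ ⊥ ∧ Ivt ρ T L} ⟨_, le_rfl, h0, F.inv_fx ρ⟩
  have hgood : Good F ρ ∅ L := by
    refine ⟨⟨hL0, hL, ?_⟩, hLN, fun l hl => absurd hl (Finset.notMem_empty l)⟩
    intro L' hL' hi
    by_cases h1 : L' = ⊥
    · exact Or.inl h1
    · right
      by_contra hne
      exact hmin L' ⟨hL'.trans hLN, h1, hi⟩ (lt_of_le_of_ne hL' hne)
  have key : ∀ s : Finset κ, ∃ N : Submodule k V, Good F ρ s N := by
    intro s
    induction s using Finset.induction_on with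
    | empty => exact ⟨L, hgood⟩
    | insert a s ha ih =>
      obtain ⟨N, hN⟩ := ih
      exact hN.insert ha
  exact key _

omit F [Fact p.Prime] [CharP k p] in
theorem Good.n_mem {F : Fam cs h p T n X C} {ρ : Y →* Module.End k V} {N : Submodule k V}
    (hN : Good F ρ Finset.univ N) (l : κ) (i : I l) {v : V} (hv : v ∈ N) : ρ (n l i) v ∈ Sp ρ (X l (-sr i)) N :=
  CR.n_mem (F.rgd l) ρ hN.simp (hN.fix.trans (fx_mono ρ (U_le_Ut l))) (hN.st l (Finset.mem_univ l) i) hv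

omit F [Fact p.Prime] [CharP k p] in
/-- **`k[U⁻] N` is invariant.** -/
theorem Good.stable {F : Fam cs h p T n X C} {ρ : Y →* Module.End k V} {N : Submodule k V}
    (hN : Good F ρ Finset.univ N) : GGt cs h T X ≤ stS ρ (Sp ρ (UNt cs h X) N) := by
  unfold GGt
  refine sup_le (T_stable ρ hN.simp.inv fun t ht c hc => F.T_norm_UNt ht hc) (iSup_le fun l => ?_)
  refine CR.stable (F.rgd l) ρ hN.simp.inv (hN.fix.trans (fx_mono ρ (U_le_Ut l))) (fun i v hv => hN.n_mem l i hv)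
    (C := ⨆ m : {m // m ≠ l}, UN (cs m) (h m) (X m)) (fun i c hc => F.rest_comm l (F.n_mem l i) c hc)
    (iSup_le fun m => UN_le_UNt m.1) (UN_le_UNt l) (fun b hb => F.exists_dec l hb) fun t ht b hb => F.T_norm_UNt ht hb

omit F [Fact p.Prime] [CharP k p] in
theorem Good.gen {F : Fam cs h p T n X C} {ρ : Y →* Module.End k V} {N : Submodule k V}
    (hN : Good F ρ Finset.univ N) (hirr : ∀ L : Submodule k V, Ivt ρ (GGt cs h T X) L → L = ⊥ ∨ L = ⊤) :
    Sp ρ (UNt cs h X) N = ⊤ := by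
  refine (hirr _ (Ivt_of_le ρ hN.stable)).resolve_left fun h0 => hN.simp.ne ?_
  rw [eq_bot_iff, ← h0]
  exact le_Sp ρ

end Fam

/-! ### the dual representation -/

/-- the dual representation -/
def dualRep (ρ : Y →* Module.End k V) : Y →* Module.End k (Module.Dual k V) where
  toFun g := (ρ g⁻¹).dualMap
  map_one' := by
    ext φ v
    change φ (ρ (1 : Y)⁻¹ v) = φ v
    rw [inv_one, rho_one]
  map_mul' a b := by
    ext φ v
    change φ (ρ (a * b)⁻¹ v) = φ (ρ b⁻¹ (ρ a⁻¹ v))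
    rw [mul_inv_rev, rho_mul]

theorem dualRep_apply (g : Y) (φ : Module.Dual k V) (v : V) : dualRep ρ g φ v = φ (ρ g⁻¹ v) := rfl

theorem mem_fx_dual {B : Subgroup Y} {φ : Module.Dual k V} :
    φ ∈ fx (dualRep ρ) B ↔ ∀ b ∈ B, ∀ v, φ (ρ b v) = φ v := by
  constructor
  · intro hφ b hb v
    have := congrArg (fun ψ : Module.Dual k V => ψ v) (hφ b⁻¹ (inv_mem hb))
    rwa [dualRep_apply, inv_inv] at this
  · intro hφ b hb
    ext v
    rw [dualRep_apply]
    exact hφ b⁻¹ (inv_mem hb) v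

theorem dual_irr [FiniteDimensional k V] {G : Subgroup Y} (hirr : ∀ L : Submodule k V, Ivt ρ G L → L = ⊥ ∨ L = ⊤)
    (L : Submodule k (Module.Dual k V)) (hL : Ivt (dualRep ρ) G L) : L = ⊥ ∨ L = ⊤ := by
  have h1 : Ivt ρ G L.dualCoannihilator := by
    intro g hg v hv
    rw [Submodule.mem_dualCoannihilator] at hv ⊢
    intro φ hφ
    have := hv _ (hL g⁻¹ (inv_mem hg) φ hφ)
    rwa [dualRep_apply, inv_inv] at this
  rcases hirr _ h1 with h2 | h2
  · right
    have h3 := Subspace.dualCoannihilator_dualAnnihilator_eq (W := L)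
    rw [h2, Submodule.dualAnnihilator_bot] at h3
    exact h3.symm
  · left
    rw [eq_bot_iff]
    intro φ hφ
    rw [Submodule.mem_bot]
    ext v
    have : v ∈ L.dualCoannihilator := by rw [h2]; trivial
    exact (Submodule.mem_dualCoannihilator v).1 this φ hφ

/-- a functional fixed by `B` and zero on `N` is zero on `k[B] N` -/
theorem eq_zero_of_Sp {B : Subgroup Y} {N : Submodule k V} (hS : Sp ρ B N = ⊤) {φ : Module.Dual k V}
    (hφ : φ ∈ fx (dualRep ρ) B) (h0 : ∀ v ∈ N, φ v = 0) : φ = 0 := by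
  rw [mem_fx_dual] at hφ
  ext v
  have hv : v ∈ Sp ρ B N := by rw [hS]; trivial
  change φ v = 0
  induction hv using Submodule.span_induction with
  | mem x hx =>
    obtain ⟨b, hb, m, hm, rfl⟩ := hx
    rw [hφ b hb, h0 m hm]
  | zero => exact map_zero φ
  | add x y _ _ hx hy => rw [map_add, hx, hy, add_zero]
  | smul c x _ hx => rw [map_smul, hx, smul_zero]

/-- a `B`-fixed vector which is killed by `N` is zero -/
theorem eq_zero_of_Sp' {B : Subgroup Y} {N : Submodule k (Module.Dual k V)} (hS : Sp (dualRep ρ) B N = ⊤) {v : V}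
    (hv : v ∈ fx ρ B) (h0 : ∀ φ ∈ N, φ v = 0) : v = 0 := by
  have key : ∀ φ : Module.Dual k V, φ v = 0 := by
    intro φ
    have hφ : φ ∈ Sp (dualRep ρ) B N := by rw [hS]; trivial
    induction hφ using Submodule.span_induction with
    | mem x hx =>
      obtain ⟨b, hb, m, hm, rfl⟩ := hx
      rw [dualRep_apply, hv _ (inv_mem hb), h0 m hm]
    | zero => rfl
    | add x y _ _ hx hy => rw [LinearMap.add_apply, hx, hy, add_zero]
    | smul c x _ hx => rw [LinearMap.smul_apply, hx, smul_zero]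
  exact (Module.forall_dual_apply_eq_zero_iff k v).1 key

namespace Fam

variable (F : Fam cs h p T n X C) [Finite Y] [∀ l, Finite (W l)] [Fact p.Prime] [CharP k p] [FiniteDimensional k V]
  (hirr : ∀ L : Submodule k V, Ivt ρ (GGt cs h T X) L → L = ⊥ ∨ L = ⊤)
include F hirr

/-- good subspaces are all of `V^U`; pairing with the fixed functionals of `U⁻` -/
theorem eq_fx [Nontrivial V] {N : Submodule k V} (hN : Good F ρ Finset.univ N) : N = fx ρ (Ut cs h X) ∧
    ∀ v ∈ fx ρ (Ut cs h X), v ≠ 0 → ∃ φ ∈ fx (dualRep ρ) (UNt cs h X), φ v ≠ 0 := by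
  have hnt : Nontrivial (Module.Dual k V) := inferInstance
  obtain ⟨N', hN'⟩ := F.opp.exists_good (dualRep ρ)
  have h1 := hN.gen hirr
  have h2 := hN'.gen (dual_irr ρ (by rw [GGt_opp]; exact hirr))
  rw [UNt_opp] at h2
  have h3 : N' ≤ fx (dualRep ρ) (UNt cs h X) := by
    have := hN'.fix
    rwa [Ut_opp] at this
  -- the pairings
  let Φ : fx (dualRep ρ) (UNt cs h X) →ₗ[k] Module.Dual k N :=
    { toFun := fun φ => φ.1.comp N.subtype
      map_add' := fun _ _ => rfl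
      map_smul' := fun _ _ => rfl }
  have hΦ : Function.Injective Φ := by
    rw [injective_iff_map_eq_zero]
    intro φ hφ
    apply Subtype.ext
    refine eq_zero_of_Sp ρ h1 φ.2 fun v hv => ?_
    exact congrArg (fun ψ : Module.Dual k N => ψ ⟨v, hv⟩) hφ
  let Ψ : fx ρ (Ut cs h X) →ₗ[k] Module.Dual k N' :=
    { toFun := fun v =>
        { toFun := fun φ => φ.1 v.1
          map_add' := fun _ _ => rfl
          map_smul' := fun _ _ => rfl }
      map_add' := fun v w => by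
        ext φ
        exact map_add φ.1 v.1 w.1
      map_smul' := fun c v => by
        ext φ
        exact map_smul φ.1 c v.1 }
  have hker : ∀ v ∈ fx ρ (Ut cs h X), (∀ φ ∈ N', φ v = 0) → v = 0 := fun v hv h0 => eq_zero_of_Sp' ρ h2 hv h0
  have hΨ : Function.Injective Ψ := by
    rw [injective_iff_map_eq_zero]
    intro v hv
    apply Subtype.ext
    refine hker v.1 v.2 fun φ hφ => ?_
    exact congrArg (fun ψ : Module.Dual k N' => ψ ⟨φ, hφ⟩) hv
  have e1 := LinearMap.finrank_le_finrank_of_injective hΦ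
  have e2 := LinearMap.finrank_le_finrank_of_injective hΨ
  have e1 := e1.trans (Subspace.dual_finrank_eq (K := k) (V := N)).le
  have e2 := e2.trans (Subspace.dual_finrank_eq (K := k) (V := N')).le
  have e3 := Submodule.finrank_mono h3
  refine ⟨Submodule.eq_of_le_of_finrank_le hN.fix (e2.trans (e3.trans e1)), ?_⟩
  intro v hv hv0
  by_contra hc
  push Not at hc
  exact hv0 (hker v hv fun φ hφ => hc φ (h3 hφ))

/-- **Curtis–Richen.** -/
theorem main [Nontrivial V] : Good F ρ Finset.univ (fx ρ (Ut cs h X)) := by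
  obtain ⟨N, hN⟩ := F.exists_good ρ
  rw [← (F.eq_fx ρ hirr hN).1]
  exact hN

theorem simp [Nontrivial V] : Simp ρ T (fx ρ (Ut cs h X)) := (F.main ρ hirr).simp

/-- a nonzero `T`-invariant subspace of `V^U` is `V^U` -/
theorem eq_of_le {N : Submodule k V} (hN0 : N ≠ ⊥) (hN : N ≤ fx ρ (Ut cs h X)) (hT : Ivt ρ T N) :
    N = fx ρ (Ut cs h X) := by
  have : Nontrivial V := by
    obtain ⟨v, -, hv⟩ := (Submodule.ne_bot_iff N).1 hN0
    exact nontrivial_of_ne v 0 hv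
  exact ((F.simp ρ hirr).simple N hN hT).resolve_left hN0

/-- a nonzero `T U`-invariant subspace contains `V^U` -/
theorem fx_le {N : Submodule k V} (hN0 : N ≠ ⊥) (hU : Ivt ρ (Ut cs h X) N) (hT : Ivt ρ T N) :
    fx ρ (Ut cs h X) ≤ N := by
  obtain ⟨v, hv, hv0, hvU⟩ := exists_fixed ρ (F.isPGroup_Ut) N hU hN0
  have h1 : N ⊓ fx ρ (Ut cs h X) = fx ρ (Ut cs h X) := by
    refine F.eq_of_le ρ hirr (fun h2 => hv0 ?_) inf_le_right fun t ht w hw => ⟨hT t ht w hw.1, F.inv_fx ρ t ht w hw.2⟩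
    have : v ∈ N ⊓ fx ρ (Ut cs h X) := ⟨hv, hvU⟩
    rwa [h2, Submodule.mem_bot] at this
  rw [← h1]
  exact inf_le_left

end Fam

end Rep

end Cfsg.Agent.Omega.CR

end

section


/-!
# The theorem of Curtis and Richen for actions on elementary abelian groups

`M` an additive group of exponent `p` on which `Y` acts, without proper subgroups invariant under the group of the family.

* `Fam.act_le` : a nonzero subgroup fixed by `U`, invariant under `T`, is `C_M(U)`;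
* `Fam.act_le'` : a nonzero subgroup invariant under `U` and `T` contains `C_M(U)`;
* `Fam.act_gen` : `M` is generated by the `U⁻`-conjugates of `C_M(U)`;
* `Fam.act_inter` : `[M, U⁻] ∩ C_M(U) = 0`;
* `Fam.act_n` : `n_i C_M(U) ⊆ ⟨X_{-i}-conjugates of C_M(U)⟩`.
-/

set_option autoImplicit false
set_option linter.unusedSectionVars false

namespace Cfsg.Agent.Omega.CR

open CoxeterSystem Cfsg.Agent.ChevalleyStructure.CoxeterGeom Cfsg.Agent.Tits.Roots Cfsg.Agent.Tits.Core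
  Cfsg.Agent.Tits.Exchange Cfsg.Agent.Nodes.Reps Cfsg.Agent.Nodes.BNOf Cfsg.Agent.Nodes.StabComb
  Cfsg.Agent.Nodes.Bruhat Cfsg.Agent.Nodes.OppDec Cfsg.Agent.Nodes.LeviDec Cfsg.Agent.KFacts.RgdOpp

variable {κ : Type*} [Fintype κ] {I W : κ → Type*} {Y : Type*} [∀ l, Fintype (I l)] [∀ l, DecidableEq (I l)]
  [∀ l, Group (W l)] [Group Y] {M : ∀ l, CoxeterMatrix (I l)}
  {cs : ∀ l, CoxeterSystem (M l) (W l)} {A : ∀ l, I l → I l → ℤ} {h : ∀ l, IsCartan (M l) (A l)} {p : ℕ}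
  {T : Subgroup Y} {n : ∀ l, I l → Y} {X : ∀ l, (I l → ℤ) → Subgroup Y} {C : κ → Subgroup Y}

section

variable {E : Type*} [AddCommGroup E] [DistribMulAction Y E]

/-- the representation over `F_p` -/
def rep_of (Y : Type*) [Group Y] {E : Type*} [AddCommGroup E] [DistribMulAction Y E] (p : ℕ) [Module (ZMod p) E] :
    Y →* Module.End (ZMod p) E where
  toFun g := (DistribSMul.toAddMonoidHom E g).toZModLinearMap p
  map_one' := by ext v; exact one_smul Y v
  map_mul' a b := by ext v; exact mul_smul a b v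

theorem rep_of_apply [Module (ZMod p) E] (g : Y) (v : E) : rep_of Y p g v = g • v := rfl

/-- the additive subgroup as a subspace -/
def toSub [Module (ZMod p) E] (L : AddSubgroup E) : Submodule (ZMod p) E := AddSubgroup.toZModSubmodule p L

theorem mem_toSub [Module (ZMod p) E] {L : AddSubgroup E} {v : E} : v ∈ toSub (p := p) L ↔ v ∈ L := Iff.rfl

theorem toSub_ne [Module (ZMod p) E] {L : AddSubgroup E} (hL : L ≠ ⊥) : toSub (p := p) L ≠ ⊥ := by
  intro h0
  apply hL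
  rw [eq_bot_iff]
  intro v hv
  have h1 : v ∈ toSub (p := p) L := hv
  rw [h0, Submodule.mem_bot] at h1
  exact AddSubgroup.mem_bot.2 h1

end

theorem hirr' [Fact p.Prime] {E : Type*} [AddCommGroup E] [DistribMulAction Y E] {G : Subgroup Y}
    (hirr : ∀ L : AddSubgroup E, (∀ g ∈ G, ∀ v ∈ L, g • v ∈ L) → L = ⊥ ∨ L = ⊤) [Module (ZMod p) E]
    (L : Submodule (ZMod p) E) (hL : Ivt (rep_of Y p (E := E)) G L) :
    L = ⊥ ∨ L = ⊤ := by
  rcases hirr L.toAddSubgroup hL with h1 | h1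
  · left
    rw [eq_bot_iff]
    intro v hv
    have h2 : v ∈ L.toAddSubgroup := hv
    rw [h1, AddSubgroup.mem_bot] at h2
    exact (Submodule.mem_bot _).2 h2
  · right
    rw [eq_top_iff]
    intro v _
    have h2 : v ∈ L.toAddSubgroup := by rw [h1]; trivial
    exact h2

namespace Fam

variable (F : Fam cs h p T n X C) [Finite Y] [∀ l, Finite (W l)] [Fact p.Prime] {E : Type*} [AddCommGroup E]
  [DistribMulAction Y E] [Finite E] (hp : ∀ v : E, p • v = 0)
  (hirr : ∀ L : AddSubgroup E, (∀ g ∈ GGt cs h T X, ∀ v ∈ L, g • v ∈ L) → L = ⊥ ∨ L = ⊤)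
include F hp hirr

/-- a nonzero subgroup fixed by `U`, invariant under `T`, is `C(U)` -/
theorem act_le {e : AddSubgroup E} (he : e ≠ ⊥) (hU : ∀ u ∈ Ut cs h X, ∀ x ∈ e, u • x = x)
    (hT : ∀ t ∈ T, ∀ x ∈ e, t • x ∈ e) {x : E} (hx : ∀ u ∈ Ut cs h X, u • x = x) : x ∈ e := by
  let _ : Module (ZMod p) E := AddCommGroup.zmodModule (n := p) hp
  have _ : FiniteDimensional (ZMod p) E := Module.Finite.of_finite
  have h1 := F.eq_of_le (k := ZMod p) (V := E) (rep_of Y p (E := E)) (hirr' hirr) (N := toSub e) (toSub_ne he) (fun v hv u hu => hU u hu v hv)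
    (fun t ht v hv => hT t ht v hv)
  have h2 : x ∈ fx (rep_of Y p (E := E)) (Ut cs h X) := hx
  rw [← h1] at h2
  exact h2

/-- a nonzero subgroup invariant under `U` and `T` contains `C(U)` -/
theorem act_le' {N : AddSubgroup E} (hN : N ≠ ⊥) (hU : ∀ u ∈ Ut cs h X, ∀ x ∈ N, u • x ∈ N)
    (hT : ∀ t ∈ T, ∀ x ∈ N, t • x ∈ N) {x : E} (hx : ∀ u ∈ Ut cs h X, u • x = x) : x ∈ N := by
  let _ : Module (ZMod p) E := AddCommGroup.zmodModule (n := p) hp
  have _ : FiniteDimensional (ZMod p) E := Module.Finite.of_finite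
  have h1 := F.fx_le (k := ZMod p) (V := E) (rep_of Y p (E := E)) (hirr' hirr) (N := toSub N) (toSub_ne hN) (fun u hu v hv => hU u hu v hv)
    (fun t ht v hv => hT t ht v hv)
  exact h1 (show x ∈ fx (rep_of Y p (E := E)) (Ut cs h X) from hx)

/-- `E` is generated by the `U⁻`-conjugates of `C(U)` -/
theorem act_gen [Nontrivial E] {L : AddSubgroup E} (hL : ∀ x, (∀ u ∈ Ut cs h X, u • x = x) → ∀ u ∈ UNt cs h X, u • x ∈ L) :
    L = ⊤ := by
  let _ : Module (ZMod p) E := AddCommGroup.zmodModule (n := p) hp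
  have _ : FiniteDimensional (ZMod p) E := Module.Finite.of_finite
  have h1 := (F.main (k := ZMod p) (V := E) (rep_of Y p (E := E)) (hirr' hirr)).gen (hirr' hirr)
  rw [eq_top_iff]
  intro v _
  have h2 : v ∈ Sp (rep_of Y p (E := E)) (UNt cs h X) (fx (rep_of Y p (E := E)) (Ut cs h X)) := by rw [h1]; trivial
  have h3 : Sp (rep_of Y p (E := E)) (UNt cs h X) (fx (rep_of Y p (E := E)) (Ut cs h X)) ≤ toSub (p := p) L := by
    unfold Sp
    rw [Submodule.span_le]
    rintro _ ⟨u, hu, x, hx, rfl⟩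
    exact hL x hx u hu
  exact h3 h2

/-- `[E, U⁻] ∩ C(U) = 0` -/
theorem act_inter {x : E} (hx : ∀ u ∈ Ut cs h X, u • x = x)
    (hx' : x ∈ AddSubgroup.closure {y : E | ∃ u ∈ UNt cs h X, ∃ z : E, u • z - z = y}) : x = 0 := by
  let _ : Module (ZMod p) E := AddCommGroup.zmodModule (n := p) hp
  have _ : FiniteDimensional (ZMod p) E := Module.Finite.of_finite
  by_contra h0
  have : Nontrivial E := nontrivial_of_ne x 0 h0
  obtain ⟨φ, hφ, hφx⟩ := (F.eq_fx (k := ZMod p) (V := E) (rep_of Y p (E := E)) (hirr' hirr) (F.main (k := ZMod p) (V := E) (rep_of Y p (E := E)) (hirr' hirr))).2 x hx h0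
  apply hφx
  rw [mem_fx_dual] at hφ
  have h1 : AddSubgroup.closure {y : E | ∃ u ∈ UNt cs h X, ∃ z : E, u • z - z = y} ≤ (φ : E →+ ZMod p).ker := by
    rw [AddSubgroup.closure_le]
    rintro _ ⟨u, hu, z, rfl⟩
    change φ (u • z - z) = 0
    rw [map_sub, sub_eq_zero]
    exact hφ u hu z
  exact h1 hx'

/-- `n_i C(U) ⊆ ⟨X_{-i}-conjugates of C(U)⟩` -/
theorem act_n [Nontrivial E] (l : κ) (i : I l) {L : AddSubgroup E}
    (hL : ∀ x, (∀ u ∈ Ut cs h X, u • x = x) → ∀ u ∈ X l (-sr i), u • x ∈ L) {x : E}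
    (hx : ∀ u ∈ Ut cs h X, u • x = x) : n l i • x ∈ L := by
  let _ : Module (ZMod p) E := AddCommGroup.zmodModule (n := p) hp
  have _ : FiniteDimensional (ZMod p) E := Module.Finite.of_finite
  have h1 := (F.main (k := ZMod p) (V := E) (rep_of Y p (E := E)) (hirr' hirr)).n_mem l i (v := x) hx
  have h3 : Sp (rep_of Y p (E := E)) (X l (-sr i)) (fx (rep_of Y p (E := E)) (Ut cs h X)) ≤ toSub (p := p) L := by
    unfold Sp
    rw [Submodule.span_le]
    rintro _ ⟨u, hu, x, hx, rfl⟩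
    exact hL x hx u hu
  exact h3 h1

end Fam

end Cfsg.Agent.Omega.CR

end

section


/-!
# A family of root group data with a common torus from commuting components

`Comps` : commuting subgroups `C l` with root group data with their own tori `T l`, and a group `T0` of order prime to
`p` acting diagonally on all of them.  `Comps.fam` : the family with the common torus `T0 ⊔ ⨆ T l`.
-/

set_option autoImplicit false
set_option linter.unusedSectionVars false

namespace Cfsg.Agent.Omega.CR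

open Subgroup CoxeterSystem Cfsg.Agent.ChevalleyStructure.CoxeterGeom Cfsg.Agent.Tits.Roots Cfsg.Agent.Tits.Core
  Cfsg.Agent.Tits.Exchange Cfsg.Agent.Nodes.Reps Cfsg.Agent.Nodes.BNOf Cfsg.Agent.Nodes.StabComb
  Cfsg.Agent.Nodes.Bruhat Cfsg.Agent.Nodes.OppDec Cfsg.Agent.Nodes.LeviDec Cfsg.Agent.KFacts.RgdOpp

theorem card_sup_dvd' {G : Type*} [Group G] (H N : Subgroup G) (h : H ≤ normalizer (N : Set G)) :
    Nat.card ↥(H ⊔ N) ∣ Nat.card H * Nat.card N := by
  let _ := Subgroup.normal_subgroupOf_of_le_normalizer h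
  let _ := Subgroup.normal_subgroupOf_sup_of_le_normalizer h
  have e := (QuotientGroup.quotientInfEquivProdNormalizerQuotient H N h).toEquiv
  have h1 : (N.subgroupOf H).index = (N.subgroupOf (H ⊔ N)).index := Nat.card_congr e
  have h2 := Subgroup.card_mul_index (N.subgroupOf (H ⊔ N))
  rw [Nat.card_congr (Subgroup.subgroupOfEquivOfLe (le_sup_right : N ≤ H ⊔ N)).toEquiv, ← h1] at h2
  rw [← h2, mul_comm]
  exact Nat.mul_dvd_mul (Subgroup.index_dvd_card _) dvd_rfl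

variable {κ : Type*} [Fintype κ] {I W : κ → Type*} {Y : Type*} [∀ l, Fintype (I l)] [∀ l, DecidableEq (I l)]
  [∀ l, Group (W l)] [Group Y] {M : ∀ l, CoxeterMatrix (I l)}

/-- Commuting components with a group acting diagonally. -/
structure Comps (cs : ∀ l, CoxeterSystem (M l) (W l)) {A : ∀ l, I l → I l → ℤ} (h : ∀ l, IsCartan (M l) (A l)) (p : ℕ)
    (T : κ → Subgroup Y) (n : ∀ l, I l → Y) (X : ∀ l, (I l → ℤ) → Subgroup Y) (C : κ → Subgroup Y)
    (T0 : Subgroup Y) : Prop where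
  rgd : ∀ l, RGD (cs l) (h l) p (T l) (n l) (X l)
  T_le : ∀ l, T l ≤ C l
  X_le : ∀ l x, IsRoot (cs l) (h l) x → X l x ≤ C l
  n_mem : ∀ l i, n l i ∈ C l
  comm : ∀ l m, l ≠ m → ∀ a ∈ C l, ∀ b ∈ C m, a * b = b * a
  T0_T : ∀ l, ∀ t ∈ T0, ∀ s ∈ T l, t * s * t⁻¹ ∈ T l
  T0_X : ∀ l x, IsRoot (cs l) (h l) x → ∀ t ∈ T0, ∀ y ∈ X l x, t * y * t⁻¹ ∈ X l x
  T0_n : ∀ l i, ∀ t ∈ T0, (n l i)⁻¹ * (t * n l i * t⁻¹) ∈ T l
  cop : (Nat.card T0).Coprime p

variable {cs : ∀ l, CoxeterSystem (M l) (W l)} {A : ∀ l, I l → I l → ℤ} {h : ∀ l, IsCartan (M l) (A l)} {p : ℕ}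
  {T : κ → Subgroup Y} {n : ∀ l, I l → Y} {X : ∀ l, (I l → ℤ) → Subgroup Y} {C : κ → Subgroup Y} {T0 : Subgroup Y}

theorem le_normalizer_of {G : Type*} [Group G] {K H : Subgroup G} (h : ∀ t ∈ K, ∀ s ∈ H, t * s * t⁻¹ ∈ H) :
    K ≤ normalizer (H : Set G) := by
  intro t ht
  rw [mem_normalizer_iff]
  intro s
  refine ⟨h t ht s, fun hs => ?_⟩
  have h1 := h t⁻¹ (inv_mem ht) _ hs
  have e : t⁻¹ * (t * s * t⁻¹) * t⁻¹⁻¹ = s := by group
  rwa [e] at h1

namespace Comps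

variable (D : Comps cs h p T n X C T0)
include D

/-- `T̂` normalises every `T l` -/
theorem le_norm_T (l : κ) : T0 ⊔ ⨆ m, T m ≤ normalizer (T l : Set Y) := by
  refine sup_le (le_normalizer_of (D.T0_T l)) (iSup_le fun m => ?_)
  by_cases hm : m = l
  · subst hm; exact le_normalizer
  · refine le_normalizer_of fun t ht s hs => ?_
    rw [D.comm m l hm t (D.T_le m ht) s (D.T_le l hs), mul_inv_cancel_right]
    exact hs

theorem le_norm_X (l : κ) {x : I l → ℤ} (hx : IsRoot (cs l) (h l) x) : T0 ⊔ ⨆ m, T m ≤ normalizer (X l x : Set Y) := by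
  refine sup_le (le_normalizer_of (D.T0_X l x hx)) (iSup_le fun m => ?_)
  by_cases hm : m = l
  · subst hm
    refine le_normalizer_of fun t ht s hs => ?_
    have h1 := (D.rgd m).tor x hx t ht
    rw [← h1]
    exact conj_mem_cj.2 hs
  · refine le_normalizer_of fun t ht s hs => ?_
    rw [D.comm m l hm t (D.T_le m ht) s (D.X_le l x hx hs), mul_inv_cancel_right]
    exact hs

theorem T_le_sup (l : κ) : T l ≤ T0 ⊔ ⨆ m, T m := (le_iSup T l).trans le_sup_right

theorem n_norm (l : κ) (i : I l) : n l i ∈ normalizer ((T0 ⊔ ⨆ m, T m : Subgroup Y) : Set Y) := by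
  have key : ∀ g : Y, (g = n l i ∨ g = (n l i)⁻¹) → ∀ t ∈ T0 ⊔ ⨆ m, T m, g * t * g⁻¹ ∈ T0 ⊔ ⨆ m, T m := by
    intro g hg
    have hgC : g ∈ C l := by
      rcases hg with rfl | rfl
      · exact D.n_mem l i
      · exact inv_mem (D.n_mem l i)
    have hgN : g ∈ normalizer (T l : Set Y) := by
      rcases hg with rfl | rfl
      · exact (D.rgd l).nsys.norm i
      · exact inv_mem ((D.rgd l).nsys.norm i)
    have h1 : T0 ⊔ ⨆ m, T m ≤ (T0 ⊔ ⨆ m, T m : Subgroup Y).comap (MulAut.conj g).toMonoidHom := by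
      refine sup_le ?_ (iSup_le fun m => ?_)
      · intro t ht
        change g * t * g⁻¹ ∈ (T0 ⊔ ⨆ m, T m : Subgroup Y)
        have h2 : ∀ t ∈ T0, (n l i)⁻¹ * t * n l i * t⁻¹ ∈ T l := by
          intro t ht
          have h3 := D.T0_n l i t ht
          have e : (n l i)⁻¹ * (t * n l i * t⁻¹) = (n l i)⁻¹ * t * n l i * t⁻¹ := by group
          rwa [e] at h3
        have ht' : t ∈ T0 ⊔ ⨆ m, T m := mem_sup_left ht
        rcases hg with rfl | rfl
        · -- `n t n⁻¹ t⁻¹ = n (t n⁻¹ t⁻¹)`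
          have h3 : n l i * (t * (n l i)⁻¹ * t⁻¹) ∈ T l := by
            have h4 := h2 t ht
            have h5 : (n l i)⁻¹ * (n l i * (t * (n l i)⁻¹ * t⁻¹))⁻¹ * n l i = (n l i)⁻¹ * t * n l i * t⁻¹ := by group
            have h6 : (n l i)⁻¹ * (n l i * (t * (n l i)⁻¹ * t⁻¹))⁻¹ * (n l i)⁻¹⁻¹ ∈ T l := by
              rw [inv_inv, h5]; exact h4
            have h7 := (mem_normalizer_iff.1 (inv_mem ((D.rgd l).nsys.norm i)) _).2 h6
            exact inv_mem_iff.1 h7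
          have e : n l i * t * (n l i)⁻¹ = n l i * (t * (n l i)⁻¹ * t⁻¹) * t := by group
          rw [e]
          exact mul_mem (D.T_le_sup l h3) ht'
        · have e : (n l i)⁻¹ * t * (n l i)⁻¹⁻¹ = (n l i)⁻¹ * t * n l i * t⁻¹ * t := by group
          rw [e]
          exact mul_mem (D.T_le_sup l (h2 t ht)) ht'
      · intro t ht
        change g * t * g⁻¹ ∈ (T0 ⊔ ⨆ m, T m : Subgroup Y)
        by_cases hm : m = l
        · subst hm
          exact D.T_le_sup m ((mem_normalizer_iff.1 hgN t).1 ht)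
        · rw [← D.comm m l hm t (D.T_le m ht) g hgC, mul_inv_cancel_right]
          exact D.T_le_sup m ht
    exact fun t ht => h1 ht
  rw [mem_normalizer_iff]
  intro t
  refine ⟨key _ (Or.inl rfl) t, fun ht => ?_⟩
  have h1 := key _ (Or.inr rfl) _ ht
  have e : (n l i)⁻¹ * (n l i * t * (n l i)⁻¹) * (n l i)⁻¹⁻¹ = t := by group
  rwa [e] at h1

theorem coprime : (Nat.card ↥(T0 ⊔ ⨆ m, T m : Subgroup Y)).Coprime p := by
  classical
  have key : ∀ s : Finset κ, (Nat.card ↥(⨆ m ∈ s, T m : Subgroup Y)).Coprime p := by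
    intro s
    induction s using Finset.induction_on with
    | empty =>
      have h0 : (⨆ m ∈ (∅ : Finset κ), T m : Subgroup Y) = ⊥ := by simp
      rw [h0, Subgroup.card_bot]
      exact Nat.coprime_one_left p
    | insert a s ha ih =>
      rw [Finset.iSup_insert]
      have h1 : T a ≤ normalizer ((⨆ m ∈ s, T m : Subgroup Y) : Set Y) := by
        have h2 : (⨆ m ∈ s, T m : Subgroup Y) ≤ centralizer (T a : Set Y) := by
          refine iSup₂_le fun m hm => ?_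
          intro c hc
          rw [mem_centralizer_iff]
          intro g hg
          have hne : a ≠ m := by
            rintro rfl
            exact ha hm
          exact D.comm a m hne g (D.T_le a hg) c (D.T_le m hc)
        refine le_normalizer_of fun t ht c hc => ?_
        rw [mem_centralizer_iff.1 (h2 hc) t ht, mul_inv_cancel_right]
        exact hc
      exact Nat.Coprime.coprime_dvd_left (card_sup_dvd' _ _ h1) (Nat.Coprime.mul_left (D.rgd a).tcop ih)
  have h1 := key Finset.univ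
  have h2 : (⨆ m ∈ (Finset.univ : Finset κ), T m : Subgroup Y) = ⨆ m, T m := by
    simp only [Finset.mem_univ, iSup_pos]
  rw [h2] at h1
  have h3 : T0 ≤ normalizer ((⨆ m, T m : Subgroup Y) : Set Y) := by
    refine le_normalizer_of fun t ht => ?_
    have h4 : (⨆ m, T m : Subgroup Y) ≤ (⨆ m, T m : Subgroup Y).comap (MulAut.conj t).toMonoidHom := by
      refine iSup_le fun m s hs => ?_
      exact (le_iSup T m) (D.T0_T m t ht s hs)
    exact fun s hs => h4 hs
  exact Nat.Coprime.coprime_dvd_left (card_sup_dvd' _ _ h3) (Nat.Coprime.mul_left D.cop h1)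

/-- **The family with the common torus.** -/
theorem fam : Fam cs h p (T0 ⊔ ⨆ m, T m) n X C where
  rgd l :=
    { nsys := ⟨D.n_norm l, fun i j => D.T_le_sup l ((D.rgd l).nsys.rel i j)⟩
      conj := (D.rgd l).conj
      tor := fun x hx t ht => by
        apply le_antisymm
        · rintro _ ⟨y, hy, rfl⟩
          exact (mem_normalizer_iff.1 (D.le_norm_X l hx ht) y).1 hy
        · intro y hy
          rw [mem_cj]
          have h1 := (mem_normalizer_iff.1 (D.le_norm_X l hx (inv_mem ht)) y).1 hy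
          rwa [inv_inv] at h1
      comm := (D.rgd l).comm
      rk1 := fun i u hu hu1 => by
        obtain ⟨a, ha, t, ht, b, hb, e⟩ := (D.rgd l).rk1 i u hu hu1
        exact ⟨a, ha, t, D.T_le_sup l ht, b, hb, e⟩
      pgrp := (D.rgd l).pgrp
      notp := (D.rgd l).notp
      tcop := D.coprime }
  X_le := D.X_le
  n_mem := D.n_mem
  comm := D.comm

/-- the group of the family -/
theorem GGt_eq (hC : ∀ l, C l ≤ GG (cs l) (h l) (T l) (X l)) : GGt cs h (T0 ⊔ ⨆ m, T m) X = T0 ⊔ ⨆ m, C m := by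
  unfold GGt
  apply le_antisymm
  · refine sup_le (sup_le le_sup_left (iSup_le fun m => ?_)) (iSup_le fun l => ?_)
    · exact (D.T_le m).trans ((le_iSup C m).trans le_sup_right)
    · unfold GG
      refine sup_le (sup_le le_sup_left (iSup_le fun m => ?_)) (RGD.Sup_le fun z hz => ?_)
      · exact (D.T_le m).trans ((le_iSup C m).trans le_sup_right)
      · exact (D.X_le l z hz).trans ((le_iSup C l).trans le_sup_right)
  · refine sup_le (le_sup_left.trans le_sup_left) (iSup_le fun l => ?_)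
    refine (hC l).trans ?_
    unfold GG
    refine sup_le ((D.T_le_sup l).trans le_sup_left) (RGD.Sup_le fun z hz => ?_)
    refine le_trans ?_ ((le_iSup (fun l => GG (cs l) (h l) (T0 ⊔ ⨆ m, T m) (X l)) l).trans le_sup_right)
    unfold GG
    exact (RGD.le_Sup (S := {x | IsRoot (cs l) (h l) x}) hz).trans le_sup_right

end Comps

end Cfsg.Agent.Omega.CR

end

section


/-!
# Generation by `U⁻` and a nontrivial normal subgroup of `U`

`gen_of_normal` : root group data, connected diagram, `1 ≠ A₁ ≤ U` normal in `U` and normalised by `T`: a subgroup containing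
`U⁻` and `A₁` contains all root groups.
-/

set_option autoImplicit false
set_option linter.unusedSectionVars false

namespace Cfsg.Agent.Omega.CR

open Subgroup CoxeterSystem Cfsg.Agent.ChevalleyStructure.CoxeterGeom Cfsg.Agent.Tits.Roots Cfsg.Agent.Tits.Core
  Cfsg.Agent.Tits.Exchange Cfsg.Agent.Nodes.Reps Cfsg.Agent.Nodes.BNOf Cfsg.Agent.Nodes.StabComb
  Cfsg.Agent.Nodes.Bruhat Cfsg.Agent.Nodes.OppDec Cfsg.Agent.Nodes.LeviDec Cfsg.Agent.KFacts.RgdOpp
  Cfsg.Agent.KFacts.RgdVJ Cfsg.Agent.KFacts.RgdDiag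

variable {I W Y : Type*} [Fintype I] [DecidableEq I] [Group W] [Group Y] {M : CoxeterMatrix I}
  {cs : CoxeterSystem M W} {A : I → I → ℤ} {h : IsCartan M A} {p : ℕ} {T : Subgroup Y} {n : I → Y}
  {X : (I → ℤ) → Subgroup Y}

/-- `L ⊴ L T`, `T` of order prime to `p`: the `p`-elements of `L T` are in `L` -/
theorem mem_of_pow {G : Type*} [Group G] [Finite G] {p : ℕ} {L T : Subgroup G} (hT : T ≤ normalizer (L : Set G))
    (hcop : (Nat.card T).Coprime p) {x : G} (hx : x ∈ L ⊔ T) {k : ℕ} (hk : x ^ p ^ k = 1) : x ∈ L := by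
  have h1 : Nat.card ↥(T ⊔ L : Subgroup G) = Nat.card L * L.relIndex (T ⊔ L) := by
    rw [← relIndex_bot_left, ← relIndex_bot_left, relIndex_mul_relIndex ⊥ L (T ⊔ L) bot_le le_sup_right]
  have h2 : L.relIndex (T ⊔ L) ∣ Nat.card T := by
    have h3 := card_sup_dvd' T L hT
    rw [h1, mul_comm (Nat.card T)] at h3
    exact Nat.dvd_of_mul_dvd_mul_left Nat.card_pos h3
  have hn : (L.subgroupOf (T ⊔ L)).Normal := Subgroup.normal_subgroupOf_sup_of_le_normalizer hT
  have hx' : x ∈ T ⊔ L := by rwa [sup_comm]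
  have h4 : (⟨x, hx'⟩ : ↥(T ⊔ L : Subgroup G)) ^ (L.subgroupOf (T ⊔ L)).index ∈ L.subgroupOf (T ⊔ L) :=
    pow_index_mem _ _
  have h5 : x ^ L.relIndex (T ⊔ L) ∈ L := h4
  have h6 : (L.relIndex (T ⊔ L)).Coprime (p ^ k) := Nat.Coprime.pow_right k (Nat.Coprime.coprime_dvd_left h2 hcop)
  have h7 : orderOf (QuotientGroup.mk (s := L.subgroupOf (T ⊔ L)) (⟨x, hx'⟩ : ↥(T ⊔ L : Subgroup G))) = 1 := by
    rw [← Nat.dvd_one, ← h6.gcd_eq_one]
    refine Nat.dvd_gcd ?_ ?_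
    · rw [orderOf_dvd_iff_pow_eq_one, ← QuotientGroup.mk_pow, QuotientGroup.eq_one_iff]
      exact h5
    · rw [orderOf_dvd_iff_pow_eq_one, ← QuotientGroup.mk_pow]
      have : (⟨x, hx'⟩ : ↥(T ⊔ L : Subgroup G)) ^ p ^ k = 1 := Subtype.ext hk
      rw [this]; rfl
  rw [orderOf_eq_one_iff, QuotientGroup.eq_one_iff] at h7
  exact h7

variable (R : RGD cs h p T n X)

include R

theorem T_norm_UN' [Finite W] : T ≤ normalizer (UN cs h X : Set Y) := by
  have h1 := (opp R).T_le_normalizer_U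
  rwa [U_opp] at h1

/-- **Generation.** -/
theorem gen_of_normal [Finite Y] [Finite W]
    (hconn : ∀ J : Set I, J.Nonempty → J ≠ Set.univ → ∃ a ∈ J, ∃ b, b ∉ J ∧ M a b ≠ 2) {A₁ : Subgroup Y}
    (hA : A₁ ≤ RGD.Sup X (RGD.Pos cs h)) (hne : A₁ ≠ ⊥)
    (hU : ∀ u ∈ RGD.Sup X (RGD.Pos cs h), ∀ a ∈ A₁, u * a * u⁻¹ ∈ A₁) (hT : ∀ t ∈ T, ∀ a ∈ A₁, t * a * t⁻¹ ∈ A₁)
    {L : Subgroup Y} (hN : UN cs h X ≤ L) (hAL : A₁ ≤ L) {x : I → ℤ} (hx : IsRoot cs h x) : X x ≤ L := by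
  set L' : Subgroup Y := UN cs h X ⊔ A₁ with hL'
  have hL'L : L' ≤ L := sup_le hN hAL
  refine le_trans ?_ hL'L
  have hTL : T ≤ normalizer (L' : Set Y) := by
    refine le_normalizer_of fun t ht s hs => ?_
    have h1 : L' ≤ L'.comap (MulAut.conj t).toMonoidHom := by
      refine sup_le ?_ ?_
      · intro y hy
        exact mem_sup_left ((mem_normalizer_iff.1 (T_norm_UN' R ht) y).1 hy)
      · intro y hy
        exact mem_sup_right (hT t ht y hy)
    exact h1 hs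
  have hB : RGD.B cs h T (fun x => X (-x)) ≤ L' ⊔ T := by
    rw [B_opp]
    exact sup_le le_sup_right (le_sup_left.trans le_sup_left)
  have h1 := inf_eq_PJ (opp R) hB
  rw [PJ_opp, GG_opp] at h1
  set J : Set I := {i | n i ∈ L' ⊔ T} with hJ
  by_cases hJu : J = Set.univ
  · intro y hy
    have hy1 : y ∈ GG cs h T X := mem_sup_right (RGD.le_Sup (S := {x | IsRoot cs h x}) hx hy)
    have hy2 : y ∈ PNJ cs h T X J := by
      rw [hJu]
      exact mem_sup_left (by rw [LJ_univ]; exact hy1)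
    rw [← h1] at hy2
    obtain ⟨k, hk⟩ := R.pgrp' hx ⟨y, hy⟩
    exact mem_of_pow hTL R.tcop hy2.1 (congrArg Subtype.val hk)
  · exfalso
    apply hne
    rw [eq_bot_iff]
    intro a ha
    have haU := hA ha
    -- elements of `A₁` are in `U_J`
    have key : ∀ a ∈ A₁, a ∈ UJ cs h X J := by
      intro a ha
      have h2 : a ∈ PNJ cs h T X J := by
        rw [← h1]
        refine ⟨mem_sup_left (mem_sup_right ha), ?_⟩
        exact (RGD.Sup_mono (fun z hz => hz.1) : RGD.Sup X (RGD.Pos cs h) ≤ RGD.Sup X {x | IsRoot cs h x}).trans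
          le_sup_right (hA ha)
      obtain ⟨u, hu, v, hv, rfl⟩ := (mem_U_iff R (J := J)).1 (hA ha)
      have h3 : u ∈ PNJ cs h T X J := by
        refine mem_sup_left (mem_sup_right ?_)
        exact (RGD.Sup_mono (PosJ_subset J)) hu
      have h4 : v ∈ PNJ cs h T X J := by
        have : v = u⁻¹ * (u * v) := by group
        rw [this]
        exact mul_mem (inv_mem h3) h2
      rw [eq_one_of_mem_VJ_of_mem_PNJ R hv h4, mul_one]
      exact hu
    have hcomm : ∀ v ∈ VJ cs h X J, a * v = v * a := by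
      intro v hv
      have hvU : v ∈ RGD.Sup X (RGD.Pos cs h) := VJ_le_U J hv
      have h2 : a * v * a⁻¹ * v⁻¹ ∈ UJ cs h X J := by
        have h3 : v * a⁻¹ * v⁻¹ ∈ A₁ := hU v hvU _ (inv_mem ha)
        have e : a * v * a⁻¹ * v⁻¹ = a * (v * a⁻¹ * v⁻¹) := by group
        rw [e]
        exact key _ (mul_mem ha h3)
      have h3 : a * v * a⁻¹ * v⁻¹ ∈ VJ cs h X J := by
        have haN : a ∈ normalizer (VJ cs h X J : Set Y) :=
          PJ_le_normalizer_VJ R J (B_le_PJ (RGD.U_le_B haU))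
        exact mul_mem ((mem_normalizer_iff.1 haN v).1 hv) (inv_mem hv)
      have h4 : a * v * a⁻¹ * v⁻¹ ∈ UJ cs h X J ⊓ VJ cs h X J := ⟨h2, h3⟩
      rw [UJ_inf_VJ R, mem_bot] at h4
      have h5 : a * v = (a * v * a⁻¹ * v⁻¹) * v * a := by group
      rw [h5, h4, one_mul]
    have haG : a ∈ GG cs h T X :=
      (RGD.Sup_mono (fun z hz => hz.1) : RGD.Sup X (RGD.Pos cs h) ≤ RGD.Sup X {x | IsRoot cs h x}).trans
          le_sup_right haU
    obtain ⟨t, ht, v, hv, e, -, -⟩ := cent_VJ R hconn hJu haG hcomm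
    have ht1 : t = 1 := by
      have h3 : t ∈ RGD.Sup X (RGD.Pos cs h) := by
        have : t = a * v⁻¹ := by rw [e]; group
        rw [this]
        exact mul_mem haU (inv_mem (VJ_le_U J hv))
      have h2 : t ∈ RGD.Sup X (RGD.Pos cs h) ⊓ T := ⟨h3, ht⟩
      rwa [U_inf_T R, mem_bot] at h2
    rw [ht1, one_mul] at e
    have h2 : a ∈ UJ cs h X J ⊓ VJ cs h X J := ⟨key a ha, by rw [e]; exact hv⟩
    rwa [UJ_inf_VJ R] at h2

end Cfsg.Agent.Omega.CR

end

section


/-!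
# Commuting components with root group data: the Borel subgroup, the longest element, generation

`D : Comps cs h 2 T n X C T0`, every `C l` generated by its root groups; `E = ⨆ C l`, `S = Ut`, `HE = ⨆ T l`.

* `Comps.cpl` : `HE` is a complement of `S` in `N_E(S)`;
* `Comps.exists_w` : the longest element;
* `Comps.gen` : `E = ⟨S⁻, A⟩`.
-/

set_option autoImplicit false
set_option linter.unusedSectionVars false

namespace Cfsg.Agent.Omega.CR

open Subgroup CoxeterSystem Cfsg.Agent.ChevalleyStructure.CoxeterGeom Cfsg.Agent.Tits.Roots Cfsg.Agent.Tits.Core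
  Cfsg.Agent.Tits.Exchange Cfsg.Agent.Nodes.Reps Cfsg.Agent.Nodes.BNOf Cfsg.Agent.Nodes.StabComb
  Cfsg.Agent.Nodes.Bruhat Cfsg.Agent.Nodes.OppDec Cfsg.Agent.Nodes.LeviDec Cfsg.Agent.Nodes.NormalForm
  Cfsg.Agent.KFacts.RgdOpp

section general

variable {G : Type*} [Group G]

theorem mem_normalizer_of_le {U : Subgroup G} {g : G} (h : ∀ x ∈ U, g * x * g⁻¹ ∈ U) (h' : ∀ x ∈ U, g⁻¹ * x * g ∈ U) :
    g ∈ normalizer (U : Set G) := by
  rw [mem_normalizer_iff]
  intro x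
  refine ⟨h x, fun hx => ?_⟩
  have h1 := h' _ hx
  have e : g⁻¹ * (g * x * g⁻¹) * g = x := by group
  rwa [e] at h1

theorem relIndex_eq_card {U H : Subgroup G} (hH : H ≤ normalizer (U : Set G)) (hinf : U ⊓ H = ⊥) :
    Nat.card H = U.relIndex (U ⊔ H) := by
  let _ := Subgroup.normal_subgroupOf_of_le_normalizer hH
  let _ := Subgroup.normal_subgroupOf_sup_of_le_normalizer hH
  have e := (QuotientGroup.quotientInfEquivProdNormalizerQuotient H U hH).toEquiv
  have h1 : (U.subgroupOf H).index = (U.subgroupOf (H ⊔ U)).index := Nat.card_congr e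
  have h2 : U.subgroupOf H = ⊥ := by
    rw [eq_bot_iff]
    intro x hx
    have h3 : (x : G) ∈ U ⊓ H := ⟨mem_subgroupOf.1 hx, x.2⟩
    rw [hinf, mem_bot] at h3
    exact Subtype.ext h3
  rw [h2, index_bot] at h1
  rw [sup_comm]
  exact h1

/-- the elements normalising `HE` and commuting with `T0` modulo `HE` -/
def NN0 (HE T0 : Subgroup G) : Subgroup G where
  carrier := {g | g ∈ normalizer (HE : Set G) ∧ ∀ t ∈ T0, g⁻¹ * (t * g * t⁻¹) ∈ HE}
  one_mem' := ⟨one_mem _, fun t _ => by simp [one_mem]⟩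
  mul_mem' := by
    rintro a b ⟨ha, ha'⟩ ⟨hb, hb'⟩
    refine ⟨mul_mem ha hb, fun t ht => ?_⟩
    have e : (a * b)⁻¹ * (t * (a * b) * t⁻¹) = b⁻¹ * (a⁻¹ * (t * a * t⁻¹)) * b * (b⁻¹ * (t * b * t⁻¹)) := by group
    rw [e]
    refine mul_mem ?_ (hb' t ht)
    have := (mem_normalizer_iff.1 (inv_mem hb) _).1 (ha' t ht)
    rwa [inv_inv] at this
  inv_mem' := by
    rintro a ⟨ha, ha'⟩
    refine ⟨inv_mem ha, fun t ht => ?_⟩
    have e : a⁻¹⁻¹ * (t * a⁻¹ * t⁻¹) = a * (a⁻¹ * (t * a * t⁻¹))⁻¹ * a⁻¹ := by group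
    rw [e]
    exact (mem_normalizer_iff.1 ha _).1 (inv_mem (ha' t ht))

end general

variable {κ : Type*} [Fintype κ] {I W : κ → Type*} {Y : Type*} [∀ l, Fintype (I l)] [∀ l, DecidableEq (I l)]
  [∀ l, Group (W l)] [Group Y] {M : ∀ l, CoxeterMatrix (I l)}
  {cs : ∀ l, CoxeterSystem (M l) (W l)} {A : ∀ l, I l → I l → ℤ} {h : ∀ l, IsCartan (M l) (A l)} {p : ℕ}
  {T : κ → Subgroup Y} {n : ∀ l, I l → Y} {X : ∀ l, (I l → ℤ) → Subgroup Y} {C : κ → Subgroup Y} {T0 : Subgroup Y}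

/-- decomposition of an element of a product of commuting subgroups -/
theorem exists_dec' {C : κ → Subgroup Y} (comm : ∀ l m, l ≠ m → ∀ a ∈ C l, ∀ b ∈ C m, a * b = b * a)
    {P : κ → Prop} {a : κ} (ha : P a) {x : Y} (hx : x ∈ ⨆ m : {m // P m}, C m) :
    ∃ c ∈ C a, ∃ y ∈ ⨆ m : {m // P m ∧ m ≠ a}, C m, x = c * y ∧ ∀ c ∈ C a, c * y = y * c := by
  have hcm : ∀ c ∈ C a, ∀ y ∈ ⨆ m : {m // P m ∧ m ≠ a}, C m, c * y = y * c := by
    intro c hc y hy
    have h1 : (⨆ m : {m // P m ∧ m ≠ a}, C m) ≤ centralizer {c} := by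
      refine iSup_le fun m y hy => ?_
      rw [mem_centralizer_iff]
      rintro _ rfl
      exact comm a m (Ne.symm m.2.2) _ hc y hy
    exact mem_centralizer_iff.1 (h1 hy) c rfl
  have h1 : (⨆ m : {m // P m}, C m) ≤ C a ⊔ ⨆ m : {m // P m ∧ m ≠ a}, C m := by
    refine iSup_le fun m => ?_
    by_cases hm : (m : κ) = a
    · rw [hm]; exact le_sup_left
    · exact (le_iSup (fun m : {m // P m ∧ m ≠ a} => C m) ⟨m, m.2, hm⟩).trans le_sup_right
  have h2 : C a ≤ normalizer ((⨆ m : {m // P m ∧ m ≠ a}, C m : Subgroup Y) : Set Y) := by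
    refine le_normalizer_of fun c hc y hy => ?_
    rw [hcm c hc y hy, mul_inv_cancel_right]
    exact hy
  have h3 := h1 hx
  rw [← SetLike.mem_coe, coe_mul_of_left_le_normalizer_right _ _ h2] at h3
  obtain ⟨c, hc, y, hy, e⟩ := Set.mem_mul.1 h3
  exact ⟨c, hc, y, hy, e.symm, fun c hc => hcm c hc y hy⟩

namespace Comps

variable (D : Comps cs h p T n X C T0)
include D

theorem GG_le (l : κ) : GG (cs l) (h l) (T l) (X l) ≤ C l := by
  unfold GG
  exact sup_le (D.T_le l) (RGD.Sup_le fun x hx => D.X_le l x hx)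

theorem U_le (l : κ) : RGD.Sup (X l) (RGD.Pos (cs l) (h l)) ≤ C l := RGD.Sup_le fun x hx => D.X_le l x hx.1

theorem Ut_le : Ut cs h X ≤ ⨆ l, C l := iSup_mono D.U_le

theorem HE_le : (⨆ l, T l) ≤ ⨆ l, C l := iSup_mono D.T_le

theorem HE_norm_Ut : T0 ⊔ ⨆ l, T l ≤ normalizer (Ut cs h X : Set Y) := by
  exact le_normalizer_of fun t ht u hu => D.fam.T_norm_Ut ht hu

theorem coprime_HE : (Nat.card ↥(⨆ l, T l : Subgroup Y)).Coprime p :=
  Nat.Coprime.coprime_dvd_left (card_dvd_of_le le_sup_right) D.coprime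

theorem T0_HE {t : Y} (ht : t ∈ T0) {s : Y} (hs : s ∈ ⨆ l, T l) : t * s * t⁻¹ ∈ ⨆ l, T l := by
  have h4 : (⨆ m, T m : Subgroup Y) ≤ (⨆ m, T m : Subgroup Y).comap (MulAut.conj t).toMonoidHom := by
    refine iSup_le fun m s hs => ?_
    exact (le_iSup T m) (D.T0_T m t ht s hs)
  exact h4 hs

variable [Finite Y] [∀ l, Finite (W l)] [Fact p.Prime]

theorem Ut_inf_HE : Ut cs h X ⊓ ⨆ l, T l = ⊥ := by
  apply inf_eq_bot_of_coprime
  obtain ⟨k, hk⟩ := IsPGroup.iff_card.1 D.fam.isPGroup_Ut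
  rw [hk]
  exact (Nat.Coprime.pow_right k D.coprime_HE).symm

variable (hC : ∀ l, C l ≤ RGD.Sup (X l) {x | IsRoot (cs l) (h l) x})
include hC

theorem C_eq (l : κ) : GG (cs l) (h l) (T l) (X l) = C l :=
  le_antisymm (D.GG_le l) ((hC l).trans le_sup_right)

theorem Ut_inf_C (l : κ) : Ut cs h X ⊓ C l = RGD.Sup (X l) (RGD.Pos (cs l) (h l)) := by
  refine eq_U_of_isPGroup (D.rgd l) (D.fam.isPGroup_Ut.to_le inf_le_left) (le_inf (U_le_Ut l) (D.U_le l)) ?_
  rw [D.C_eq hC l]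
  exact inf_le_right

theorem normalizer_le : (⨆ l, C l) ⊓ normalizer (Ut cs h X : Set Y) ≤ Ut cs h X ⊔ ⨆ l, T l := by
  classical
  rintro x ⟨hx, hxN⟩
  have hTN : Ut cs h X ⊔ ⨆ l, T l ≤ normalizer (Ut cs h X : Set Y) :=
    sup_le le_normalizer (le_sup_right.trans D.HE_norm_Ut)
  have key : ∀ s : Finset κ, ∃ b ∈ Ut cs h X ⊔ ⨆ l, T l, b⁻¹ * x ∈ ⨆ m : {m // m ∉ s}, C m := by
    intro s
    induction s using Finset.induction_on with
    | empty =>
      refine ⟨1, one_mem _, ?_⟩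
      rw [inv_one, one_mul]
      have h1 : (⨆ l, C l) ≤ ⨆ m : {m // m ∉ (∅ : Finset κ)}, C m :=
        iSup_le fun l => le_iSup (fun m : {m // m ∉ (∅ : Finset κ)} => C m) ⟨l, Finset.notMem_empty l⟩
      exact h1 hx
    | insert a s ha ih =>
      obtain ⟨b, hb, hbx⟩ := ih
      obtain ⟨c, hc, y, hy, e, hcy⟩ := exists_dec' D.comm (P := fun m => m ∉ s) ha hbx
      have hcN : c ∈ RGD.B (cs a) (h a) (T a) (X a) := by
        rw [← normalizer_U (D.rgd a)]
        refine ⟨?_, by rw [D.C_eq hC a]; exact hc⟩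
        have h1 : b⁻¹ * x ∈ normalizer (Ut cs h X : Set Y) := mul_mem (inv_mem (hTN hb)) hxN
        refine mem_normalizer_of_le ?_ ?_
        · intro u hu
          have h2 := (mem_normalizer_iff.1 h1 u).1 (U_le_Ut a hu)
          have h3 : b⁻¹ * x * u * (b⁻¹ * x)⁻¹ = c * u * c⁻¹ := by
            have h4 := hcy _ (D.U_le a hu)
            have h5 : y * u * y⁻¹ = u := by rw [← h4, mul_inv_cancel_right]
            calc b⁻¹ * x * u * (b⁻¹ * x)⁻¹ = c * (y * u * y⁻¹) * c⁻¹ := by rw [e]; group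
              _ = _ := by rw [h5]
          rw [h3] at h2
          have h5 : c * u * c⁻¹ ∈ C a := mul_mem (mul_mem hc (D.U_le a hu)) (inv_mem hc)
          have h4 : c * u * c⁻¹ ∈ Ut cs h X ⊓ C a := ⟨h2, h5⟩
          rwa [D.Ut_inf_C hC] at h4
        · intro u hu
          have h2 := (mem_normalizer_iff.1 (inv_mem h1) u).1 (U_le_Ut a hu)
          have h3 : (b⁻¹ * x)⁻¹ * u * (b⁻¹ * x)⁻¹⁻¹ = c⁻¹ * u * c := by
            have h4 := hcy _ (mul_mem (mul_mem (inv_mem hc) (D.U_le a hu)) hc)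
            calc (b⁻¹ * x)⁻¹ * u * (b⁻¹ * x)⁻¹⁻¹ = y⁻¹ * ((c⁻¹ * u * c) * y) := by rw [e]; group
              _ = y⁻¹ * (y * (c⁻¹ * u * c)) := by rw [h4]
              _ = _ := by group
          rw [h3] at h2
          have h5 : c⁻¹ * u * c ∈ C a := mul_mem (mul_mem (inv_mem hc) (D.U_le a hu)) hc
          have h4 : c⁻¹ * u * c ∈ Ut cs h X ⊓ C a := ⟨h2, h5⟩
          rwa [D.Ut_inf_C hC] at h4
      have hcB : c ∈ Ut cs h X ⊔ ⨆ l, T l := by
        refine (?_ : RGD.B (cs a) (h a) (T a) (X a) ≤ _) hcN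
        unfold RGD.B
        exact sup_le ((le_iSup T a).trans le_sup_right) ((U_le_Ut a).trans le_sup_left)
      refine ⟨b * c, mul_mem hb hcB, ?_⟩
      have h2 : (b * c)⁻¹ * x = y := by
        have : (b * c)⁻¹ * x = c⁻¹ * (b⁻¹ * x) := by group
        rw [this, e]; group
      rw [h2]
      have h3 : (⨆ m : {m // m ∉ s ∧ m ≠ a}, C m) ≤ ⨆ m : {m // m ∉ insert a s}, C m :=
        iSup_le fun m => le_iSup (fun m : {m // m ∉ insert a s} => C m) ⟨m, by
          rw [Finset.mem_insert, not_or]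
          exact ⟨m.2.2, m.2.1⟩⟩
      exact h3 hy
  obtain ⟨b, hb, hbx⟩ := key Finset.univ
  have h1 : (⨆ m : {m // m ∉ (Finset.univ : Finset κ)}, C m) = ⊥ := by
    rw [eq_bot_iff]
    exact iSup_le fun m => absurd (Finset.mem_univ _) m.2
  rw [h1, mem_bot] at hbx
  have h2 : x = b := by
    have := inv_mul_eq_one.1 hbx
    exact this.symm
  rw [h2]; exact hb

theorem normalizer_eq : (⨆ l, C l) ⊓ normalizer (Ut cs h X : Set Y) = Ut cs h X ⊔ ⨆ l, T l :=
  le_antisymm (D.normalizer_le hC) (le_inf (sup_le D.Ut_le D.HE_le)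
    (sup_le le_normalizer (le_sup_right.trans D.HE_norm_Ut)))

/-- **`HE` is a complement of `S` in `N_E(S)`.** -/
theorem cpl : Hex.Cpl (Ut cs h X) ((⨆ l, C l) ⊓ normalizer (Ut cs h X : Set Y)) (⨆ l, T l) := by
  rw [D.normalizer_eq hC]
  exact ⟨le_sup_right, relIndex_eq_card (le_sup_right.trans D.HE_norm_Ut) D.Ut_inf_HE⟩

/-- **Generation.** -/
theorem gen (hconn : ∀ l, ∀ J : Set (I l), J.Nonempty → J ≠ Set.univ → ∃ a ∈ J, ∃ b, b ∉ J ∧ M l a b ≠ 2)
    {A₁ : Subgroup Y} (hne : ∀ l, A₁ ⊓ RGD.Sup (X l) (RGD.Pos (cs l) (h l)) ≠ ⊥)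
    (hU : ∀ u ∈ Ut cs h X, ∀ a ∈ A₁, u * a * u⁻¹ ∈ A₁) (hT : ∀ t ∈ ⨆ l, T l, ∀ a ∈ A₁, t * a * t⁻¹ ∈ A₁)
    {L : Subgroup Y} (hN : UNt cs h X ≤ L) (hAL : A₁ ≤ L) : ⨆ l, C l ≤ L := by
  refine iSup_le fun l => (hC l).trans (RGD.Sup_le fun x hx => ?_)
  refine gen_of_normal (D.rgd l) (hconn l) (A₁ := A₁ ⊓ RGD.Sup (X l) (RGD.Pos (cs l) (h l))) inf_le_right (hne l) ?_ ?_
    ((UN_le_UNt l).trans hN) (inf_le_left.trans hAL) hx
  · rintro u hu a ⟨ha, ha'⟩
    have h5 : u * a * u⁻¹ ∈ RGD.Sup (X l) (RGD.Pos (cs l) (h l)) := mul_mem (mul_mem hu ha') (inv_mem hu)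
    exact ⟨hU u (U_le_Ut l hu) a ha, h5⟩
  · rintro t ht a ⟨ha, ha'⟩
    exact ⟨hT t ((le_iSup T l) ht) a ha, (mem_normalizer_iff.1 ((D.rgd l).T_le_normalizer_U ht) a).1 ha'⟩

omit [Finite Y] [∀ l, Finite (W l)] [Fact p.Prime] hC in
theorem n_mem_NN0 (l : κ) (i : I l) : n l i ∈ NN0 (⨆ m, T m) T0 := by
  refine ⟨?_, fun t ht => (le_iSup T l) (D.T0_n l i t ht)⟩
  have hnl := (D.rgd l).nsys.norm i
  have key : ∀ g ∈ C l, g ∈ normalizer (T l : Set Y) → (⨆ m, T m : Subgroup Y) ≤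
      (⨆ m, T m : Subgroup Y).comap (MulAut.conj g).toMonoidHom := by
    intro g hg hgN
    refine iSup_le fun m t ht => ?_
    change g * t * g⁻¹ ∈ (⨆ m, T m : Subgroup Y)
    by_cases hm : m = l
    · subst hm
      exact (le_iSup T m) ((mem_normalizer_iff.1 hgN t).1 ht)
    · rw [← D.comm m l hm t (D.T_le m ht) g hg, mul_inv_cancel_right]
      exact (le_iSup T m) ht
  refine mem_normalizer_of_le (fun x hx => key _ (D.n_mem l i) hnl hx) fun x hx => ?_
  have h1 := key _ (inv_mem (D.n_mem l i)) (inv_mem hnl) hx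
  change (n l i)⁻¹ * x * (n l i)⁻¹⁻¹ ∈ (⨆ m, T m : Subgroup Y) at h1
  rwa [inv_inv] at h1

omit [Finite Y] [Fact p.Prime] hC in
/-- **The longest element.** -/
theorem exists_w : ∃ w ∈ ⨆ l, C l, w ∈ NN0 (⨆ m, T m) T0 ∧ cj w (Ut cs h X) = UNt cs h X := by
  classical
  have hg : ∀ l, ∃ g ∈ C l, g ∈ NN0 (⨆ m, T m) T0 ∧
      cj g (RGD.Sup (X l) (RGD.Pos (cs l) (h l))) = UN (cs l) (h l) (X l) := by
    intro l
    obtain ⟨g, hg, hgR⟩ := exists_rp_closure (cs := cs l) (hN := (D.rgd l).nsys) (w0 (cs l))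
    have h1 : g ∈ C l ⊓ NN0 (⨆ m, T m) T0 := by
      refine (?_ : closure (Set.range (n l)) ≤ _) hg
      rw [closure_le]
      rintro _ ⟨i, rfl⟩
      exact ⟨D.n_mem l i, D.n_mem_NN0 l i⟩
    refine ⟨g⁻¹, inv_mem h1.1, inv_mem h1.2, ?_⟩
    rw [← cj_UN (D.rgd l) hgR, ← cj_mul, inv_mul_cancel, cj_one]
  choose g hgC hgN hgU using hg
  have key : ∀ s : Finset κ, ∃ w ∈ ⨆ l ∈ s, C l, w ∈ NN0 (⨆ m, T m) T0 ∧
      ∀ l ∈ s, cj w (RGD.Sup (X l) (RGD.Pos (cs l) (h l))) = UN (cs l) (h l) (X l) := by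
    intro s
    induction s using Finset.induction_on with
    | empty => exact ⟨1, one_mem _, one_mem _, fun l hl => absurd hl (Finset.notMem_empty l)⟩
    | insert a s ha ih =>
      obtain ⟨w, hw, hwN, hwU⟩ := ih
      have hcomm : ∀ c ∈ C a, c * w = w * c := by
        intro c hc
        have h1 : (⨆ l ∈ s, C l) ≤ centralizer {c} := by
          refine iSup₂_le fun m hm y hy => ?_
          rw [mem_centralizer_iff]
          rintro _ rfl
          have hne : a ≠ m := by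
            rintro rfl
            exact ha hm
          exact D.comm a m hne _ hc y hy
        exact mem_centralizer_iff.1 (h1 hw) c rfl
      refine ⟨g a * w, ?_, mul_mem (hgN a) hwN, ?_⟩
      · rw [Finset.iSup_insert]
        exact mul_mem (mem_sup_left (hgC a)) (mem_sup_right hw)
      · intro l hl
        rw [cj_mul]
        by_cases hla : l = a
        · subst hla
          have h1 : cj w (RGD.Sup (X l) (RGD.Pos (cs l) (h l))) = RGD.Sup (X l) (RGD.Pos (cs l) (h l)) := by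
            apply le_antisymm
            · rintro _ ⟨u, hu, rfl⟩
              change w * u * w⁻¹ ∈ _
              rw [← hcomm u (D.U_le l hu), mul_inv_cancel_right]
              exact hu
            · intro u hu
              rw [mem_cj]
              have := hcomm u (D.U_le l hu)
              rw [mul_assoc, this, inv_mul_cancel_left]
              exact hu
          rw [h1, hgU]
        · rw [hwU l ((Finset.mem_insert.1 hl).resolve_left hla)]
          have hm : ∀ u ∈ UN (cs l) (h l) (X l), g a * u = u * g a := fun u hu =>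
            (D.comm l a hla u (D.fam.UN_le l hu) (g a) (hgC a)).symm
          apply le_antisymm
          · rintro _ ⟨u, hu, rfl⟩
            change g a * u * (g a)⁻¹ ∈ _
            rw [hm u hu, mul_inv_cancel_right]
            exact hu
          · intro u hu
            rw [mem_cj, mul_assoc, ← hm u hu, inv_mul_cancel_left]
            exact hu
  obtain ⟨w, hw, hwN, hwU⟩ := key Finset.univ
  refine ⟨w, ?_, hwN, ?_⟩
  · refine (?_ : (⨆ l ∈ (Finset.univ : Finset κ), C l) ≤ ⨆ l, C l) hw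
    exact iSup₂_le fun l _ => le_iSup C l
  · unfold Ut UNt
    rw [cj_iSup]
    exact iSup_congr fun l => hwU l (Finset.mem_univ l)

end Comps

end Cfsg.Agent.Omega.CR

end

section


/-!
# The K-side: `KDiag` for all components

`kDiag_all` : `KTable`, `KPhi` and `TAct` imply `KDiag` or `KExc`.
-/

set_option autoImplicit false
set_option linter.unusedSectionVars false

namespace Cfsg.Agent.Omega.CR

open Subgroup CoxeterSystem Cfsg.Agent.ChevalleyStructure.CoxeterGeom Cfsg.Agent.Tits.Roots Cfsg.Agent.Tits.Core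
  Cfsg.Agent.Tits.RootComb Cfsg.Agent.Nodes.Comb Cfsg.Agent.Nodes.Reps Cfsg.Agent.Nodes.BNOf
  Cfsg.Agent.Nodes.Bruhat Cfsg.Agent.KFacts.RgdCharP
  Cfsg.Agent.Omega.Lie.End Cfsg.Agent.Omega.Lie.End.Mov
open Cfsg.Agent.LieRecognition.BNCox (cA cA_apply)

/-- the root group datum of `PSL₂(F)` -/
theorem psl_rgd {F : Type} [Field F] [Finite F] [CharP F 2] {Y : Type*} [Group Y]
    (e : Matrix.ProjectiveSpecialLinearGroup (Fin 2) F ≃* Y) :
    ∃ (A : Fin 1 → Fin 1 → ℤ) (h : IsCartan (cA 1) A) (T : Subgroup Y) (n : Fin 1 → Y)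
      (X : (Fin 1 → ℤ) → Subgroup Y), Finite (cA 1).Group ∧ RGD (cA 1).toCoxeterSystem h 2 T n X ∧
        RGD.Sup X {x | IsRoot (cA 1).toCoxeterSystem h x} = ⊤ ∧ ∀ s ∈ T, ∀ t ∈ T, s * t = t * s := by
  have : Fact (Nat.Prime 2) := ⟨Nat.prime_two⟩
  have hW : Finite (cA 1).Group := Cfsg.Agent.Nodes.RootsA.finite_W (cA 1).toCoxeterSystem
    (Cfsg.Agent.Nodes.RootsA.isCartan 1)
  have R := Cfsg.Agent.Nodes.RGDTypeA.rgd_psl (cA 1).toCoxeterSystem (Cfsg.Agent.Nodes.RootsA.isCartan 1) (F := F)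
    (p := 2)
  have hG := Cfsg.Agent.Nodes.RGDTypeA.G1_psl_eq_top (cA 1).toCoxeterSystem (Cfsg.Agent.Nodes.RootsA.isCartan 1)
    (F := F)
  refine ⟨_, Cfsg.Agent.Nodes.RootsA.isCartan 1, _, _, _, hW,
    Nodes.RGDLib.rgd_map_of_injective R e.toMonoidHom e.injective, ?_, ?_⟩
  · have h1 := Cfsg.Agent.Nodes.RGDTypeA.G1_map (cA 1).toCoxeterSystem (Cfsg.Agent.Nodes.RootsA.isCartan 1)
      (fun x => (Cfsg.Agent.Nodes.RGDTypeA.X F x).map (Cfsg.Agent.Nodes.RGDTypeA.pr 1 F)) e.toMonoidHom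
    rw [hG, ← MonoidHom.range_eq_map, MonoidHom.range_eq_top.2 e.surjective] at h1
    exact h1
  · rintro _ ⟨_, ⟨s, hs, rfl⟩, rfl⟩ _ ⟨_, ⟨t, ht, rfl⟩, rfl⟩
    rw [← map_mul, ← map_mul, ← map_mul, ← map_mul, KFacts.Mult.TypeA.T_comm hs ht]

theorem conn_one {M : CoxeterMatrix (Fin 1)} : Conn M := by
  rintro J ⟨a, ha⟩ hJ
  exfalso
  apply hJ
  rw [Set.eq_univ_iff_forall]
  intro b
  rw [Subsingleton.elim b a]
  exact ha

section ltwo

open Cfsg.Agent.Omega.Lie.End.LTwoSide Cfsg.Agent.Omega.EH3.Rank1.LTwo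
open scoped Matrix MatrixGroups Pointwise

theorem kexc_of {K : Type*} [Group K] [Finite K] (hp : commutator K = ⊤) (hodd : Odd (Nat.card (center K)))
    (hL : IsLTwo (K ⧸ center K)) (S : Sylow 2 K) {T : Subgroup (MulAut K)} (h : TAct (S : Subgroup K) T)
    (hf : ¬ ∀ t ∈ T, t ≠ 1 → ∀ u ∈ (S : Subgroup K), t u = u → u = 1) : KExc K (S : Subgroup K) T := by
  obtain ⟨F, _, _, _, h4, ⟨e₀⟩⟩ := hL
  obtain ⟨e₁⟩ := psl_equiv (F := F)
  obtain ⟨e⟩ := exists_equiv hp hodd (e₀.trans e₁)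
  obtain ⟨Q, hQ⟩ := sylow_eq e
  obtain ⟨g, hg⟩ := MulAction.exists_smul_eq K Q S
  have hS : ∀ x, x ∈ (S : Subgroup K) ↔ ((MulAut.conj g⁻¹).trans e) x ∈ U F := by
    intro x
    have h1 : x ∈ (S : Subgroup K) ↔ g⁻¹ * x * g ∈ Q := by
      rw [← hg]
      show x ∈ MulAut.conj g • (Q : Subgroup K) ↔ _
      rw [Subgroup.mem_pointwise_smul_iff_inv_smul_mem]
      show ((MulAut.conj g)⁻¹ x ∈ (Q : Subgroup K)) ↔ _
      rw [MulAut.conj_inv_apply]
      rfl
    rw [h1, hQ]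
    show e (g⁻¹ * x * g) ∈ U F ↔ e (g⁻¹ * x * g⁻¹⁻¹) ∈ U F
    rw [inv_inv]
  simp only [not_forall] at hf
  obtain ⟨t₀, ht₀, h1, u₀, hu₀, hfx, hu1⟩ := hf
  obtain ⟨e'⟩ := psl_equiv (F := F)
  exact ⟨(co hS).card_three h ht₀ h1 hu₀ hu1 hfx, ⟨u₀, hu₀, hu1, fun t ht => fix_all h ht₀ h1 hu₀ hfx ht⟩,
    F, inferInstance, Fintype.ofFinite F, ringChar.eq_iff.2 inferInstance,
    ⟨((MulAut.conj g⁻¹).trans e).trans e'.symm⟩⟩

end ltwo

universe u

/-- **The K-side.** -/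
theorem kDiag_all (tab : KTable.{u}) (phi : KPhi.{u}) (K : Type u) [Group K] [Finite K] (hperf : commutator K = ⊤)
    (hsimple : IsSimpleGroup (K ⧸ center K)) (hodd : Odd (Nat.card (center K)))
    (hlie : IsLieTypeChar 2 (K ⧸ center K)) (S : Sylow 2 K) {Γ : Subgroup (MulAut K)}
    (hT : TAct (S : Subgroup K) Γ) : KDiag (S : Subgroup K) Γ ∨ KExc K (S : Subgroup K) Γ := by
  have : Fact (Nat.Prime 2) := ⟨Nat.prime_two⟩
  have hs : Function.Surjective (QuotientGroup.mk' (center K)) := QuotientGroup.mk'_surjective _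
  have hker : (QuotientGroup.mk' (center K)).ker = center K := QuotientGroup.ker_mk' _
  have hp : Odd (Nat.card (QuotientGroup.mk' (center K)).ker) := by rw [hker]; exact hodd
  rcases tab (K ⧸ center K) hsimple hlie with h1 | h1 | h1
  · left
    obtain ⟨l, M, A, h, T, n, X, hW, R, hG1, hr⟩ := h1
    refine kdiag_of (QuotientGroup.mk' (center K)) hker.le hp hs hperf hW hr.conn R hG1 hr.ab S hT ?_
    rintro ⟨i, hi⟩
    obtain ⟨a, b, hab⟩ := hr.two
    exact absurd ((hi a).trans (hi b).symm) hab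
  · by_cases hf : ∀ t ∈ Γ, t ≠ 1 → ∀ u ∈ (S : Subgroup K), t u = u → u = 1
    · left
      obtain ⟨F, _, _, _, h4, ⟨e₀⟩⟩ := h1
      obtain ⟨A, h, T, n, X, hW, R, hG1, hTc⟩ := psl_rgd e₀.symm
      exact kdiag_of (QuotientGroup.mk' (center K)) hker.le hp hs hperf hW conn_one R hG1 hTc
         S hT fun _ => LTwoSide.AT_eq hT hf
    · exact Or.inr (kexc_of hperf hodd h1 S hT hf)
  · exfalso
    obtain ⟨e⟩ := exists_equiv_map (QuotientGroup.mk' (center K)) hp S.2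
    have h2 : DeadPhi.PhiAb ((S : Subgroup K).map (QuotientGroup.mk' (center K))) := phi _ h1 (S.mapSurjective hs)
    exact DeadPhi.false_of_tact S.2 (h2.map e.symm) hT

end Cfsg.Agent.Omega.CR

end

section


/-!
# The K-side: `kPhi : KPhi` (helper484)
-/

set_option autoImplicit false

namespace Cfsg.Agent.Omega.Lie.End

universe u

/-- **`U₃(q)`, `Sz(q)`, `²F₄(q)`**: every normal elementary abelian subgroup of a Sylow 2-subgroup lies in its Frattini
subgroup. -/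
theorem kPhi : KPhi.{u} := fun _ _ _ h S => phiAb_dead h S

end Cfsg.Agent.Omega.Lie.End

end

section


/-!
# The K-side for `L₂(q)` with `Opp` and `OneL` (helper650, from helper578's `KLTwo`)
-/

set_option autoImplicit false

namespace Cfsg.Agent.Omega.Lie.End.LTwoSide

open Subgroup Cfsg.Agent.ParSys Cfsg.Agent.Omega.EH3.Rank1.LTwo
open scoped Matrix MatrixGroups Pointwise

/-- a system with `P i = ⊤` -/
theorem opp_of_top {K : Type*} [Group K] {S : Subgroup K} {T : Subgroup (MulAut K)} {J : Type} {P : J → Subgroup K}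
    {m : J → J → ℕ} (h : KSys S T P m) (i : J) (hP : P i = ⊤) : Opp (normalizer (S : Set K)) S P := by
  have h5 := h.five i
  obtain ⟨w, hw⟩ : ∃ w, w ∉ normalizer (S : Set K) := by
    by_contra hcon
    push Not at hcon
    have h6 : normalizer (S : Set K) = ⊤ := by
      rw [eq_top_iff]
      exact fun x _ => hcon x
    rw [h6, relIndex_top_left] at h5
    omega
  refine ⟨w, fun C h1 h2 h3 x => ?_⟩
  have key : ∀ y, y ∉ normalizer (S : Set K) → y ∈ C := by
    intro y hy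
    obtain ⟨u, hu, b, hb, e⟩ := h.ptr i w (by rw [hP]; exact mem_top _) hw y (by rw [hP]; exact mem_top _) hy
    rw [e]
    exact h1 _ (h2 u hu) b hb
  by_cases hx : x ∈ normalizer (S : Set K)
  · refine h3 x i fun y _ hyB => key _ fun hxy => hyB ?_
    have h4 := mul_mem (inv_mem hx) hxy
    rwa [inv_mul_cancel_left] at h4
  · exact key x hx

/-- **The K-side for `K ≅ SL₂(F)`.** -/
theorem sideX {K : Type*} [Group K] [Finite K] {F : Type} [Field F] [Finite F] [CharP F 2] (h4 : 4 ≤ Nat.card F)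
    (e : K ≃* SL(2, F)) {S : Subgroup K} (hP : IsPGroup 2 S) (hodd : Odd (S.relIndex (normalizer (S : Set K))))
    (hS : ∀ x, x ∈ S ↔ e x ∈ U F) {T : Subgroup (MulAut K)} (h : TAct S T) :
    (∃ (J : Type) (_ : Finite J) (P : J → Subgroup K) (m : J → J → ℕ), KSys S T P m ∧
      Opp (normalizer (S : Set K)) S P ∧ OneL K J) ∨ KExc K S T := by
  obtain ⟨e'⟩ := psl_equiv (F := F)
  by_cases hf : ∀ t ∈ T, t ≠ 1 → ∀ u ∈ S, t u = u → u = 1
  · have hk := ksys h4 hP hodd hS h hf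
    exact Or.inl ⟨Unit, inferInstance, _, _, hk, opp_of_top hk () rfl,
      fun _ => ⟨F, inferInstance, Fintype.ofFinite F, ringChar.eq_iff.2 inferInstance, ⟨e.trans e'.symm⟩⟩⟩
  · right
    simp only [not_forall] at hf
    obtain ⟨t₀, ht₀, h1, u₀, hu₀, hfx, hu1⟩ := hf
    exact ⟨(co hS).card_three h ht₀ h1 hu₀ hu1 hfx, ⟨u₀, hu₀, hu1, fun t ht => fix_all h ht₀ h1 hu₀ hfx ht⟩,
      F, inferInstance, Fintype.ofFinite F, ringChar.eq_iff.2 inferInstance, ⟨e.trans e'.symm⟩⟩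

universe u

/-- **The groups `L₂(q)`.** -/
theorem kLTwoX : KLTwoX.{u} := by
  intro K _ _ hp hodd hL S T h
  obtain ⟨F, _, _, _, h4, ⟨e₀⟩⟩ := hL
  obtain ⟨e₁⟩ := psl_equiv (F := F)
  obtain ⟨e⟩ := exists_equiv hp hodd (e₀.trans e₁)
  obtain ⟨Q, hQ⟩ := sylow_eq e
  obtain ⟨g, hg⟩ := MulAction.exists_smul_eq K Q S
  have hS : ∀ x, x ∈ (S : Subgroup K) ↔ ((MulAut.conj g⁻¹).trans e) x ∈ U F := by
    intro x
    have h1 : x ∈ (S : Subgroup K) ↔ g⁻¹ * x * g ∈ Q := by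
      rw [← hg]
      show x ∈ MulAut.conj g • (Q : Subgroup K) ↔ _
      rw [Subgroup.mem_pointwise_smul_iff_inv_smul_mem]
      show ((MulAut.conj g)⁻¹ x ∈ (Q : Subgroup K)) ↔ _
      rw [MulAut.conj_inv_apply]
      rfl
    rw [h1, hQ]
    show e (g⁻¹ * x * g) ∈ U F ↔ e (g⁻¹ * x * g⁻¹⁻¹) ∈ U F
    rw [inv_inv]
  have ho : Odd ((S : Subgroup K).relIndex (normalizer ((S : Subgroup K) : Set K))) := by
    have : Fact (Nat.Prime 2) := ⟨Nat.prime_two⟩
    have h1 : ¬ 2 ∣ (S : Subgroup K).index := S.not_dvd_index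
    rw [← Nat.not_even_iff_odd, even_iff_two_dvd]
    exact fun h2 => h1 (h2.trans (relIndex_dvd_index_of_le le_normalizer))
  exact sideX (by rw [Nat.card_eq_fintype_card]; exact h4) _ S.isPGroup' ho hS h

end Cfsg.Agent.Omega.Lie.End.LTwoSide

end

section


/-!
# Rows of the table: `G₂(q)`, `E₆(q)`, `E₇(q)`, `E₈(q)`

`trNode_chev` : the nodes of every Chevalley group.
-/

set_option autoImplicit false
set_option linter.unusedSectionVars false

namespace Cfsg.Agent.Omega.Lie.End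

open CoxeterSystem Cfsg.Agent.ChevalleyStructure.CoxeterGeom Cfsg.Agent.Tits.Roots Cfsg.Agent.Tits.Core
  Cfsg.Agent.Tits.RootComb Cfsg.Agent.Nodes.Comb Cfsg.Agent.Nodes.Reps Cfsg.Agent.Nodes.BNOf
  Cfsg.Agent.Nodes.RGDChev Cfsg.Agent.KFacts.RgdChevCoord Cfsg.Agent.KFacts.RgdCharP
open Cfsg.Lie Cfsg.Agent.ChevalleyStructure Cfsg.Agent.ChevalleyStructure.Elts
  Cfsg.Agent.ChevalleyStructure.NPerm Cfsg.Agent.ChevalleyStructure.CoxeterGeomTypes
open scoped commutatorElement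

universe u

/-- Two nontrivial elements of a group with at least four elements. -/
theorem exists_two {Y : Type*} [Group Y] {P : Subgroup Y} (h4 : 4 ≤ Nat.card P) :
    ∃ x ∈ P, ∃ y ∈ P, x ≠ 1 ∧ y ≠ 1 ∧ x ≠ y := by
  classical
  by_contra hcon
  push Not at hcon
  have h1 : Nat.card P ≤ Nat.card Bool := by
    refine Nat.card_le_card_of_injective (fun x : P => decide ((x : Y) = 1)) ?_
    intro a b hab
    simp only [decide_eq_decide] at hab
    apply Subtype.ext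
    by_cases ha : (a : Y) = 1
    · rw [ha, hab.1 ha]
    · exact hcon a a.2 b b.2 ha fun hb => ha (hab.2 hb)
  rw [Nat.card_eq_fintype_card (α := Bool), Fintype.card_bool] at h1
  omega

section Chev

variable {D : ChevalleyDatum} {l : ℕ} {M : CoxeterMatrix (Fin l)} (hp : IsType D l M) {K : Type u} [Field K]

theorem xc_add {r : ℕ} (hr : r < D.nroots) (a b : K) :
    xc hp (vec D l r) a * xc hp (vec D l r) b = xc hp (vec D l r) (a + b) := by
  apply Subtype.ext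
  rw [Subgroup.coe_mul, coe_xc hp hr, coe_xc hp hr, coe_xc hp hr, xG_add]

theorem xc_zero {r : ℕ} (hr : r < D.nroots) : xc hp (vec D l r) (0 : K) = 1 := by
  apply Subtype.ext
  rw [coe_xc hp hr, xG_zero]
  rfl

theorem mem_XX_chev {r : ℕ} (hr : r < D.nroots) {g : ↥(D.group K)} :
    g ∈ XX D l K (vec D l r) ↔ ∃ a, g = xc hp (vec D l r) a := by
  rw [Subgroup.mem_subgroupOf, XV_vec hp K hr, mem_rootSubgroup_iff hp.inList]
  constructor
  · rintro ⟨a, ha⟩
    exact ⟨a, Subtype.ext (by rw [coe_xc hp hr]; exact ha)⟩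
  · rintro ⟨a, rfl⟩
    exact ⟨a, coe_xc hp hr a⟩

theorem comm_xc {r s : ℕ} (hr : r < D.nroots) (hs : s < D.nroots) (hrs : s ≠ r) (hneg : s ≠ D.neg r) (t u : K) :
    ((⁅(xc hp (vec D l s) u)⁻¹, (xc hp (vec D l r) t)⁻¹⁆ : ↥(D.group K)) : GL D.Idx K) =
      wordG hp.inList (D.commWord K r s t u) := by
  rw [← comm_xG hp hr hs hrs hneg, commutatorElement_def, commutatorElement_def]
  simp only [Subgroup.coe_mul, Subgroup.coe_inv, coe_xc hp hr, coe_xc hp hs]

variable {W : Type*} [Group W] (cs : CoxeterSystem M W)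

include cs in
/-- **The nodes of the Chevalley groups of characteristic 2.** -/
theorem trNode_chev [Finite K] [CharP K 2] (i : Fin l) (h4 : 4 ≤ Nat.card (XX D l K (sr i))) :
    KTorus.TrNode (TT D K) (nc hp K) (XX D l K) i := by
  have : Fact (Nat.Prime 2) := ⟨Nat.prime_two⟩
  have hi := simple_lt hp.inList (lt_rank hp i)
  have hv := vec_simple hp i
  have hm : ∀ {g : ↥(D.group K)}, g ∈ XX D l K (sr i) ↔ ∃ a, g = xc hp (vec D l (D.simple i)) a := by
    intro g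
    rw [← hv]
    exact mem_XX_chev hp hi
  refine ⟨exists_two h4, ?_, ?_⟩
  · intro x hx
    obtain ⟨a, rfl⟩ := hm.1 hx
    rw [xc_add hp hi, CharTwo.add_self_eq_zero, xc_zero hp hi]
  · intro x hx y hy hx1 hy1
    obtain ⟨a, rfl⟩ := hm.1 hx
    obtain ⟨b, rfl⟩ := hm.1 hy
    have ha : a ≠ 0 := by
      rintro rfl
      exact hx1 (xc_zero hp hi)
    have hb : b ≠ 0 := by
      rintro rfl
      exact hy1 (xc_zero hp hi)
    obtain ⟨c, hcc⟩ := FiniteField.isSquare_of_char_two (F := K) (ringChar.eq K 2) (b / a)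
    have hc0 : c ≠ 0 := by
      rintro rfl
      rw [mul_zero] at hcc
      exact (div_ne_zero hb ha) hcc
    have h1 : hc hp i c ∈ TT D K ⊓ (XX D l K (sr i) ⊔ XX D l K (-sr i)) :=
      (coroot_mem hp cs 2 i _).2 ⟨c, hc0, rfl⟩
    refine ⟨hc hp i c, ⟨h1.1, h1.2, ?_⟩, ?_⟩
    · have h2 := ParSys.Fam.ChevTor.inv hp cs 2 i _ h1
      exact eq_inv_of_mul_eq_one_left h2
    · have h2 := (act hp hi (hc_mem (K := K) hp i hc0)).2 a
      rw [ch_hc hp i hc0 hi] at h2
      rw [h2, ← cartanOf_def D l i i, hp.isCartan.diag, show (2 : ℤ) = ((2 : ℕ) : ℤ) from rfl, zpow_natCast, pow_two,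
        ← hcc, div_mul_cancel₀ _ ha]

/-- A Chevalley group is a row, if the diagram is explicit. -/
theorem hasRow_chev [Finite K] [CharP K 2] (hl : ∃ i j : Fin l, i ≠ j) (hconn : Conn M)
    (h4 : ∀ i j : Fin l, M i j = 4 → ¬ ∀ k, k = i ∨ k = j)
    (h6 : ∀ i j : Fin l, M i j = 6 → (∀ k, k = i ∨ k = j) ∧
      NComm (XX D l K (sr i)) (XX D l K (rep M.toCoxeterSystem hp.isCartan (M.toCoxeterSystem.simple j) (sr i)))) :
    HasRow ↥(D.group K) := by
  have : Fact (Nat.Prime 2) := ⟨Nat.prime_two⟩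
  refine ⟨l, M, _, hp.isCartan, TT D K, nc hp K, XX D l K, finite_W hp M.toCoxeterSystem,
    rgd hp M.toCoxeterSystem 2, G1_eq_top hp M.toCoxeterSystem, hl, hconn, ParSys.Fam.ChevTor.TT_comm hp,
    fun e _ i => trNode_chev hp M.toCoxeterSystem i (e i), fun _ _ i j e1 e2 => absurd e2 (h4 i j e1), h6⟩

end Chev

/-! ### `E₆`, `E₇`, `E₈` -/

section E

variable (K : Type u) [Field K] [Finite K] [CharP K 2]

set_option backward.isDefEq.respectTransparency false in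
theorem hasRow_E6 : HasRow ↥(chevE6.group K) :=
  hasRow_chev (l := 6) (M := CoxeterMatrix.E₆) (by simp [IsType, typeList]) ⟨0, 1, by decide⟩
    (conn_of_bool (by decide +kernel))
    (fun i j e => absurd e (by revert i j; decide +kernel))
    (fun i j e => absurd e (by revert i j; decide +kernel))

set_option backward.isDefEq.respectTransparency false in
theorem hasRow_E7 : HasRow ↥(chevE7.group K) :=
  hasRow_chev (l := 7) (M := CoxeterMatrix.E₇) (by simp [IsType, typeList]) ⟨0, 1, by decide⟩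
    (conn_of_bool (by decide +kernel))
    (fun i j e => absurd e (by revert i j; decide +kernel))
    (fun i j e => absurd e (by revert i j; decide +kernel))

set_option backward.isDefEq.respectTransparency false in
theorem hasRow_E8 : HasRow ↥(chevE8.group K) :=
  hasRow_chev (l := 8) (M := CoxeterMatrix.E₈) (by simp [IsType, typeList]) ⟨0, 1, by decide⟩
    (conn_of_bool (by decide +kernel))
    (fun i j e => absurd e (by revert i j; decide +kernel))
    (fun i j e => absurd e (by revert i j; decide +kernel))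

end E

/-! ### `G₂` -/

namespace RowG2

variable {K : Type u} [Field K]

theorem hp : IsType chevG2 2 CoxeterMatrix.G₂ := by
  simp only [IsType, typeList, List.mem_cons, true_or]

theorem nroots : chevG2.nroots = 12 := by decide +kernel

theorem ct1 : chevG2.commTerms 6 10 = [(11,1,1,1)] := by decide +kernel
theorem ct2 : chevG2.commTerms 6 11 = [] := by decide +kernel
theorem ct3 : chevG2.commTerms 8 7 = [(9, 2, 1, 1), (11, 3, 2, 1), (10, -3, 1, 2)] := by decide +kernel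

theorem negs : chevG2.neg 6 = 5 ∧ chevG2.neg 8 = 3 := by decide +kernel

theorem simples : chevG2.simple 0 = 7 ∧ chevG2.simple 1 = 6 := by decide +kernel

theorem refl : chevG2.reflectRoot 0 6 = 10 ∧ chevG2.reflectRoot 1 7 = 8 := by decide +kernel

theorem vec_sr0 : vec chevG2 2 7 = sr (0 : Fin 2) := by
  have := vec_simple hp (0 : Fin 2)
  rwa [show chevG2.simple ((0 : Fin 2) : ℕ) = 7 from simples.1] at this

theorem vec_sr1 : vec chevG2 2 6 = sr (1 : Fin 2) := by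
  have := vec_simple hp (1 : Fin 2)
  rwa [show chevG2.simple ((1 : Fin 2) : ℕ) = 6 from simples.2] at this

theorem lt {r : ℕ} (h : r < 12) : r < chevG2.nroots := by rw [nroots]; exact h

/-- the root elements -/
noncomputable abbrev xe (K : Type u) [Field K] (r : ℕ) (a : K) : ↥(chevG2.group K) := xc hp (vec chevG2 2 r) a

theorem c11 (t u : K) : ⁅(xe K 10 u)⁻¹, (xe K 6 t)⁻¹⁆ = xe K 11 (-t * u) := by
  apply Subtype.ext
  rw [comm_xc hp (lt (by norm_num)) (lt (by norm_num)) (by norm_num) (by rw [negs.1]; norm_num),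
    coe_xc hp (lt (by norm_num))]
  simp only [ChevalleyDatum.commWord, ct1, List.map_cons, List.map_nil, wordG_cons, wordG_nil, mul_one]
  congr 1
  push_cast
  ring

theorem c0 (t u : K) : ⁅(xe K 11 u)⁻¹, (xe K 6 t)⁻¹⁆ = 1 := by
  apply Subtype.ext
  rw [comm_xc hp (lt (by norm_num)) (lt (by norm_num)) (by norm_num) (by rw [negs.1]; norm_num)]
  simp only [ChevalleyDatum.commWord, ct2, List.map_nil, wordG_nil]
  rfl

theorem c78 [CharP K 2] : ⁅(xe K 7 1)⁻¹, (xe K 8 1)⁻¹⁆ = xe K 11 1 * xe K 10 1 := by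
  apply Subtype.ext
  rw [comm_xc hp (lt (by norm_num)) (lt (by norm_num)) (by norm_num) (by rw [negs.2]; norm_num), Subgroup.coe_mul,
    coe_xc hp (lt (by norm_num)), coe_xc hp (lt (by norm_num))]
  simp only [ChevalleyDatum.commWord, ct3, List.map_cons, List.map_nil, wordG_cons, wordG_nil, mul_one]
  have e2 : (2 : K) = 0 := by exact_mod_cast CharP.cast_eq_zero K 2
  have e3 : ((2 : ℤ) : K) * (-1) ^ 1 * 1 ^ 1 = 0 := by push_cast; rw [e2]; ring
  have e4 : ((3 : ℤ) : K) * (-1) ^ 2 * 1 ^ 1 = 1 := by push_cast; linear_combination e2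
  have e5 : ((-3 : ℤ) : K) * (-1) ^ 1 * 1 ^ 2 = 1 := by push_cast; linear_combination e2
  rw [e3, e4, e5, xG_zero, one_mul]

theorem xe11_ne : xe K 11 1 ≠ 1 := by
  intro h0
  rw [← xc_zero hp (lt (r := 11) (by norm_num))] at h0
  exact one_ne_zero (xc_inj hp (lt (by norm_num)) h0)

theorem nc01 [CharP K 2] : NComm (XX chevG2 2 K (vec chevG2 2 7)) (XX chevG2 2 K (vec chevG2 2 8)) := by
  refine ⟨(xe K 7 1)⁻¹, inv_mem ((mem_XX_chev hp (lt (by norm_num))).2 ⟨1, rfl⟩), (xe K 8 1)⁻¹,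
    inv_mem ((mem_XX_chev hp (lt (by norm_num))).2 ⟨1, rfl⟩), fun h0 => ?_⟩
  have h1 := commutatorElement_eq_one_iff_mul_comm.2 h0
  rw [c78] at h1
  have h2 : xe K 10 1 = (xe K 11 1)⁻¹ := eq_inv_of_mul_eq_one_right h1
  have h3 := c11 (K := K) (-1) 1
  have h4 := commutatorElement_eq_one_iff_mul_comm.1 (c0 (K := K) (-1) 1)
  rw [h2, neg_neg, one_mul] at h3
  have h5 : ⁅(xe K 11 1)⁻¹⁻¹, (xe K 6 (-1))⁻¹⁆ = 1 := by
    rw [commutatorElement_eq_one_iff_mul_comm, inv_inv]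
    have h6 : Commute (xe K 11 1)⁻¹ (xe K 6 (-1))⁻¹ := h4
    have h7 : Commute (xe K 11 1)⁻¹⁻¹ (xe K 6 (-1))⁻¹ := h6.inv_left
    rw [inv_inv] at h7
    exact h7
  rw [h5] at h3
  exact xe11_ne h3.symm

theorem nc10 : NComm (XX chevG2 2 K (vec chevG2 2 6)) (XX chevG2 2 K (vec chevG2 2 10)) := by
  refine ⟨(xe K 6 (-1))⁻¹, inv_mem ((mem_XX_chev hp (lt (by norm_num))).2 ⟨-1, rfl⟩), (xe K 10 1)⁻¹,
    inv_mem ((mem_XX_chev hp (lt (by norm_num))).2 ⟨1, rfl⟩), fun h0 => ?_⟩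
  have h1 := commutatorElement_eq_one_iff_mul_comm.2 h0.symm
  rw [c11, neg_neg, one_mul] at h1
  exact xe11_ne h1

end RowG2

set_option backward.isDefEq.respectTransparency false in
/-- **`G₂(q)`** -/
theorem hasRow_G2 (K : Type u) [Field K] [Finite K] [CharP K 2] : HasRow ↥(chevG2.group K) := by
  refine hasRow_chev RowG2.hp ⟨0, 1, by decide⟩ (conn_of_bool (by decide +kernel))
    (fun i j e => absurd e (by revert i j; decide +kernel)) ?_
  have e0 := RowG2.vec_sr0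
  have e1 := RowG2.vec_sr1
  have r0 := rep_vec RowG2.hp CoxeterMatrix.G₂.toCoxeterSystem (0 : Fin 2) (RowG2.lt (r := 6) (by norm_num))
  have r1 := rep_vec RowG2.hp CoxeterMatrix.G₂.toCoxeterSystem (1 : Fin 2) (RowG2.lt (r := 7) (by norm_num))
  rw [show chevG2.reflectRoot ((0 : Fin 2) : ℕ) 6 = 10 from RowG2.refl.1, e1] at r0
  rw [show chevG2.reflectRoot ((1 : Fin 2) : ℕ) 7 = 8 from RowG2.refl.2, e0] at r1
  intro i j e
  fin_cases i <;> fin_cases j
  · exact absurd e (by decide)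
  · refine ⟨by decide, ?_⟩
    show NComm (XX chevG2 2 K (sr 0)) (XX chevG2 2 K (rep _ _ (CoxeterMatrix.G₂.toCoxeterSystem.simple 1) (sr 0)))
    rw [r1, ← e0]
    exact RowG2.nc01
  · refine ⟨by decide, ?_⟩
    show NComm (XX chevG2 2 K (sr 1)) (XX chevG2 2 K (rep _ _ (CoxeterMatrix.G₂.toCoxeterSystem.simple 0) (sr 1)))
    rw [r0, ← e1]
    exact RowG2.nc10
  · exact absurd e (by decide)

end Cfsg.Agent.Omega.Lie.End

end
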