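import Cfsg.Agent.Mrg.Omega.BTwo.QuadGrp
import Cfsg.Agent.Mrg.Omega.BTwo.Str
import Cfsg.Agent.Mrg.ParSys.Front
import Cfsg.Agent.Mrg.ParSys.FrontSys
import Cfsg.Agent.Mrg.Omega.Lie.TorD
import Cfsg.Agent.Mrg.Omega.BTwo.Split
import Cfsg.Agent.Mrg.Omega.BTwo.CoordNat
import Mathlib
import Cfsg.Agent.Lib.AutSL2
import Mathlib.GroupTheory.Perm.Cycle.Type

section


/-!
# NODE LIE, the END: the node `0` (`P₀ = X B`) of the parabolic system and the product pairs `(0, i)`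

`X = ⟨W_k⟩`, `X / Y ≅ SL₂(F)`, `B ≤ N(V) ∩ N(R i)`, `U` a 2-group with `W_i ≤ U ≤ B` inducing the same group as `W_i`
on `V`.  The panel `P₀ / B` is the set of points of `V`.
-/

set_option autoImplicit false
set_option linter.unusedSectionVars false

namespace Cfsg.Agent.Omega.Lie.Zero

open Subgroup Cfsg.Agent.Omega.BTwo Cfsg.Agent.ParSys

universe u v w

variable {G : Type u} [Group G] {ι : Type w} {V : Subgroup G} {R : ι → Subgroup G}

/-- The Borel subgroup `B` and its 2-subgroup `U` at the point `R i`. -/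
structure Dat (V : Subgroup G) (R : ι → Subgroup G) (i : ι) (B U : Subgroup G) : Prop where
  BV : B ≤ normalizer (V : Set G)
  BR : B ≤ normalizer (R i : Set G)
  XB : XX V R ⊓ normalizer (R i : Set G) ≤ B
  UB : U ≤ B
  WU : WW V (R i) ≤ U
  UC : ∀ u ∈ U, ∃ w ∈ WW V (R i), w⁻¹ * u ∈ centralizer (V : Set G)

/-- the panel -/
abbrev P0 (V : Subgroup G) (R : ι → Subgroup G) (B : Subgroup G) : Subgroup G := XX V R ⊔ B

variable {i : ι} {B U : Subgroup G} (b : BT V R) (D : Dat V R i B U)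

theorem mem_norm_iff {K : Subgroup G} {g x : G} :
    g⁻¹ * x * g ∈ normalizer (K : Set G) ↔ x ∈ normalizer (cj g K : Set G) := by
  rw [← cj_eq_self_iff, ← cj_eq_self_iff, cj_mul, cj_mul, cj_eq_iff, inv_inv]

include b D

theorem mem_P0 {x : G} (hx : x ∈ P0 V R B) : ∃ y ∈ XX V R, ∃ z ∈ B, x = y * z := by
  have hn : B ≤ normalizer (XX V R : Set G) := D.BV.trans b.NV_le_NX
  have h1 : x ∈ ((XX V R ⊔ B : Subgroup G) : Set G) := hx
  rw [coe_mul_of_right_le_normalizer_left _ _ hn] at h1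
  obtain ⟨y, hy, z, hz, e⟩ := h1
  exact ⟨y, hy, z, hz, e.symm⟩

theorem P0_le : P0 V R B ≤ normalizer (V : Set G) := sup_le b.X_le_NV D.BV

theorem mem_B {x : G} (hx : x ∈ P0 V R B) (h : x ∈ normalizer (R i : Set G)) : x ∈ B := by
  obtain ⟨y, hy, z, hz, rfl⟩ := mem_P0 b D hx
  have h1 : y ∈ normalizer (R i : Set G) := by
    have := mul_mem h (inv_mem (D.BR hz))
    rwa [mul_inv_cancel_right] at this
  exact mul_mem (D.XB (mem_inf.2 ⟨hy, h1⟩)) hz

/-- the kernel of the panel is the stabiliser of all points -/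
theorem mem_Qk_iff {x : G} (hx : x ∈ P0 V R B) : x ∈ Qk B (P0 V R B) ↔ ∀ k, x ∈ normalizer (R k : Set G) := by
  rw [ParSys.mem_Qk]
  constructor
  · intro h k
    obtain ⟨g, hg, e⟩ := b.trans_X_one i k
    rw [← e, ← mem_norm_iff]
    exact D.BR (h g ((le_sup_left : XX V R ≤ P0 V R B) hg))
  · intro h g hg
    obtain ⟨k, hk⟩ := b.perm g (P0_le b D hg) i
    refine mem_B b D (mul_mem (mul_mem (inv_mem hg) hx) hg) ?_
    rw [mem_norm_iff, hk]
    exact h k

theorem cen_le_Qk {x : G} (hx : x ∈ P0 V R B) (h : x ∈ centralizer (V : Set G)) : x ∈ Qk B (P0 V R B) :=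
  (mem_Qk_iff b D hx).2 fun k => b.cen_le_N k h

theorem exists_cj (k : ι) : ∃ x ∈ XX V R, cj x (R i) = R k := b.trans_X_one i k

theorem not_mem_B_iff {x : G} (hx : x ∈ P0 V R B) : x ∉ B ↔ ∃ k, k ≠ i ∧ cj x (R i) = R k := by
  constructor
  · intro h
    obtain ⟨k, hk⟩ := b.perm x (P0_le b D hx) i
    refine ⟨k, ?_, hk⟩
    rintro rfl
    exact h (mem_B b D hx (cj_eq_self_iff.1 hk))
  · rintro ⟨k, hki, hk⟩ h
    have h1 := cj_eq_self_iff.2 (D.BR h)
    rw [h1] at hk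
    exact hki (b.R_index hk).symm

/-- at least three chambers -/
theorem three : ∃ x ∈ P0 V R B, ∃ y ∈ P0 V R B, x ∉ B ∧ y ∉ B ∧ x⁻¹ * y ∉ B := by
  obtain ⟨j, hj, -⟩ := b.third i i
  obtain ⟨k, hk1, hk2⟩ := b.third i j
  obtain ⟨x, hx, ex⟩ := b.trans_X_one i j
  obtain ⟨y, hy, ey⟩ := b.trans_X_one i k
  have hx' : x ∈ P0 V R B := (le_sup_left : XX V R ≤ P0 V R B) hx
  have hy' : y ∈ P0 V R B := (le_sup_left : XX V R ≤ P0 V R B) hy
  refine ⟨x, hx', y, hy', (not_mem_B_iff b D hx').2 ⟨j, hj, ex⟩, (not_mem_B_iff b D hy').2 ⟨k, hk1, ey⟩, ?_⟩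
  intro h
  have h1 := cj_eq_self_iff.2 (D.BR h)
  rw [cj_mul, ey] at h1
  have h2 := congrArg (cj x) h1
  rw [cj_cj_inv, ex] at h2
  exact hk2 (b.R_index h2)

/-- `U` is transitive on the other points -/
theorem ptr : Hall.HallData.PTr B U (P0 V R B) := by
  intro g hg hgB g' hg' hgB'
  obtain ⟨j, hj, ej⟩ := (not_mem_B_iff b D hg).1 hgB
  obtain ⟨k, hk, ek⟩ := (not_mem_B_iff b D hg').1 hgB'
  obtain ⟨w, hw, ew⟩ := b.trans i hj hk
  refine ⟨w, D.WU hw, g⁻¹ * w⁻¹ * g', ?_, by group⟩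
  refine mem_B b D ?_ ?_
  · exact mul_mem (mul_mem (inv_mem hg) (inv_mem ((le_sup_left : XX V R ≤ P0 V R B) (W_le_X V R i hw)))) hg'
  · rw [← cj_eq_self_iff, cj_mul, cj_mul, ek, ← ew, cj_inv_cj, ← ej, cj_inv_cj]

/-- an element of `W i` which fixes another point centralises `V` -/
theorem W_fix {j : ι} (hj : j ≠ i) {x : G} (hx : x ∈ WW V (R i)) (h : x ∈ normalizer (R j : Set G)) :
    x ∈ centralizer (V : Set G) := by
  have _ := D
  have hxQ := b.W_le_Q i hx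
  have h1 : ∀ r ∈ R j, x * r = r * x := by
    intro r hr
    have h2 := b.QV i x hxQ r (b.R_le j hr)
    have h3 : x * r * x⁻¹ * r⁻¹ ∈ R j := mul_mem (BTwo.conj_mem_of_normalizer h hr) (inv_mem hr)
    have h4 := b.eq_one (Ne.symm hj) h2 h3
    have e : x * r * x⁻¹ * r⁻¹ = (x * r) * (r * x)⁻¹ := by group
    rw [e] at h4
    exact mul_inv_eq_one.1 h4
  have h2 : V ≤ centralizer ({x} : Set G) := by
    rw [← b.R_sup i j (Ne.symm hj)]
    refine sup_le ?_ ?_
    · intro r hr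
      rw [mem_centralizer_singleton_iff]
      exact (b.QR i x hxQ r hr).symm
    · intro r hr
      rw [mem_centralizer_singleton_iff]
      exact (h1 r hr).symm
  rw [mem_centralizer_iff]
  intro v hv
  exact mem_centralizer_singleton_iff.1 (h2 hv)

/-- `U` is semiregular modulo the kernel -/
theorem reg : ∀ u ∈ U, ∀ g ∈ P0 V R B, g ∉ B → g⁻¹ * u * g ∈ B → u ∈ Qk B (P0 V R B) := by
  intro u hu g hg hgB h
  obtain ⟨j, hj, ej⟩ := (not_mem_B_iff b D hg).1 hgB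
  have h1 : u ∈ normalizer (R j : Set G) := by
    rw [← ej, ← mem_norm_iff]
    exact D.BR h
  obtain ⟨w, hw, hc⟩ := D.UC u hu
  have h2 : w ∈ normalizer (R j : Set G) := by
    have e : w = u * (w⁻¹ * u)⁻¹ := by group
    rw [e]
    exact mul_mem h1 (inv_mem (b.cen_le_N j hc))
  have h3 := W_fix b D hj hw h2
  refine cen_le_Qk b D ((le_sup_right : B ≤ P0 V R B) (D.UB hu)) ?_
  have e : u = w * (w⁻¹ * u) := by group
  rw [e]
  exact mul_mem h3 hc

theorem Y_le_B : YY V R ≤ B := fun y hy =>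
  D.XB (mem_inf.2 ⟨YY_le_XX hy, b.cen_le_N i (YY_le_cen hy)⟩)

theorem Y_le_Qk : YY V R ≤ Qk B (P0 V R B) := fun _ hy =>
  cen_le_Qk b D ((le_sup_left : XX V R ≤ P0 V R B) (YY_le_XX hy)) (YY_le_cen hy)

/-! ### The product pairs -/

/-- **The product pair** `(L B, X B)`, `L ≤ C(V)`. -/
theorem pair {L : Subgroup G} (hL : L ≤ centralizer (V : Set G)) (hBL : B ≤ normalizer (L : Set G)) :
    Pair B (L ⊔ B) (P0 V R B) L (XX V R) where
  left := le_sup_right
  right := le_sup_right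
  L_le := le_sup_left
  M_le := le_sup_left
  eqP := by
    intro x hx
    have h1 : x ∈ ((L ⊔ B : Subgroup G) : Set G) := hx
    rw [coe_mul_of_right_le_normalizer_left _ _ hBL] at h1
    obtain ⟨y, hy, z, hz, e⟩ := h1
    exact ⟨y, hy, z, hz, e.symm⟩
  eqQ := fun x hx => mem_P0 b D hx
  normL := hBL
  normM := D.BV.trans b.NV_le_NX
  comm := by
    intro x hx y hy
    have h1 := b.cen_comm_X (inv_mem (hL hx)) (inv_mem hy)
    have e : x⁻¹ * y⁻¹ * x * y = x⁻¹ * y⁻¹ * x⁻¹⁻¹ * y⁻¹⁻¹ := by group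
    rw [e]
    exact Y_le_B b D h1

/-- the product pair is a digon -/
theorem digon {L : Subgroup G} (hL : L ≤ centralizer (V : Set G)) (hBL : B ≤ normalizer (L : Set G)) :
    Digon B (L ⊔ B) (P0 V R B) := by
  refine (pair b D hL hBL).digon fun x hx hx0 => ?_
  obtain ⟨l, hl, z, hz, rfl⟩ := (pair b D hL hBL).eqP x hx
  refine mul_mem (mem_B b D ?_ (b.cen_le_N i (hL hl))) hz
  have := mul_mem hx0 (inv_mem ((le_sup_right : B ≤ P0 V R B) hz))
  rwa [mul_inv_cancel_right] at this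

/-- a subgroup of `B` which is normalised by `P ⊇ B` acts trivially on the panel `P / B` -/
theorem le_Qk {P K : Subgroup G} (hK : K ≤ B) (hP : P ≤ normalizer (K : Set G)) : K ≤ Qk B P := by
  have _ := b
  have _ := D
  intro x hx
  rw [ParSys.mem_Qk]
  exact fun g hg => hK (BTwo.conj_inv_mem_of_normalizer (hP hg) hx)

theorem W_le_Qk {L : Subgroup G} (hL : L ≤ centralizer (V : Set G)) :
    WW V (R i) ≤ Qk B (L ⊔ B) :=
  le_Qk b D (D.WU.trans D.UB) (sup_le (hL.trans (b.cen_le_NW i)) (D.BR.trans (normalizer_le_WW V (R i))))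

theorem Y_le_Qk' {L : Subgroup G} (hL : L ≤ centralizer (V : Set G)) : YY V R ≤ Qk B (L ⊔ B) :=
  le_Qk b D (Y_le_B b D) ((sup_le (hL.trans (cen_le_NV V)) D.BV).trans b.NV_le_NY)

/-- `U / Q_i` and `U / Q_0` are independent -/
theorem both {L : Subgroup G} (hL : L ≤ centralizer (V : Set G)) :
    ∀ u ∈ U, ∀ x ∈ U, ∃ w ∈ U, u⁻¹ * w ∈ Qk B (L ⊔ B) ∧ x⁻¹ * w ∈ Qk B (P0 V R B) := by
  intro u hu x hx
  obtain ⟨wu, hwu, hcu⟩ := D.UC u hu
  obtain ⟨wx, hwx, hcx⟩ := D.UC x hx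
  have hcuU : wu⁻¹ * u ∈ U := mul_mem (inv_mem (D.WU hwu)) hu
  have hcxU : wx⁻¹ * x ∈ U := mul_mem (inv_mem (D.WU hwx)) hx
  refine ⟨wx * (wu⁻¹ * u), mul_mem (D.WU hwx) hcuU, ?_, ?_⟩
  · have e : u⁻¹ * (wx * (wu⁻¹ * u)) = (wu⁻¹ * u)⁻¹ * (wu⁻¹ * wx) * (wu⁻¹ * u) := by group
    rw [e]
    exact W_le_Qk b D hL (BTwo.conj_inv_mem_of_normalizer (b.cen_le_NW i hcu) (mul_mem (inv_mem hwu) hwx))
  · have e : x⁻¹ * (wx * (wu⁻¹ * u)) = (wx⁻¹ * x)⁻¹ * (wu⁻¹ * u) := by group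
    rw [e]
    refine cen_le_Qk b D ?_ (mul_mem (inv_mem hcx) hcu)
    exact (le_sup_right : B ≤ P0 V R B) (D.UB (mul_mem (inv_mem hcxU) hcuU))

/-- **The product pair is a generalised `2`-gon.** -/
theorem polygon {I : Type*} {P : I → Subgroup G} {k z : I} {L : Subgroup G} (hk : P k = L ⊔ B)
    (hz : P z = P0 V R B) (hL : L ≤ centralizer (V : Set G)) (hBL : B ≤ normalizer (L : Set G))
    (hptr : Hall.HallData.PTr B U (P k)) (hne : ∃ x ∈ P k, x ∉ B) : Polygon B P k z 2 := by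
  have h1 : Digon B (P k) (P z) := by rw [hk, hz]; exact digon b D hL hBL
  refine h1.polygon D.UB hptr (by rw [hz]; exact ptr b D) ?_ hne ?_
  · rw [hk, hz]
    exact both b D hL
  · obtain ⟨x, hx, -, -, hxB, -⟩ := three b D
    exact ⟨x, by rw [hz]; exact hx, hxB⟩

/-- the field `frat` of `Sys` at the product pair -/
theorem frat {L T : Subgroup G} (hL : L ≤ centralizer (V : Set G)) (hBL : B ≤ normalizer (L : Set G))
    (h : ∀ u ∈ U, ∃ t ∈ T, t⁻¹ * u ∈ Qk B (L ⊔ B) ∧ t⁻¹ * u ∈ Qk B (P0 V R B)) :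
    ∀ u ∈ U, ∃ t ∈ T, t⁻¹ * u ∈ Qk B ((L ⊔ B) ⊔ P0 V R B) := (digon b D hL hBL).frat h

end Cfsg.Agent.Omega.Lie.Zero

end

section


/-!
# NODE LIE, the END: the torus at the node `0`, and the 2-elements of `N(V) ∩ C(R i)`

* `exists_tor` : `t ∈ X ∩ N(R i)` of odd order, `[t, C(V)] ≤ Y`, fixed-point-free on `U / Q₀`;
* `fpfG`, `sepG` : the hypotheses `FpfG` at `P₀`, `SepG` at the product pair;
* `two_elt` : a 2-element of `N(V) ∩ C(R i)` is in `W_i C(V)`;
* `sup_eq` : `P ⊔ B = ((P ⊔ B) ∩ C(V)) ⊔ B` for `P ≤ N(V) ∩ C(R i)` with `N_P(S) ≤ B`, `S` Sylow in `P`.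
-/

set_option autoImplicit false
set_option linter.unusedSectionVars false

namespace Cfsg.Agent.Omega.Lie.Zero

open Subgroup Cfsg.Agent.Omega.BTwo Cfsg.Agent.ParSys

universe u v w

variable {G : Type u} [Group G] {ι : Type w} {V : Subgroup G} {R : ι → Subgroup G} {i j : ι} {F : Type v} [Field F]
  {v : F → F → G} {w1 w2 : F → G}

/-! ### The torus element -/

/-- the powers of `h(a)` -/
theorem hh_pow_act [CharP F 2] (c : Coord V R i j v w1 w2) {a : F} (ha : a ≠ 0) (n : ℕ) (p r : F) :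
    hh w1 w2 a ^ n * v p r * (hh w1 w2 a ^ n)⁻¹ = v (a ^ n * p) (a⁻¹ ^ n * r) := by
  induction n generalizing p r with
  | zero => simp
  | succ n ih =>
    have e : hh w1 w2 a ^ (n + 1) * v p r * (hh w1 w2 a ^ (n + 1))⁻¹ =
        hh w1 w2 a ^ n * (hh w1 w2 a * v p r * (hh w1 w2 a)⁻¹) * (hh w1 w2 a ^ n)⁻¹ := by
      rw [pow_succ]; group
    rw [e, c.hh_act ha, ih, ← mul_assoc, ← mul_assoc, pow_succ, pow_succ]

/-- an element of odd order of `X` which acts as `h(a)` on `V` -/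
theorem exists_tor [Finite G] [Finite F] [CharP F 2] (c : Coord V R i j v w1 w2) (b : BT V R) {a : F} (ha : a ≠ 0) :
    ∃ t ∈ XX V R, (∃ k : ℕ, Nat.Coprime 2 k ∧ t ^ k = 1) ∧ ∀ p r, t * v p r * t⁻¹ = v (a * p) (a⁻¹ * r) := by
  have : Fintype F := Fintype.ofFinite F
  set q := Fintype.card F with hq
  have ho : orderOf (hh w1 w2 a) ≠ 0 := (orderOf_pos _).ne'
  obtain ⟨s, k, hk, e⟩ := Nat.exists_eq_two_pow_mul_odd ho
  refine ⟨hh w1 w2 a ^ q ^ s, pow_mem (c.hh_mem_X b a) _, ⟨k, (Nat.coprime_two_left).2 hk, ?_⟩, ?_⟩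
  · have h2 : 2 ∣ q := by
      have h3 := FiniteField.cast_card_eq_zero F
      rw [← hq] at h3
      exact (CharP.cast_eq_zero_iff F 2 q).1 h3
    obtain ⟨m, hm⟩ := pow_dvd_pow_of_dvd h2 s
    rw [← pow_mul, hm]
    have e2 : 2 ^ s * m * k = orderOf (hh w1 w2 a) * m := by rw [e]; ring
    rw [e2, pow_mul, pow_orderOf_eq_one, one_pow]
  · intro p r
    rw [hh_pow_act c ha, FiniteField.pow_card_pow, FiniteField.pow_card_pow]

variable {B U : Subgroup G} (b : BT V R) (D : Dat V R i B U) (c : Coord V R i j v w1 w2)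

include b D c

theorem tor_mem_B {t : G} (ht : t ∈ XX V R) {a : F} (ha : a ≠ 0) (h : ∀ p r, t * v p r * t⁻¹ = v (a * p) (a⁻¹ * r)) :
    t ∈ B := by
  refine D.XB (mem_inf.2 ⟨ht, ?_⟩)
  rw [← cj_eq_self_iff]
  ext x
  rw [mem_cj, c.mem_R1, c.mem_R1]
  constructor
  · rintro ⟨p, hp⟩
    refine ⟨a * p, ?_⟩
    have h1 := h p 0
    rw [mul_zero] at h1
    rw [← h1, hp]
    group
  · rintro ⟨p, rfl⟩
    refine ⟨a⁻¹ * p, ?_⟩
    have h1 := h (a⁻¹ * p) 0
    rw [mul_zero, mul_inv_cancel_left₀ ha] at h1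
    rw [← h1]
    group

/-- the torus element is fixed-point-free on `U / Q₀` -/
theorem tor_fpf [CharP F 2] {t : G} (ht : t ∈ XX V R) {a : F} (ha : a ≠ 0) (ha1 : a ≠ 1)
    (h : ∀ p r, t * v p r * t⁻¹ = v (a * p) (a⁻¹ * r)) :
    ∀ u ∈ U, t * u * t⁻¹ * u⁻¹ ∈ Qk B (P0 V R B) → u ∈ Qk B (P0 V R B) := by
  intro u hu hQ
  have htB := tor_mem_B b D c ht ha h
  have hBP : B ≤ P0 V R B := le_sup_right
  have huB := D.UB hu
  obtain ⟨w, hw, hc⟩ := D.UC u hu
  obtain ⟨s, hs⟩ := c.W1_act w hw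
  -- the action of `u`
  have hu1 : ∀ p r, u * v p r * u⁻¹ = v (p + s * r) r := by
    intro p r
    have e : u * v p r * u⁻¹ = w * ((w⁻¹ * u) * v p r * (w⁻¹ * u)⁻¹) * w⁻¹ := by group
    rw [e, ← mem_centralizer_iff.1 hc _ (c.v_mem p r), mul_inv_cancel_right, hs]
  have hu2 : ∀ p r, u⁻¹ * v p r * u = v (p - s * r) r := by
    intro p r
    have h1 := hu1 (p - s * r) r
    rw [sub_add_cancel] at h1
    rw [← h1]
    group
  have ht2 : ∀ p r, t⁻¹ * v p r * t = v (a⁻¹ * p) (a * r) := by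
    intro p r
    have h1 := h (a⁻¹ * p) (a * r)
    rw [mul_inv_cancel_left₀ ha, inv_mul_cancel_left₀ ha] at h1
    rw [← h1]
    group
  have h3 : (t * u * t⁻¹ * u⁻¹) * v 0 1 * (t * u * t⁻¹ * u⁻¹)⁻¹ = v (a * (a * s) - s) 1 := by
    have e : (t * u * t⁻¹ * u⁻¹) * v 0 1 * (t * u * t⁻¹ * u⁻¹)⁻¹ =
        t * (u * (t⁻¹ * (u⁻¹ * v 0 1 * u) * t) * u⁻¹) * t⁻¹ := by group
    rw [e, hu2, ht2, hu1, h]
    congr 1
    · field_simp
      ring
    · rw [mul_one, inv_mul_cancel₀ ha]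
  have h4 := (mem_Qk_iff b D (hBP (Qk_le _ _ hQ))).1 hQ j
  have h5 : v (a * (a * s) - s) 1 ∈ R j := by
    rw [← h3]
    exact BTwo.conj_mem_of_normalizer h4 ((c.mem_R2 _).2 ⟨1, rfl⟩)
  obtain ⟨r, hr⟩ := (c.mem_R2 _).1 h5
  have h6 := (c.v_inj hr).1
  have h7 : s = 0 := by
    have h8 : (a - 1) * ((a - 1) * s) = 0 := by
      have h2 : (2 : F) = 0 := CharTwo.two_eq_zero
      linear_combination -h6 - (a * s - s) * h2
    rcases mul_eq_zero.1 h8 with h9 | h9
    · exact absurd (sub_eq_zero.1 h9) ha1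
    · rcases mul_eq_zero.1 h9 with h9 | h9
      · exact absurd (sub_eq_zero.1 h9) ha1
      · exact h9
  refine cen_le_Qk b D (hBP huB) ?_
  rw [mem_centralizer_iff]
  intro x hx
  obtain ⟨p, r, rfl⟩ := (c.mem_V x).1 hx
  have h8 := hu1 p r
  rw [h7, zero_mul, add_zero] at h8
  exact (mul_inv_eq_iff_eq_mul.1 h8).symm

/-- **`FpfG` at the node `0`** -/
theorem fpfG [Finite G] [Finite F] [CharP F 2] (hF : ∃ a : F, a ≠ 0 ∧ a ≠ 1) : FpfG 2 B U (P0 V R B) := by
  obtain ⟨a, ha, ha1⟩ := hF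
  obtain ⟨t, ht, hk, h⟩ := exists_tor c b ha
  exact ⟨t, tor_mem_B b D c ht ha h, hk, tor_fpf b D c ht ha ha1 h⟩

/-- an element of `X ∩ B` centralises `U` modulo `W_i Y` -/
theorem tor_comm {L : Subgroup G} (hL : L ≤ centralizer (V : Set G)) {t : G} (ht : t ∈ XX V R) (htB : t ∈ B) :
    ∀ u ∈ U, t * u * t⁻¹ * u⁻¹ ∈ Qk B (L ⊔ B) := by
  intro u hu
  obtain ⟨w, hw, hc⟩ := D.UC u hu
  have h1 : (w⁻¹ * u) * t * (w⁻¹ * u)⁻¹ * t⁻¹ ∈ YY V R := b.cen_comm_X hc ht
  have h2 : t * w * t⁻¹ ∈ WW V (R i) := BTwo.conj_mem_of_normalizer (normalizer_le_WW V (R i) (D.BR htB)) hw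
  have hBk : B ≤ L ⊔ B := le_sup_right
  have hwB : w ∈ B := D.UB (D.WU hw)
  have h3 := Qk_conj' (Y_le_Qk' b D hL (inv_mem h1)) (hBk hwB)
  have e : t * u * t⁻¹ * u⁻¹ = (t * w * t⁻¹) * w⁻¹ * (w * ((w⁻¹ * u) * t * (w⁻¹ * u)⁻¹ * t⁻¹)⁻¹ * w⁻¹) := by group
  rw [e]
  exact mul_mem (mul_mem (W_le_Qk b D hL h2) (W_le_Qk b D hL (inv_mem hw))) h3

/-- **`SepG` at the product pair** -/
theorem sepG [Finite G] [Finite F] [CharP F 2] (hF : ∃ a : F, a ≠ 0 ∧ a ≠ 1) {L : Subgroup G}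
    (hL : L ≤ centralizer (V : Set G)) : SepG 2 B U (L ⊔ B) (P0 V R B) := by
  obtain ⟨a, ha, ha1⟩ := hF
  obtain ⟨t, ht, hk, h⟩ := exists_tor c b ha
  have htB := tor_mem_B b D c ht ha h
  exact ⟨t, htB, hk, tor_comm b D c hL ht htB, tor_fpf b D c ht ha ha1 h⟩

omit b D in
/-- the scalar of an element of `N(V) ∩ C(R i)` on `V / R i` -/
theorem exists_scal (b : BT V R) {g : G} (hg : g ∈ normalizer (V : Set G)) (hgR : ∀ x ∈ R i, g * x = x * g) :
    ∃ μ : F, μ ≠ 0 ∧ ∃ w ∈ WW V (R i), ∀ p r, (w⁻¹ * g) * v p r * (w⁻¹ * g)⁻¹ = v p (μ * r) := by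
  have hgi : g ∈ normalizer (R i : Set G) := by
    rw [← cj_eq_self_iff]
    ext x
    rw [mem_cj]
    constructor
    · intro h
      have h1 := hgR _ h
      have e : x = g⁻¹ * x * g := by
        have e1 : g * (g⁻¹ * x * g) = x * g := by group
        rw [e1] at h1
        exact mul_right_cancel h1
      rw [e]
      exact h
    · intro h
      have h1 := hgR x h
      have e : g⁻¹ * x * g = x := by rw [mul_assoc, ← h1]; group
      rw [e]
      exact h
  obtain ⟨k, hk⟩ := b.perm g hg j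
  have hki : k ≠ i := by
    rintro rfl
    have h1 := cj_eq_self_iff.2 hgi
    exact c.ne (b.R_index (cj_injective (h1.trans hk.symm)))
  obtain ⟨w, hw, ew⟩ := b.trans i c.ne.symm hki
  have hwQ := b.W_le_Q i hw
  -- `m = w⁻¹ g` fixes `R i` pointwise and `R j`
  set m := w⁻¹ * g with hm
  have hmV : m ∈ normalizer (V : Set G) := mul_mem (inv_mem (b.W_le_NV i hw)) hg
  have hmi : ∀ x ∈ R i, m * x = x * m := by
    intro x hx
    have h1 := b.QR i w⁻¹ (inv_mem hwQ) x hx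
    rw [hm, mul_assoc, hgR x hx, ← mul_assoc, h1, mul_assoc]
  have hmj : m ∈ normalizer (R j : Set G) := by
    rw [← cj_eq_self_iff, hm, cj_mul, hk, ← ew, cj_inv_cj]
  have hmN : m ∈ normalizer (R i : Set G) := mul_mem (inv_mem (b.W_le_N i hw)) hgi
  have h1 : ∀ p, m * v p 0 * m⁻¹ = v p 0 := by
    intro p
    rw [hmi _ ((c.mem_R1 _).2 ⟨p, rfl⟩), mul_inv_cancel_right]
  have h2 : ∀ r, ∃ r', m * v 0 r * m⁻¹ = v 0 r' := by
    intro r
    obtain ⟨r', hr'⟩ := (c.mem_R2 _).1 (BTwo.conj_mem_of_normalizer hmj ((c.mem_R2 _).2 ⟨r, rfl⟩))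
    exact ⟨r', hr'.symm⟩
  choose lam hlam using h2
  have h3 : ∀ p r, m * v p r * m⁻¹ = v p (lam r) := by
    intro p r
    have e : v p r = v p 0 * v 0 r := by rw [← c.v_add, add_zero, zero_add]
    rw [e]
    have e2 : m * (v p 0 * v 0 r) * m⁻¹ = (m * v p 0 * m⁻¹) * (m * v 0 r * m⁻¹) := by group
    rw [e2, h1, hlam, ← c.v_add, add_zero, zero_add]
  -- `m` normalises `W i`
  obtain ⟨s, hs⟩ := c.W1_act (m * w1 1 * m⁻¹)
    (BTwo.conj_mem_of_normalizer (normalizer_le_WW V (R i) hmN) (c.w1_mem 1))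
  have h4 : ∀ r, r = s * lam r := by
    intro r
    have h5 := hs 0 (lam r)
    rw [zero_add] at h5
    have e : (m * w1 1 * m⁻¹) * v 0 (lam r) * (m * w1 1 * m⁻¹)⁻¹ =
        m * (w1 1 * (m⁻¹ * v 0 (lam r) * m) * (w1 1)⁻¹) * m⁻¹ := by group
    have e2 : m⁻¹ * v 0 (lam r) * m = v 0 r := by rw [← hlam]; group
    rw [e, e2, c.w1_act, h3, zero_add, one_mul] at h5
    exact (c.v_inj h5).1
  have hs0 : s ≠ 0 := by
    rintro rfl
    have := h4 1
    rw [zero_mul] at this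
    exact one_ne_zero this
  refine ⟨s⁻¹, inv_ne_zero hs0, w, hw, fun p r => ?_⟩
  rw [h3]
  congr 1
  rw [eq_inv_mul_iff_mul_eq₀ hs0]
  exact (h4 r).symm

omit b D in
/-- **A 2-element of `N(V) ∩ C(R i)` is in `W_i C(V)`.** -/
theorem two_elt [CharP F 2] (b : BT V R) {g : G} (hg : g ∈ normalizer (V : Set G)) (hgR : ∀ x ∈ R i, g * x = x * g)
    {n : ℕ} (hn : g ^ 2 ^ n ∈ centralizer (V : Set G)) : ∃ w ∈ WW V (R i), w⁻¹ * g ∈ centralizer (V : Set G) := by
  obtain ⟨μ, hμ, w, hw, h⟩ := exists_scal c b hg hgR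
  obtain ⟨s, hs⟩ := c.W1_act w hw
  have h1 : ∀ p r, g * v p r * g⁻¹ = v (p + s * (μ * r)) (μ * r) := by
    intro p r
    have e : g * v p r * g⁻¹ = w * ((w⁻¹ * g) * v p r * (w⁻¹ * g)⁻¹) * w⁻¹ := by group
    rw [e, h, hs]
  have h2 : ∀ k : ℕ, ∀ p r, ∃ p', g ^ k * v p r * (g ^ k)⁻¹ = v p' (μ ^ k * r) := by
    intro k
    induction k with
    | zero => intro p r; exact ⟨p, by simp⟩
    | succ k ih =>
      intro p r
      obtain ⟨p', hp'⟩ := ih (p + s * (μ * r)) (μ * r)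
      refine ⟨p', ?_⟩
      have e : g ^ (k + 1) * v p r * (g ^ (k + 1))⁻¹ = g ^ k * (g * v p r * g⁻¹) * (g ^ k)⁻¹ := by
        rw [pow_succ]; group
      rw [e, h1, hp', ← mul_assoc, pow_succ]
  obtain ⟨p', hp'⟩ := h2 (2 ^ n) 0 1
  rw [← mem_centralizer_iff.1 hn _ (c.v_mem 0 1), mul_inv_cancel_right, mul_one] at hp'
  have h3 : μ ^ 2 ^ n = 1 := (c.v_inj hp').2.symm
  have h4 : μ = 1 := by
    have h5 : (μ - 1) ^ 2 ^ n = 0 := by rw [sub_pow_char_pow, h3, one_pow, sub_self]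
    exact sub_eq_zero.1 ((pow_eq_zero_iff (pow_ne_zero _ two_ne_zero)).1 h5)
  refine ⟨w, hw, ?_⟩
  rw [mem_centralizer_iff]
  intro x hx
  obtain ⟨p, r, rfl⟩ := (c.mem_V x).1 hx
  have h5 := h p r
  rw [h4, one_mul] at h5
  exact (mul_inv_eq_iff_eq_mul.1 h5).symm

omit b D in
/-- **The parabolics normalising `V`**: if `P'` normalises `V`, centralises `R i`, and the normaliser in `P'` of a
Sylow 2-subgroup of `P'` is in `B`, then `P' ⊔ B = L ⊔ B` with `L = (P' ⊔ B) ∩ C(V)`. -/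
theorem le_sup [Finite G] [CharP F 2] (b : BT V R) {P B : Subgroup G} (hPV : P ≤ normalizer (V : Set G))
    (hPR : ∀ g ∈ P, ∀ x ∈ R i, g * x = x * g) (hWB : WW V (R i) ≤ B) (S : Sylow 2 ↥P)
    (hS : (normalizer ((S : Subgroup ↥P) : Set ↥P)).map P.subtype ≤ B) :
    P ≤ ((P ⊔ B) ⊓ centralizer (V : Set G)) ⊔ B := by
  have hWN : WW V (R i) ≤ normalizer (V : Set G) := b.W_le_NV i
  have hcN : centralizer (V : Set G) ≤ normalizer (V : Set G) := Subgroup.centralizer_le_normalizer _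
  -- `P` normalises `W_i`
  have hPRi : P ≤ normalizer (R i : Set G) := by
    intro g hg
    rw [mem_normalizer_iff]
    intro x
    constructor
    · intro hx
      rw [hPR g hg x hx, mul_inv_cancel_right]
      exact hx
    · intro hx
      have h1 := hPR g⁻¹ (inv_mem hg) _ hx
      have e : x = g * x * g⁻¹ := by
        have e1 : g⁻¹ * (g * x * g⁻¹) = x * g⁻¹ := by group
        rw [e1] at h1
        exact mul_right_cancel h1
      rw [e]
      exact hx
  set K : Subgroup G := WW V (R i) ⊔ centralizer (V : Set G) with hK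
  have hnorm : ∀ g ∈ P, ∀ x ∈ K, g * x * g⁻¹ ∈ K := by
    intro g hg
    have h1 : K ≤ K.comap (MulAut.conj g).toMonoidHom := by
      rw [hK]
      refine sup_le (fun x hx => ?_) (fun x hx => ?_)
      · rw [mem_comap]
        exact (le_sup_left : WW V (R i) ≤ _)
          (BTwo.conj_mem_of_normalizer (normalizer_le_WW V (R i) (hPRi hg)) hx)
      · rw [mem_comap]
        refine (le_sup_right : centralizer (V : Set G) ≤ WW V (R i) ⊔ _) ?_
        rw [mem_centralizer_iff]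
        intro y hy
        have h2 : g⁻¹ * y * g ∈ V := by
          have := BTwo.conj_mem_of_normalizer (inv_mem (hPV hg)) hy
          rwa [inv_inv] at this
        have h3 := mem_centralizer_iff.1 hx _ h2
        have e1 : y * (g * x * g⁻¹) = g * ((g⁻¹ * y * g) * x) * g⁻¹ := by group
        have e2 : (g * x * g⁻¹) * y = g * (x * (g⁻¹ * y * g)) * g⁻¹ := by group
        change y * (g * x * g⁻¹) = (g * x * g⁻¹) * y
        rw [e1, e2, h3]
    exact fun x hx => h1 hx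
  have : (K.subgroupOf P).Normal := ⟨fun x hx g => by
    rw [mem_subgroupOf] at hx ⊢
    exact hnorm g g.2 x hx⟩
  have hSK : (S : Subgroup ↥P) ≤ K.subgroupOf P := by
    intro x hx
    obtain ⟨n, hn⟩ := (IsPGroup.iff_orderOf.1 S.isPGroup' ⟨x, hx⟩)
    have h1 : (x : G) ^ 2 ^ n = 1 := by
      have h2 := pow_orderOf_eq_one (⟨x, hx⟩ : (S : Subgroup ↥P))
      rw [hn] at h2
      have h3 := congrArg (fun z : (S : Subgroup ↥P) => ((z : ↥P) : G)) h2
      simpa using h3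
    obtain ⟨w, hw, hc⟩ := two_elt c b (hPV x.2) (hPR x x.2) (n := n) (by rw [h1]; exact one_mem _)
    rw [mem_subgroupOf]
    have e : (x : G) = w * (w⁻¹ * x) := by group
    rw [e]
    exact mul_mem ((le_sup_left : WW V (R i) ≤ K) hw) ((le_sup_right : _ ≤ K) hc)
  have htop := Sylow.normalizer_sup_eq_top' S hSK
  intro g hg
  have h1 : (⟨g, hg⟩ : ↥P) ∈ normalizer ((S : Subgroup ↥P) : Set ↥P) ⊔ K.subgroupOf P := by
    have h2 : (⟨g, hg⟩ : ↥P) ∈ (⊤ : Subgroup ↥P) := mem_top _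
    rw [← htop] at h2
    exact h2
  rw [← SetLike.mem_coe, Subgroup.mul_normal] at h1
  obtain ⟨n, hn, k, hk, e⟩ := h1
  have hnB : (n : G) ∈ B := hS (mem_map.2 ⟨n, hn, rfl⟩)
  have hkK : (k : G) ∈ K := mem_subgroupOf.1 hk
  have h2 : (k : G) ∈ ((WW V (R i) ⊔ centralizer (V : Set G) : Subgroup G) : Set G) := hkK
  have hcW : WW V (R i) ≤ normalizer (centralizer (V : Set G) : Set G) :=
    hWN.trans (BTwo.normalizer_le_normalizer_centralizer _)
  rw [coe_mul_of_left_le_normalizer_right _ _ hcW] at h2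
  obtain ⟨w, hw, z, hz, ez⟩ := h2
  have hzP : z ∈ P ⊔ B := by
    have : z = w⁻¹ * k := by rw [← ez]; group
    rw [this]
    exact mul_mem (inv_mem ((le_sup_right : B ≤ P ⊔ B) (hWB hw))) ((le_sup_left : P ≤ P ⊔ B) k.2)
  have e2 : g = (n : G) * (w * z) := by
    have := congrArg Subtype.val e
    simp only [Subgroup.coe_mul] at this
    rw [← this, ← ez]
  rw [e2]
  exact mul_mem ((le_sup_right : B ≤ _) hnB)
    (mul_mem ((le_sup_right : B ≤ _) (hWB hw)) ((le_sup_left : _ ≤ _ ⊔ B) (mem_inf.2 ⟨hzP, hz⟩)))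

omit b D in
theorem sup_eq [Finite G] [CharP F 2] (b : BT V R) {P B : Subgroup G} (hPV : P ≤ normalizer (V : Set G))
    (hPR : ∀ g ∈ P, ∀ x ∈ R i, g * x = x * g) (hWB : WW V (R i) ≤ B) (S : Sylow 2 ↥P)
    (hS : (normalizer ((S : Subgroup ↥P) : Set ↥P)).map P.subtype ≤ B) :
    P ⊔ B = ((P ⊔ B) ⊓ centralizer (V : Set G)) ⊔ B :=
  le_antisymm (sup_le (le_sup c b hPV hPR hWB S hS) le_sup_right) (sup_le inf_le_left le_sup_right)

omit b D c in
/-- `B` normalises `P ∩ C(V)` -/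
theorem le_normalizer_inf_cen {P B : Subgroup G} (hBP : B ≤ P) (hBV : B ≤ normalizer (V : Set G)) :
    B ≤ normalizer ((P ⊓ centralizer (V : Set G) : Subgroup G) : Set G) := by
  intro g hg
  have key : ∀ h ∈ B, ∀ x ∈ P ⊓ centralizer (V : Set G), h * x * h⁻¹ ∈ P ⊓ centralizer (V : Set G) := by
    intro h hh x hx
    obtain ⟨h1, h2⟩ := mem_inf.1 hx
    exact mem_inf.2 ⟨mul_mem (mul_mem (hBP hh) h1) (inv_mem (hBP hh)),
      BTwo.conj_mem_of_normalizer (BTwo.normalizer_le_normalizer_centralizer _ (hBV hh)) h2⟩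
  rw [mem_normalizer_iff]
  intro x
  refine ⟨key g hg x, fun h => ?_⟩
  have h1 := key g⁻¹ (inv_mem hg) _ h
  have e : g⁻¹ * (g * x * g⁻¹) * g⁻¹⁻¹ = x := by group
  rwa [e] at h1

end Cfsg.Agent.Omega.Lie.Zero

end

section


/-!
# NODE LIE, the END: the torus conditions at the node `0`

* `sepG_of_pow`, `fpfG_of_pow` : an element of order prime to `p` modulo `U` suffices in `SepG`, `FpfG`;
* `fpf_t`, `fpfG_t`, `sepG_t` : `t a` (`TorD`) is fixed-point-free on `U / Q₀`; the node `0` against a node centralised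
  by `t a`;
* `cen_zero` : an element of the group generated by the conjugates of `U` under `N(V) ∩ N(R i)` centralises `U / Q₀`;
* `sepG_nbr` : the node `0` against a node where such an element is fixed-point-free.
-/

set_option autoImplicit false
set_option linter.unusedSectionVars false

namespace Cfsg.Agent.Omega.Lie.Zero

open Subgroup Cfsg.Agent.Omega.BTwo Cfsg.Agent.ParSys

universe u v w

/-! ### Elements of order prime to `p` modulo `U` -/

section pow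

variable {G : Type u} [Group G] {p : ℕ} {B U P P' : Subgroup G}

theorem exists_mod {n q : ℕ} (hn : 0 < n) (hq : 0 < q) (h : n.Coprime q) :
    ∃ N : ℕ, q ∣ N ∧ ∃ k, N = n * k + 1 := by
  obtain ⟨N, h1, h2⟩ := Nat.chineseRemainder h 1 0
  have h3 : q ∣ N := (Nat.modEq_zero_iff_dvd).1 h2
  have h4 : 1 ≤ N + n * q := Nat.one_le_iff_ne_zero.2 (by have := Nat.mul_pos hn hq; omega)
  have h5 : 1 ≡ N + n * q [MOD n] := by
    have : N + n * q ≡ 1 + 0 [MOD n] := h1.add ((Nat.modEq_zero_iff_dvd).2 (dvd_mul_right n q))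
    exact this.symm
  obtain ⟨k, hk⟩ := (Nat.modEq_iff_dvd' h4).1 h5
  exact ⟨N + n * q, (Nat.dvd_add_right h3).2 (dvd_mul_left q n), k, by omega⟩

/-- the elements which centralise `U` modulo `Qk B P` are closed under powers -/
theorem cen_pow (hP : B ≤ P) {x : G} (hx : x ∈ B) (h : ∀ u ∈ U, x * u * x⁻¹ * u⁻¹ ∈ Qk B P) (k : ℕ) :
    ∀ u ∈ U, x ^ k * u * (x ^ k)⁻¹ * u⁻¹ ∈ Qk B P := by
  induction k with
  | zero =>
    intro u _
    have e : x ^ 0 * u * (x ^ 0)⁻¹ * u⁻¹ = 1 := by rw [pow_zero]; group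
    rw [e]
    exact one_mem _
  | succ k ih =>
    intro u hu
    have e : x ^ (k + 1) * u * (x ^ (k + 1))⁻¹ * u⁻¹ =
        x * (x ^ k * u * (x ^ k)⁻¹ * u⁻¹) * x⁻¹ * (x * u * x⁻¹ * u⁻¹) := by rw [pow_succ']; group
    rw [e]
    exact mul_mem (Qk_conj' (ih u hu) (hP hx)) (h u hu)

/-- The `p'`-part of an element of order prime to `p` modulo `U`. -/
theorem exists_part (hp : p.Prime) (hU : IsPGroup p U) {x : G} {n : ℕ} (hn : 0 < n) (hc : p.Coprime n)
    (hxn : x ^ n ∈ U) : ∃ N : ℕ, (x ^ N) ^ n = 1 ∧ ∃ z ∈ U, x ^ N = x * z ∧ x * z = z * x := by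
  obtain ⟨a, ha⟩ := hU ⟨x ^ n, hxn⟩
  have ha' : (x ^ n) ^ p ^ a = 1 := by simpa using congrArg Subtype.val ha
  obtain ⟨N, ⟨m, hm⟩, k, hk⟩ := exists_mod hn (pow_pos hp.pos a) (hc.symm.pow_right a)
  refine ⟨N, ?_, (x ^ n) ^ k, pow_mem hxn k, ?_, ?_⟩
  · have e : (x ^ N) ^ n = ((x ^ n) ^ p ^ a) ^ m := by
      rw [hm, ← pow_mul, ← pow_mul, ← pow_mul]
      congr 1
      ring
    rw [e, ha', one_pow]
  · rw [hk, ← pow_mul, pow_succ']
  · rw [← pow_mul, ← pow_succ', ← pow_succ]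

theorem fpf_part (hUB : U ≤ B) (hP : B ≤ P) {x z y : G} (hx : x ∈ B) (hz : z ∈ U) (e : y = x * z)
    (hxz : x * z = z * x) (h : ∀ u ∈ U, x * u * x⁻¹ * u⁻¹ ∈ Qk B P → u ∈ Qk B P) :
    ∀ u ∈ U, y * u * y⁻¹ * u⁻¹ ∈ Qk B P → u ∈ Qk B P := by
  have hzQ : z ∈ Qk B P := by
    refine h z hz ?_
    have e1 : x * z * x⁻¹ * z⁻¹ = 1 := by rw [hxz]; group
    rw [e1]
    exact one_mem _
  intro u hu hq
  refine h u hu ?_
  have e1 : x * u * x⁻¹ * u⁻¹ =
      (x * (u * z * u⁻¹ * z⁻¹) * x⁻¹) * (y * u * y⁻¹ * u⁻¹) := by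
    rw [e]; group
  rw [e1]
  refine mul_mem (Qk_conj' (mul_mem (Qk_conj' hzQ (hP (hUB hu))) (inv_mem hzQ)) (hP hx)) hq

/-- **`FpfG` from an element of order prime to `p` modulo `U`** -/
theorem fpfG_of_pow (hp : p.Prime) (hU : IsPGroup p U) (hUB : U ≤ B) (hP : B ≤ P) {x : G} (hx : x ∈ B) {n : ℕ}
    (hn : 0 < n) (hc : p.Coprime n) (hxn : x ^ n ∈ U) (h : ∀ u ∈ U, x * u * x⁻¹ * u⁻¹ ∈ Qk B P → u ∈ Qk B P) :
    FpfG p B U P := by
  obtain ⟨N, h1, z, hz, e, hxz⟩ := exists_part hp hU hn hc hxn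
  exact ⟨x ^ N, pow_mem hx N, ⟨n, hc, h1⟩, fpf_part hUB hP hx hz e hxz h⟩

/-- **`SepG` from an element of order prime to `p` modulo `U`** -/
theorem sepG_of_pow (hp : p.Prime) (hU : IsPGroup p U) (hUB : U ≤ B) (hP : B ≤ P) (hP' : B ≤ P') {x : G} (hx : x ∈ B)
    {n : ℕ} (hn : 0 < n) (hc : p.Coprime n) (hxn : x ^ n ∈ U) (h : ∀ u ∈ U, x * u * x⁻¹ * u⁻¹ ∈ Qk B P)
    (h' : ∀ u ∈ U, x * u * x⁻¹ * u⁻¹ ∈ Qk B P' → u ∈ Qk B P') : SepG p B U P P' := by
  obtain ⟨N, h1, z, hz, e, hxz⟩ := exists_part hp hU hn hc hxn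
  exact ⟨x ^ N, pow_mem hx N, ⟨n, hc, h1⟩, cen_pow hP hx h N, fpf_part hUB hP' hx hz e hxz h'⟩

end pow

variable {G : Type u} [Group G] {ι : Type w} {V : Subgroup G} {R : ι → Subgroup G} {i j : ι} {F : Type v} [Field F]
  {v : F → F → G} {w1 w2 : F → G} {t : F → G} {B U : Subgroup G} (b : BT V R) (D : Dat V R i B U)

/-! ### The torus `TorD` -/

theorem coprime_of_odd {G : Type*} [Group G] {x : G} (h : Odd (orderOf x)) : ∃ k : ℕ, Nat.Coprime 2 k ∧ x ^ k = 1 :=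
  ⟨orderOf x, (Nat.coprime_two_left).2 h, pow_orderOf_eq_one x⟩

include b D

theorem t_mem_B (τ : TorD V R i j v t) {a : F} (ha : a ≠ 0) : t a ∈ B :=
  D.XB (mem_inf.2 ⟨τ.memX a ha, τ.normR ha⟩)

/-- `t a` is fixed-point-free on `U / Q₀` -/
theorem fpf_t [CharP F 2] (c : Coord V R i j v w1 w2) (τ : TorD V R i j v t) {a : F} (ha : a ≠ 0) (ha1 : a ≠ 1) :
    ∀ u ∈ U, t a * u * (t a)⁻¹ * u⁻¹ ∈ Qk B (P0 V R B) → u ∈ Qk B (P0 V R B) :=
  tor_fpf b D c (τ.memX a ha) ha ha1 fun p r => τ.act a p r ha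

theorem fpfG_t [CharP F 2] (c : Coord V R i j v w1 w2) (τ : TorD V R i j v t) {a : F} (ha : a ≠ 0) (ha1 : a ≠ 1) :
    FpfG 2 B U (P0 V R B) :=
  ⟨t a, t_mem_B b D τ ha, coprime_of_odd (τ.odd a ha), fpf_t b D c τ ha ha1⟩

/-- the node `0` against a node centralised by `t a` -/
theorem sepG_t [CharP F 2] (c : Coord V R i j v w1 w2) (τ : TorD V R i j v t) {a : F} (ha : a ≠ 0) (ha1 : a ≠ 1)
    {P : Subgroup G} (h : ∀ u ∈ U, t a * u * (t a)⁻¹ * u⁻¹ ∈ Qk B P) : SepG 2 B U P (P0 V R B) :=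
  ⟨t a, t_mem_B b D τ ha, coprime_of_odd (τ.odd a ha), h, fpf_t b D c τ ha ha1⟩

/-! ### Elements which centralise `U / Q₀` -/

/-- an element of `W_i C(V)` centralises `U` modulo `C(V)` -/
theorem cen_WC {x : G} (hxB : x ∈ B) (hx : ∃ w ∈ WW V (R i), w⁻¹ * x ∈ centralizer (V : Set G)) :
    ∀ u ∈ U, x * u * x⁻¹ * u⁻¹ ∈ Qk B (P0 V R B) := by
  intro u hu
  have hBP : B ≤ P0 V R B := le_sup_right
  obtain ⟨w, hw, hc⟩ := hx
  obtain ⟨w', hw', hc'⟩ := D.UC u hu
  refine cen_le_Qk b D (hBP (mul_mem (mul_mem (mul_mem hxB (D.UB hu)) (inv_mem hxB)) (inv_mem (D.UB hu)))) ?_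
  have hN := BTwo.normalizer_le_normalizer_centralizer V
  have hwN : w ∈ normalizer (centralizer (V : Set G) : Set G) := hN (b.W_le_NV i hw)
  have hwN' : w' ∈ normalizer (centralizer (V : Set G) : Set G) := hN (b.W_le_NV i hw')
  obtain ⟨c1, hc1, rfl⟩ : ∃ c1 ∈ centralizer (V : Set G), x = w * c1 := ⟨_, hc, by group⟩
  obtain ⟨c2, hc2, rfl⟩ : ∃ c2 ∈ centralizer (V : Set G), u = w' * c2 := ⟨_, hc', by group⟩
  have hww : w * w' * w⁻¹ * w'⁻¹ ∈ centralizer (V : Set G) := by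
    rw [mem_centralizer_iff]
    exact fun z hz => (b.V_comm _ (b.R_le i (b.WW_comm i hw hw')) z hz).symm
  have e : w * c1 * (w' * c2) * (w * c1)⁻¹ * (w' * c2)⁻¹ =
      w * (c1 * (w' * (c2 * c1⁻¹) * w'⁻¹)) * w⁻¹ * (w * w' * w⁻¹ * w'⁻¹) * (w' * c2⁻¹ * w'⁻¹) := by group
  rw [e]
  exact mul_mem (mul_mem (BTwo.conj_mem_of_normalizer hwN (mul_mem hc1
    (BTwo.conj_mem_of_normalizer hwN' (mul_mem hc2 (inv_mem hc1))))) hww)
    (BTwo.conj_mem_of_normalizer hwN' (inv_mem hc2))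

/-- the conjugates of `U` under `N(V) ∩ N(R i)` are in `W_i C(V)` -/
theorem conj_le {x : G} (hx : x ∈ closure {y | ∃ g ∈ normalizer (V : Set G) ⊓ normalizer (R i : Set G),
    ∃ u ∈ U, g * u * g⁻¹ = y}) : ∃ w ∈ WW V (R i), w⁻¹ * x ∈ centralizer (V : Set G) := by
  have hN := BTwo.normalizer_le_normalizer_centralizer V
  have hcW : WW V (R i) ≤ normalizer (centralizer (V : Set G) : Set G) := (b.W_le_NV i).trans hN
  have h1 : closure {y | ∃ g ∈ normalizer (V : Set G) ⊓ normalizer (R i : Set G),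
      ∃ u ∈ U, g * u * g⁻¹ = y} ≤ WW V (R i) ⊔ centralizer (V : Set G) := by
    rw [Subgroup.closure_le]
    rintro _ ⟨g, hg, u, hu, rfl⟩
    obtain ⟨hgV, hgR⟩ := mem_inf.1 hg
    obtain ⟨w, hw, hc⟩ := D.UC u hu
    have e : g * u * g⁻¹ = (g * w * g⁻¹) * (g * (w⁻¹ * u) * g⁻¹) := by group
    rw [SetLike.mem_coe, e]
    exact mul_mem ((le_sup_left : WW V (R i) ≤ _) (BTwo.conj_mem_of_normalizer (normalizer_le_WW V (R i) hgR) hw))
      ((le_sup_right : _ ≤ WW V (R i) ⊔ centralizer (V : Set G)) (BTwo.conj_mem_of_normalizer (hN hgV) hc))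
  have h2 : x ∈ ((WW V (R i) ⊔ centralizer (V : Set G) : Subgroup G) : Set G) := h1 hx
  rw [coe_mul_of_left_le_normalizer_right _ _ hcW] at h2
  obtain ⟨w, hw, z, hz, rfl⟩ := h2
  exact ⟨w, hw, by rw [inv_mul_cancel_left]; exact hz⟩

/-- **an element of the group generated by the conjugates of `U` under `N(V) ∩ N(R i)` centralises `U / Q₀`** -/
theorem cen_zero {x : G} (hxB : x ∈ B) (hx : x ∈ closure {y | ∃ g ∈ normalizer (V : Set G) ⊓ normalizer (R i : Set G),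
    ∃ u ∈ U, g * u * g⁻¹ = y}) : ∀ u ∈ U, x * u * x⁻¹ * u⁻¹ ∈ Qk B (P0 V R B) :=
  cen_WC b D hxB (conj_le b D hx)

/-- **the node `0` against a moved node** (`q = 4`): `x` of odd order modulo `U`, in the group generated by the conjugates
of `U` under `N(V) ∩ N(R i)`, fixed-point-free on `U` modulo the kernel of the panel `P` -/
theorem sepG_nbr (hU : IsPGroup 2 U) {P : Subgroup G} (hP : B ≤ P) {x : G} (hxB : x ∈ B)
    (hx : x ∈ closure {y | ∃ g ∈ normalizer (V : Set G) ⊓ normalizer (R i : Set G), ∃ u ∈ U, g * u * g⁻¹ = y})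
    {n : ℕ} (hn : Odd n) (hxn : x ^ n ∈ U) (h : ∀ u ∈ U, x * u * x⁻¹ * u⁻¹ ∈ Qk B P → u ∈ Qk B P) :
    SepG 2 B U (P0 V R B) P :=
  sepG_of_pow Nat.prime_two hU D.UB le_sup_right hP hxB hn.pos ((Nat.coprime_two_left).2 hn) hxn
    (cen_zero b D hxB hx) h

end Cfsg.Agent.Omega.Lie.Zero

end

section


/-!
# `C_X(V) = Y` and `X ∩ N(R i) = W_i Y T` for `BTS` (II.0h1), `q ≥ 4`

Copies of `BTwo/XMod` (`cen_X_V_four`) and `Lie/End/ZeroXB` (`X_inf_le`, `dat_of`) with `C(W i)` a 2-group instead of `C(X) = 1`.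
-/

set_option autoImplicit false
set_option linter.unusedSectionVars false

namespace Cfsg.Agent.Omega.HOne.XV

open Subgroup Cfsg.Agent.Omega.BTwo Cfsg.Agent.Lib.SL2Mat Cfsg.Agent.Omega.Lie Cfsg.Agent.ParSys
  Cfsg.Agent.Omega.Lie.Zero

universe u v w

open scoped commutatorElement

variable {G : Type u} [Group G] {ι : Type w} {V : Subgroup G} {R : ι → Subgroup G} {i j : ι} {F : Type v} [Field F]
  {v : F → F → G} {w1 w2 : F → G} {t : F → G} {M : Type u} [AddCommGroup M] [Module F M] {P1 P2 : G → M}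

section aux

variable (y : YPair V R i j w1 w2 M P1 P2) (c : Coord V R i j v w1 w2)
include y c

/-- **`C_X(V) = Y`**, assuming that `C_X(V)` is in `Y X'` -/
theorem cen_X_V_aux' [Finite G] [Finite F] [CharP F 2] (b : BT V R)
    (hp : IsPGroup 2 (centralizer (WW V (R i) : Set G)))
    (hc : ∀ x ∈ XX V R, x ∈ centralizer (V : Set G) → ∃ z ∈ YY V R, x * z ∈ ⁅XX V R, XX V R⁆) :
    XX V R ⊓ centralizer (V : Set G) = YY V R := by
  have hYX : YY V R ≤ XX V R := YY_le_XX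
  have hn : ((YY V R).subgroupOf (XX V R)).Normal :=
    ⟨fun n hn g => conj_mem_of_normalizer (g := (g : G)) (x := (n : G)) (b.NV_le_NY (b.X_le_NV g.2)) hn⟩
  let Γ := XX V R ⧸ (YY V R).subgroupOf (XX V R)
  let π : XX V R →* Γ := QuotientGroup.mk' ((YY V R).subgroupOf (XX V R))
  have hπ : Function.Surjective π := QuotientGroup.mk'_surjective _
  have hπ1 : ∀ x : XX V R, π x = 1 ↔ (x : G) ∈ YY V R := fun x => QuotientGroup.eq_one_iff x
  let C : Subgroup (XX V R) := (c.rho b).ker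
  have hC : ∀ x : XX V R, x ∈ C ↔ (x : G) ∈ centralizer (V : Set G) := fun x => c.rho_eq_one b
  let W : Subgroup (XX V R) := (WW V (R i)).subgroupOf (XX V R)
  have hYC : (YY V R).subgroupOf (XX V R) ≤ C := fun x hx => (hC x).2 (YY_le_cen hx)
  have hZ : C.map π ≤ center Γ := by
    rintro _ ⟨x, hx, rfl⟩
    rw [mem_center_iff]
    intro g
    obtain ⟨g, rfl⟩ := hπ g
    rw [← map_mul, ← map_mul]
    have h1 := b.cen_comm_X ((hC x).1 hx) g.2
    have h2 : π (x * g * x⁻¹ * g⁻¹) = 1 := (hπ1 _).2 h1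
    rw [map_mul, map_mul, map_mul, map_inv, map_inv, mul_inv_eq_one, mul_inv_eq_iff_eq_mul] at h2
    rw [map_mul, map_mul]
    exact h2.symm
  have hPZ : ∀ x ∈ W.map π, x ∈ C.map π → x = 1 := by
    rintro _ ⟨w, hw, rfl⟩ ⟨x, hx, e⟩
    rw [hπ1]
    have h1 : π (w⁻¹ * x) = 1 := by rw [map_mul, map_inv, e, inv_mul_cancel]
    have h2 : (w⁻¹ * x : XX V R) ∈ C := hYC ((hπ1 _).1 h1)
    have h3 : w ∈ C := by
      have h4 := mul_mem hx (inv_mem h2)
      have e2 : x * (w⁻¹ * x)⁻¹ = w := by group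
      rwa [e2] at h4
    exact UU_le_YY i (mem_inf.2 ⟨hw, (hC w).1 h3⟩)
  have hidx : Odd (W.map π ⊔ C.map π).index := by
    rw [← Subgroup.map_sup]
    have h1 : W ⊔ C = (upG F).comap (c.rho b) := by
      apply le_antisymm
      · refine sup_le (fun w hw => ?_) fun x hx => ?_
        · obtain ⟨a, ha⟩ := c.exists_up (x := (w : G)) hw
          exact ⟨a, c.rho_eq b ha⟩
        · have h2 : c.rho b x = 1 := hx
          rw [mem_comap, h2]
          exact one_mem _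
      · rintro x ⟨a, ha⟩
        have h2 : (⟨w1 a, W_le_X V R i (c.w1_mem a)⟩ : XX V R)⁻¹ * x ∈ C := by
          show c.rho b _ = 1
          rw [map_mul, map_inv, c.rho_w1, ha, inv_mul_cancel]
        have h3 : (⟨w1 a, W_le_X V R i (c.w1_mem a)⟩ : XX V R) ∈ W := c.w1_mem a
        have h4 := mul_mem ((le_sup_left : W ≤ W ⊔ C) h3) ((le_sup_right : C ≤ W ⊔ C) h2)
        rwa [mul_inv_cancel_left] at h4
    have h2 : (W ⊔ C).index = (upG F).index := by
      rw [h1]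
      exact index_comap_of_surjective _ (c.rho_surjective b)
    have h3 : ((W ⊔ C).map π).index = (W ⊔ C).index := by
      rw [index_map, (MonoidHom.range_eq_top.2 hπ), index_top, mul_one]
      congr 1
      rw [sup_eq_left, QuotientGroup.ker_mk']
      exact hYC.trans le_sup_right
    rw [h3, h2]
    exact odd_index_upG
  have h2 : IsPGroup 2 (C.map π) := by
    refine IsPGroup.map ?_ π
    have h3 := Lie.coord_cen_X_V_isPGroup b c hp
    have h4 : C.map (XX V R).subtype ≤ XX V R ⊓ centralizer (V : Set G) := by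
      rintro _ ⟨x, hx, rfl⟩
      exact mem_inf.2 ⟨x.2, (hC x).1 hx⟩
    have h5 := h3.to_le h4
    exact h5.of_injective (C.equivMapOfInjective _ (XX V R).subtype_injective).toMonoidHom
      (C.equivMapOfInjective _ (XX V R).subtype_injective).injective
  have hcm : C.map π ≤ _root_.commutator Γ := by
    rintro _ ⟨x, hx, rfl⟩
    obtain ⟨z, hz, hxz⟩ := hc x x.2 ((hC x).1 hx)
    have h3 : π x = π (x * ⟨z, hYX hz⟩) := by
      rw [map_mul, (hπ1 ⟨z, hYX hz⟩).2 hz, mul_one]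
    rw [h3]
    have h4 : (x * ⟨z, hYX hz⟩ : XX V R) ∈ _root_.commutator (XX V R) := by
      have h5 : (_root_.commutator (XX V R)).map (XX V R).subtype = ⁅XX V R, XX V R⁆ := by
        rw [_root_.commutator_def, Subgroup.map_commutator, ← MonoidHom.range_eq_map, range_subtype]
      rw [← h5] at hxz
      obtain ⟨q, hq, e⟩ := hxz
      have e2 : q = x * ⟨z, hYX hz⟩ := Subtype.ext e
      rwa [e2] at hq
    have h5 : (_root_.commutator (XX V R)).map π ≤ _root_.commutator Γ := by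
      rw [_root_.commutator_def, Subgroup.map_commutator, _root_.commutator_def]
      exact commutator_mono le_top le_top
    exact h5 ⟨_, h4, rfl⟩
  have key := central_eq_bot (C.map π) (W.map π) hZ hPZ hidx h2 hcm
  apply le_antisymm
  · rintro x hx
    obtain ⟨hxX, hxV⟩ := mem_inf.1 hx
    have h3 : π ⟨x, hxX⟩ ∈ C.map π := ⟨_, (hC ⟨x, hxX⟩).2 hxV, rfl⟩
    rw [key, mem_bot] at h3
    exact (hπ1 ⟨x, hxX⟩).1 h3
  · exact le_inf hYX YY_le_cen

/-- **`C_X(V) = Y`**, `q ≥ 4` -/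
theorem cen_X_V_four' [Finite G] [Finite F] [CharP F 2] (b : BT V R)
    (hp : IsPGroup 2 (centralizer (WW V (R i) : Set G))) {a : F} (ha : a ≠ 0) (ha1 : a ≠ 1) :
    XX V R ⊓ centralizer (V : Set G) = YY V R := by
  refine cen_X_V_aux' y c b hp fun x hx _ => ?_
  -- `X = X' Y`
  have hn : YY V R ≤ normalizer ((⁅XX V R, XX V R⁆ : Subgroup G) : Set G) := by
    refine le_normalizer_of fun k hk z hz => ?_
    have h1 : ⁅XX V R, XX V R⁆ ≤ XX V R := commutator_le.2 fun p hp r hr =>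
      mul_mem (mul_mem (mul_mem hp hr) (inv_mem hp)) (inv_mem hr)
    have h2 : ⁅k, z⁆ ∈ ⁅XX V R, XX V R⁆ := commutator_mem_commutator (YY_le_XX hk) (h1 hz)
    have e : k * z * k⁻¹ = ⁅k, z⁆ * z := by rw [commutatorElement_def]; group
    rw [e]
    exact mul_mem h2 hz
  have half : ∀ {i j : ι} {v : F → F → G} {w1 w2 : F → G}, Coord V R i j v w1 w2 →
      WW V (R i) ≤ ⁅XX V R, XX V R⁆ ⊔ YY V R := by
    intro i j v w1 w2 c w hw
    obtain ⟨t, ht⟩ := c.exists_comm_hh b ha ha1 hw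
    have h1 : hh w1 w2 a * w1 t * (hh w1 w2 a)⁻¹ * (w1 t)⁻¹ ∈ ⁅XX V R, XX V R⁆ :=
      commutator_mem_commutator (c.hh_mem_X b a) (W_le_X V R i (c.w1_mem t))
    have h2 := mul_mem ((le_sup_left : _ ≤ ⁅XX V R, XX V R⁆ ⊔ YY V R) h1)
      ((le_sup_right : _ ≤ ⁅XX V R, XX V R⁆ ⊔ YY V R) (UU_le_YY i ht))
    rwa [mul_inv_cancel_left] at h2
  have h1 : XX V R ≤ ⁅XX V R, XX V R⁆ ⊔ YY V R := by
    conv_lhs => rw [b.X_eq c.ne]
    exact sup_le (half c) (half c.symm)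
  have h2 : x ∈ ((⁅XX V R, XX V R⁆ ⊔ YY V R : Subgroup G) : Set G) := h1 hx
  rw [coe_mul_of_right_le_normalizer_left _ _ hn] at h2
  obtain ⟨q, hq, z, hz, e⟩ := h2
  refine ⟨z⁻¹, inv_mem hz, ?_⟩
  have e' : x = q * z := e.symm
  rw [e', mul_inv_cancel_right]
  exact hq

end aux

/-- **`C_X(V) = Y`** -/
theorem cen_X_V [Finite G] [Finite F] [CharP F 2] (hF : ∃ a : F, a ≠ 0 ∧ a ≠ 1) (b : BTS V R)
    (c : Coord V R i j v w1 w2) : XX V R ⊓ centralizer (V : Set G) = YY V R := by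
  obtain ⟨M, _, _, P1, P2, y⟩ := c.exists_yPair b.toBT
  obtain ⟨a, ha, ha1⟩ := hF
  exact cen_X_V_four' y c b.toBT (b.cen_W_isPGroup i) ha ha1

variable {B U : Subgroup G}

/-- **`X ∩ N(R i) ≤ W_i Y T`** -/
theorem X_inf_le [Finite G] [Finite F] [CharP F 2] (hF : ∃ a : F, a ≠ 0 ∧ a ≠ 1) (b : BTS V R) (c : Coord V R i j v w1 w2)
    (τ : TorD V R i j v t) : XX V R ⊓ normalizer (R i : Set G) ≤ WW V (R i) ⊔ YY V R ⊔ τ.grp := by
  obtain ⟨M, _, _, P1, P2, y⟩ := c.exists_yPair b.toBT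
  intro x hx
  obtain ⟨hxX, hxN⟩ := mem_inf.1 hx
  obtain ⟨A, hA⟩ := c.exists_actV b.toBT hxX
  have h10 : ent A 1 0 = 0 := by
    have h1 := BTwo.conj_mem_of_normalizer hxN ((c.mem_R1 _).2 ⟨1, rfl⟩)
    rw [hA 1 0] at h1
    obtain ⟨r, hr⟩ := (c.mem_R1 _).1 h1
    have h2 := (c.v_inj hr).2
    rw [mul_one, mul_zero, add_zero] at h2
    exact h2.symm
  have hdet := det_eq A
  rw [h10] at hdet
  have hdet' : ent A 0 0 * ent A 1 1 = 1 := by linear_combination hdet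
  set a := ent A 0 0 with ha
  have ha0 : a ≠ 0 := left_ne_zero_of_mul_eq_one hdet'
  have h11 : ent A 1 1 = a⁻¹ := eq_inv_of_mul_eq_one_right hdet'
  set s := ent A 0 1 with hs
  -- `w1 (s a) t(a)` has the same action
  have h1 : ∀ p r, (w1 (s * a) * t a) * v p r * (w1 (s * a) * t a)⁻¹ = v (a * p + s * r) (a⁻¹ * r) := by
    intro p r
    have e : (w1 (s * a) * t a) * v p r * (w1 (s * a) * t a)⁻¹ =
        w1 (s * a) * (t a * v p r * (t a)⁻¹) * (w1 (s * a))⁻¹ := by group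
    rw [e, τ.act a p r ha0, c.w1_act]
    congr 1
    field_simp
  have h2 : ∀ p r, x * v p r * x⁻¹ = v (a * p + s * r) (a⁻¹ * r) := by
    intro p r
    rw [hA p r, h10, h11, zero_mul, zero_add]
  have h3 : (w1 (s * a) * t a)⁻¹ * x ∈ centralizer (V : Set G) := by
    rw [mem_centralizer_iff]
    intro z hz
    obtain ⟨p, r, rfl⟩ := (c.mem_V z).1 hz
    have h4 : x * v p r * x⁻¹ = (w1 (s * a) * t a) * v p r * (w1 (s * a) * t a)⁻¹ := by rw [h1, h2]
    have h5 : x * v p r = (w1 (s * a) * t a) * v p r * (w1 (s * a) * t a)⁻¹ * x := by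
      rw [← h4]; group
    rw [mul_assoc ((w1 (s * a) * t a)⁻¹), h5]
    group
  have h4 : (w1 (s * a) * t a)⁻¹ * x ∈ XX V R :=
    mul_mem (inv_mem (mul_mem (W_le_X V R i (c.w1_mem _)) (τ.memX a ha0))) hxX
  have h5 : (w1 (s * a) * t a)⁻¹ * x ∈ YY V R := by
    rw [← cen_X_V hF b c]
    exact mem_inf.2 ⟨h4, h3⟩
  have e : x = w1 (s * a) * t a * ((w1 (s * a) * t a)⁻¹ * x) := by group
  rw [e]
  exact mul_mem (mul_mem ((le_sup_left.trans le_sup_left : WW V (R i) ≤ _) (c.w1_mem _))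
    ((le_sup_right : τ.grp ≤ _) ⟨a, ha0, rfl⟩)) ((le_sup_right.trans le_sup_left : YY V R ≤ WW V (R i) ⊔ YY V R ⊔ τ.grp) h5)

/-- **the data at the node `0`** -/
theorem dat_of [Finite G] [Finite F] [CharP F 2] (hF : ∃ a : F, a ≠ 0 ∧ a ≠ 1) (b : BTS V R) (c : Coord V R i j v w1 w2)
    (τ : TorD V R i j v t) (BV : B ≤ normalizer (V : Set G)) (BR : B ≤ normalizer (R i : Set G)) (UB : U ≤ B)
    (WU : WW V (R i) ≤ U) (YU : YY V R ≤ U) (TB : τ.grp ≤ B) (hU : IsPGroup 2 U)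
    (hUR : U ≤ centralizer (R i : Set G)) : Dat V R i B U where
  BV := BV
  BR := BR
  XB := (X_inf_le hF b c τ).trans (sup_le (sup_le (WU.trans UB) (YU.trans UB)) TB)
  UB := UB
  WU := WU
  UC := by
    intro u hu
    obtain ⟨n, hn⟩ := hU ⟨u, hu⟩
    have hn' : u ^ 2 ^ n = 1 := by simpa using congrArg Subtype.val hn
    exact two_elt c b.toBT (BV (UB hu)) (fun x hx => (mem_centralizer_iff.1 (hUR hu) x hx).symm) (n := n)
      (by rw [hn']; exact one_mem _)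


end Cfsg.Agent.Omega.HOne.XV

end

section


/-!
# `M = W / Z(W)` is an `F`-space and the commutator form is `F`-bilinear (II.a and II.0h1, all `q ≥ 4`), abstract form

`H` acts on `M` and (through `ρ`) on `R = F`, `f : M × M → F` symmetric nondegenerate, `e : F → M` the line, `ω` its
coordinate functional; `M` is generated by the conjugates of the line. `t` the torus, `A` a set of elements of `H` acting
trivially on `R`, `D` the T-trivial part modulo `e`. No connectedness, no components, no weights.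

`Dat.semi`: every element of `H` acts on `R = F` semilinearly; `Dat.exists_module`: the `F`-structure on `M`.
-/

set_option autoImplicit false

namespace Cfsg.Agent.Omega.HOne.FqMod

variable {H : Type*} [Group H] {M : Type*} [AddCommGroup M] [DistribMulAction H M] {F : Type*} [Field F]

/-- the data -/
structure Dat (ρ : H → F ≃+ F) (f : M →+ M →+ F) (e : F →+ M) (ω : M →+ F) (t : Fˣ → H) (A : Set H)
    (D : AddSubgroup M) : Prop where
  ρone : ∀ b, ρ 1 b = b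
  ρmul : ∀ h h' b, ρ (h * h') b = ρ h (ρ h' b)
  symm : ∀ x y, f x y = f y x
  nd : ∀ x, (∀ y, f x y = 0) → x = 0
  act : ∀ (h : H) x y, f (h • x) (h • y) = ρ h (f x y)
  fe : ∀ x γ, f x (e γ) = ω x * γ
  span : ∀ L : AddSubgroup M, (∀ (h : H) γ, h • e γ ∈ L) → L = ⊤
  ωne : ∃ x, ω x ≠ 0
  tρ : ∀ (a : Fˣ) b, ρ (t a) b = a * b
  te : ∀ (a : Fˣ) γ, ∃ γ', t a • e γ = e γ'
  tD : ∀ (a : Fˣ), ∀ d ∈ D, ∃ γ, t a • d - d = e γ
  Aρ : ∀ h ∈ A, ∀ b, ρ h b = b
  surj : ∀ m, ω m ≠ 0 → ∀ x, ω x = 0 → ∃ a ∈ A, x - (a • m - m) ∈ D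

/-- `h` acts semilinearly on `F` -/
def Semi (ρ : H → F ≃+ F) (h : H) : Prop := ∀ a, ∃ c, ∀ b, ρ h (a * b) = c * ρ h b

theorem Semi.surj [Finite F] {ρ : H → F ≃+ F} {h : H} (hs : Semi ρ h) (c : F) :
    ∃ a, ∀ b, ρ h (a * b) = c * ρ h b := by
  choose μ hμ using hs
  have hinj : Function.Injective μ := by
    intro a a' h1
    have h2 := hμ a 1
    rw [h1, ← hμ a' 1, mul_one, mul_one] at h2
    exact (ρ h).injective h2
  obtain ⟨a, rfl⟩ := (Finite.injective_iff_surjective.1 hinj) c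
  exact ⟨a, hμ a⟩

namespace Dat

variable {ρ : H → F ≃+ F} {f : M →+ M →+ F} {e : F →+ M} {ω : M →+ F} {t : Fˣ → H} {A : Set H}
  {D : AddSubgroup M} (d : Dat ρ f e ω t A D)
include d

theorem one_ne : e 1 ≠ 0 := by
  intro h
  obtain ⟨x, hx⟩ := d.ωne
  have h1 := d.fe x 1
  rw [h, map_zero, mul_one] at h1
  exact hx h1.symm

/-- the form between two conjugates of the line -/
theorem fee (h h' : H) (γ γ' : F) : f (h • e γ) (h' • e γ') = ρ h' (ω (h'⁻¹ • h • e γ) * γ') := by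
  rw [← d.fe, ← d.act, smul_inv_smul]

/-- a conjugate of `e` over a semilinear element is orthogonal to a conjugate over a non-semilinear element -/
theorem orth [Finite F] {h h' : H} (hs : Semi ρ h) (hs' : ¬ Semi ρ h') (γ γ' : F) :
    f (h • e γ) (h' • e γ') = 0 := by
  by_contra hne
  apply hs'
  -- `g γ γ'`
  have k1 : ∀ x y, f (h • e x) (h' • e y) = ρ h' (ω (h'⁻¹ • h • e x) * y) := d.fee h h'
  have k2 : ∀ x y, f (h • e x) (h' • e y) = ρ h (ω (h⁻¹ • h' • e y) * x) := by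
    intro x y
    rw [d.symm, d.fee]
  have hs0 : ω (h'⁻¹ • h • e γ) ≠ 0 := by
    intro h0
    apply hne
    rw [k1, h0, zero_mul, map_zero]
  have hsurj : ∀ b, ∃ y, f (h • e γ) (h' • e y) = b := by
    intro b
    refine ⟨(ω (h'⁻¹ • h • e γ))⁻¹ * (ρ h').symm b, ?_⟩
    rw [k1, mul_inv_cancel_left₀ hs0]
    exact (ρ h').apply_symm_apply b
  intro a'
  -- `T b = ρ h' (a' * ρ h'⁻¹ b)`
  have hT : ∀ x y, f (h • e x) (h' • e (a' * y)) = ρ h' (a' * (ρ h').symm (f (h • e x) (h' • e y))) := by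
    intro x y
    rw [k1, k1, AddEquiv.symm_apply_apply]
    congr 1
    ring
  have hcomm : ∀ c b, ρ h' (a' * (ρ h').symm (c * b)) = c * ρ h' (a' * (ρ h').symm b) := by
    intro c b
    obtain ⟨a, ha⟩ := hs.surj c
    obtain ⟨y, rfl⟩ := hsurj b
    have h3 : ∀ y, f (h • e (a * γ)) (h' • e y) = c * f (h • e γ) (h' • e y) := by
      intro y
      rw [k2, k2, ← ha]
      congr 1
      ring
    rw [← h3, ← hT, ← hT, h3]
  refine ⟨ρ h' (a' * (ρ h').symm 1), fun b => ?_⟩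
  have h4 := hcomm (ρ h' b) 1
  rw [mul_one, AddEquiv.symm_apply_apply] at h4
  rw [h4, mul_comm]

/-- **one field**: every element of `H` acts semilinearly on `R = F` -/
theorem semi [Finite F] (hF : ∃ a : F, a ≠ 0 ∧ a ≠ 1) (h0 : H) : Semi ρ h0 := by
  by_contra hc
  obtain ⟨a, ha, ha1⟩ := hF
  let S1 : Set M := {x | ∃ h γ, Semi ρ h ∧ x = h • e γ}
  let S2 : Set M := {x | ∃ h γ, ¬ Semi ρ h ∧ x = h • e γ}
  set M1 := AddSubgroup.closure S1 with hM1
  set M2 := AddSubgroup.closure S2 with hM2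
  have horth : ∀ x ∈ M1, ∀ y ∈ M2, f x y = 0 := by
    intro x hx y hy
    induction hx using AddSubgroup.closure_induction with
    | mem x hx =>
      obtain ⟨h, γ, hs, rfl⟩ := hx
      induction hy using AddSubgroup.closure_induction with
      | mem y hy =>
        obtain ⟨h', γ', hs', rfl⟩ := hy
        exact d.orth hs hs' γ γ'
      | zero => exact map_zero _
      | add y z _ _ hy hz => rw [map_add, hy, hz, add_zero]
      | neg y _ hy => rw [map_neg, hy, neg_zero]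
    | zero => rw [map_zero]; rfl
    | add x z _ _ hx hz => rw [map_add, AddMonoidHom.add_apply, hx, hz, add_zero]
    | neg x _ hx => rw [map_neg, AddMonoidHom.neg_apply, hx, neg_zero]
  have htop : M1 ⊔ M2 = ⊤ := d.span _ (fun h γ => by
    by_cases hs : Semi ρ h
    · exact AddSubgroup.mem_sup_left (AddSubgroup.subset_closure ⟨h, γ, hs, rfl⟩)
    · exact AddSubgroup.mem_sup_right (AddSubgroup.subset_closure ⟨h, γ, hs, rfl⟩))
  have hzero : ∀ x ∈ M2, (∀ y ∈ M2, f x y = 0) → x = 0 := by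
    intro x hx h
    apply d.nd
    intro y
    have hy : y ∈ M1 ⊔ M2 := by rw [htop]; trivial
    obtain ⟨y1, hy1, y2, hy2, rfl⟩ := AddSubgroup.mem_sup.1 hy
    rw [map_add, h y2 hy2, d.symm, horth y1 hy1 x hx, add_zero]
  have hs1 : Semi ρ (1 : H) := fun a => ⟨a, fun b => by rw [d.ρone, d.ρone]⟩
  have heM1 : ∀ γ, e γ ∈ M1 := fun γ => AddSubgroup.subset_closure ⟨1, γ, hs1, (one_smul _ _).symm⟩
  have hst : ∀ (a : Fˣ) h, Semi ρ (t a * h) ↔ Semi ρ h := by
    intro a h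
    have k : ∀ b, ρ (t a * h) b = a * ρ h b := by
      intro b
      rw [d.ρmul]
      exact d.tρ a _
    constructor
    · intro hs x
      obtain ⟨c, hc⟩ := hs x
      refine ⟨c, fun b => ?_⟩
      have h1 := hc b
      rw [k, k] at h1
      exact mul_left_cancel₀ a.ne_zero (h1.trans (mul_left_comm _ _ _))
    · intro hs x
      obtain ⟨c, hc⟩ := hs x
      refine ⟨c, fun b => ?_⟩
      rw [k, k, hc, mul_left_comm]
  have hsA : ∀ g ∈ A, ∀ h, Semi ρ h → Semi ρ (g * h) := by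
    intro g hg h hs x
    obtain ⟨c, hc⟩ := hs x
    refine ⟨c, fun b => ?_⟩
    rw [d.ρmul, d.ρmul, d.Aρ g hg, d.Aρ g hg, hc]
  have hAM1 : ∀ g ∈ A, ∀ x ∈ M1, g • x ∈ M1 := by
    intro g hg x hx
    induction hx using AddSubgroup.closure_induction with
    | mem x hx =>
      obtain ⟨h, γ, hs, rfl⟩ := hx
      exact AddSubgroup.subset_closure ⟨g * h, γ, hsA g hg h hs, (mul_smul _ _ _).symm⟩
    | zero => rw [smul_zero]; exact zero_mem _
    | add x z _ _ hx hz => rw [smul_add]; exact add_mem hx hz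
    | neg x _ hx => rw [smul_neg]; exact neg_mem hx
  have htM1 : ∀ (a : Fˣ), ∀ x ∈ M1, t a • x ∈ M1 := by
    intro a x hx
    induction hx using AddSubgroup.closure_induction with
    | mem x hx =>
      obtain ⟨h, γ, hs, rfl⟩ := hx
      exact AddSubgroup.subset_closure ⟨t a * h, γ, (hst a h).2 hs, (mul_smul _ _ _).symm⟩
    | zero => rw [smul_zero]; exact zero_mem _
    | add x z _ _ hx hz => rw [smul_add]; exact add_mem hx hz
    | neg x _ hx => rw [smul_neg]; exact neg_mem hx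
  have htM2 : ∀ (a : Fˣ), ∀ x ∈ M2, t a • x ∈ M2 := by
    intro a x hx
    induction hx using AddSubgroup.closure_induction with
    | mem x hx =>
      obtain ⟨h, γ, hs, rfl⟩ := hx
      exact AddSubgroup.subset_closure ⟨t a * h, γ, fun h1 => hs ((hst a h).1 h1), (mul_smul _ _ _).symm⟩
    | zero => rw [smul_zero]; exact zero_mem _
    | add x z _ _ hx hz => rw [smul_add]; exact add_mem hx hz
    | neg x _ hx => rw [smul_neg]; exact neg_mem hx
  have hω2 : ∀ y ∈ M2, ω y = 0 := by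
    intro y hy
    have h1 := d.fe y 1
    rw [d.symm, horth _ (heM1 1) y hy, mul_one] at h1
    exact h1.symm
  -- an element of `M1` outside `P`
  obtain ⟨m, hm, hmω⟩ : ∃ m ∈ M1, ω m ≠ 0 := by
    obtain ⟨x, hx⟩ := d.ωne
    have hx' : x ∈ M1 ⊔ M2 := by rw [htop]; trivial
    obtain ⟨x1, hx1, x2, hx2, rfl⟩ := AddSubgroup.mem_sup.1 hx'
    rw [map_add, hω2 x2 hx2, add_zero] at hx
    exact ⟨x1, hx1, hx⟩
  let a' : Fˣ := Units.mk0 a ha
  -- `T` centralises `M2`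
  have hfix : ∀ y ∈ M2, t a' • y = y := by
    intro y hy
    obtain ⟨g, hg, hD⟩ := d.surj m hmω y (hω2 y hy)
    set x := g • m - m with hx
    have hxM : x ∈ M1 := sub_mem (hAM1 g hg m hm) hm
    obtain ⟨γ, hγ⟩ := d.tD a' _ hD
    have h1 : t a' • y - y ∈ M1 := by
      have e1 : t a' • y - y = (t a' • x - x) + (t a' • (y - x) - (y - x)) := by
        rw [smul_sub (t a') y x]; abel
      rw [e1, hγ]
      exact add_mem (sub_mem (htM1 a' x hxM) hxM) (heM1 γ)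
    have h2 : t a' • y - y ∈ M2 := sub_mem (htM2 a' y hy) hy
    have h3 := hzero _ h2 (fun z hz => horth _ h1 z hz)
    exact sub_eq_zero.1 h3
  have h5 : ∀ y ∈ M2, y = 0 := by
    intro y hy
    refine hzero y hy (fun z hz => ?_)
    have h1 := d.act (t a') y z
    rw [hfix y hy, hfix z hz, d.tρ] at h1
    have h2 : (a - 1) * f y z = 0 := by
      rw [sub_mul, one_mul, sub_eq_zero]
      exact h1.symm
    exact (mul_eq_zero.1 h2).resolve_left (sub_ne_zero.2 ha1)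
  have h6 := h5 (h0 • e 1) (AddSubgroup.subset_closure ⟨h0, 1, hc, rfl⟩)
  rw [smul_eq_zero_iff_eq] at h6
  exact d.one_ne h6

/-- the field automorphism induced by `h` -/
theorem exists_sigma [Finite F] (hF : ∃ a : F, a ≠ 0 ∧ a ≠ 1) :
    ∃ σ : H →* RingAut F, ∀ h a b, ρ h (a * b) = σ h a * ρ h b := by
  have hne : ∀ h, ρ h 1 ≠ 0 := fun h h0 => one_ne_zero ((ρ h).map_eq_zero_iff.1 h0)
  choose μ hμ using fun h => d.semi hF h
  have hinj : ∀ h, Function.Injective (μ h) := by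
    intro h a a' h1
    have h2 := hμ h a 1
    rw [h1, ← hμ h a' 1, mul_one, mul_one] at h2
    exact (ρ h).injective h2
  have hu : ∀ h a c, (∀ b, ρ h (a * b) = c * ρ h b) → μ h a = c := by
    intro h a c hc
    have h1 := hμ h a 1
    rw [hc] at h1
    exact (mul_right_cancel₀ (hne h) h1).symm
  have hmul : ∀ h a a', μ h (a * a') = μ h a * μ h a' := by
    intro h a a'
    apply hu
    intro b
    rw [mul_assoc, hμ, hμ, mul_assoc]
  have hadd : ∀ h a a', μ h (a + a') = μ h a + μ h a' := by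
    intro h a a'
    apply hu
    intro b
    rw [add_mul, map_add, hμ, hμ, add_mul]
  have hmm : ∀ h h' a, μ (h * h') a = μ h (μ h' a) := by
    intro h h' a
    apply hu
    intro b
    rw [d.ρmul, d.ρmul, hμ, hμ]
  have hbij : ∀ h, Function.Bijective (μ h) := fun h => ⟨hinj h, Finite.injective_iff_surjective.1 (hinj h)⟩
  let σ0 : H → (F ≃+* F) := fun h =>
    { Equiv.ofBijective (μ h) (hbij h) with
      map_mul' := hmul h
      map_add' := hadd h }
  refine ⟨MonoidHom.mk' σ0 (fun h h' => RingEquiv.ext (hmm h h')), hμ⟩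

/-- **the `F`-structure on `M`** -/
theorem exists_module [Finite F] (hF : ∃ a : F, a ≠ 0 ∧ a ≠ 1) :
    ∃ (_ : Module F M) (σ : H →* RingAut F),
      (∀ (a : F) x y, f (a • x) y = a * f x y) ∧ (∀ (a : F) x y, f x (a • y) = a * f x y) ∧
      (∀ h a b, ρ h (a * b) = σ h a * ρ h b) ∧
      (∀ (h : H) (a : F) (x : M), h • (a • x) = σ h a • (h • x)) ∧
      (∀ a γ : F, e (a * γ) = a • e γ) ∧ (∀ (a : F) x, ω (a • x) = a * ω x) ∧
      (∀ h : H, (∀ b, ρ h b = b) → σ h = 1) ∧ ∀ a : Fˣ, σ (t a) = 1 := by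
  obtain ⟨σ, hσ⟩ := d.exists_sigma hF
  have hex : ∀ (a : F) (x : M), ∃ x', ∀ y, f x' y = a * f x y := by
    let L : AddSubgroup M :=
      { carrier := {x | ∀ a : F, ∃ x', ∀ y, f x' y = a * f x y}
        zero_mem' := fun a => ⟨0, fun y => by rw [map_zero, AddMonoidHom.zero_apply, mul_zero]⟩
        add_mem' := by
          intro x z hx hz a
          obtain ⟨x', hx'⟩ := hx a
          obtain ⟨z', hz'⟩ := hz a
          exact ⟨x' + z', fun y => by
            rw [map_add, map_add, AddMonoidHom.add_apply, AddMonoidHom.add_apply, hx', hz', mul_add]⟩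
        neg_mem' := by
          intro x hx a
          obtain ⟨x', hx'⟩ := hx a
          exact ⟨-x', fun y => by
            rw [map_neg, map_neg, AddMonoidHom.neg_apply, AddMonoidHom.neg_apply, hx', mul_neg]⟩ }
    have hL : L = ⊤ := d.span L (by
      intro h γ a
      refine ⟨h • e ((σ h).symm a * γ), fun y => ?_⟩
      rw [d.symm, d.symm (h • e γ) y]
      have k : ∀ x, f y (h • e x) = ρ h (ω (h⁻¹ • y) * x) := by
        intro x
        rw [← d.fe, ← d.act, smul_inv_smul]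
      rw [k, k, show ω (h⁻¹ • y) * ((σ h).symm a * γ) = (σ h).symm a * (ω (h⁻¹ • y) * γ) by ring, hσ,
        RingEquiv.apply_symm_apply])
    intro a x
    have : x ∈ L := by rw [hL]; trivial
    exact this a
  choose sm hsm using hex
  have hu : ∀ x x' : M, (∀ y, f x y = f x' y) → x = x' := by
    intro x x' h
    rw [← sub_eq_zero]
    apply d.nd
    intro y
    rw [map_sub, AddMonoidHom.sub_apply, h, sub_self]
  let md : Module F M :=
    { smul := sm
      one_smul := fun x => hu _ _ fun y => by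
        change f (sm 1 x) y = _
        rw [hsm, one_mul]
      mul_smul := fun a b x => hu _ _ fun y => by
        change f (sm (a * b) x) y = f (sm a (sm b x)) y
        rw [hsm, hsm, hsm, mul_assoc]
      smul_zero := fun a => hu _ _ fun y => by
        change f (sm a 0) y = _
        rw [hsm, map_zero, AddMonoidHom.zero_apply, mul_zero]
      smul_add := fun a x z => hu _ _ fun y => by
        change f (sm a (x + z)) y = f (sm a x + sm a z) y
        rw [hsm, map_add, map_add, AddMonoidHom.add_apply, AddMonoidHom.add_apply, hsm, hsm, mul_add]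
      add_smul := fun a b x => hu _ _ fun y => by
        change f (sm (a + b) x) y = f (sm a x + sm b x) y
        rw [hsm, map_add, AddMonoidHom.add_apply, hsm, hsm, add_mul]
      zero_smul := fun x => hu _ _ fun y => by
        change f (sm 0 x) y = _
        rw [hsm, zero_mul, map_zero, AddMonoidHom.zero_apply] }
  have hl : ∀ (a : F) x y, f (a • x) y = a * f x y := hsm
  have hr : ∀ (a : F) x y, f x (a • y) = a * f x y := fun a x y => by
    rw [d.symm, hl, d.symm]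
  have hact : ∀ (h : H) (a : F) (x : M), h • (a • x) = σ h a • (h • x) := by
    intro h a x
    apply hu
    intro y
    rw [← smul_inv_smul h y, d.act, hl, hσ, hl, d.act]
  refine ⟨md, σ, hl, hr, hσ, hact, ?_, ?_, ?_, ?_⟩
  · intro a γ
    apply hu
    intro y
    rw [d.symm, d.fe, hl, d.symm, d.fe]
    ring
  · intro a x
    have h1 := d.fe (a • x) 1
    rw [hl, d.fe, mul_one, mul_one] at h1
    exact h1.symm
  · intro h hh
    apply RingEquiv.ext
    intro a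
    have h1 := hσ h a 1
    rw [hh, hh, mul_one, mul_one] at h1
    exact h1.symm
  · intro a
    apply RingEquiv.ext
    intro x
    have h1 := hσ (t a) x 1
    rw [d.tρ, d.tρ, mul_one, mul_one, mul_comm] at h1
    exact (mul_right_cancel₀ a.ne_zero h1).symm

end Dat

end Cfsg.Agent.Omega.HOne.FqMod

end

section


/-!
# NODE LIE, the END: instances at the node `0`

* `X_inf_le` : `X ∩ N(R i) ≤ W_i Y T`;
* `dat_of` : `Dat V R i B U` from `W_i, Y ≤ U`, `T ≤ B`, `U` a 2-group centralising `R i`;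
* `fpf_scal`, `sepG_scal` : `h ∈ B ∩ C(R i)`, nontrivial on `V / R i`, is fixed-point-free on `U / Q₀`;
* `unmoved_le` : the unmoved nodes normalise `V`;
* `exists_L`, `pair_fields` : an unmoved node `P` is `L B` with `L ≤ C(V)`; the pair `(P, P₀)`: polygon, `frat`, `SepG`.
-/

set_option autoImplicit false
set_option linter.unusedSectionVars false

namespace Cfsg.Agent.Omega.Lie.Zero

open Subgroup Cfsg.Agent.Omega.BTwo Cfsg.Agent.ParSys Cfsg.Agent.Lib.SL2Mat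

universe u v w

variable {G : Type u} [Group G] {ι : Type w} {V : Subgroup G} {R : ι → Subgroup G} {i j : ι} {F : Type v} [Field F]
  {v : F → F → G} {w1 w2 : F → G} {t : F → G} {B U : Subgroup G}

/-! ### `X ∩ N(R i)` -/

/-- **`X ∩ N(R i) ≤ W_i Y T`** -/
theorem X_inf_le [Finite G] [Finite F] [CharP F 2] (b : BTC V R) (c : Coord V R i j v w1 w2)
    (τ : TorD V R i j v t) : XX V R ⊓ normalizer (R i : Set G) ≤ WW V (R i) ⊔ YY V R ⊔ τ.grp := by
  obtain ⟨M, _, _, P1, P2, y⟩ := c.exists_yPair b.toBT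
  intro x hx
  obtain ⟨hxX, hxN⟩ := mem_inf.1 hx
  obtain ⟨A, hA⟩ := c.exists_actV b.toBT hxX
  have h10 : ent A 1 0 = 0 := by
    have h1 := BTwo.conj_mem_of_normalizer hxN ((c.mem_R1 _).2 ⟨1, rfl⟩)
    rw [hA 1 0] at h1
    obtain ⟨r, hr⟩ := (c.mem_R1 _).1 h1
    have h2 := (c.v_inj hr).2
    rw [mul_one, mul_zero, add_zero] at h2
    exact h2.symm
  have hdet := det_eq A
  rw [h10] at hdet
  have hdet' : ent A 0 0 * ent A 1 1 = 1 := by linear_combination hdet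
  set a := ent A 0 0 with ha
  have ha0 : a ≠ 0 := left_ne_zero_of_mul_eq_one hdet'
  have h11 : ent A 1 1 = a⁻¹ := eq_inv_of_mul_eq_one_right hdet'
  set s := ent A 0 1 with hs
  -- `w1 (s a) t(a)` has the same action
  have h1 : ∀ p r, (w1 (s * a) * t a) * v p r * (w1 (s * a) * t a)⁻¹ = v (a * p + s * r) (a⁻¹ * r) := by
    intro p r
    have e : (w1 (s * a) * t a) * v p r * (w1 (s * a) * t a)⁻¹ =
        w1 (s * a) * (t a * v p r * (t a)⁻¹) * (w1 (s * a))⁻¹ := by group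
    rw [e, τ.act a p r ha0, c.w1_act]
    congr 1
    field_simp
  have h2 : ∀ p r, x * v p r * x⁻¹ = v (a * p + s * r) (a⁻¹ * r) := by
    intro p r
    rw [hA p r, h10, h11, zero_mul, zero_add]
  have h3 : (w1 (s * a) * t a)⁻¹ * x ∈ centralizer (V : Set G) := by
    rw [mem_centralizer_iff]
    intro z hz
    obtain ⟨p, r, rfl⟩ := (c.mem_V z).1 hz
    have h4 : x * v p r * x⁻¹ = (w1 (s * a) * t a) * v p r * (w1 (s * a) * t a)⁻¹ := by rw [h1, h2]
    have h5 : x * v p r = (w1 (s * a) * t a) * v p r * (w1 (s * a) * t a)⁻¹ * x := by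
      rw [← h4]; group
    rw [mul_assoc ((w1 (s * a) * t a)⁻¹), h5]
    group
  have h4 : (w1 (s * a) * t a)⁻¹ * x ∈ XX V R :=
    mul_mem (inv_mem (mul_mem (W_le_X V R i (c.w1_mem _)) (τ.memX a ha0))) hxX
  have h5 : (w1 (s * a) * t a)⁻¹ * x ∈ YY V R := by
    rw [← y.cen_X_V c b]
    exact mem_inf.2 ⟨h4, h3⟩
  have e : x = w1 (s * a) * t a * ((w1 (s * a) * t a)⁻¹ * x) := by group
  rw [e]
  exact mul_mem (mul_mem ((le_sup_left.trans le_sup_left : WW V (R i) ≤ _) (c.w1_mem _))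
    ((le_sup_right : τ.grp ≤ _) ⟨a, ha0, rfl⟩)) ((le_sup_right.trans le_sup_left : YY V R ≤ WW V (R i) ⊔ YY V R ⊔ τ.grp) h5)

/-- **the data at the node `0`** -/
theorem dat_of [Finite G] [Finite F] [CharP F 2] (b : BTC V R) (c : Coord V R i j v w1 w2)
    (τ : TorD V R i j v t) (BV : B ≤ normalizer (V : Set G)) (BR : B ≤ normalizer (R i : Set G)) (UB : U ≤ B)
    (WU : WW V (R i) ≤ U) (YU : YY V R ≤ U) (TB : τ.grp ≤ B) (hU : IsPGroup 2 U)
    (hUR : U ≤ centralizer (R i : Set G)) : Dat V R i B U where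
  BV := BV
  BR := BR
  XB := (X_inf_le b c τ).trans (sup_le (sup_le (WU.trans UB) (YU.trans UB)) TB)
  UB := UB
  WU := WU
  UC := by
    intro u hu
    obtain ⟨n, hn⟩ := hU ⟨u, hu⟩
    have hn' : u ^ 2 ^ n = 1 := by simpa using congrArg Subtype.val hn
    exact two_elt c b.toBT (BV (UB hu)) (fun x hx => (mem_centralizer_iff.1 (hUR hu) x hx).symm) (n := n)
      (by rw [hn']; exact one_mem _)

/-! ### Elements of `C(R i)` which act nontrivially on `V / R i` -/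

variable (b : BT V R) (D : Dat V R i B U) (c : Coord V R i j v w1 w2)

include b D c

/-- **`h ∈ B ∩ C(R i)`, nontrivial on `V / R i`, is fixed-point-free on `U / Q₀`** -/
theorem fpf_scal {h : G} (hB : h ∈ B) (hR : ∀ x ∈ R i, h * x = x * h) {p₀ s₀ : F}
    (hv : h * v 0 1 * h⁻¹ = v p₀ s₀) (hs : s₀ ≠ 1) :
    ∀ u ∈ U, h * u * h⁻¹ * u⁻¹ ∈ Qk B (P0 V R B) → u ∈ Qk B (P0 V R B) := by
  intro u hu hQ
  have hBP : B ≤ P0 V R B := le_sup_right
  have huB := D.UB hu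
  obtain ⟨μ, hμ, w, hw, hact⟩ := exists_scal c b (D.BV hB) hR
  obtain ⟨σ, hσ⟩ := c.W1_act w hw
  -- the action of `h`
  have h1 : ∀ p r, h * v p r * h⁻¹ = v (p + σ * (μ * r)) (μ * r) := by
    intro p r
    have e : h * v p r * h⁻¹ = w * ((w⁻¹ * h) * v p r * (w⁻¹ * h)⁻¹) * w⁻¹ := by group
    rw [e, hact, hσ]
  have hμs : μ ≠ 1 := by
    rw [h1 0 1, mul_one] at hv
    rw [(c.v_inj hv).2]
    exact hs
  have h1' : ∀ p r, h⁻¹ * v p r * h = v (p - σ * r) (μ⁻¹ * r) := by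
    intro p r
    have h2 := h1 (p - σ * r) (μ⁻¹ * r)
    rw [mul_inv_cancel_left₀ hμ, sub_add_cancel] at h2
    rw [← h2]
    group
  -- the action of `u`
  obtain ⟨w', hw', hc⟩ := D.UC u hu
  obtain ⟨s, hs'⟩ := c.W1_act w' hw'
  have hu1 : ∀ p r, u * v p r * u⁻¹ = v (p + s * r) r := by
    intro p r
    have e : u * v p r * u⁻¹ = w' * ((w'⁻¹ * u) * v p r * (w'⁻¹ * u)⁻¹) * w'⁻¹ := by group
    rw [e, ← mem_centralizer_iff.1 hc _ (c.v_mem p r), mul_inv_cancel_right, hs']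
  have hu2 : ∀ p r, u⁻¹ * v p r * u = v (p - s * r) r := by
    intro p r
    have h2 := hu1 (p - s * r) r
    rw [sub_add_cancel] at h2
    rw [← h2]
    group
  have h3 : (h * u * h⁻¹ * u⁻¹) * v 0 1 * (h * u * h⁻¹ * u⁻¹)⁻¹ = v (μ⁻¹ * s - s) 1 := by
    have e : (h * u * h⁻¹ * u⁻¹) * v 0 1 * (h * u * h⁻¹ * u⁻¹)⁻¹ =
        h * (u * (h⁻¹ * (u⁻¹ * v 0 1 * u) * h) * u⁻¹) * h⁻¹ := by group
    rw [e, hu2, h1', hu1, h1]
    congr 1
    · rw [mul_one, mul_one, mul_one, mul_inv_cancel₀ hμ]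
      ring
    · rw [mul_one, mul_inv_cancel₀ hμ]
  have h4 := (mem_Qk_iff b D (hBP (Qk_le _ _ hQ))).1 hQ j
  have h5 : v (μ⁻¹ * s - s) 1 ∈ R j := by
    rw [← h3]
    exact BTwo.conj_mem_of_normalizer h4 ((c.mem_R2 _).2 ⟨1, rfl⟩)
  obtain ⟨r, hr⟩ := (c.mem_R2 _).1 h5
  have h6 := (c.v_inj hr).1
  have h7 : s = 0 := by
    have h8 : (μ⁻¹ - 1) * s = 0 := by linear_combination -h6
    rcases mul_eq_zero.1 h8 with h9 | h9
    · exact absurd (inv_eq_one.1 (sub_eq_zero.1 h9)) hμs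
    · exact h9
  refine cen_le_Qk b D (hBP huB) ?_
  rw [mem_centralizer_iff]
  intro x hx
  obtain ⟨p, r, rfl⟩ := (c.mem_V x).1 hx
  have h8 := hu1 p r
  rw [h7, zero_mul, add_zero] at h8
  exact (mul_inv_eq_iff_eq_mul.1 h8).symm

/-- `SepG` at `(P, P₀)` from `h ∈ B ∩ C(R i)` of odd order modulo `U`, nontrivial on `V / R i`, centralising `U` modulo
the kernel of `P` -/
theorem sepG_scal (hU : IsPGroup 2 U) {P : Subgroup G} (hP : B ≤ P) {h : G} (hB : h ∈ B)
    (hR : ∀ x ∈ R i, h * x = x * h) {p₀ s₀ : F} (hv : h * v 0 1 * h⁻¹ = v p₀ s₀) (hs : s₀ ≠ 1) {n : ℕ} (hn : Odd n)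
    (hhn : h ^ n ∈ U) (hc : ∀ u ∈ U, h * u * h⁻¹ * u⁻¹ ∈ Qk B P) : SepG 2 B U P (P0 V R B) :=
  sepG_of_pow Nat.prime_two hU D.UB hP le_sup_right hB hn.pos ((Nat.coprime_two_left).2 hn) hhn hc
    (fpf_scal b D c hB hR hv hs)

/-! ### The unmoved nodes -/

/-- a 2-element of `N(V) ∩ C(R i)` acts trivially on `V / R i` -/
theorem comm_of_U {u x : G} (hu : u ∈ U) (hx : x ∈ V) : u * x * u⁻¹ * x⁻¹ ∈ R i := by
  obtain ⟨w, hw, hc⟩ := D.UC u hu
  obtain ⟨s, hs⟩ := c.W1_act w hw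
  obtain ⟨p, r, rfl⟩ := (c.mem_V x).1 hx
  have e : u * v p r * u⁻¹ = w * ((w⁻¹ * u) * v p r * (w⁻¹ * u)⁻¹) * w⁻¹ := by group
  rw [e, ← mem_centralizer_iff.1 hc _ (c.v_mem p r), mul_inv_cancel_right, hs]
  have h1 : v (p + s * r) r = v (s * r) 0 * v p r := by rw [← c.v_add, zero_add, add_comm]
  rw [h1, mul_inv_cancel_right]
  exact (c.mem_R1 _).2 ⟨_, rfl⟩

omit b D c in
/-- the 2-elements of `B` are in `U` -/
theorem mem_U_of_two (norm : B ≤ normalizer (U : Set G)) (index : Nat.Coprime 2 (U.relIndex B)) {x : G} (hx : x ∈ B)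
    {n : ℕ} (h : x ^ 2 ^ n ∈ U) : x ∈ U :=
  Hall.mem_of_pow_mem_of_coprime (a := 2 ^ n) (b := U.relIndex B) h (Hall.pow_relIndex_mem norm hx) (index.pow_left n)

/-- **The unmoved nodes normalise `V`** (LEMMA CA). -/
theorem unmoved_le {P : Subgroup G} (hPR : P ≤ normalizer (R i : Set G)) (norm : B ≤ normalizer (U : Set G))
    (index : Nat.Coprime 2 (U.relIndex B)) (hQ : UU V R j ≤ Qk B P)
    (hCA : ∀ x ∈ WW V (R i), (∀ u ∈ UU V R j, u * x * u⁻¹ * x⁻¹ ∈ R i) → x ∈ V) :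
    P ≤ normalizer (V : Set G) := by
  have key : ∀ g ∈ P, ∀ x ∈ V, g * x * g⁻¹ ∈ V := by
    intro g hg x hx
    refine hCA _ (BTwo.conj_mem_of_normalizer (normalizer_le_WW V (R i) (hPR hg)) (V_le_WW V (R i) hx)) ?_
    intro u hu
    have h1 : g⁻¹ * u * g ∈ B := Qk_le _ _ (Qk_conj (hQ hu) hg)
    obtain ⟨n, hn⟩ := b.U_isPGroup j ⟨u, hu⟩
    have hn' : u ^ 2 ^ n = 1 := by simpa using congrArg Subtype.val hn
    have h2 : (g⁻¹ * u * g) ^ 2 ^ n = 1 := by
      have := conj_pow (i := 2 ^ n) (a := g⁻¹) (b := u)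
      rw [inv_inv] at this
      rw [this, hn', mul_one, inv_mul_cancel]
    have h3 : g⁻¹ * u * g ∈ U := mem_U_of_two norm index h1 (n := n) (by rw [h2]; exact one_mem _)
    have h4 := BTwo.conj_mem_of_normalizer (hPR hg) (comm_of_U b D c h3 hx)
    have e : u * (g * x * g⁻¹) * u⁻¹ * (g * x * g⁻¹)⁻¹ =
        g * (g⁻¹ * u * g * x * (g⁻¹ * u * g)⁻¹ * x⁻¹) * g⁻¹ := by group
    rw [e]
    exact h4
  intro g hg
  rw [mem_normalizer_iff]
  intro x
  refine ⟨key g hg x, fun h => ?_⟩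
  have h1 := key g⁻¹ (inv_mem hg) _ h
  have e : g⁻¹ * (g * x * g⁻¹) * g⁻¹⁻¹ = x := by group
  rwa [e] at h1

/-- **An unmoved node is `L B` with `L ≤ C(V)`.** `P = (P ∩ C(R i)) B`, `U` is a Sylow 2-subgroup of `P ∩ C(R i)` and its
normaliser there is in `B`. -/
theorem exists_L [Finite G] [CharP F 2] {P : Subgroup G} (hBP : B ≤ P) (hPV : P ≤ normalizer (V : Set G))
    (hgen : P ≤ (P ⊓ centralizer (R i : Set G)) ⊔ B) (hU2 : IsPGroup 2 U) (hUR : U ≤ centralizer (R i : Set G))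
    (hodd : Odd (U.relIndex (P ⊓ centralizer (R i : Set G))))
    (hN : P ⊓ centralizer (R i : Set G) ⊓ normalizer (U : Set G) ≤ B) :
    ∃ L ≤ centralizer (V : Set G), B ≤ normalizer (L : Set G) ∧ P = L ⊔ B := by
  set P' := P ⊓ centralizer (R i : Set G) with hP'
  have hUP' : U ≤ P' := le_inf (D.UB.trans hBP) hUR
  -- `U` as a Sylow subgroup of `P'`
  have hp : IsPGroup 2 (U.subgroupOf P') := hU2.comap_of_injective P'.subtype P'.subtype_injective
  have hidx : ¬ 2 ∣ (U.subgroupOf P').index := by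
    intro h
    have h2 : Odd (U.subgroupOf P').index := hodd
    exact (Nat.not_even_iff_odd.2 h2) (even_iff_two_dvd.2 h)
  let S : Sylow 2 ↥P' := hp.toSylow hidx
  have hS : (S : Subgroup ↥P') = U.subgroupOf P' := rfl
  have hn : (normalizer ((S : Subgroup ↥P') : Set ↥P')).map P'.subtype ≤ B := by
    rintro _ ⟨x, hx, rfl⟩
    refine hN (mem_inf.2 ⟨x.2, ?_⟩)
    rw [hS] at hx
    have hx' := mem_normalizer_iff.1 hx
    rw [mem_normalizer_iff]
    intro y
    constructor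
    · intro hy
      have h1 := (hx' ⟨y, hUP' hy⟩).1 (mem_subgroupOf.2 hy)
      exact mem_subgroupOf.1 h1
    · intro hy
      have hyP : y ∈ P' := by
        have h2 := mul_mem (mul_mem (inv_mem x.2) (hUP' hy)) x.2
        have e : (x : G)⁻¹ * (P'.subtype x * y * (P'.subtype x)⁻¹) * x = y := by
          change (x : G)⁻¹ * ((x : G) * y * (x : G)⁻¹) * x = y
          group
        rwa [e] at h2
      have h1 := (hx' ⟨y, hyP⟩).2 (mem_subgroupOf.2 hy)
      exact mem_subgroupOf.1 h1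
  have hPR' : ∀ g ∈ P', ∀ x ∈ R i, g * x = x * g :=
    fun g hg x hx => (mem_centralizer_iff.1 (mem_inf.1 hg).2 x hx).symm
  have h1 := le_sup c b (B := B) ((inf_le_left : P' ≤ P).trans hPV) hPR' (D.WU.trans D.UB) S hn
  refine ⟨P ⊓ centralizer (V : Set G), inf_le_right, le_normalizer_inf_cen hBP D.BV, le_antisymm ?_ (sup_le inf_le_left hBP)⟩
  refine hgen.trans (sup_le (h1.trans (sup_le_sup_right (inf_le_inf_right _ (sup_le inf_le_left hBP)) B)) le_sup_right)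

/-- **The pair `(P, P₀)`, `P` an unmoved node.** -/
theorem pair_fields [Finite G] [Finite F] [CharP F 2] (hF : ∃ a : F, a ≠ 0 ∧ a ≠ 1) {L P : Subgroup G}
    (hL : L ≤ centralizer (V : Set G)) (hBL : B ≤ normalizer (L : Set G)) (hP : P = L ⊔ B)
    (hptr : Hall.HallData.PTr B U P) (hne : ∃ x ∈ P, x ∉ B) :
    (∀ {I : Type*} {Q : I → Subgroup G} {k z : I}, Q k = P → Q z = P0 V R B → Polygon B Q k z 2 ∧ Polygon B Q z k 2) ∧
      (∀ X ≤ U, (∀ u ∈ U, ∃ x ∈ X, x⁻¹ * u ∈ Qk B P ∧ x⁻¹ * u ∈ Qk B (P0 V R B)) →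
        ∀ u ∈ U, ∃ x ∈ X, x⁻¹ * u ∈ Qk B (P ⊔ P0 V R B)) ∧ SepG 2 B U P (P0 V R B) := by
  subst hP
  refine ⟨fun {I Q k z} hk hz => ?_, fun X _ h => frat b D hL hBL h, sepG b D c hF hL⟩
  have h1 : Polygon B Q k z 2 := polygon b D hk hz hL hBL (by rw [hk]; exact hptr) (by rw [hk]; exact hne)
  exact ⟨h1, h1.symm⟩

end Cfsg.Agent.Omega.Lie.Zero

end

section


/-!
# `L₂(Q)`, `Q` even, with an automorphism of order 3 fixing an involution

`ExcModel.Mod α U u g y D`: `U` a Sylow 2-subgroup of `L ≅ L₂(Q)`, `α(U) = U`, `α³ = 1`, `α(u) = u ∈ U`, `u ≠ 1`: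
there is an `α`-invariant complement `D` of `U` in `N(U)` and an `α`-invariant involution `y = u^g ∉ U`.
-/

set_option autoImplicit false

namespace Cfsg.Agent.Omega.Lie.End.ExcModel

open Matrix Cfsg.Agent.Lib.SL2Mat Cfsg.Agent.Lib.AutSL2

/-- the data -/
structure Mod {L : Type*} [Group L] (α : MulAut L) (U : Subgroup L) (u g y : L) (D : Subgroup L) : Prop where
  ab : ∀ x ∈ U, ∀ y ∈ U, x * y = y * x
  g_fix : α g = g
  y_eq : y = g * u * g⁻¹
  gen : ∀ X : Subgroup L, U ≤ X → y ∈ X → X = ⊤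
  D_U : ∀ d ∈ D, ∀ x ∈ U, d * x * d⁻¹ ∈ U
  D_comm : ∀ d ∈ D, ∀ d' ∈ D, d * d' = d' * d
  D_fix : ∀ d ∈ D, α d ∈ D
  D_odd : ∀ d ∈ D, Odd (orderOf d)
  trans : ∀ v ∈ U, v ≠ 1 → ∃ d ∈ D, d * u * d⁻¹ = v
  free : ∀ d ∈ D, ∀ v ∈ U, v ≠ 1 → d * v * d⁻¹ = v → d = 1

theorem Mod.map {L L' : Type*} [Group L] [Group L'] (f : L ≃* L') {α : MulAut L} {U : Subgroup L} {u g y : L}
    {D : Subgroup L} (h : Mod α U u g y D) {α' : MulAut L'} (hα : ∀ x, α' (f x) = f (α x)) {U' : Subgroup L'}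
    (hU : U.map f.toMonoidHom = U') {u' : L'} (hu : f u = u') :
    Mod α' U' u' (f g) (f y) (D.map f.toMonoidHom) where
  ab := by
    subst hU
    rintro _ ⟨x, hx, rfl⟩ _ ⟨y, hy, rfl⟩
    change f x * f y = f y * f x
    rw [← map_mul, h.ab x hx y hy, map_mul]
  g_fix := by rw [hα, h.g_fix]
  y_eq := by rw [h.y_eq, map_mul, map_mul, map_inv, hu]
  gen := by
    subst hU
    intro X hX hy
    have h1 := h.gen (X.comap f.toMonoidHom) (Subgroup.map_le_iff_le_comap.1 hX) hy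
    rw [eq_top_iff]
    intro x _
    have h2 : f.symm x ∈ X.comap f.toMonoidHom := by rw [h1]; exact Subgroup.mem_top _
    have h3 : f (f.symm x) ∈ X := h2
    rwa [f.apply_symm_apply] at h3
  D_U := by
    subst hU
    rintro _ ⟨d, hd, rfl⟩ _ ⟨x, hx, rfl⟩
    exact ⟨_, h.D_U d hd x hx, by simp⟩
  D_comm := by
    rintro _ ⟨x, hx, rfl⟩ _ ⟨y, hy, rfl⟩
    change f x * f y = f y * f x
    rw [← map_mul, h.D_comm x hx y hy, map_mul]
  D_fix := by
    rintro _ ⟨d, hd, rfl⟩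
    change α' (f d) ∈ _
    rw [hα]
    exact ⟨_, h.D_fix d hd, rfl⟩
  D_odd := by
    rintro _ ⟨d, hd, rfl⟩
    change Odd (orderOf (f d))
    rw [MulEquiv.orderOf_eq]
    exact h.D_odd d hd
  trans := by
    subst hU hu
    rintro _ ⟨v, hv, rfl⟩ hv1
    obtain ⟨d, hd, e⟩ := h.trans v hv (fun h0 => hv1 (by rw [h0]; exact map_one f))
    refine ⟨f d, ⟨d, hd, rfl⟩, ?_⟩
    rw [← e]
    simp
  free := by
    subst hU
    rintro _ ⟨d, hd, rfl⟩ _ ⟨v, hv, rfl⟩ hv1 e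
    have e' : f (d * v * d⁻¹) = f v := by simpa using e
    have h1 := h.free d hd v hv (fun h0 => hv1 (by rw [h0]; exact map_one f)) (f.injective e')
    rw [h1]
    exact map_one f

section sl

variable {F : Type*} [Field F]

local notation "SL2" => Matrix.SpecialLinearGroup (Fin 2)

theorem two_eq [CharP F 2] : (2 : F) = 0 := CharTwo.two_eq_zero

/-- the diagonal subgroup -/
def dgG (F : Type*) [Field F] : Subgroup (SL2 F) where
  carrier := {x | ent x 0 1 = 0 ∧ ent x 1 0 = 0}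
  one_mem' := ⟨rfl, rfl⟩
  mul_mem' := by
    rintro x y ⟨h1, h2⟩ ⟨h3, h4⟩
    constructor
    · rw [ent_mul, h1, h3]; ring
    · rw [ent_mul, h2, h4]; ring
  inv_mem' := by
    rintro x ⟨h1, h2⟩
    constructor
    · rw [ent_inv, mk_01, h1, neg_zero]
    · rw [ent_inv, mk_10, h2, neg_zero]

/-- an element of the diagonal subgroup -/
theorem exists_dg {x : SL2 F} (hx : x ∈ dgG F) : ∃ (b : F) (hb : b ≠ 0), dg b hb = x := by
  obtain ⟨h1, h2⟩ := hx
  have h3 := det_eq x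
  rw [h1, h2, mul_zero, sub_zero] at h3
  have h0 : ent x 0 0 ≠ 0 := left_ne_zero_of_mul_eq_one h3
  refine ⟨ent x 0 0, h0, ext_ent rfl ?_ ?_ ?_⟩
  · rw [dg_01, h1]
  · rw [dg_10, h2]
  · rw [dg_11]
    exact (eq_inv_of_mul_eq_one_right h3).symm

theorem dg_mul (b c : F) (hb : b ≠ 0) (hc : c ≠ 0) : dg b hb * dg c hc = dg (b * c) (mul_ne_zero hb hc) := by
  refine ext_ent ?_ ?_ ?_ ?_ <;> simp [ent_mul, mul_comm]

theorem dg_one : dg (1 : F) one_ne_zero = 1 := by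
  refine ext_ent ?_ ?_ ?_ ?_ <;> simp

theorem dg_pow (b : F) (hb : b ≠ 0) (n : ℕ) : dg b hb ^ n = dg (b ^ n) (pow_ne_zero n hb) := by
  induction n with
  | zero =>
    rw [pow_zero]
    refine (ext_ent ?_ ?_ ?_ ?_) <;> simp
  | succ n ih =>
    rw [pow_succ, ih, dg_mul]
    exact ext_ent (by simp [pow_succ]) rfl rfl (by simp [pow_succ])

theorem dg_conj_up (b c : F) (hb : b ≠ 0) : dg b hb * up c * (dg b hb)⁻¹ = up (b ^ 2 * c) := by
  rw [dg_up, mul_inv_cancel_right]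

variable [CharP F 2]

theorem add_self (a : F) : a + a = 0 := CharTwo.add_self_eq_zero a

theorem neg_self (a : F) : -a = a := CharTwo.neg_eq a

theorem up_sq (a : F) : up a * up a = 1 := by rw [up_mul, add_self, up_zero]

theorem lo_sq (a : F) : lo a * lo a = 1 := by rw [lo_mul, add_self, lo_zero]

theorem up_inv' (a : F) : (up a)⁻¹ = up a := inv_eq_of_mul_eq_one_left (up_sq a)

/-- the conjugate of `lo r` -/
def yy (r x : F) : SL2 F := up x * lo r * up x

omit [CharP F 2] in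
theorem yy_00 (r x : F) : ent (yy r x) 0 0 = 1 + x * r := by simp [yy, ent_mul]
omit [CharP F 2] in
theorem yy_10 (r x : F) : ent (yy r x) 1 0 = r := by simp [yy, ent_mul]

theorem yy_sq (r x : F) : yy r x * yy r x = 1 := by
  have h1 := up_sq x
  calc yy r x * yy r x = up x * lo r * (up x * up x) * lo r * up x := by unfold yy; group
    _ = up x * (lo r * lo r) * up x := by rw [h1]; group
    _ = 1 := by rw [lo_sq, mul_one, h1]

/-- `(up a * lo a⁻¹)³ = 1` -/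
theorem up_lo_cube {a : F} (ha : a ≠ 0) : (up a * lo a⁻¹) * (up a * lo a⁻¹) * (up a * lo a⁻¹) = 1 := by
  have h2 : (2 : F) = 0 := two_eq
  have e : (up a * lo a⁻¹) * (up a * lo a⁻¹) * (up a * lo a⁻¹) =
      mk (1 : F) 0 0 1 (by ring) := by
    refine ext_ent ?_ ?_ ?_ ?_
    · simp only [ent_mul, up_00, up_01, up_10, up_11, lo_00, lo_01, lo_10, lo_11, mk_00]
      field_simp
      linear_combination 6 * a * h2
    · simp only [ent_mul, up_00, up_01, up_10, up_11, lo_00, lo_01, lo_10, lo_11, mk_01]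
      field_simp
      linear_combination 4 * a ^ 2 * h2
    · simp only [ent_mul, up_00, up_01, up_10, up_11, lo_00, lo_01, lo_10, lo_11, mk_10]
      field_simp
      linear_combination 4 * a * h2
    · simp only [ent_mul, up_00, up_01, up_10, up_11, lo_00, lo_01, lo_10, lo_11, mk_11]
      field_simp
      linear_combination 2 * a * h2
  rw [e]
  exact ext_ent rfl rfl rfl rfl

/-- an involution `y ≠ up a` with `(up a * y)³ = 1` is a `yy a⁻¹ x` -/
theorem exists_yy {a : F} {y : SL2 F} (hy : y * y = 1)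
    (h3 : (up a * y) * (up a * y) * (up a * y) = 1) (h1 : up a * y ≠ 1) : ∃ x, y = yy a⁻¹ x := by
  have h2 : (2 : F) = 0 := two_eq
  have hy' : y⁻¹ = y := inv_eq_of_mul_eq_one_left hy
  have e1 : ent y⁻¹ 0 0 = ent y 0 0 := by rw [hy']
  rw [ent_inv, mk_00] at e1
  -- `e1 : y11 = y00`
  obtain ⟨z, hz⟩ : ∃ z, z = up a * y := ⟨_, rfl⟩
  rw [← hz] at h3 h1
  have hz' : z * z = z⁻¹ := eq_inv_of_mul_eq_one_left h3
  have hz10 : ent z 1 0 = ent y 1 0 := by rw [hz, ent_mul, up_10, up_11]; ring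
  have hz00 : ent z 0 0 = ent y 0 0 + a * ent y 1 0 := by rw [hz, ent_mul, up_00, up_01]; ring
  have hz11 : ent z 1 1 = ent y 1 1 := by rw [hz, ent_mul, up_10, up_11]; ring
  have f10 : ent (z * z) 1 0 = ent z⁻¹ 1 0 := by rw [hz']
  rw [ent_mul, ent_inv, mk_10, hz10, hz00, hz11, e1] at f10
  have hdy := det_eq y
  rw [e1] at hdy
  by_cases h0 : ent y 1 0 = 0
  · exfalso
    apply h1
    -- `y` is upper unitriangular
    have h00 : ent y 0 0 = 1 := by
      rw [h0, mul_zero, sub_zero] at hdy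
      have h4 : (ent y 0 0 - 1) * (ent y 0 0 - 1) = 0 := by linear_combination hdy + (1 - ent y 0 0) * h2
      exact sub_eq_zero.1 (mul_self_eq_zero.1 h4)
    have hyu : y = up (ent y 0 1) := ext_ent (by rw [up_00, h00]) (by rw [up_01]) (by rw [up_10, h0])
      (by rw [up_11, e1, h00])
    have hzz : z * z = 1 := by rw [hz, hyu, up_mul, up_sq]
    rw [hzz, one_mul] at h3
    exact h3
  · have h4 : a * ent y 1 0 = 1 := by
      have h5 : ent y 1 0 * (a * ent y 1 0 - 1) = 0 := by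
        linear_combination f10 - (ent y 0 0 * ent y 1 0 + ent y 1 0) * h2
      exact sub_eq_zero.1 ((mul_eq_zero.1 h5).resolve_left h0)
    have h5 : ent y 1 0 = a⁻¹ := eq_inv_of_mul_eq_one_right h4
    refine ⟨(ent y 0 0 - 1) / ent y 1 0, ?_⟩
    conv_lhs => rw [eq_up_lo_up y h0]
    rw [yy, e1, h5]

omit [CharP F 2] in
theorem yy_inj {r : F} (hr : r ≠ 0) {x x' : F} (h : yy r x = yy r x') : x = x' := by
  have h1 : ent (yy r x) 0 0 = ent (yy r x') 0 0 := by rw [h]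
  rw [yy_00, yy_00] at h1
  exact mul_right_cancel₀ hr (add_left_cancel h1)

/-- the conjugate `yy` satisfies the relation -/
theorem yy_cube {a : F} (ha : a ≠ 0) (x : F) :
    (up a * yy a⁻¹ x) * (up a * yy a⁻¹ x) * (up a * yy a⁻¹ x) = 1 := by
  have h1 := up_lo_cube ha
  have h2 := up_sq x
  have e : up a * yy a⁻¹ x = up x * (up a * lo a⁻¹) * up x := by
    unfold yy
    rw [← mul_assoc, ← mul_assoc, ← mul_assoc, up_mul, up_mul, add_comm]
  rw [e]
  calc up x * (up a * lo a⁻¹) * up x * (up x * (up a * lo a⁻¹) * up x) * (up x * (up a * lo a⁻¹) * up x)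
      = up x * (up a * lo a⁻¹) * (up x * up x) * (up a * lo a⁻¹) * (up x * up x) * (up a * lo a⁻¹) * up x := by
        group
    _ = up x * ((up a * lo a⁻¹) * (up a * lo a⁻¹) * (up a * lo a⁻¹)) * up x := by rw [h2]; group
    _ = 1 := by rw [h1, mul_one, h2]

omit [CharP F 2] in
theorem yy_ne {a : F} (ha : a ≠ 0) (x : F) : up a * yy a⁻¹ x ≠ 1 := by
  intro h
  have h1 : ent (up a * yy a⁻¹ x) 1 0 = ent (1 : SL2 F) 1 0 := by rw [h]
  rw [ent_mul, up_10, up_11, yy_10, ent_one_10, zero_mul, zero_add, one_mul] at h1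
  exact inv_ne_zero ha h1

/-- an element commuting with `lo r`, `r ≠ 0` -/
theorem exists_lo {r : F} (hr : r ≠ 0) {z : SL2 F} (h : z * lo r = lo r * z) : ∃ b, lo b = z := by
  have h2 : (2 : F) = 0 := two_eq
  have e1 : ent (z * lo r) 0 0 = ent (lo r * z) 0 0 := by rw [h]
  have e2 : ent (z * lo r) 1 0 = ent (lo r * z) 1 0 := by rw [h]
  rw [ent_mul, ent_mul, lo_00, lo_10, lo_01] at e1
  rw [ent_mul, ent_mul, lo_00, lo_10, lo_11] at e2
  have h01 : ent z 0 1 = 0 := by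
    have : ent z 0 1 * r = 0 := by linear_combination e1
    exact (mul_eq_zero.1 this).resolve_right hr
  have h11 : ent z 1 1 = ent z 0 0 := by
    have : (ent z 1 1 - ent z 0 0) * r = 0 := by linear_combination e2
    exact sub_eq_zero.1 ((mul_eq_zero.1 this).resolve_right hr)
  have hd := det_eq z
  rw [h01, h11, zero_mul, sub_zero] at hd
  have h00 : ent z 0 0 = 1 := by
    have h4 : (ent z 0 0 - 1) * (ent z 0 0 - 1) = 0 := by linear_combination hd + (1 - ent z 0 0) * h2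
    exact sub_eq_zero.1 (mul_self_eq_zero.1 h4)
  exact ⟨ent z 1 0, ext_ent (by rw [lo_00, h00]) (by rw [lo_01, h01]) (by rw [lo_10]) (by rw [lo_11, h11, h00])⟩

omit [CharP F 2] in
theorem ent_10_of_norm {z : SL2 F} (h : ∃ c, up c = z * up 1 * z⁻¹) : ent z 1 0 = 0 := by
  obtain ⟨c, hc⟩ := h
  have e1 : ent (up c) 1 0 = ent (z * up 1 * z⁻¹) 1 0 := by rw [hc]
  rw [up_10, ent_mul, ent_mul, ent_mul, ent_inv, mk_00, mk_10, up_00, up_10, up_01, up_11] at e1
  have : ent z 1 0 * ent z 1 0 = 0 := by linear_combination e1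
  exact mul_self_eq_zero.1 this

omit [CharP F 2] in
theorem ent_01_of_norm {z : SL2 F} (h : ∃ c, lo c = z * lo 1 * z⁻¹) : ent z 0 1 = 0 := by
  obtain ⟨c, hc⟩ := h
  have e1 : ent (lo c) 0 1 = ent (z * lo 1 * z⁻¹) 0 1 := by rw [hc]
  rw [lo_01, ent_mul, ent_mul, ent_mul, ent_inv, mk_01, mk_11, lo_00, lo_10, lo_01, lo_11] at e1
  have : ent z 0 1 * ent z 0 1 = 0 := by linear_combination e1
  exact mul_self_eq_zero.1 this

omit [CharP F 2] in
theorem lo_conj_dg {b c : F} (hb : b ≠ 0) : dg b hb * lo c * (dg b hb)⁻¹ = lo (c * (b⁻¹) ^ 2) := by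
  rw [mul_inv_eq_iff_eq_mul]
  refine ext_ent ?_ ?_ ?_ ?_ <;> simp [ent_mul]
  field_simp

/-- `α` fixes `lo a⁻¹` -/
theorem mod_aux [Finite F] {α : MulAut (SL2 F)} (hU : ∀ x, x ∈ upG F ↔ α x ∈ upG F) {a : F} (ha : a ≠ 0)
    (hu : α (up a) = up a) (hy : α (lo a⁻¹) = lo a⁻¹) :
    Mod α (upG F) (up a) (up a * lo a⁻¹) (lo a⁻¹) (dgG F) where
  ab := by
    rintro _ ⟨x, rfl⟩ _ ⟨y, rfl⟩
    rw [up_mul, up_mul, add_comm]
  g_fix := by rw [map_mul, hu, hy]
  y_eq := by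
    have h1 := up_lo_cube ha
    have h2 := lo_sq a⁻¹
    have h3 := up_sq a
    have e : (up a * lo a⁻¹)⁻¹ = lo a⁻¹ * up a := by
      rw [_root_.mul_inv_rev, inv_eq_of_mul_eq_one_left h2, inv_eq_of_mul_eq_one_left h3]
    rw [e]
    calc lo a⁻¹ = (up a * lo a⁻¹) * (up a * lo a⁻¹) * (up a * lo a⁻¹) * lo a⁻¹ := by rw [h1, one_mul]
      _ = up a * lo a⁻¹ * up a * lo a⁻¹ * up a * (lo a⁻¹ * lo a⁻¹) := by group
      _ = _ := by rw [h2]; group
  gen := by
    intro X hX hyX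
    have hw : wm a ha ∈ X := by
      rw [wm_eq, neg_self]
      exact X.mul_mem (X.mul_mem hyX (hX (up_mem a))) hyX
    have hlo : ∀ b, lo b ∈ X := by
      intro b
      have h1 := wm_up a (-(b * a ^ 2)) ha
      have e : -(-(b * a ^ 2) / a ^ 2) = b := by field_simp
      rw [e] at h1
      have e2 : lo b = wm a ha * up (-(b * a ^ 2)) * (wm a ha)⁻¹ := by rw [h1, mul_inv_cancel_right]
      rw [e2]
      exact X.mul_mem (X.mul_mem hw (hX (up_mem _))) (X.inv_mem hw)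
    rw [eq_top_iff]
    intro x _
    obtain ⟨a', b, c, d, rfl⟩ := exists_up_lo x
    exact X.mul_mem (X.mul_mem (X.mul_mem (hX (up_mem _)) (hlo _)) (hX (up_mem _))) (hlo _)
  D_U := by
    rintro d hd _ ⟨x, rfl⟩
    obtain ⟨b, hb, rfl⟩ := exists_dg hd
    rw [dg_conj_up]
    exact up_mem _
  D_comm := by
    rintro d hd d' hd'
    obtain ⟨b, hb, rfl⟩ := exists_dg hd
    obtain ⟨c, hc, rfl⟩ := exists_dg hd'
    rw [dg_mul, dg_mul]
    exact ext_ent (by simp [mul_comm]) rfl rfl (by simp [mul_comm])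
  D_fix := by
    intro d hd
    obtain ⟨b, hb, rfl⟩ := exists_dg hd
    have hlo : ∀ c, ∃ c', lo c' = α (lo c) := by
      intro c
      refine exists_lo (inv_ne_zero ha) ?_
      rw [← hy, ← map_mul, ← map_mul, lo_mul, lo_mul, add_comm]
    have hlo' : ∃ c, α (lo c) = lo 1 := by
      obtain ⟨z, hz⟩ := α.surjective (lo 1)
      obtain ⟨c, hc⟩ := exists_lo (inv_ne_zero ha) (z := z) (by
        apply α.injective
        rw [map_mul, map_mul, hz, hy, lo_mul, lo_mul, add_comm])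
      exact ⟨c, by rw [hc, hz]⟩
    constructor
    · obtain ⟨c, hc⟩ := hlo'
      apply ent_01_of_norm
      rw [← hc, ← map_mul, ← map_inv, ← map_mul, lo_conj_dg]
      exact hlo _
    · obtain ⟨z, hz⟩ := α.surjective (up 1)
      obtain ⟨c, rfl⟩ := (hU z).2 (by rw [hz]; exact up_mem 1)
      apply ent_10_of_norm
      rw [← hz, ← map_mul, ← map_inv, ← map_mul, dg_conj_up]
      exact (hU _).1 (up_mem _)
  D_odd := by
    intro d hd
    obtain ⟨b, hb, rfl⟩ := exists_dg hd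
    have := Fintype.ofFinite F
    have h1 : dg b hb ^ (Fintype.card F - 1) = 1 := by
      rw [dg_pow]
      refine Eq.trans ?_ dg_one
      exact ext_ent (by simp [FiniteField.pow_card_sub_one_eq_one b hb]) rfl rfl
        (by simp [FiniteField.pow_card_sub_one_eq_one b hb])
    refine Odd.of_dvd_nat ?_ (orderOf_dvd_of_pow_eq_one h1)
    obtain ⟨n, -, hn⟩ := FiniteField.card F 2
    have hpos : 0 < (n : ℕ) := n.pos
    obtain ⟨k, hk⟩ : ∃ k, (n : ℕ) = k + 1 := ⟨n - 1, by omega⟩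
    rw [hn, hk, pow_succ]
    have : 0 < 2 ^ k := by positivity
    rw [Nat.odd_iff]
    omega
  trans := by
    rintro _ ⟨c, rfl⟩ hc1
    have hc : c ≠ 0 := by
      rintro rfl
      exact hc1 up_zero
    obtain ⟨b, hb⟩ := FiniteField.isSquare_of_char_two (ringChar.eq F 2) (c / a)
    have hb0 : b ≠ 0 := by
      rintro rfl
      rw [mul_zero] at hb
      exact div_ne_zero hc ha hb
    refine ⟨dg b hb0, ⟨rfl, rfl⟩, ?_⟩
    rw [dg_conj_up, pow_two, ← hb]
    congr 1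
    field_simp
  free := by
    rintro d hd _ ⟨c, rfl⟩ hc1 e
    obtain ⟨b, hb, rfl⟩ := exists_dg hd
    have hc : c ≠ 0 := by
      rintro rfl
      exact hc1 up_zero
    rw [dg_conj_up] at e
    have h1 := up_inj e
    have h2 : (2 : F) = 0 := two_eq
    have h3 : b ^ 2 - 1 = 0 := by
      have : (b ^ 2 - 1) * c = 0 := by linear_combination h1
      exact (mul_eq_zero.1 this).resolve_right hc
    have h4 : (b - 1) * (b - 1) = 0 := by linear_combination h3 + (1 - b) * h2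
    have h5 : b = 1 := sub_eq_zero.1 (mul_self_eq_zero.1 h4)
    subst h5
    exact dg_one

theorem three_not_dvd [Finite F] : ¬ 3 ∣ Nat.card F := by
  have := Fintype.ofFinite F
  obtain ⟨n, -, hn⟩ := FiniteField.card F 2
  rw [Nat.card_eq_fintype_card, hn]
  intro h
  have := (Nat.prime_three.dvd_of_dvd_pow h)
  omega

/-- **The model.** -/
theorem exists_mod_sl [Finite F] {α : MulAut (SL2 F)} (hα : ∀ x, α (α (α x)) = x)
    (hU : ∀ x, x ∈ upG F ↔ α x ∈ upG F) {a : F} (ha : a ≠ 0) (hu : α (up a) = up a) :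
    ∃ g y D, Mod α (upG F) (up a) g y D := by
  classical
  have := Fintype.ofFinite F
  let Y := {y : SL2 F // y * y = 1 ∧ (up a * y) * (up a * y) * (up a * y) = 1 ∧ up a * y ≠ 1}
  have hcard : Nat.card F = Nat.card Y := by
    refine Nat.card_congr (Equiv.ofBijective (fun x : F => (⟨yy a⁻¹ x, yy_sq _ _, yy_cube ha x, yy_ne ha x⟩ : Y))
      ⟨?_, ?_⟩)
    · intro x x' h
      exact yy_inj (inv_ne_zero ha) (congrArg Subtype.val h)
    · rintro ⟨y, h1, h2, h3⟩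
      obtain ⟨x, hx⟩ := exists_yy h1 h2 h3
      exact ⟨x, Subtype.ext hx.symm⟩
  have hmem : ∀ y : SL2 F, (y * y = 1 ∧ (up a * y) * (up a * y) * (up a * y) = 1 ∧ up a * y ≠ 1) →
      (α y * α y = 1 ∧ (up a * α y) * (up a * α y) * (up a * α y) = 1 ∧ up a * α y ≠ 1) := by
    rintro y ⟨h1, h2, h3⟩
    have e : up a * α y = α (up a * y) := by rw [map_mul, hu]
    refine ⟨by rw [← map_mul, h1, map_one], ?_, ?_⟩
    · rw [e, ← map_mul, ← map_mul, h2, map_one]
    · rw [e]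
      intro h
      exact h3 (α.injective (by rw [h, map_one]))
  let σ : Equiv.Perm Y :=
    { toFun := fun y => ⟨α y, hmem y y.2⟩
      invFun := fun y => ⟨α (α y), hmem _ (hmem y y.2)⟩
      left_inv := fun y => Subtype.ext (hα y)
      right_inv := fun y => Subtype.ext (hα y) }
  have hσ : σ ^ 3 ^ 1 = 1 := by
    ext1 y
    rw [pow_one, pow_succ, pow_two]
    exact Subtype.ext (hα y)
  have : Finite Y := Nat.finite_of_card_ne_zero (by rw [← hcard]; exact Nat.card_pos.ne')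
  have := Fintype.ofFinite Y
  have : Fact (Nat.Prime 3) := ⟨Nat.prime_three⟩
  obtain ⟨⟨y, hy⟩, hfix⟩ := Equiv.Perm.exists_fixed_point_of_prime (p := 3) (n := 1)
    (by rw [← Nat.card_eq_fintype_card, ← hcard]; exact three_not_dvd) hσ
  have hfix' : α y = y := congrArg Subtype.val hfix
  obtain ⟨x, hx⟩ := exists_yy hy.1 hy.2.1 hy.2.2
  -- conjugation with `up x`
  let f : SL2 F ≃* SL2 F := MulAut.conj (up x)
  have hf : ∀ z, f z = up x * z * up x := fun z => by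
    change up x * z * (up x)⁻¹ = _
    rw [up_inv']
  let α₁ : MulAut (SL2 F) := (f.trans α).trans f.symm
  have hα₁ : ∀ z, α (f z) = f (α₁ z) := fun z => by
    change α (f z) = f (f.symm (α (f z)))
    rw [f.apply_symm_apply]
  have hfU : ∀ z, z ∈ upG F ↔ f z ∈ upG F := by
    intro z
    rw [hf]
    constructor
    · intro hz
      exact (upG F).mul_mem ((upG F).mul_mem (up_mem x) hz) (up_mem x)
    · intro hz
      have := (upG F).mul_mem ((upG F).mul_mem (up_mem x) hz) (up_mem x)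
      have e : up x * (up x * z * up x) * up x = (up x * up x) * z * (up x * up x) := by group
      rwa [e, up_sq, one_mul, mul_one] at this
  have hfu : f (up a) = up a := by
    rw [hf, up_mul, up_mul]
    congr 1
    have h2 : (2 : F) = 0 := two_eq
    linear_combination x * h2
  have hm : Mod α₁ (upG F) (up a) (up a * lo a⁻¹) (lo a⁻¹) (dgG F) := by
    refine mod_aux ?_ ha ?_ ?_
    · intro z
      rw [hfU (α₁ z), ← hα₁, ← hU, ← hfU]
    · apply f.injective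
      rw [← hα₁, hfu, hu]
    · apply f.injective
      rw [← hα₁, hf]
      have e1 : up x * lo a⁻¹ * up x = y := hx.symm
      rw [e1]
      exact hfix'
  refine ⟨_, _, _, hm.map f hα₁ ?_ hfu⟩
  ext z
  constructor
  · rintro ⟨w, hw, rfl⟩
    exact (hfU w).1 hw
  · intro hz
    refine ⟨f.symm z, (hfU _).2 ?_, f.apply_symm_apply z⟩
    rwa [f.apply_symm_apply]

end sl

/-- **The model**, for a group isomorphic to `L₂(Q)`. -/
theorem exists_mod {L : Type*} [Group L] [Finite L] {F : Type*} [Field F] [Finite F] [CharP F 2]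
    (e : L ≃* Matrix.SpecialLinearGroup (Fin 2) F) {α : MulAut L} (hα : ∀ x, α (α (α x)) = x)
    {U : Subgroup L} (hU2 : IsPGroup 2 U) (hUm : ∀ P : Subgroup L, IsPGroup 2 P → U ≤ P → P = U)
    (hU : ∀ x ∈ U, α x ∈ U) {u : L} (hu : u ∈ U) (hu1 : u ≠ 1) (hαu : α u = u) :
    ∃ g y D, Mod α U u g y D := by
  have : Fact (Nat.Prime 2) := ⟨Nat.prime_two⟩
  -- Sylow
  obtain ⟨P, hP⟩ := hU2.exists_le_sylow
  have hPU : (P : Subgroup L) = U := hUm P P.isPGroup' hP
  obtain ⟨P₀, hP₀⟩ := (isPGroup_upG (F := F) 2).exists_le_sylow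
  have hP₀' : (P₀ : Subgroup (Matrix.SpecialLinearGroup (Fin 2) F)) = upG F := eq_upG_of_le P₀.isPGroup' hP₀
  let P₁ : Sylow 2 (Matrix.SpecialLinearGroup (Fin 2) F) :=
    P.mapSurjective (f := e.toMonoidHom) e.surjective
  have hP₁ : ∀ x, x ∈ U ↔ e x ∈ P₁ := by
    intro x
    rw [← hPU]
    constructor
    · intro hx
      exact ⟨x, hx, rfl⟩
    · rintro ⟨y, hy, hxy⟩
      rwa [← e.injective hxy]
  obtain ⟨c, hc⟩ := MulAction.exists_smul_eq (Matrix.SpecialLinearGroup (Fin 2) F) P₁ P₀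
  let f : L ≃* Matrix.SpecialLinearGroup (Fin 2) F := e.trans (MulAut.conj c)
  have hf : ∀ x, f x = c * e x * c⁻¹ := fun x => rfl
  have hfU : ∀ x, x ∈ U ↔ f x ∈ upG F := by
    intro x
    rw [hP₁, ← hP₀', ← hc, hf]
    change _ ↔ c * e x * c⁻¹ ∈ c • P₁
    rw [mem_smul_sylow]
    have e1 : c⁻¹ * (c * e x * c⁻¹) * c = e x := by group
    rw [e1]
  have hU' : ∀ x, x ∈ U ↔ α x ∈ U := by
    intro x
    refine ⟨hU x, fun hx => ?_⟩
    have h1 := hU _ (hU _ hx)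
    rwa [hα] at h1
  let α₁ : MulAut (Matrix.SpecialLinearGroup (Fin 2) F) := (f.symm.trans α).trans f
  have hα₁ : ∀ z, α₁ z = f (α (f.symm z)) := fun z => rfl
  obtain ⟨a, ha⟩ := (hfU u).1 hu
  have ha0 : a ≠ 0 := by
    rintro rfl
    apply hu1
    apply f.injective
    rw [← ha, up_zero, map_one]
  obtain ⟨g, y, D, hm⟩ := exists_mod_sl (α := α₁) (a := a) (by
      intro x
      rw [hα₁, hα₁, hα₁, f.symm_apply_apply, f.symm_apply_apply, hα, f.apply_symm_apply]) (by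
      intro x
      rw [hα₁, ← hfU, ← hU', hfU, f.apply_symm_apply]) ha0 (by
      rw [ha, hα₁, f.symm_apply_apply, hαu])
  refine ⟨_, _, _, hm.map f.symm (fun x => ?_) ?_ ?_⟩
  · rw [hα₁, f.symm_apply_apply]
  · ext x
    constructor
    · rintro ⟨w, hw, rfl⟩
      rw [hfU]
      change f (f.symm w) ∈ _
      rwa [f.apply_symm_apply]
    · intro hx
      exact ⟨f x, (hfU x).1 hx, f.symm_apply_apply x⟩
  · rw [ha, f.symm_apply_apply]

theorem center_eq_bot {F : Type*} [Field F] [CharP F 2] :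
    Subgroup.center (Matrix.SpecialLinearGroup (Fin 2) F) = ⊥ := by
  rw [eq_bot_iff]
  intro x hx
  rw [Subgroup.mem_bot]
  obtain ⟨b, hb, rfl⟩ := exists_dg (mem_center_offdiag hx)
  have h1 := Subgroup.mem_center_iff.1 hx (up 1)
  rw [dg_up] at h1
  have h3 := up_inj (mul_right_cancel h1)
  have h2 : (2 : F) = 0 := two_eq
  have h4 : (b - 1) * (b - 1) = 0 := by linear_combination -h3 + (1 - b) * h2
  have h5 : b = 1 := sub_eq_zero.1 (mul_self_eq_zero.1 h4)
  subst h5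
  exact dg_one

/-- `L₂(F) ≅ SL₂(F)` in characteristic two -/
noncomputable def pslEquiv (F : Type*) [Field F] [CharP F 2] :
    Matrix.ProjectiveSpecialLinearGroup (Fin 2) F ≃* Matrix.SpecialLinearGroup (Fin 2) F :=
  (QuotientGroup.quotientMulEquivOfEq center_eq_bot).trans QuotientGroup.quotientBot

end Cfsg.Agent.Omega.Lie.End.ExcModel

end
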