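import Cfsg.Agent.Mrg.Omega.Lie.End.Real
import Cfsg.Agent.Mrg.Omega.Lie.Nodes.FratRes


/-!
# The end of NODE LIE: the moved nodes of `RS`

General facts on a panel `P` over `B`, `U` (`PTr`, three chambers):
* `mem_B_of_NV` : `P ⊓ N(V) ≤ B` if `B ≤ N(V)`, `¬ P ≤ N(V)`;
* `Pp P U` : the normal closure of `U` in `P`; `P = Pp B`; generated by 2-elements.

For `D : RS ..` and a moved node `x`:
* `RS.cov` : `∀ u ∈ U, ∃ y ∈ UU V R j, y⁻¹ u ∈ Qk B (P x)`;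
* `RS.tr` : `UU V R j` is transitive on the chambers `≠ B` of the panel;
* `RS.nodeX`;
* `RS.sep_nbr` : `SepG 2 B U P₀ (P x)` if the component of `x` has another node.
-/

set_option autoImplicit false
set_option linter.unusedSectionVars false

namespace Cfsg.Agent.Omega.Lie.End

open Subgroup Cfsg Cfsg.Agent.ParSys Cfsg.Agent.Omega.BTwo Cfsg.Agent.Omega.Lie Cfsg.Agent.Omega.Lie.Quot
open Cfsg.Agent.Omega.IIa4 Cfsg.Agent.Omega.Lie.End.OfLay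

universe u v w

section panel

variable {G : Type*} [Group G] {B U P V : Subgroup G}

/-- a panel which is not in `N(V)` meets it in `B` -/
theorem inf_NV_le (hptr : Hall.HallData.PTr B U P) (hUB : U ≤ B) (hB : B ≤ normalizer (V : Set G))
    (hP : ¬ P ≤ normalizer (V : Set G)) : P ⊓ normalizer (V : Set G) ≤ B := by
  rintro g ⟨hg, hN⟩
  by_contra hgB
  apply hP
  intro y hy
  by_cases hyB : y ∈ B
  · exact hB hyB
  · obtain ⟨u, hu, b, hb, e⟩ := hptr g hg hgB y hy hyB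
    rw [e]
    exact mul_mem (mul_mem (hB (hUB hu)) hN) (hB hb)

/-- the normal closure of `U` in `P` -/
def Pp (P U : Subgroup G) : Subgroup G := closure {y | ∃ g ∈ P, ∃ u ∈ U, g * u * g⁻¹ = y}

theorem le_Pp : U ≤ Pp P U := fun u hu => subset_closure ⟨1, one_mem _, u, hu, by group⟩

theorem Pp_le (hU : U ≤ P) : Pp P U ≤ P := by
  unfold Pp
  rw [closure_le]
  rintro _ ⟨g, hg, u, hu, rfl⟩
  exact mul_mem (mul_mem hg (hU hu)) (inv_mem hg)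

theorem Pp_conj {g x : G} (hg : g ∈ P) (hx : x ∈ Pp P U) : g * x * g⁻¹ ∈ Pp P U := by
  have h1 : Pp P U ≤ (Pp P U).comap (MulAut.conj g).toMonoidHom := by
    conv_lhs => unfold Pp
    rw [closure_le]
    rintro _ ⟨h, hh, u, hu, rfl⟩
    refine subset_closure ⟨g * h, mul_mem hg hh, u, hu, ?_⟩
    change g * h * u * (g * h)⁻¹ = g * (h * u * h⁻¹) * g⁻¹
    group
  exact h1 hx

theorem Pp_norm : P ≤ normalizer (Pp P U : Set G) := by
  intro g hg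
  rw [mem_normalizer_iff]
  refine fun x => ⟨Pp_conj hg, fun h => ?_⟩
  have h1 := Pp_conj (inv_mem hg) h
  have e : g⁻¹ * (g * x * g⁻¹) * g⁻¹⁻¹ = x := by group
  rwa [e] at h1

/-- `P = Pp B` -/
theorem exists_Pp (hptr : Hall.HallData.PTr B U P) (h3 : ∃ x ∈ P, ∃ y ∈ P, x ∉ B ∧ y ∉ B ∧ x⁻¹ * y ∉ B) {y : G}
    (hy : y ∈ P) : ∃ p ∈ Pp P U, ∃ b ∈ B, y = p * b := by
  by_cases hyB : y ∈ B
  · exact ⟨1, one_mem _, y, hyB, (one_mul y).symm⟩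
  · obtain ⟨z, hz, hzB, hzy⟩ : ∃ z ∈ P, z ∉ B ∧ z⁻¹ * y ∉ B := by
      obtain ⟨x, hx, x', hx', hxB, hx'B, hxx⟩ := h3
      by_cases h1 : x⁻¹ * y ∈ B
      · refine ⟨x', hx', hx'B, fun h2 => hxx ?_⟩
        have e : x⁻¹ * x' = (x⁻¹ * y) * (x'⁻¹ * y)⁻¹ := by group
        rw [e]
        exact mul_mem h1 (inv_mem h2)
      · exact ⟨x, hx, hxB, h1⟩
    obtain ⟨u, hu, b, hb, e⟩ := hptr z⁻¹ (inv_mem hz) (fun h => hzB (by rw [← inv_inv z]; exact inv_mem h)) (z⁻¹ * y)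
      (mul_mem (inv_mem hz) hy) hzy
    refine ⟨z * u * z⁻¹, subset_closure ⟨z, hz, u, hu, rfl⟩, b, hb, ?_⟩
    have e2 : y = z * (z⁻¹ * y) := by group
    rw [e2, e]
    group

theorem le_Pp_sup (hptr : Hall.HallData.PTr B U P) (h3 : ∃ x ∈ P, ∃ y ∈ P, x ∉ B ∧ y ∉ B ∧ x⁻¹ * y ∉ B) :
    P ≤ Pp P U ⊔ B := fun y hy => by
  obtain ⟨p, hp, b, hb, rfl⟩ := exists_Pp hptr h3 hy
  exact mul_mem (mem_sup_left hp) (mem_sup_right hb)

/-- `Pp` is generated by its 2-elements -/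
theorem Pp_gen (hU : IsPGroup 2 U) (H : Subgroup (Pp P U)) (h : ∀ x : Pp P U, (∃ m : ℕ, x ^ 2 ^ m = 1) → x ∈ H) :
    H = ⊤ := by
  rw [eq_top_iff]
  have h1 : Pp P U ≤ H.map (Pp P U).subtype := by
    conv_lhs => unfold Pp
    rw [closure_le]
    rintro _ ⟨g, hg, u, hu, rfl⟩
    have hm : g * u * g⁻¹ ∈ Pp P U := subset_closure ⟨g, hg, u, hu, rfl⟩
    refine ⟨⟨_, hm⟩, h _ ?_, rfl⟩
    obtain ⟨m, hm'⟩ := hU ⟨u, hu⟩
    refine ⟨m, Subtype.ext ?_⟩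
    have h2 : u ^ 2 ^ m = 1 := by simpa using congrArg Subtype.val hm'
    change (g * u * g⁻¹) ^ 2 ^ m = 1
    rw [conj_pow, h2, mul_one, mul_inv_cancel]
  intro x _
  obtain ⟨y, hy, e⟩ := h1 x.2
  have : y = x := Subtype.ext e
  rwa [this] at hy

/-- `t` fixed-point-free on `U / (U ∩ N)`: every element of `U` is a commutator `[t, z]` modulo `N` -/
theorem cov_of_fpf {H : Type*} [Group H] [Finite H] {U N : Subgroup H} {t : H} (hU : ∀ u ∈ U, t * u * t⁻¹ ∈ U)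
    (hNt : ∀ z ∈ N, t * z * t⁻¹ ∈ N) (hN : ∀ z ∈ N, ∀ u ∈ U, u * z * u⁻¹ ∈ N)
    (hf : ∀ u ∈ U, t * u * t⁻¹ * u⁻¹ ∈ N → u ∈ N) {u : H} (hu : u ∈ U) :
    ∃ z ∈ U, (t * z * t⁻¹ * z⁻¹)⁻¹ * u ∈ N := by
  have hN' : ∀ z, ∀ u ∈ U, u * z * u⁻¹ ∈ N → z ∈ N := by
    intro z u hu h
    have h1 := hN _ h u⁻¹ (inv_mem hu)
    have e : u⁻¹ * (u * z * u⁻¹) * u⁻¹⁻¹ = z := by group
    rwa [e] at h1
  let N' : Subgroup U := N.subgroupOf U
  have hNn : N'.Normal := ⟨fun n hn g => mem_subgroupOf.2 (hN _ (mem_subgroupOf.1 hn) g g.2)⟩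
  let f : U → U := fun u => ⟨t * u * t⁻¹ * (u : H)⁻¹, mul_mem (hU u u.2) (inv_mem u.2)⟩
  have key : ∀ u v : H, (t * u * t⁻¹ * u⁻¹)⁻¹ * (t * v * t⁻¹ * v⁻¹) =
      u * ((t * (u⁻¹ * v) * t⁻¹) * (u⁻¹ * v)⁻¹) * u⁻¹ := by
    intro u v
    group
  have hfi : ∀ u v : U, (u : H)⁻¹ * v ∈ N ↔ ((f u : U) : H)⁻¹ * f v ∈ N := by
    intro u v
    change (u : H)⁻¹ * v ∈ N ↔ (t * u * t⁻¹ * (u : H)⁻¹)⁻¹ * (t * v * t⁻¹ * (v : H)⁻¹) ∈ N
    rw [key]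
    constructor
    · intro h
      exact hN _ (mul_mem (hNt _ h) (inv_mem h)) u u.2
    · intro h
      exact hf _ (mul_mem (inv_mem u.2) v.2) (hN' _ u u.2 h)
  let g : U ⧸ N' → U ⧸ N' := Quotient.map' f fun u v h => by
    rw [QuotientGroup.leftRel_apply] at h ⊢
    exact mem_subgroupOf.2 ((hfi u v).1 (mem_subgroupOf.1 h))
  have hg : ∀ u : U, g (u : U ⧸ N') = (f u : U ⧸ N') := fun u => rfl
  have hinj : Function.Injective g := by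
    intro x y h
    obtain ⟨x, rfl⟩ := QuotientGroup.mk_surjective x
    obtain ⟨y, rfl⟩ := QuotientGroup.mk_surjective y
    rw [hg, hg, QuotientGroup.eq] at h
    rw [QuotientGroup.eq]
    exact mem_subgroupOf.2 ((hfi x y).2 (mem_subgroupOf.1 h))
  obtain ⟨z, hz⟩ := Finite.surjective_of_injective hinj ((⟨u, hu⟩ : U) : U ⧸ N')
  obtain ⟨z, rfl⟩ := QuotientGroup.mk_surjective z
  rw [hg, QuotientGroup.eq] at hz
  exact ⟨z, z.2, mem_subgroupOf.1 hz⟩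

end panel

variable {G : Type u} [Group G] {ι : Type w} {V : Subgroup G} {R : ι → Subgroup G} {F : Type v} [Field F] {i j : ι}
  {v : F → F → G} {w1 w2 : F → G} {t : F → G}

namespace RS

variable {T S : Subgroup (HQ (R i))} {α : Type} {K : α → Subgroup (HQ (R i))} {J : α → Type}
  {P : ∀ a, J a → Subgroup (K a)} {m : ∀ a, J a → J a → ℕ} (D : RS V R i j T S K J P m)
include D

theorem comm_mem_A [Finite G] {t s : HQ (R i)} (ht : t ∈ T) (hs : s ∈ UE K (fun a => S.subgroupOf (K a)))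
    [Nonempty α] : t * s * t⁻¹ * s⁻¹ ∈ AA V R i j := by
  obtain ⟨a⟩ := ‹Nonempty α›
  have h1 := (D.hyp a).ST t ht s (D.UE_le_S hs)
  have h2 := BTwo.conj_mem_of_normalizer (D.CC_norm_A (D.psit.U_le hs)) h1
  have e : s * (s⁻¹ * (t * s * t⁻¹)) * s⁻¹ = t * s * t⁻¹ * s⁻¹ := by group
  rwa [e] at h2

/-- `A` covers `U` modulo the kernel of a moved panel -/
theorem covE [Finite G] {a : α} {k : J a} (hm : End.Moved (S.subgroupOf (K a)) (Tact T (K a)) (P a k))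
    {u : HQ (R i)} (hu : u ∈ UE K (fun a => S.subgroupOf (K a))) :
    ∃ y ∈ AA V R i j, y⁻¹ * u ∈ Qk (CC K (fun a => S.subgroupOf (K a)) T)
      (PPx K (fun a => S.subgroupOf (K a)) T P ⟨a, k⟩) := by
  have : Nonempty α := ⟨a⟩
  have hps := D.psit
  have hCP := hps.PPx_le (⟨a, k⟩ : Σ a, J a)
  obtain ⟨τ, hτ, hne⟩ := D.T_ne a
  obtain ⟨t, htN, ht, rfl⟩ := mem_actT.1 hτ
  have htC : t ∈ CC K (fun a => S.subgroupOf (K a)) T := mem_sup_right ht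
  obtain ⟨z, hz, h1⟩ := cov_of_fpf (t := t) (fun u hu => BTwo.conj_mem_of_normalizer (hps.C_norm_U htC) hu)
    (fun z hz => Qk_conj' hz (hCP htC)) (fun z hz u hu => Qk_conj' hz (hCP (hps.U_le hu)))
    (fun u hu h1 => hps.moved hm ht hne hu h1) hu
  exact ⟨_, D.comm_mem_A ht hz, h1⟩

/-- **`A` covers `U` modulo the kernel of a moved panel** -/
theorem cov [Finite G] (b : BT V R) {a : α} {k : J a}
    (hm : End.Moved (S.subgroupOf (K a)) (Tact T (K a)) (P a k)) {u : G} (hu : u ∈ UG K S) :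
    ∃ y ∈ UU V R j, y⁻¹ * u ∈ Qk (BG K T S) (PG K T S P ⟨a, k⟩) := by
  obtain ⟨h1, h2⟩ := mem_up.1 hu
  obtain ⟨y, hy, h3⟩ := D.covE hm h2
  obtain ⟨y, hyU, rfl⟩ := (mem_AA b).1 hy
  refine ⟨y, hyU, ?_⟩
  rw [Qk_up]
  refine mem_up.2 ⟨mul_mem (inv_mem (U_le_N b i j hyU)) h1, ?_⟩
  rw [← map_inv, ← map_mul] at h3
  exact h3

/-- `UU V R j` is transitive on the chambers `≠ B` of a moved panel -/
theorem tr [Finite G] [Finite α] (b : BT V R) {a : α} {k : J a}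
    (hm : End.Moved (S.subgroupOf (K a)) (Tact T (K a)) (P a k)) {y0 : G} (hy0 : y0 ∈ PG K T S P ⟨a, k⟩)
    (h0 : y0 ∉ BG K T S) {y : G} (hy : y ∈ PG K T S P ⟨a, k⟩) (hB : y ∉ BG K T S) :
    ∃ u ∈ UU V R j, (u * y0)⁻¹ * y ∈ BG K T S := by
  obtain ⟨u, hu, z, hz, e⟩ := D.preG.ptr ⟨a, k⟩ y0 hy0 h0 y hy hB
  obtain ⟨x, hx, h1⟩ := D.cov b hm hu
  refine ⟨x, hx, ?_⟩
  have h2 := ParSys.mem_Qk.1 h1 y0 hy0
  have e2 : (x * y0)⁻¹ * y = (y0⁻¹ * (x⁻¹ * u) * y0) * z := by rw [e]; group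
  rw [e2]
  exact mul_mem h2 hz

/-- the data of 759 at the node `x` -/
theorem nodeX [Finite G] [Finite α] (b : BT V R) (hij : i ≠ j) (hd : Zero.Dat V R i (BG K T S) (UG K S)) (x : Σ a, J a)
    (hx : ¬ PG K T S P x ≤ normalizer (V : Set G)) : Nodes.NodeX V R i (BG K T S) (UG K S) (PG K T S P x) where
  norm := D.preG.norm
  isP := D.preG.isP
  index := D.preG.index
  YU := D.Y_le_UG b hij
  le := D.preG.le x
  PR := up_le
  PV := inf_NV_le (D.preG.ptr x) D.preG.U_le hd.BV hx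
  reg := D.preG.reg x

/-- `P⁺ ≤ C(R i)` -/
theorem Pp_le_cen [Finite G] (b : BT V R) (x : Σ a, J a) :
    Pp (PG K T S P x) (UG K S) ≤ centralizer (R i : Set G) := by
  unfold Pp
  rw [closure_le]
  rintro _ ⟨g, hg, u, hu, rfl⟩
  have h1 := D.UG_le_cen b hu
  have hgN : g ∈ normalizer (R i : Set G) := up_le hg
  rw [SetLike.mem_coe, mem_centralizer_iff]
  intro r hr
  have h2 : g⁻¹ * r * g ∈ R i := BTwo.conj_inv_mem_of_normalizer hgN hr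
  have h3 := mem_centralizer_iff.1 h1 _ h2
  calc r * (g * u * g⁻¹) = g * (g⁻¹ * r * g * u) * g⁻¹ := by group
    _ = g * (u * (g⁻¹ * r * g)) * g⁻¹ := by rw [h3]
    _ = g * u * g⁻¹ * r := by group

/-- `SepG` at `(P₀, P x)`, `x` a moved node which is not the only node of its component -/
theorem sep_nbr [Finite G] [Finite α] (b : BT V R) (c : Coord V R i j v w1 w2) (hij : i ≠ j)
    (hd : Zero.Dat V R i (BG K T S) (UG K S))
    (hCA : ∀ x ∈ WW V (R i), (∀ u ∈ UU V R j, u * x * u⁻¹ * x⁻¹ ∈ R i) → x ∈ V) {a : α} {k : J a}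
    (hm : End.Moved (S.subgroupOf (K a)) (Tact T (K a)) (P a k)) (hk : ∃ l, l ≠ k) :
    SepG 2 (BG K T S) (UG K S) (Zero.P0 V R (BG K T S)) (PG K T S P ⟨a, k⟩) := by
  obtain ⟨l, hl, x, hxN, hxP, ⟨n, hn, hxn⟩, hfp⟩ := (D.sys a).nbr k hm hk
  have hps := D.psit
  have hPl := D.unmoved_le b c hij hd hCA hl
  -- a lift of `x`
  obtain ⟨h, hh, e⟩ := exists_pr (x : HQ (R i))
  have hxC : (x : HQ (R i)) ∈ CC K (fun a => S.subgroupOf (K a)) T := (hps.enl a).B_le x hxN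
  have hhB : h ∈ BG K T S := mem_up.2 ⟨hh, by rw [e]; exact hxC⟩
  -- the normal closure
  set C : Subgroup G := closure {y | ∃ g ∈ normalizer (V : Set G) ⊓ normalizer (R i : Set G), ∃ u ∈ UG K S,
    g * u * g⁻¹ = y} with hC
  have hQC : QQ (R i) ≤ C := fun q hq => subset_closure ⟨1, one_mem _, q, QQ_le_up hq, by group⟩
  have hmap : (NCl (S.subgroupOf (K a)) (P a l)).map (K a).subtype ≤ im (R i) C := by
    unfold NCl
    rw [MonoidHom.map_closure, closure_le]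
    rintro _ ⟨y, ⟨g, hg, hy⟩, rfl⟩
    obtain ⟨g', hg', eg⟩ := exists_pr (g : HQ (R i))
    obtain ⟨s', hs', es⟩ := exists_pr ((g⁻¹ * y * g : K a) : HQ (R i))
    have h1 : g' ∈ PG K T S P ⟨a, l⟩ := mem_up.2 ⟨hg', by rw [eg]; exact mem_sup_left ⟨g, hg, rfl⟩⟩
    have h2 : s' ∈ UG K S := mem_up.2 ⟨hs', by
      rw [es]
      exact le_iSup (fun a => (S.subgroupOf (K a)).map (K a).subtype) a ⟨_, hy, rfl⟩⟩
    refine mem_im.2 ⟨g' * s' * g'⁻¹, mul_mem (mul_mem hg' hs') (inv_mem hg'),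
      subset_closure ⟨g', mem_inf.2 ⟨hPl h1, hg'⟩, s', h2, rfl⟩, ?_⟩
    have e3 : pr (R i) ⟨g' * s' * g'⁻¹, mul_mem (mul_mem hg' hs') (inv_mem hg')⟩ =
        pr (R i) ⟨g', hg'⟩ * pr (R i) ⟨s', hs'⟩ * (pr (R i) ⟨g', hg'⟩)⁻¹ := by
      rw [← map_mul, ← map_inv, ← map_mul]
      rfl
    rw [e3, eg, es, coe_subtype, coe_mul, coe_mul, coe_inv]
    group
  have hhC : h ∈ C := by
    rw [← pr_mem_im_iff hQC hh, e]
    exact hmap ⟨x, hxP, rfl⟩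
  have hhn : h ^ n ∈ UG K S := by
    refine mem_up.2 ⟨pow_mem hh n, ?_⟩
    have e3 : pr (R i) ⟨h ^ n, pow_mem hh n⟩ = (pr (R i) ⟨h, hh⟩) ^ n := by
      rw [← map_pow]
      rfl
    rw [e3, e, ← coe_pow, hxn, coe_one]
    exact one_mem _
  refine Zero.sepG_nbr b hd D.preG.isP (D.preG.le ⟨a, k⟩) hhB hhC hn hhn fun u hu h1 => ?_
  rw [Qk_up] at h1 ⊢
  obtain ⟨h2, h3⟩ := mem_up.1 hu
  obtain ⟨h4, h5⟩ := mem_up.1 h1
  refine mem_up.2 ⟨h2, ?_⟩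
  refine (hps.enl a).fpfE (hps.C_norm_P a k) (b := x) hfp _ h3 ?_
  have e4 : pr (R i) ⟨h * u * h⁻¹ * u⁻¹, h4⟩ = pr (R i) ⟨h, hh⟩ * pr (R i) ⟨u, h2⟩ * (pr (R i) ⟨h, hh⟩)⁻¹ *
      (pr (R i) ⟨u, h2⟩)⁻¹ := by
    rw [← map_mul, ← map_inv, ← map_inv, ← map_mul, ← map_mul]
    rfl
  rw [e4, e] at h5
  exact h5

end RS

end Cfsg.Agent.Omega.Lie.End
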