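import Cfsg.Agent.Mrg.Omega.Lie.End.KSys


/-!
# Transport of `Pre` along homomorphisms

* `Qk_comap`, `Qk_map`;
* `Pre.comap` (kernel a `p`-group), `Pre.map` (injective);
* `Pre.bn` : the BN-pair of `⨆ i, P i`.
-/

set_option autoImplicit false
set_option linter.unusedSectionVars false

namespace Cfsg.Agent.Omega.Lie.End

open Subgroup Cfsg.Agent.ParSys

variable {G X : Type*} [Group G] [Group X] {I : Type*}

/-! ### Kernels -/

theorem Qk_comap {φ : X →* G} {B P : Subgroup G} (hP : P ≤ φ.range) :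
    Qk (B.comap φ) (P.comap φ) = (Qk B P).comap φ := by
  ext x
  rw [mem_comap, mem_Qk, mem_Qk]
  constructor
  · intro h g hg
    obtain ⟨y, rfl⟩ := hP hg
    have h1 := h y hg
    rw [mem_comap, map_mul, map_mul, map_inv] at h1
    exact h1
  · intro h g hg
    have h1 := h (φ g) hg
    rw [mem_comap, map_mul, map_mul, map_inv]
    exact h1

theorem Qk_map {φ : G →* X} (hφ : Function.Injective φ) (B P : Subgroup G) :
    Qk (B.map φ) (P.map φ) = (Qk B P).map φ := by
  ext x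
  constructor
  · intro h
    rw [mem_Qk] at h
    have h1 := h 1 (one_mem _)
    rw [inv_one, one_mul, mul_one] at h1
    obtain ⟨y, hy, rfl⟩ := h1
    refine ⟨y, mem_Qk.mpr fun g hg => ?_, rfl⟩
    have h2 := h (φ g) (mem_map_of_mem φ hg)
    rw [← map_inv, ← map_mul, ← map_mul] at h2
    exact (mem_map_iff_mem hφ).mp h2
  · rintro ⟨y, hy, rfl⟩
    rw [mem_Qk]
    rintro _ ⟨g, hg, rfl⟩
    rw [← map_inv, ← map_mul, ← map_mul]
    exact mem_map_of_mem φ (mem_Qk.mp hy g hg)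

/-! ### Galleries -/

theorem same_map {φ : X →* G} {B : Subgroup G} {t s : X} {l l' : List X} :
    Same (B.comap φ) t s l l' ↔ Same B (φ t) (φ s) (l.map φ) (l'.map φ) := by
  induction l generalizing t s l' with
  | nil =>
    cases l' with
    | nil =>
      show t⁻¹ * s ∈ B.comap φ ↔ (φ t)⁻¹ * φ s ∈ B
      rw [mem_comap, map_mul, map_inv]
    | cons y l' => exact Iff.rfl
  | cons x l ih =>
    cases l' with
    | nil => exact Iff.rfl
    | cons y l' =>
      show (t⁻¹ * s ∈ B.comap φ ∧ Same (B.comap φ) (t * x) (s * y) l l') ↔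
        ((φ t)⁻¹ * φ s ∈ B ∧ Same B (φ t * φ x) (φ s * φ y) (l.map φ) (l'.map φ))
      rw [ih, mem_comap, map_mul, map_inv, map_mul, map_mul]

theorem galE_comap {φ : X →* G} {B : Subgroup G} {P : I → Subgroup G} {w : List I} {l : List X} :
    GalE (B.comap φ) (fun i => (P i).comap φ) w l ↔ GalE B P w (l.map φ) := by
  induction w generalizing l with
  | nil => cases l <;> exact Iff.rfl
  | cons i w ih =>
    cases l with
    | nil => exact Iff.rfl
    | cons x l => exact and_congr Iff.rfl ih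

theorem exists_galE_lift {φ : X →* G} {B : Subgroup G} {P : I → Subgroup G} (hr : ∀ i, P i ≤ φ.range) {w : List I}
    {l : List G} (h : GalE B P w l) : ∃ l₀ : List X, l₀.map φ = l := by
  induction w generalizing l with
  | nil =>
    cases l with
    | nil => exact ⟨[], rfl⟩
    | cons x l => exact h.elim
  | cons i w ih =>
    cases l with
    | nil => exact h.elim
    | cons x l =>
      obtain ⟨l₀, h0⟩ := ih h.2
      obtain ⟨y, hy⟩ := hr i h.1.1
      exact ⟨y :: l₀, by rw [List.map_cons, hy, h0]⟩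

theorem polygon_comap {φ : X →* G} {B : Subgroup G} {P : I → Subgroup G} (hB : B ≤ φ.range)
    (hr : ∀ i, P i ≤ φ.range) {a b : I} {m : ℕ} (h : Polygon B P a b m) :
    Polygon (B.comap φ) (fun i => (P i).comap φ) a b m := by
  have key : ∀ c d, (∀ l l', GalE B P (alt c d m) l → GalE B P (alt c d m) l' → l.prod⁻¹ * l'.prod ∈ B →
      Same B 1 1 l l') → ∀ l l', GalE (B.comap φ) (fun i => (P i).comap φ) (alt c d m) l →
      GalE (B.comap φ) (fun i => (P i).comap φ) (alt c d m) l' → l.prod⁻¹ * l'.prod ∈ B.comap φ →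
        Same (B.comap φ) 1 1 l l' := by
    intro c d h l l' hl hl' hp
    rw [same_map, map_one]
    refine h _ _ (galE_comap.mp hl) (galE_comap.mp hl') ?_
    rw [← map_list_prod, ← map_list_prod, ← map_inv, ← map_mul]
    exact hp
  have key2 : ∀ c d, (∀ l l', GalE B P (alt c d m) l → GalE B P (alt c d m) l' → ∃ y ∈ B, Same B y 1 l l') →
      ∀ l l', GalE (B.comap φ) (fun i => (P i).comap φ) (alt c d m) l →
        GalE (B.comap φ) (fun i => (P i).comap φ) (alt c d m) l' → ∃ y ∈ B.comap φ, Same (B.comap φ) y 1 l l' := by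
    intro c d h l l' hl hl'
    obtain ⟨y, hy, h1⟩ := h _ _ (galE_comap.mp hl) (galE_comap.mp hl')
    obtain ⟨y', rfl⟩ := hB hy
    refine ⟨y', hy, ?_⟩
    rw [same_map, map_one]
    exact h1
  refine ⟨key a b h.uniq, key b a h.uniq', ?_, key2 a b h.trans, key2 b a h.trans'⟩
  obtain ⟨l, l', h1, h2, h3⟩ := h.swap
  obtain ⟨l₀, rfl⟩ := exists_galE_lift hr h1
  obtain ⟨l₁, rfl⟩ := exists_galE_lift hr h2
  refine ⟨l₀, l₁, galE_comap.mpr h1, galE_comap.mpr h2, ?_⟩
  rw [← map_list_prod, ← map_list_prod, ← map_inv, ← map_mul] at h3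
  exact h3

theorem polygon_of_comap {φ : X →* G} {B : Subgroup G} {P : I → Subgroup G} (hr : ∀ i, P i ≤ φ.range) {a b : I} {m : ℕ}
    (h : Polygon (B.comap φ) (fun i => (P i).comap φ) a b m) : Polygon B P a b m := by
  have key : ∀ c d, (∀ l l', GalE (B.comap φ) (fun i => (P i).comap φ) (alt c d m) l →
      GalE (B.comap φ) (fun i => (P i).comap φ) (alt c d m) l' → l.prod⁻¹ * l'.prod ∈ B.comap φ →
        Same (B.comap φ) 1 1 l l') → ∀ l l', GalE B P (alt c d m) l → GalE B P (alt c d m) l' →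
        l.prod⁻¹ * l'.prod ∈ B → Same B 1 1 l l' := by
    intro c d h l l' hl hl' hp
    obtain ⟨l₀, rfl⟩ := exists_galE_lift hr hl
    obtain ⟨l₁, rfl⟩ := exists_galE_lift hr hl'
    rw [← map_list_prod, ← map_list_prod, ← map_inv, ← map_mul] at hp
    have h1 := h _ _ (galE_comap.mpr hl) (galE_comap.mpr hl') hp
    rwa [same_map, map_one] at h1
  have key2 : ∀ c d, (∀ l l', GalE (B.comap φ) (fun i => (P i).comap φ) (alt c d m) l →
        GalE (B.comap φ) (fun i => (P i).comap φ) (alt c d m) l' → ∃ y ∈ B.comap φ, Same (B.comap φ) y 1 l l') →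
      ∀ l l', GalE B P (alt c d m) l → GalE B P (alt c d m) l' → ∃ y ∈ B, Same B y 1 l l' := by
    intro c d h l l' hl hl'
    obtain ⟨l₀, rfl⟩ := exists_galE_lift hr hl
    obtain ⟨l₁, rfl⟩ := exists_galE_lift hr hl'
    obtain ⟨y, hy, h1⟩ := h _ _ (galE_comap.mpr hl) (galE_comap.mpr hl')
    refine ⟨φ y, hy, ?_⟩
    rwa [same_map, map_one] at h1
  refine ⟨key a b h.uniq, key b a h.uniq', ?_, key2 a b h.trans, key2 b a h.trans'⟩
  obtain ⟨l, l', h1, h2, h3⟩ := h.swap
  refine ⟨l.map φ, l'.map φ, galE_comap.mp h1, galE_comap.mp h2, ?_⟩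
  rw [← map_list_prod, ← map_list_prod, ← map_inv, ← map_mul]
  exact h3

/-! ### Elements of order prime to `p` -/

/-- a `p'`-element lifts to a `p'`-element if the kernel is a `p`-group -/
theorem exists_lift_coprime {p : ℕ} [Fact p.Prime] {φ : X →* G} (hker : IsPGroup p φ.ker) {b : G}
    (hb : b ∈ φ.range) {k : ℕ} (hk : p.Coprime k) (hbk : b ^ k = 1) :
    ∃ c : X, φ c = b ∧ c ^ k = 1 := by
  obtain ⟨b', rfl⟩ := hb
  have h1 : b' ^ k ∈ φ.ker := by rw [MonoidHom.mem_ker, map_pow]; exact hbk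
  obtain ⟨a, ha⟩ := hker ⟨_, h1⟩
  have ha' : (b' ^ k) ^ p ^ a = 1 := congrArg Subtype.val ha
  have hc : Nat.Coprime (p ^ a) (orderOf (φ b')) :=
    Nat.Coprime.coprime_dvd_right (orderOf_dvd_of_pow_eq_one hbk) (Nat.Coprime.pow_left a hk)
  obtain ⟨s, hs⟩ := exists_pow_eq_self_of_coprime hc
  refine ⟨(b' ^ p ^ a) ^ s, by rw [map_pow, map_pow, hs], ?_⟩
  calc ((b' ^ p ^ a) ^ s) ^ k = ((b' ^ k) ^ p ^ a) ^ s := by
        rw [← pow_mul, ← pow_mul, ← pow_mul, ← pow_mul]
        congr 1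
        ring
    _ = 1 := by rw [ha', one_pow]

/-! ### Transport -/

namespace Pre

variable {p : ℕ} {B U : Subgroup G} {P : I → Subgroup G} {m : I → I → ℕ}

theorem comap [hp : Fact p.Prime] {φ : X →* G} (D : Pre p B U P m) (hker : IsPGroup p φ.ker) (hB : B ≤ φ.range)
    (hr : ∀ i, P i ≤ φ.range) : Pre p (B.comap φ) (U.comap φ) (fun i => (P i).comap φ) m where
  U_le := comap_mono D.U_le
  norm := by
    intro x hx
    have h1 : φ x ∈ normalizer (U : Set G) := D.norm hx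
    rw [mem_normalizer_iff] at h1 ⊢
    intro y
    rw [mem_comap, mem_comap, map_mul, map_mul, map_inv]
    exact h1 (φ y)
  isP := D.isP.comap_of_ker_isPGroup φ hker
  index := by
    rw [relIndex_comap, map_comap_eq_self hB]
    exact D.index
  le := fun i => comap_mono (D.le i)
  three := fun i => by
    obtain ⟨x, hx, y, hy, h1, h2, h3⟩ := D.three i
    obtain ⟨x, rfl⟩ := hr i hx
    obtain ⟨y, rfl⟩ := hr i hy
    exact ⟨x, hx, y, hy, h1, h2, by rwa [mem_comap, map_mul, map_inv]⟩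
  ptr := fun i g hg hgB g' hg' hgB' => by
    obtain ⟨u, hu, b, hb, h⟩ := D.ptr i (φ g) hg hgB (φ g') hg' hgB'
    obtain ⟨u, rfl⟩ := hB (D.U_le hu)
    refine ⟨u, hu, g⁻¹ * u⁻¹ * g', ?_, by group⟩
    rw [mem_comap, map_mul, map_mul, map_inv, map_inv, h]
    have e : (φ g)⁻¹ * (φ u)⁻¹ * (φ u * φ g * b) = b := by group
    rwa [e]
  reg := fun i u hu g hg hgB h => by
    rw [Qk_comap (hr i)]
    rw [mem_comap, map_mul, map_mul, map_inv] at h
    exact D.reg i (φ u) hu (φ g) hg hgB h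
  fpf := fun i => by
    obtain ⟨b, hb, ⟨k, hk, hbk⟩, h⟩ := D.fpf i
    obtain ⟨c, rfl, hck⟩ := exists_lift_coprime hker (hB hb) hk hbk
    refine ⟨c, hb, ⟨k, hk, hck⟩, fun u hu h1 => ?_⟩
    rw [Qk_comap (hr i)] at h1 ⊢
    rw [mem_comap, map_mul, map_mul, map_mul, map_inv, map_inv] at h1
    exact h (φ u) hu h1
  m_two := D.m_two
  m_symm := D.m_symm
  poly := fun i j hij => polygon_comap hB hr (D.poly i j hij)
  sep := fun i j hij => by
    have key : ∀ i j, SepG p B U (P i) (P j) → SepG p (B.comap φ) (U.comap φ) ((P i).comap φ) ((P j).comap φ) := by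
      rintro i j ⟨b, hb, ⟨k, hk, hbk⟩, h, h'⟩
      obtain ⟨c, rfl, hck⟩ := exists_lift_coprime hker (hB hb) hk hbk
      refine ⟨c, hb, ⟨k, hk, hck⟩, fun u hu => ?_, fun u hu h1 => ?_⟩
      · rw [Qk_comap (hr i), mem_comap, map_mul, map_mul, map_mul, map_inv, map_inv]
        exact h (φ u) hu
      · rw [Qk_comap (hr j)] at h1 ⊢
        rw [mem_comap, map_mul, map_mul, map_mul, map_inv, map_inv] at h1
        exact h' (φ u) hu h1
    exact (D.sep i j hij).imp (key i j) (key j i)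
  frat := fun i j hij Y hY h u hu => by
    have h1 := D.frat i j hij (Y.map φ) (by
      rintro _ ⟨y, hy, rfl⟩
      exact hY hy) (by
      intro v hv
      obtain ⟨v, rfl⟩ := hB (D.U_le hv)
      obtain ⟨x, hx, h2, h3⟩ := h v hv
      rw [Qk_comap (hr i), mem_comap, map_mul, map_inv] at h2
      rw [Qk_comap (hr j), mem_comap, map_mul, map_inv] at h3
      exact ⟨φ x, mem_map_of_mem φ hx, h2, h3⟩) (φ u) hu
    obtain ⟨_, ⟨x, hx, rfl⟩, h2⟩ := h1
    refine ⟨x, hx, ?_⟩
    have e : (P i).comap φ ⊔ (P j).comap φ = (P i ⊔ P j).comap φ :=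
      comap_sup_eq_of_le_range φ (hr i) (hr j)
    show x⁻¹ * u ∈ Qk (B.comap φ) ((P i).comap φ ⊔ (P j).comap φ)
    rw [e, Qk_comap (sup_le (hr i) (hr j)), mem_comap, map_mul, map_inv]
    exact h2

theorem map {φ : G →* X} (D : Pre p B U P m) (hφ : Function.Injective φ) :
    Pre p (B.map φ) (U.map φ) (fun i => (P i).map φ) m where
  U_le := map_mono D.U_le
  norm := by
    rintro _ ⟨x, hx, rfl⟩
    have h1 : x ∈ normalizer (U : Set G) := D.norm hx
    rw [mem_normalizer_iff] at h1 ⊢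
    intro y
    constructor
    · rintro ⟨u, hu, rfl⟩
      exact ⟨x * u * x⁻¹, (h1 u).mp hu, by rw [map_mul, map_mul, map_inv]⟩
    · rintro ⟨u, hu, h2⟩
      refine ⟨x⁻¹ * u * x, ?_, ?_⟩
      · have h3 := (h1 (x⁻¹ * u * x)).mpr (by
          have e : x * (x⁻¹ * u * x) * x⁻¹ = u := by group
          rwa [e])
        exact h3
      · rw [map_mul, map_mul, map_inv, h2]; group
  isP := D.isP.map φ
  index := by
    have h1 : (U.map φ).relIndex (B.map φ) = U.relIndex B := by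
      rw [← relIndex_comap, comap_map_eq_self_of_injective hφ]
    rw [h1]
    exact D.index
  le := fun i => map_mono (D.le i)
  three := fun i => by
    obtain ⟨x, hx, y, hy, h1, h2, h3⟩ := D.three i
    refine ⟨φ x, mem_map_of_mem φ hx, φ y, mem_map_of_mem φ hy, fun h => h1 ((mem_map_iff_mem hφ).mp h),
      fun h => h2 ((mem_map_iff_mem hφ).mp h), fun h => h3 ?_⟩
    rw [← map_inv, ← map_mul] at h
    exact (mem_map_iff_mem hφ).mp h
  ptr := fun i g hg hgB g' hg' hgB' => by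
    obtain ⟨g, hg, rfl⟩ := hg
    obtain ⟨g', hg', rfl⟩ := hg'
    obtain ⟨u, hu, b, hb, h⟩ := D.ptr i g hg (fun h => hgB (mem_map_of_mem φ h)) g' hg'
      (fun h => hgB' (mem_map_of_mem φ h))
    exact ⟨φ u, mem_map_of_mem φ hu, φ b, mem_map_of_mem φ hb, by rw [h, map_mul, map_mul]⟩
  reg := fun i u hu g hg hgB h => by
    obtain ⟨u, hu, rfl⟩ := hu
    obtain ⟨g, hg, rfl⟩ := hg
    show φ u ∈ Qk (B.map φ) ((P i).map φ)
    rw [Qk_map hφ]
    rw [← map_inv, ← map_mul, ← map_mul] at h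
    exact mem_map_of_mem φ (D.reg i u hu g hg (fun h' => hgB (mem_map_of_mem φ h')) ((mem_map_iff_mem hφ).mp h))
  fpf := fun i => by
    obtain ⟨b, hb, ⟨k, hk, hbk⟩, h⟩ := D.fpf i
    refine ⟨φ b, mem_map_of_mem φ hb, ⟨k, hk, by rw [← map_pow, hbk, map_one]⟩, ?_⟩
    rintro _ ⟨u, hu, rfl⟩ h1
    show φ u ∈ Qk (B.map φ) ((P i).map φ)
    rw [Qk_map hφ] at h1 ⊢
    rw [← map_inv, ← map_inv, ← map_mul, ← map_mul, ← map_mul] at h1
    exact mem_map_of_mem φ (h u hu ((mem_map_iff_mem hφ).mp h1))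
  m_two := D.m_two
  m_symm := D.m_symm
  poly := fun i j hij => by
    refine polygon_of_comap (φ := φ) (fun i => map_le_range φ (P i)) ?_
    have e1 : (B.map φ).comap φ = B := comap_map_eq_self_of_injective hφ B
    have e2 : (fun i => ((P i).map φ).comap φ) = P := funext fun i => comap_map_eq_self_of_injective hφ (P i)
    rw [e1, e2]
    exact D.poly i j hij
  sep := fun i j hij => by
    have key : ∀ i j, SepG p B U (P i) (P j) → SepG p (B.map φ) (U.map φ) ((P i).map φ) ((P j).map φ) := by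
      rintro i j ⟨b, hb, ⟨k, hk, hbk⟩, h, h'⟩
      refine ⟨φ b, mem_map_of_mem φ hb, ⟨k, hk, by rw [← map_pow, hbk, map_one]⟩, ?_, ?_⟩
      · rintro _ ⟨u, hu, rfl⟩
        rw [Qk_map hφ, ← map_inv, ← map_inv, ← map_mul, ← map_mul, ← map_mul]
        exact mem_map_of_mem φ (h u hu)
      · rintro _ ⟨u, hu, rfl⟩ h1
        rw [Qk_map hφ] at h1 ⊢
        rw [← map_inv, ← map_inv, ← map_mul, ← map_mul, ← map_mul] at h1
        exact mem_map_of_mem φ (h' u hu ((mem_map_iff_mem hφ).mp h1))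
    exact (D.sep i j hij).imp (key i j) (key j i)
  frat := fun i j hij Y hY h u hu => by
    obtain ⟨u, hu, rfl⟩ := hu
    have h1 := D.frat i j hij (Y.comap φ) (by
      intro y hy
      exact (mem_map_iff_mem hφ).mp (hY hy)) (by
      intro v hv
      obtain ⟨x, hx, h2, h3⟩ := h (φ v) (mem_map_of_mem φ hv)
      obtain ⟨x', hx', rfl⟩ := hY hx
      refine ⟨x', hx, ?_, ?_⟩
      · change (φ x')⁻¹ * φ v ∈ Qk (B.map φ) ((P i).map φ) at h2
        rw [Qk_map hφ, ← map_inv, ← map_mul] at h2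
        exact (mem_map_iff_mem hφ).mp h2
      · change (φ x')⁻¹ * φ v ∈ Qk (B.map φ) ((P j).map φ) at h3
        rw [Qk_map hφ, ← map_inv, ← map_mul] at h3
        exact (mem_map_iff_mem hφ).mp h3) u hu
    obtain ⟨x, hx, h2⟩ := h1
    refine ⟨φ x, hx, ?_⟩
    show (φ x)⁻¹ * φ u ∈ Qk (B.map φ) ((P i).map φ ⊔ (P j).map φ)
    rw [← Subgroup.map_sup, Qk_map hφ, ← map_inv, ← map_mul]
    exact mem_map_of_mem φ h2

/-- **The BN-pair of `⨆ i, P i`.** -/
theorem bn [Finite G] [Finite I] [hp : Fact p.Prime] (D : Pre p B U P m) (h3 : 3 ≤ Nat.card I)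
    (conn : ∀ J : Set I, J.Nonempty → Jᶜ.Nonempty → ∃ i ∈ J, ∃ j ∈ Jᶜ, 3 ≤ m i j) :
    ∃ Q : Cfsg.BNPair ↥(⨆ i, P i), 3 ≤ Q.rank ∧ Q.Irreducible := by
  have hne : Nonempty I := by
    by_contra h
    rw [not_nonempty_iff] at h
    rw [Nat.card_of_isEmpty] at h3
    omega
  obtain ⟨i₀⟩ := hne
  have hP : ∀ i, P i ≤ (⨆ i, P i : Subgroup G).subtype.range := fun i => by
    rw [range_subtype]
    exact le_iSup P i
  have D' := D.comap (φ := (⨆ i, P i : Subgroup G).subtype) (by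
      rw [ker_subtype]
      exact IsPGroup.of_bot) ((D.le i₀).trans (hP i₀)) hP
  refine D'.exists_bnPair ?_ h3 conn
  have e : (⨆ i, (P i).comap (⨆ i, P i : Subgroup G).subtype).map (⨆ i, P i : Subgroup G).subtype =
      (⊤ : Subgroup ↥(⨆ i, P i : Subgroup G)).map (⨆ i, P i : Subgroup G).subtype := by
    rw [Subgroup.map_iSup, ← MonoidHom.range_eq_map, range_subtype]
    exact iSup_congr fun i => map_comap_eq_self (hP i)
  exact map_injective (subtype_injective _) e

end Pre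

end Cfsg.Agent.Omega.Lie.End
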