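import Cfsg.Agent.Mrg.Omega.Lie.End.PreMap
import Cfsg.Agent.Mrg.Omega.Lie.End.Zero
import Cfsg.Agent.Mrg.Omega.IIa4.Lay
import Cfsg.Agent.Mrg.Omega.Lie.End.KSys
import Mathlib.GroupTheory.NoncommPiCoprod

section


/-!
# NODE LIE, the END: the top level

`RealSys V R i E B U P m` : the parabolic system of the product `E` of the moved components over `B`, `U`, seen in `G`
(nodes `k : J`; `k` is *moved* if `P k` does not normalise `V`).

`RealSys.pre0` : with the residues `(0, k)` of the moved nodes (`Res0`) the family `none ↦ P₀ = X B`, `some k ↦ P k` is a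
system `Pre`.  `RealSys.gZero` : hence `GZero`, provided no conjugate `V ^ x`, `x ∈ P k`, fails to commute with `V` for all
`k` (no node of type `(γ)`).
-/

set_option autoImplicit false
set_option linter.unusedSectionVars false

namespace Cfsg.Agent.Omega.Lie.End

open Subgroup Cfsg Cfsg.Agent.Omega.BTwo Cfsg.Agent.ParSys Cfsg.Agent.Omega.Lie.Zero

universe u v w

section defs

variable {G : Type u} [Group G] {ι : Type w}

/-- The parabolic system of the moved components in `G`. -/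
structure RealSys (V : Subgroup G) (R : ι → Subgroup G) (i : ι) (E B U : Subgroup G) {J : Type} (P : J → Subgroup G)
    (m : J → J → ℕ) : Prop where
  dat : Dat V R i B U
  pre : Pre 2 B U P m
  /-- `E ≤ ⟨P k⟩` -/
  E_le : E ≤ ⨆ k, P k
  /-- `P k ≤ E T` -/
  le_E : ∀ k, P k ≤ XX V R ⊔ E
  /-- `P k` is a product with the node `0` if `k` is not moved -/
  prod : ∀ k, P k ≤ normalizer (V : Set G) → ∃ L ≤ centralizer (V : Set G), B ≤ normalizer (L : Set G) ∧ P k = L ⊔ B
  /-- every connected component of the diagram has a moved node -/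
  conn : ∀ I : Set J, I.Nonempty → (∀ k ∈ I, ∀ l ∉ I, m k l < 3) → ∃ k ∈ I, ¬ P k ≤ normalizer (V : Set G)

/-- the nodes of the complete system: `none ↦ X B` -/
def PPo (V : Subgroup G) (R : ι → Subgroup G) (B : Subgroup G) {J : Type} (P : J → Subgroup G) : Option J → Subgroup G
  | none => P0 V R B
  | some k => P k

/-- the residue `(0, k)` -/
structure Res0 (V : Subgroup G) (R : ι → Subgroup G) (B U : Subgroup G) {J : Type} (P : J → Subgroup G) (k : J)
    (m : ℕ) : Prop where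
  poly : Polygon B (PPo V R B P) none (some k) m
  frat : ∀ X ≤ U, (∀ u ∈ U, ∃ x ∈ X, x⁻¹ * u ∈ Qk B (P k) ∧ x⁻¹ * u ∈ Qk B (P0 V R B)) →
    ∀ u ∈ U, ∃ x ∈ X, x⁻¹ * u ∈ Qk B (P k ⊔ P0 V R B)
  sep : SepG 2 B U (P k) (P0 V R B) ∨ SepG 2 B U (P0 V R B) (P k)

end defs

section pre0

variable {G : Type u} [Group G] {ι : Type w} {V : Subgroup G} {R : ι → Subgroup G} {i j : ι} {F : Type v} [Field F]
  {v : F → F → G} {w1 w2 : F → G} {E B U : Subgroup G} {J : Type} {P : J → Subgroup G} {m : J → J → ℕ}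

open Classical in
/-- the Coxeter numbers of the complete system -/
noncomputable def MMo (V : Subgroup G) (P : J → Subgroup G) (m : J → J → ℕ) (m0 : J → ℕ) : Option J → Option J → ℕ
  | none, none => 2
  | none, some k => if P k ≤ normalizer (V : Set G) then 2 else m0 k
  | some k, none => if P k ≤ normalizer (V : Set G) then 2 else m0 k
  | some k, some l => m k l

theorem RealSys.pre0 [Finite G] [Finite F] [CharP F 2] (b : BT V R) (c : Coord V R i j v w1 w2)
    (hF : ∃ a : F, a ≠ 0 ∧ a ≠ 1) (D : RealSys V R i E B U P m) {m0 : J → ℕ}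
    (h0 : ∀ k, ¬ P k ≤ normalizer (V : Set G) → 3 ≤ m0 k ∧ Res0 V R B U P k (m0 k)) :
    Pre 2 B U (PPo V R B P) (MMo V P m m0) := by
  have hd := D.dat
  have hp := D.pre
  have poly0 : ∀ k, Polygon B (PPo V R B P) none (some k) (MMo V P m m0 none (some k)) := by
    intro k
    by_cases hk : P k ≤ normalizer (V : Set G)
    · obtain ⟨L, hL, hBL, e⟩ := D.prod k hk
      have e2 : MMo V P m m0 none (some k) = 2 := if_pos hk
      rw [e2]
      obtain ⟨x, hx, -, -, hxB, -⟩ := hp.three k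
      exact (Zero.polygon b hd (P := PPo V R B P) (k := some k) (z := none) e rfl hL hBL (hp.ptr k) ⟨x, hx, hxB⟩).symm
    · have e2 : MMo V P m m0 none (some k) = m0 k := if_neg hk
      rw [e2]
      exact (h0 k hk).2.poly
  have sep0 : ∀ k, SepG 2 B U (P k) (P0 V R B) ∨ SepG 2 B U (P0 V R B) (P k) := by
    intro k
    by_cases hk : P k ≤ normalizer (V : Set G)
    · obtain ⟨L, hL, hBL, e⟩ := D.prod k hk
      left
      rw [e]
      exact Zero.sepG b hd c hF hL
    · exact (h0 k hk).2.sep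
  have frat0 : ∀ k, ∀ X ≤ U, (∀ u ∈ U, ∃ x ∈ X, x⁻¹ * u ∈ Qk B (P k) ∧ x⁻¹ * u ∈ Qk B (P0 V R B)) →
      ∀ u ∈ U, ∃ x ∈ X, x⁻¹ * u ∈ Qk B (P k ⊔ P0 V R B) := by
    intro k X hX h
    by_cases hk : P k ≤ normalizer (V : Set G)
    · obtain ⟨L, hL, hBL, e⟩ := D.prod k hk
      rw [e] at h ⊢
      exact Zero.frat b hd hL hBL h
    · exact (h0 k hk).2.frat X hX h
  exact {
    U_le := hp.U_le
    norm := hp.norm
    isP := hp.isP
    index := hp.index
    le := fun x => match x with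
      | none => le_sup_right
      | some k => hp.le k
    three := fun x => match x with
      | none => Zero.three b hd
      | some k => hp.three k
    ptr := fun x => match x with
      | none => Zero.ptr b hd
      | some k => hp.ptr k
    reg := fun x => match x with
      | none => Zero.reg b hd
      | some k => hp.reg k
    fpf := fun x => match x with
      | none => Zero.fpfG b hd c hF
      | some k => hp.fpf k
    m_two := by
      rintro (_ | k) (_ | l) hne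
      · exact absurd rfl hne
      · by_cases hk : P l ≤ normalizer (V : Set G)
        · exact (if_pos hk : MMo V P m m0 none (some l) = 2).ge
        · have e2 : MMo V P m m0 none (some l) = m0 l := if_neg hk
          rw [e2]
          have := (h0 l hk).1
          omega
      · by_cases hk : P k ≤ normalizer (V : Set G)
        · exact (if_pos hk : MMo V P m m0 (some k) none = 2).ge
        · have e2 : MMo V P m m0 (some k) none = m0 k := if_neg hk
          rw [e2]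
          have := (h0 k hk).1
          omega
      · exact hp.m_two k l fun h => hne (congrArg some h)
    m_symm := by
      rintro (_ | k) (_ | l)
      · rfl
      · rfl
      · rfl
      · exact hp.m_symm k l
    poly := by
      rintro (_ | k) (_ | l) hne
      · exact absurd rfl hne
      · exact poly0 l
      · exact (poly0 k).symm
      · exact (polygon_reindex (B := B) (P := PPo V R B P) (some : J → Option J)).2
          (hp.poly k l fun h => hne (congrArg some h))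
    sep := by
      rintro (_ | k) (_ | l) hne
      · exact absurd rfl hne
      · exact (sep0 l).symm
      · exact sep0 k
      · exact hp.sep k l fun h => hne (congrArg some h)
    frat := by
      rintro (_ | k) (_ | l) hne X hX h
      · exact absurd rfl hne
      · have h1 := frat0 l X hX fun u hu => by
          obtain ⟨x, hx, h2, h3⟩ := h u hu
          exact ⟨x, hx, h3, h2⟩
        rw [sup_comm] at h1
        exact h1
      · exact frat0 k X hX h
      · exact hp.frat k l (fun h => hne (congrArg some h)) X hX h }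

theorem RealSys.conn0 (D : RealSys V R i E B U P m) {m0 : J → ℕ}
    (h0 : ∀ k, ¬ P k ≤ normalizer (V : Set G) → 3 ≤ m0 k) :
    ∀ I : Set (Option J), I.Nonempty → Iᶜ.Nonempty → ∃ x ∈ I, ∃ y ∈ Iᶜ, 3 ≤ MMo V P m m0 x y := by
  -- a set of nodes without `0`
  have key : ∀ I : Set J, I.Nonempty → (∃ k ∈ I, 3 ≤ MMo V P m m0 none (some k)) ∨ ∃ k ∈ I, ∃ l ∉ I, 3 ≤ m k l := by
    intro I hI
    by_contra hcon
    rw [not_or] at hcon
    obtain ⟨h1, h2⟩ := hcon
    push Not at h1 h2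
    obtain ⟨k, hk, hkV⟩ := D.conn I hI h2
    have h3 := h1 k hk
    have e2 : MMo V P m m0 none (some k) = m0 k := if_neg hkV
    have := h0 k hkV
    omega
  intro I hI hIc
  by_cases hn : none ∈ I
  · obtain ⟨y, hy⟩ := hIc
    have hne : {k | some k ∉ I}.Nonempty := by
      rcases y with _ | k
      · exact absurd hn hy
      · exact ⟨k, hy⟩
    rcases key _ hne with ⟨k, hk, h3⟩ | ⟨k, hk, l, hl, h3⟩
    · exact ⟨none, hn, some k, hk, h3⟩
    · have hl' : some l ∈ I := by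
        by_contra h
        exact hl h
      refine ⟨some l, hl', some k, hk, ?_⟩
      have e : MMo V P m m0 (some l) (some k) = m l k := rfl
      rw [e, D.pre.m_symm]
      exact h3
  · obtain ⟨y, hy⟩ := hI
    have hne : {k | some k ∈ I}.Nonempty := by
      rcases y with _ | k
      · exact absurd hy hn
      · exact ⟨k, hy⟩
    rcases key _ hne with ⟨k, hk, h3⟩ | ⟨k, hk, l, hl, h3⟩
    · exact ⟨some k, hk, none, hn, h3⟩
    · exact ⟨some k, hk, some l, hl, h3⟩

theorem RealSys.iSup_eq (D : RealSys V R i E B U P m) (hne : Nonempty J) : ⨆ x, PPo V R B P x = XX V R ⊔ E := by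
  have hB : B ≤ XX V R ⊔ E := (D.pre.le hne.some).trans (D.le_E _)
  apply le_antisymm
  · refine iSup_le fun x => ?_
    rcases x with _ | k
    · exact sup_le le_sup_left hB
    · exact D.le_E k
  · refine sup_le (le_sup_left.trans (le_iSup (PPo V R B P) none)) (D.E_le.trans (iSup_le fun k => ?_))
    exact le_iSup (PPo V R B P) (some k)

end pre0

/-! ### type `(γ)` and the rank -/

section rank

variable {G : Type u} [Group G]

/-- some `V ^ p`, `p ∈ Q`, does not commute with `V` -/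
def GamT (V Q : Subgroup G) : Prop := ∃ p ∈ Q, ∃ x ∈ V, ∃ y ∈ V, p * x * p⁻¹ * y ≠ y * (p * x * p⁻¹)

end rank

section hasBN

variable {G : Type u} [Group G] {ι : Type w} {V : Subgroup G} {R : ι → Subgroup G} {i j : ι} {F : Type v} [Field F]
  {v : F → F → G} {w1 w2 : F → G} {E B U : Subgroup G} {J : Type} {P : J → Subgroup G} {m : J → J → ℕ}

/-- `V ^ e` does not commute with `V` for some `e ∈ E`, if `N(R i) = E (N(R i) ∩ N(V))` -/
theorem gamT_of_frat [Finite G] (b : BT V R) (hij : i ≠ j)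
    (hfr : ∀ x ∈ normalizer (R i : Set G), ∃ e ∈ E, e * x ∈ normalizer (V : Set G)) {Q : Subgroup G} (hQ : E ≤ Q) :
    GamT V Q := by
  by_contra hcon
  unfold GamT at hcon
  push Not at hcon
  have h1 : WW V (R i) ≤ centralizer (V : Set G) := by
    refine iSup_le fun x => ?_
    obtain ⟨e, he, hex⟩ := hfr x x.2
    intro y hy
    obtain ⟨a, ha, rfl⟩ := hy
    rw [mem_centralizer_iff]
    intro z hz
    have h2 : (e * x) * a * (e * x)⁻¹ ∈ V := BTwo.conj_mem_of_normalizer hex ha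
    have h3 := hcon e⁻¹ (inv_mem (hQ he)) _ h2 z hz
    have e1 : e⁻¹ * ((e * x) * a * (e * x)⁻¹) * e⁻¹⁻¹ = (x : G) * a * (x : G)⁻¹ := by group
    rw [e1] at h3
    exact h3.symm
  -- `W i ≤ C(V)` is impossible
  obtain ⟨k, hk1, hk2⟩ := b.third i j
  obtain ⟨w, hw, ew⟩ := b.trans i hij.symm hk1
  have h3 : BTwo.cj w (R j) = R j := BTwo.cj_eq_self_iff.2 (b.cen_le_N j (h1 hw))
  exact hk2 (b.R_index (ew.symm.trans h3))

/-- **The BN-pair of `X E`**, if no node is of type `(γ)` -/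
theorem RealSys.hasBN [Finite G] [Finite F] [CharP F 2] [Finite J] (b : BT V R) (c : Coord V R i j v w1 w2)
    (hF : ∃ a : F, a ≠ 0 ∧ a ≠ 1) (hij : i ≠ j)
    (hfr : ∀ x ∈ normalizer (R i : Set G), ∃ e ∈ E, e * x ∈ normalizer (V : Set G)) (D : RealSys V R i E B U P m)
    (hg : ∀ k, ¬ GamT V (P k))
    (hr : ∀ k, ¬ P k ≤ normalizer (V : Set G) → ∃ m0, 3 ≤ m0 ∧ Res0 V R B U P k m0) :
    ∃ Q : BNPair ↥(XX V R ⊔ E), 3 ≤ Q.rank ∧ Q.Irreducible := by
  classical
  have hJ : 2 ≤ Nat.card J := by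
    by_contra hcard
    have hcard' : Nat.card J ≤ 1 := by omega
    have hsub : Subsingleton J := (Finite.card_le_one_iff_subsingleton).1 hcard'
    rcases isEmpty_or_nonempty J with hemp | hne
    · -- `E ≤ ⊥`
      have h1 := gamT_of_frat b hij hfr D.E_le
      rw [iSup_of_empty] at h1
      obtain ⟨p, hp, x, hx, y, hy, hxy⟩ := h1
      rw [mem_bot.1 hp] at hxy
      apply hxy
      have := b.V_comm x hx y hy
      rw [one_mul, inv_one, mul_one]
      exact this
    · obtain ⟨k⟩ := hne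
      refine hg k (gamT_of_frat b hij hfr (D.E_le.trans (iSup_le fun l => ?_)))
      rw [Subsingleton.elim l k]
  have hne : Nonempty J := by
    by_contra h1
    rw [not_nonempty_iff] at h1
    rw [Nat.card_of_isEmpty] at hJ
    omega
  choose! m0 hm0 using hr
  have hpre := D.pre0 b c hF (m0 := m0) hm0
  have hconn := D.conn0 (m0 := m0) fun k hk => (hm0 k hk).1
  have hcard : 3 ≤ Nat.card (Option J) := by
    have := Fintype.ofFinite J
    rw [Nat.card_eq_fintype_card, Fintype.card_option, ← Nat.card_eq_fintype_card]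
    omega
  have : Fact (Nat.Prime 2) := ⟨Nat.prime_two⟩
  have hbn := hpre.bn hcard hconn
  rw [D.iSup_eq hne] at hbn
  exact hbn

end hasBN

end Cfsg.Agent.Omega.Lie.End

namespace Cfsg.Agent.Omega.IIa4

open Subgroup Cfsg Cfsg.Agent.ZN Cfsg.Agent.Omega.NatPair Cfsg.Agent.Omega.BTwo
open Cfsg.Agent.Omega.Frame Cfsg.Agent.Omega.FrameFF Cfsg.Agent.Omega.Lie.End

universe u

namespace Sit

variable {G : Type u} [Group G] [Finite G] {S : Sylow 2 G} {P₀ : Subgroup G} {g : G} {F : Type} [Field F]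
  [Finite F] [CharP F 2] {M : NatMod F (zl (S : Subgroup G) P₀)} (h : Sit S P₀ g M)
include h

/-- `V ^ e` does not commute with `V` for some `e ∈ E` -/
theorem gam_of_le (hcen : CenSE (zl (S : Subgroup G) P₀) (pt M)) {i j : Pt M} (hij : i ≠ j) {E : Subgroup G}
    (hE : normalizer (pt M i : Set G) ≤ normalizer (E : Set G)) (hUE : UU (zl (S : Subgroup G) P₀) (pt M) j ≤ E)
    (hER : E ≤ centralizer (pt M i : Set G)) {Q : Subgroup G} (hQ : E ≤ Q) : GamT (zl (S : Subgroup G) P₀) Q :=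
  gamT_of_frat h.bt hij (fun _ hx => h.frattini hcen hij hE hUE hER hx) hQ

/-- **The top level of NODE LIE.** -/
theorem gZero_of_real (hcen : CenSE (zl (S : Subgroup G) P₀) (pt M)) {i j : Pt M} (hij : i ≠ j)
    {E B U : Subgroup G} {J : Type} [Finite J] {P : J → Subgroup G} {m : J → J → ℕ}
    (hE : normalizer (pt M i : Set G) ≤ normalizer (E : Set G)) (hUE : UU (zl (S : Subgroup G) P₀) (pt M) j ≤ E)
    (hER : E ≤ centralizer (pt M i : Set G)) (D : RealSys (zl (S : Subgroup G) P₀) (pt M) i E B U P m)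
    (hg : ∀ k, ¬ GamT (zl (S : Subgroup G) P₀) (P k))
    (hr : ∀ k, ¬ P k ≤ normalizer (zl (S : Subgroup G) P₀ : Set G) →
      ∃ m0, 3 ≤ m0 ∧ Res0 (zl (S : Subgroup G) P₀) (pt M) B U P k m0) : GZero (zl (S : Subgroup G) P₀) (pt M) := by
  obtain ⟨v, w1, w2, c⟩ := h.exists_coord hij
  exact h.gZero_of hcen hij hE hUE hER
    (Or.inl (D.hasBN h.bt c h.exists_ne hij (fun _ hx => h.frattini hcen hij hE hUE hER hx) hg hr))

end Sit

end Cfsg.Agent.Omega.IIa4

end

section


/-!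
# THEOREM PAR with the Borel subgroup, the torus and the fundamental reflections (II.0h1, END)

`Pre.exists_bn` : the BN-pair `Q` of `⨆ i, P i` with `Q.B = B`, `Q.B = U (Q.B ∩ Q.N)`, `Q.S = {n i}`, `n i ∈ P i`.
`RealSys.exists_bn` : for `X E`: all fundamental reflections but one lie in `⨆ k, P k`.
-/

set_option autoImplicit false
set_option linter.unusedSectionVars false

namespace Cfsg.Agent.Omega.HOne.EndBN

open Subgroup Cfsg Cfsg.Agent.Omega.BTwo Cfsg.Agent.ParSys Cfsg.Agent.Omega.Lie.Zero Cfsg.Agent.Omega.Lie.End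

universe u v w

section pre

variable {G : Type*} [Group G] {I : Type*} {p : ℕ} {B U : Subgroup G} {P : I → Subgroup G} {m : I → I → ℕ}

theorem exists_sys [Finite G] [hp : Fact p.Prime] (D : Pre p B U P m) (gen : ⨆ i, P i = ⊤) :
    ∃ H : Subgroup G, Sys p B U H P m ∧ U ⊔ H = B := by
  obtain ⟨H, hall, hUH⟩ := exists_hall_of_index D.U_le D.norm D.isP D.index
  exact ⟨H, {
    hall := hall
    gen := gen
    le := D.le
    three := D.three
    ptr := D.ptr
    reg := D.reg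
    fix := fun i => fix_of_fpfG hall (D.le i) (D.fpf i)
    m_two := D.m_two
    m_symm := D.m_symm
    poly := D.poly
    torus := fun i j hij => (D.sep i j hij).imp
      (fun h => (sep_of_sepG hall (D.le i) (D.le j) h).sepT hall (D.le j))
      (fun h => (sep_of_sepG hall (D.le j) (D.le i) h).sepT hall (D.le i))
    frat := fun i j hij T hT _ h => D.frat i j hij T hT h }, hUH⟩

/-- THEOREM PAR, `gen` -/
theorem exists_bn_top [Finite G] [Finite I] [hp : Fact p.Prime] (D : Pre p B U P m) (gen : ⨆ i, P i = ⊤)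
    (h3 : 3 ≤ Nat.card I)
    (conn : ∀ J : Set I, J.Nonempty → Jᶜ.Nonempty → ∃ i ∈ J, ∃ j ∈ Jᶜ, 3 ≤ m i j) :
    ∃ (Q : Cfsg.BNPair G) (n : I → G), Q.B = B ∧ Q.S = Set.range n ∧ (∀ i, n i ∈ P i ∧ n i ∉ B) ∧
      (∀ b ∈ Q.B, ∃ u ∈ U, ∃ t ∈ Q.B ⊓ Q.N, b = u * t) ∧ 3 ≤ Q.rank ∧ Q.Irreducible := by
  obtain ⟨H, S, hUH⟩ := exists_sys D gen
  obtain ⟨n, -, D'⟩ := S.data
  have hrank : D'.bnPair.rank = Nat.card I := D'.rank_bnPair
  refine ⟨D'.bnPair, n, rfl, rfl, fun i => ⟨D'.n_mem i, D'.n_not i⟩, ?_, hrank ▸ h3, D'.irreducible conn⟩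
  intro b hb
  have hb' : b ∈ H ⊔ U := by rw [sup_comm, hUH]; exact hb
  have hHU : H ≤ normalizer (U : Set G) := S.hall.H_norm_U
  obtain ⟨h, hh, u, hu, rfl⟩ := BTwo.exists_mul_of_mem_sup hHU hb'
  refine ⟨h * u * h⁻¹, BTwo.conj_mem_of_normalizer (hHU hh) hu, h, mem_inf.2 ⟨S.hall.H_le hh, ?_⟩, by group⟩
  exact D'.H_le_N (mem_inf.2 ⟨S.hall.H_le hh, le_normalizer hh⟩)

/-- **THEOREM PAR for a subgroup** -/
theorem exists_bn [Finite G] [Finite I] [hp : Fact p.Prime] (D : Pre p B U P m) (h3 : 3 ≤ Nat.card I)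
    (conn : ∀ J : Set I, J.Nonempty → Jᶜ.Nonempty → ∃ i ∈ J, ∃ j ∈ Jᶜ, 3 ≤ m i j) {X : Subgroup G}
    (hX : ⨆ i, P i = X) :
    ∃ (Q : Cfsg.BNPair X) (n : I → X), Q.B = B.subgroupOf X ∧ Q.S = Set.range n ∧
      (∀ i, (n i : G) ∈ P i ∧ (n i : G) ∉ B) ∧
      (∀ b ∈ Q.B, ∃ u ∈ U.subgroupOf X, ∃ t ∈ Q.B ⊓ Q.N, b = u * t) ∧ 3 ≤ Q.rank ∧ Q.Irreducible := by
  subst hX
  have hne : Nonempty I := by
    by_contra h
    rw [not_nonempty_iff] at h
    rw [Nat.card_of_isEmpty] at h3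
    omega
  obtain ⟨i₀⟩ := hne
  have hP : ∀ i, P i ≤ (⨆ i, P i : Subgroup G).subtype.range := fun i => by
    rw [range_subtype]
    exact le_iSup P i
  have D' := D.comap (φ := (⨆ i, P i : Subgroup G).subtype) (by
      rw [ker_subtype]
      exact IsPGroup.of_bot) ((D.le i₀).trans (hP i₀)) hP
  obtain ⟨Q, n, h1, h2, h4, h5, h6, h7⟩ := exists_bn_top D' (by
    have e : (⨆ i, (P i).comap (⨆ i, P i : Subgroup G).subtype).map (⨆ i, P i : Subgroup G).subtype =
        (⊤ : Subgroup ↥(⨆ i, P i : Subgroup G)).map (⨆ i, P i : Subgroup G).subtype := by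
      rw [Subgroup.map_iSup, ← MonoidHom.range_eq_map, range_subtype]
      exact iSup_congr fun i => map_comap_eq_self (hP i)
    exact map_injective (subtype_injective _) e) h3 conn
  exact ⟨Q, n, h1, h2, h4, h5, h6, h7⟩

end pre

section real

variable {G : Type u} [Group G] {ι : Type w} {V : Subgroup G} {R : ι → Subgroup G} {i j : ι} {F : Type v} [Field F]
  {v : F → F → G} {w1 w2 : F → G} {E B U : Subgroup G} {J : Type} {P : J → Subgroup G} {m : J → J → ℕ}

/-- **The BN-pair of `X E`**, if no node is of type `(γ)`; `s₀` = the reflection of the node `0` -/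
theorem exists_bn_real [Finite G] [Finite F] [CharP F 2] [Finite J] (b : BT V R) (c : Coord V R i j v w1 w2)
    (hF : ∃ a : F, a ≠ 0 ∧ a ≠ 1) (hij : i ≠ j)
    (hfr : ∀ x ∈ normalizer (R i : Set G), ∃ e ∈ E, e * x ∈ normalizer (V : Set G)) (D : RealSys V R i E B U P m)
    (hg : ∀ k, ¬ GamT V (P k))
    (hr : ∀ k, ¬ P k ≤ normalizer (V : Set G) → ∃ m0, 3 ≤ m0 ∧ Res0 V R B U P k m0) :
    ∃ (Q : BNPair ↥(XX V R ⊔ E)) (s₀ : ↥(XX V R ⊔ E)), Q.B = B.subgroupOf (XX V R ⊔ E) ∧ s₀ ∈ Q.S ∧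
      (∀ s ∈ Q.S, s ≠ s₀ → (s : G) ∈ ⨆ k, P k) ∧
      (∀ x ∈ Q.B, ∃ u ∈ U.subgroupOf (XX V R ⊔ E), ∃ t ∈ Q.B ⊓ Q.N, x = u * t) ∧ 3 ≤ Q.rank ∧
      Q.Irreducible ∧ 2 ≤ Nat.card J := by
  classical
  have hJ : 2 ≤ Nat.card J := by
    by_contra hcard
    have hcard' : Nat.card J ≤ 1 := by omega
    have hsub : Subsingleton J := (Finite.card_le_one_iff_subsingleton).1 hcard'
    rcases isEmpty_or_nonempty J with hemp | hne
    · -- `E ≤ ⊥`
      have h1 := gamT_of_frat b hij hfr D.E_le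
      rw [iSup_of_empty] at h1
      obtain ⟨p, hp, x, hx, y, hy, hxy⟩ := h1
      rw [mem_bot.1 hp] at hxy
      apply hxy
      have := b.V_comm x hx y hy
      rw [one_mul, inv_one, mul_one]
      exact this
    · obtain ⟨k⟩ := hne
      refine hg k (gamT_of_frat b hij hfr (D.E_le.trans (iSup_le fun l => ?_)))
      rw [Subsingleton.elim l k]
  have hne : Nonempty J := by
    by_contra h1
    rw [not_nonempty_iff] at h1
    rw [Nat.card_of_isEmpty] at hJ
    omega
  choose! m0 hm0 using hr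
  have hpre := D.pre0 b c hF (m0 := m0) hm0
  have hconn := D.conn0 (m0 := m0) fun k hk => (hm0 k hk).1
  have hcard : 3 ≤ Nat.card (Option J) := by
    have := Fintype.ofFinite J
    rw [Nat.card_eq_fintype_card, Fintype.card_option, ← Nat.card_eq_fintype_card]
    omega
  have : Fact (Nat.Prime 2) := ⟨Nat.prime_two⟩
  obtain ⟨Q, n, h1, h2, h4, h5, h6, h7⟩ := exists_bn hpre hcard hconn (D.iSup_eq hne)
  refine ⟨Q, n none, h1, by rw [h2]; exact ⟨none, rfl⟩, ?_, h5, h6, h7, hJ⟩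
  intro s hs hs0
  rw [h2] at hs
  obtain ⟨x, rfl⟩ := hs
  rcases x with _ | k
  · exact absurd rfl hs0
  · exact (le_iSup P k) (h4 (some k)).1

end real

end Cfsg.Agent.Omega.HOne.EndBN

end

section


/-!
# The end of NODE LIE: the parabolic system of a product of commuting components

`H` finite, `K a` pairwise commuting subgroups with parabolic systems `KSys (S a) (actT a) (P a) (m a)`, `T` a group of odd
order normalising the `K a` and `S a`.  With `U = ⨆ S a`, `C = (⨆ N_{K a}(S a)) T`, `PPx ⟨a, k⟩ = (P a k) C` we prove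
`Pre 2 C U PPx mm`.
-/

set_option autoImplicit false
set_option linter.unusedSectionVars false

namespace Cfsg.Agent.Omega.Lie.End

open Subgroup Cfsg.Agent.ParSys

variable {H : Type*} [Group H]

/-- the group of automorphisms of `K` induced by `T ⊓ N(K)` -/
def actT (K T : Subgroup H) : Subgroup (MulAut K) :=
  (T.subgroupOf (normalizer (K : Set H))).map K.normalizerMonoidHom

theorem mem_actT {K T : Subgroup H} {τ : MulAut K} : τ ∈ actT K T ↔ ∃ (t : H) (ht : t ∈ normalizer (K : Set H)),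
    t ∈ T ∧ K.normalizerMonoidHom ⟨t, ht⟩ = τ := by
  unfold actT
  constructor
  · rintro ⟨t, ht, rfl⟩
    exact ⟨t, t.2, mem_subgroupOf.1 ht, rfl⟩
  · rintro ⟨t, ht, htT, rfl⟩
    exact ⟨⟨t, ht⟩, mem_subgroupOf.2 htT, rfl⟩

theorem coe_normHom {K : Subgroup H} {t : H} (ht : t ∈ normalizer (K : Set H)) (x : K) :
    ((K.normalizerMonoidHom ⟨t, ht⟩ x : K) : H) = t * x * t⁻¹ := rfl

/-! ### odd indices -/

/-- Every element of `C` has an odd power in `U`. -/
def OddPow (U C : Subgroup H) : Prop := ∀ x ∈ C, ∃ k : ℕ, Odd k ∧ x ^ k ∈ U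

theorem OddPow.coprime [Finite H] {U C : Subgroup H} (hn : C ≤ normalizer (U : Set H)) (h : OddPow U C) :
    Nat.Coprime 2 (U.relIndex C) := by
  have hn' : (U.subgroupOf C).Normal := Subgroup.normal_subgroupOf_of_le_normalizer hn
  rw [Nat.Prime.coprime_iff_not_dvd Nat.prime_two]
  intro hd
  have hfact : Fact (Nat.Prime 2) := ⟨Nat.prime_two⟩
  have hd' : 2 ∣ Nat.card (C ⧸ U.subgroupOf C) := by
    rw [← Subgroup.index_eq_card]; exact hd
  obtain ⟨z, hz⟩ := exists_prime_orderOf_dvd_card' (G := C ⧸ U.subgroupOf C) 2 hd'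
  obtain ⟨x, rfl⟩ := QuotientGroup.mk'_surjective (U.subgroupOf C) z
  obtain ⟨k, hk, hxk⟩ := h x x.2
  have h2 : (QuotientGroup.mk' (U.subgroupOf C) x) ^ k = 1 := by
    rw [← map_pow, QuotientGroup.mk'_apply, QuotientGroup.eq_one_iff, Subgroup.mem_subgroupOf]
    simpa using hxk
  have h3 := orderOf_dvd_of_pow_eq_one h2
  rw [hz] at h3
  rw [← Nat.not_even_iff_odd, even_iff_two_dvd] at hk
  exact hk h3

theorem OddPow.of_coprime {U C : Subgroup H} (hn : C ≤ normalizer (U : Set H)) (h : Odd (U.relIndex C)) :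
    OddPow U C := fun _ hx => ⟨_, h, Hall.pow_relIndex_mem hn hx⟩

/-- `B T`, `T` of odd order normalising `B` -/
theorem OddPow.sup_right {U B T : Subgroup H} (h : OddPow U B) (hT : T ≤ normalizer (B : Set H))
    (hodd : Odd (Nat.card T)) : OddPow U (B ⊔ T) := by
  intro x hx
  rw [sup_comm] at hx
  obtain ⟨b, hb, t, ht, rfl⟩ := Solvable.Glauberman.exists_mul_of_mem_sup T B hT hx
  have key : ∀ n : ℕ, ∃ b' ∈ B, (b * t) ^ n = b' * t ^ n := by
    intro n
    induction n with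
    | zero => exact ⟨1, one_mem _, by simp⟩
    | succ n ih =>
      obtain ⟨b', hb', e⟩ := ih
      refine ⟨b' * (t ^ n * b * (t ^ n)⁻¹), mul_mem hb' ?_, ?_⟩
      · exact (mem_normalizer_iff.mp (hT (pow_mem ht n)) b).mp hb
      · rw [pow_succ, e, pow_succ]; group
  obtain ⟨b', hb', e⟩ := key (Nat.card T)
  have h1 : t ^ Nat.card T = 1 := Hall.pow_card_of_mem ht
  rw [h1, mul_one] at e
  obtain ⟨k, hk, h2⟩ := h b' hb'
  exact ⟨Nat.card T * k, hodd.mul hk, by rw [pow_mul, e]; exact h2⟩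

/-! ### families of commuting subgroups -/

section fam

variable {α : Type*} {F F' : α → Subgroup H}

/-- the members of the family commute -/
def Cmf (F : α → Subgroup H) : Prop := ∀ a b, a ≠ b → ∀ x ∈ F a, ∀ y ∈ F b, x * y = y * x

theorem Cmf.mono (h : Cmf F) (hle : ∀ a, F' a ≤ F a) : Cmf F' := fun a b hab x hx y hy =>
  h a b hab x (hle a hx) y (hle b hy)

/-- the product of the other members -/
def oth (F : α → Subgroup H) (a : α) : Subgroup H := ⨆ b : {b : α // b ≠ a}, F b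

theorem oth_le {a : α} : oth F a ≤ ⨆ b, F b := iSup_le fun b => le_iSup F b.1

theorem Cmf.oth_comm (h : Cmf F) {a : α} {x z : H} (hx : x ∈ F a) (hz : z ∈ oth F a) : z * x = x * z := by
  have h1 : oth F a ≤ centralizer {x} := by
    refine iSup_le fun b y hy => ?_
    rw [mem_centralizer_singleton_iff]
    exact h b a b.2 y hy x hx
  exact mem_centralizer_singleton_iff.1 (h1 hz)

theorem iSup_eq (a : α) : (⨆ b, F b) = F a ⊔ oth F a := by
  apply le_antisymm
  · refine iSup_le fun b => ?_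
    by_cases hb : b = a
    · subst hb; exact le_sup_left
    · exact (le_iSup (fun b : {b : α // b ≠ a} => F b) ⟨b, hb⟩).trans le_sup_right
  · exact sup_le (le_iSup F a) oth_le

/-- `x = y z`, `y ∈ F a`, `z` in the product of the others -/
theorem Cmf.exists_mul (h : Cmf F) (a : α) {x : H} (hx : x ∈ ⨆ b, F b) : ∃ y ∈ F a, ∃ z ∈ oth F a, x = y * z := by
  rw [iSup_eq a, sup_comm] at hx
  refine Solvable.Glauberman.exists_mul_of_mem_sup (oth F a) (F a) (fun z hz => ?_) hx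
  rw [mem_normalizer_iff]
  intro y
  have key : ∀ w ∈ oth F a, ∀ y ∈ F a, w * y * w⁻¹ ∈ F a := fun w hw y hy => by
    rw [h.oth_comm hy hw, mul_inv_cancel_right]; exact hy
  refine ⟨key z hz y, fun hy => ?_⟩
  have := key z⁻¹ (inv_mem hz) _ hy
  have e : z⁻¹ * (z * y * z⁻¹) * z⁻¹⁻¹ = y := by group
  rwa [e] at this

/-- powers -/
theorem Cmf.pow_mem [Finite α] (h : Cmf F) (hle : ∀ a, F' a ≤ F a) {n : α → ℕ}
    (hn : ∀ a, ∀ x ∈ F a, x ^ n a ∈ F' a) {x : H} (hx : x ∈ ⨆ a, F a) :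
    x ^ (∏ᶠ a, n a) ∈ ⨆ a, F' a := by
  classical
  have := Fintype.ofFinite α
  have hc : Pairwise fun i j => ∀ x y : H, x ∈ F i → y ∈ F j → Commute x y :=
    fun i j hij x y hx hy => h i j hij x hx y hy
  have hc' : Pairwise fun i j => ∀ x y : H, x ∈ F' i → y ∈ F' j → Commute x y :=
    fun i j hij x y hx hy => h i j hij x (hle i hx) y (hle j hy)
  rw [← Subgroup.noncommPiCoprod_range (hcomm := hc)] at hx
  obtain ⟨f, rfl⟩ := hx
  rw [finprod_eq_prod_of_fintype]
  have hf : ∀ a, ((f a : F a) : H) ^ (∏ a, n a) ∈ F' a := by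
    intro a
    obtain ⟨k, hk⟩ : n a ∣ ∏ a, n a := Finset.dvd_prod_of_mem n (Finset.mem_univ a)
    rw [hk, pow_mul]
    exact _root_.pow_mem (hn a _ (f a).2) k
  rw [← map_pow, Subgroup.noncommPiCoprod_apply]
  refine Subgroup.noncommProd_mem _ _ fun a _ => ?_
  exact (le_iSup F' a) (by simpa using hf a)

theorem Cmf.isPGroup [Finite α] [Finite H] {p : ℕ} [hp : Fact p.Prime] (h : Cmf F) (h2 : ∀ a, IsPGroup p (F a)) :
    IsPGroup p (⨆ a, F a : Subgroup H) := by
  rintro ⟨x, hx⟩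
  have h1 := h.pow_mem (F' := fun _ => ⊥) (fun _ => bot_le) (n := fun a => Nat.card (F a))
    (fun a x hx => mem_bot.2 (Hall.pow_card_of_mem hx)) hx
  have h3 : ∃ n : ℕ, (∏ᶠ a, Nat.card (F a)) = p ^ n := by
    classical
    have := Fintype.ofFinite α
    rw [finprod_eq_prod_of_fintype]
    choose n hn using fun a => (IsPGroup.iff_card (p := p)).mp (h2 a)
    exact ⟨∑ a, n a, by rw [← Finset.prod_pow_eq_pow_sum]; exact Finset.prod_congr rfl fun a _ => hn a⟩
  obtain ⟨n, hn⟩ := h3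
  rw [hn, iSup_bot, mem_bot] at h1
  exact ⟨n, Subtype.ext (by simpa using h1)⟩

theorem Cmf.oddPow [Finite α] (h : Cmf F) (hle : ∀ a, F' a ≤ F a) (hn : ∀ a, F a ≤ normalizer (F' a : Set H))
    (hodd : ∀ a, Odd ((F' a).relIndex (F a))) : OddPow (⨆ a, F' a) (⨆ a, F a) := by
  intro x hx
  refine ⟨∏ᶠ a, (F' a).relIndex (F a), ?_, h.pow_mem hle (fun a x hx => Hall.pow_relIndex_mem (hn a) hx) hx⟩
  classical
  have := Fintype.ofFinite α
  rw [finprod_eq_prod_of_fintype]
  exact Finset.prod_induction _ Odd (fun _ _ h1 h2 => h1.mul h2) odd_one fun a _ => hodd a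

end fam

/-! ### the situation -/

/-- Commuting components with parabolic systems. -/
structure PSit {α : Type} (K : α → Subgroup H) (S : ∀ a, Subgroup (K a)) (T : Subgroup H) (J : α → Type)
    (P : ∀ a, J a → Subgroup (K a)) (m : ∀ a, J a → J a → ℕ) : Prop where
  comm : Cmf K
  oddT : Odd (Nat.card T)
  T_K : ∀ a, T ≤ normalizer (K a : Set H)
  T_S : ∀ a, ∀ t ∈ T, ∀ x ∈ S a, ∃ y ∈ S a, (y : H) = t * x * t⁻¹
  T_ne : ∀ a, ∃ τ ∈ actT (K a) T, τ ≠ 1
  sys : ∀ a, KSys (S a) (actT (K a) T) (P a) (m a)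

/-- three chambers -/
theorem three_of_relIndex {B P : Subgroup H} (h : 3 ≤ B.relIndex P) :
    ∃ x ∈ P, ∃ y ∈ P, x ∉ B ∧ y ∉ B ∧ x⁻¹ * y ∉ B := by
  classical
  have hc : 3 ≤ Nat.card (P ⧸ B.subgroupOf P) := by
    rw [← Subgroup.index_eq_card]; exact h
  have hfin : Finite (P ⧸ B.subgroupOf P) := Nat.finite_of_card_ne_zero (by omega)
  have := Fintype.ofFinite (P ⧸ B.subgroupOf P)
  rw [Nat.card_eq_fintype_card] at hc
  have key : ∀ s : Finset (P ⧸ B.subgroupOf P), s.card ≤ 2 → ∃ x, x ∉ s := by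
    intro s hs
    obtain ⟨x, -, hx⟩ := Finset.exists_mem_notMem_of_card_lt_card (s := s) (t := Finset.univ)
      (by rw [Finset.card_univ]; omega)
    exact ⟨x, hx⟩
  obtain ⟨x, hx⟩ := key {((1 : P) : P ⧸ B.subgroupOf P)} (by simp)
  obtain ⟨y, hy⟩ := key {((1 : P) : P ⧸ B.subgroupOf P), x} (Finset.card_le_two)
  induction x using QuotientGroup.induction_on with
  | H x =>
    induction y using QuotientGroup.induction_on with
    | H y =>
      rw [Finset.mem_singleton] at hx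
      rw [Finset.mem_insert, Finset.mem_singleton, not_or] at hy
      refine ⟨x, x.2, y, y.2, fun h1 => hx ?_, fun h1 => hy.1 ?_, fun h1 => hy.2 ?_⟩
      · symm
        rw [QuotientGroup.eq, mem_subgroupOf]
        simpa using h1
      · symm
        rw [QuotientGroup.eq, mem_subgroupOf]
        simpa using h1
      · symm
        rw [QuotientGroup.eq, mem_subgroupOf]
        simpa using h1

/-- `C = (⨆ N_{K a}(S a)) T` -/
def CC {α : Type} (K : α → Subgroup H) (S : ∀ a, Subgroup (K a)) (T : Subgroup H) : Subgroup H :=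
  (⨆ a, (normalizer (S a : Set (K a))).map (K a).subtype) ⊔ T

/-- `U = ⨆ S a` -/
def UE {α : Type} (K : α → Subgroup H) (S : ∀ a, Subgroup (K a)) : Subgroup H :=
  ⨆ a, (S a).map (K a).subtype

/-- the parabolic subgroups -/
def PPx {α : Type} (K : α → Subgroup H) (S : ∀ a, Subgroup (K a)) (T : Subgroup H) {J : α → Type}
    (P : ∀ a, J a → Subgroup (K a)) (x : Σ a, J a) : Subgroup H :=
  Mx (K x.1) (CC K S T) (P x.1 x.2)

open Classical in
/-- the Coxeter matrix -/
noncomputable def mm {α : Type} {J : α → Type} (m : ∀ a, J a → J a → ℕ) (x y : Σ a, J a) : ℕ :=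
  if h : y.1 = x.1 then m x.1 x.2 (h ▸ y.2) else 2

theorem mm_same {α : Type} {J : α → Type} (m : ∀ a, J a → J a → ℕ) (a : α) (k l : J a) :
    mm m ⟨a, k⟩ ⟨a, l⟩ = m a k l := by
  unfold mm
  rw [dif_pos rfl]

theorem mm_ne {α : Type} {J : α → Type} (m : ∀ a, J a → J a → ℕ) {a b : α} (h : a ≠ b) (k : J a) (l : J b) :
    mm m ⟨a, k⟩ ⟨b, l⟩ = 2 := by
  unfold mm
  rw [dif_neg (Ne.symm h)]

namespace PSit

variable {α : Type} {K : α → Subgroup H} {S : ∀ a, Subgroup (K a)} {T : Subgroup H} {J : α → Type}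
  {P : ∀ a, J a → Subgroup (K a)} {m : ∀ a, J a → J a → ℕ} (D : PSit K S T J P m)

include D

theorem T_S' (a : α) {t : H} (ht : t ∈ T) : t ∈ normalizer ((S a).map (K a).subtype : Set H) := by
  have key : ∀ t ∈ T, ∀ x ∈ (S a).map (K a).subtype, t * x * t⁻¹ ∈ (S a).map (K a).subtype := by
    rintro t ht _ ⟨x, hx, rfl⟩
    obtain ⟨y, hy, e⟩ := D.T_S a t ht x hx
    exact ⟨y, hy, e⟩
  rw [mem_normalizer_iff]
  intro x
  refine ⟨fun hx => key t ht x hx, fun hx => ?_⟩
  have := key t⁻¹ (inv_mem ht) _ hx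
  have e : t⁻¹ * (t * x * t⁻¹) * t⁻¹⁻¹ = x := by group
  rwa [e] at this

theorem S_fam : Cmf fun a => (S a).map (K a).subtype := D.comm.mono fun _ => map_subtype_le _

theorem B_fam : Cmf fun a => (normalizer (S a : Set (K a))).map (K a).subtype :=
  D.comm.mono fun _ => map_subtype_le _

omit D in
theorem B_norm_S (a : α) : (normalizer (S a : Set (K a))).map (K a).subtype ≤
    normalizer ((S a).map (K a).subtype : Set H) := by
  rintro _ ⟨b, hb, rfl⟩
  have key : ∀ b ∈ normalizer (S a : Set (K a)), ∀ x ∈ (S a).map (K a).subtype,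
      (b : H) * x * (b : H)⁻¹ ∈ (S a).map (K a).subtype := by
    rintro b hb _ ⟨x, hx, rfl⟩
    exact ⟨b * x * b⁻¹, (mem_normalizer_iff.mp hb x).mp hx, rfl⟩
  rw [coe_subtype, mem_normalizer_iff]
  intro x
  refine ⟨fun hx => key b hb x hx, fun hx => ?_⟩
  have := key b⁻¹ (inv_mem hb) _ hx
  rw [coe_inv] at this
  have e : (b : H)⁻¹ * ((b : H) * x * (b : H)⁻¹) * (b : H)⁻¹⁻¹ = x := by group
  rwa [e] at this

/-- elements of another component normalise every subgroup of `K a` -/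
theorem norm_of_ne {a b : α} (hab : a ≠ b) {L : Subgroup (K a)} {x : H} (hx : x ∈ K b) :
    x ∈ normalizer (L.map (K a).subtype : Set H) := by
  rw [mem_normalizer_iff]
  intro y
  have key : ∀ z ∈ L.map (K a).subtype, x * z * x⁻¹ = z := by
    rintro _ ⟨z, -, rfl⟩
    rw [coe_subtype, ← D.comm a b hab _ z.2 x hx, mul_inv_cancel_right]
  constructor
  · intro hy
    rw [key y hy]; exact hy
  · intro hy
    have h1 := key _ hy
    have e : x⁻¹ * (x * (x * y * x⁻¹) * x⁻¹) * x = x * y * x⁻¹ := by group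
    rw [h1] at e
    have e2 : x⁻¹ * (x * y * x⁻¹) * x = y := by group
    rw [e2] at e
    rw [e]; exact hy

/-- a subgroup of `K a` normalised by `N(S a)` and `T` is normalised by `C` -/
theorem cn_of {a : α} {L : Subgroup (K a)} (h1 : normalizer (S a : Set (K a)) ≤ normalizer (L : Set (K a)))
    (h2 : T ≤ normalizer (L.map (K a).subtype : Set H)) : Cn (K a) (CC K S T) L := by
  have h3 : CC K S T ≤ normalizer (L.map (K a).subtype : Set H) := by
    refine sup_le (iSup_le fun b => ?_) h2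
    by_cases hab : a = b
    · subst hab
      rintro _ ⟨x, hx, rfl⟩
      have key : ∀ b ∈ normalizer (S a : Set (K a)), ∀ y ∈ L.map (K a).subtype,
          (b : H) * y * (b : H)⁻¹ ∈ L.map (K a).subtype := by
        rintro b hb _ ⟨y, hy, rfl⟩
        exact ⟨b * y * b⁻¹, (mem_normalizer_iff.mp (h1 hb) y).mp hy, rfl⟩
      rw [coe_subtype, mem_normalizer_iff]
      intro y
      refine ⟨fun hy => key x hx y hy, fun hy => ?_⟩
      have := key x⁻¹ (inv_mem hx) _ hy
      rw [coe_inv] at this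
      have e : (x : H)⁻¹ * ((x : H) * y * (x : H)⁻¹) * (x : H)⁻¹⁻¹ = y := by group
      rwa [e] at this
    · rintro _ ⟨x, -, rfl⟩
      exact D.norm_of_ne hab x.2
  intro c hc x hx
  obtain ⟨y, hy, e⟩ := (mem_normalizer_iff.mp (h3 hc) (x : H)).mp ⟨x, hx, rfl⟩
  exact ⟨y, hy, e⟩

theorem C_norm_S (a : α) : Cn (K a) (CC K S T) (S a) := D.cn_of le_rfl fun _ ht => D.T_S' a ht

theorem C_norm_P (a : α) (k : J a) : Cn (K a) (CC K S T) (P a k) := by
  refine D.cn_of (((D.sys a).le k).trans le_normalizer) fun t ht => ?_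
  have key : ∀ t ∈ T, ∀ x ∈ (P a k).map (K a).subtype, t * x * t⁻¹ ∈ (P a k).map (K a).subtype := by
    rintro t ht _ ⟨x, hx, rfl⟩
    have h1 := (D.sys a).T_P k _ (mem_actT.2 ⟨t, D.T_K a ht, ht, rfl⟩) x hx
    exact ⟨_, h1, rfl⟩
  rw [mem_normalizer_iff]
  intro x
  refine ⟨fun hx => key t ht x hx, fun hx => ?_⟩
  have := key t⁻¹ (inv_mem ht) _ hx
  have e : t⁻¹ * (t * x * t⁻¹) * t⁻¹⁻¹ = x := by group
  rwa [e] at this

theorem T_norm_B : T ≤ normalizer ((⨆ a, (normalizer (S a : Set (K a))).map (K a).subtype : Subgroup H) : Set H) := by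
  have key : ∀ t ∈ T, ∀ x ∈ (⨆ a, (normalizer (S a : Set (K a))).map (K a).subtype : Subgroup H),
      t * x * t⁻¹ ∈ (⨆ a, (normalizer (S a : Set (K a))).map (K a).subtype : Subgroup H) := by
    intro t ht x hx
    have h1 : (⨆ a, (normalizer (S a : Set (K a))).map (K a).subtype : Subgroup H) ≤
        (⨆ a, (normalizer (S a : Set (K a))).map (K a).subtype : Subgroup H).comap (MulAut.conj t).toMonoidHom := by
      refine iSup_le fun a => ?_
      rintro _ ⟨b, hb, rfl⟩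
      rw [mem_comap]
      refine (le_iSup (fun a => (normalizer (S a : Set (K a))).map (K a).subtype) a) ?_
      have hbK : t * (b : H) * t⁻¹ ∈ K a := (mem_normalizer_iff.mp (D.T_K a ht) _).mp b.2
      refine ⟨⟨_, hbK⟩, ?_, rfl⟩
      have hS : ∀ t ∈ T, ∀ x : K a, x ∈ S a → ∀ h : t * (x : H) * t⁻¹ ∈ K a, (⟨t * x * t⁻¹, h⟩ : K a) ∈ S a := by
        intro t ht x hx h
        obtain ⟨y, hy, e⟩ := D.T_S a t ht x hx
        have : (⟨t * x * t⁻¹, h⟩ : K a) = y := Subtype.ext e.symm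
        rw [this]; exact hy
      have hb2 : ∀ b : K a, b ∈ normalizer (S a : Set (K a)) → ∀ h : t * (b : H) * t⁻¹ ∈ K a, ∀ x ∈ S a,
          (⟨t * b * t⁻¹, h⟩ : K a) * x * (⟨t * b * t⁻¹, h⟩ : K a)⁻¹ ∈ S a := by
        intro b hb h x hx
        obtain ⟨y, hy, e⟩ := D.T_S a t⁻¹ (inv_mem ht) x hx
        have h2 := (mem_normalizer_iff.mp hb y).mp hy
        obtain ⟨z, hz, e2⟩ := D.T_S a t ht _ h2
        have : (⟨t * b * t⁻¹, h⟩ : K a) * x * (⟨t * b * t⁻¹, h⟩ : K a)⁻¹ = z := by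
          apply Subtype.ext
          rw [e2]
          simp only [coe_mul, coe_inv]
          rw [e]; group
        rw [this]; exact hz
      rw [SetLike.mem_coe, mem_normalizer_iff]
      intro x
      refine ⟨fun hx => hb2 b hb hbK x hx, fun hx => ?_⟩
      have hbK' : t * ((b⁻¹ : K a) : H) * t⁻¹ ∈ K a := (mem_normalizer_iff.mp (D.T_K a ht) _).mp (b⁻¹).2
      have h3 := hb2 b⁻¹ (inv_mem hb) hbK' _ hx
      have e : (⟨t * ((b⁻¹ : K a) : H) * t⁻¹, hbK'⟩ : K a) *
          ((⟨t * (b : H) * t⁻¹, hbK⟩ : K a) * x * (⟨t * (b : H) * t⁻¹, hbK⟩ : K a)⁻¹) *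
          (⟨t * ((b⁻¹ : K a) : H) * t⁻¹, hbK'⟩ : K a)⁻¹ = x := by
        apply Subtype.ext
        simp only [coe_mul, coe_inv]
        group
      rwa [e] at h3
    exact h1 hx
  intro t ht
  rw [mem_normalizer_iff]
  intro x
  refine ⟨fun hx => key t ht x hx, fun hx => ?_⟩
  have := key t⁻¹ (inv_mem ht) _ hx
  have e : t⁻¹ * (t * x * t⁻¹) * t⁻¹⁻¹ = x := by group
  rwa [e] at this

theorem U_le : UE K S ≤ CC K S T :=
  (iSup_mono fun _ => Subgroup.map_mono le_normalizer).trans le_sup_left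

/-- `C` normalises `U` -/
theorem C_norm_U : CC K S T ≤ normalizer (UE K S : Set H) := by
  have key : ∀ c ∈ CC K S T, ∀ x ∈ UE K S, c * x * c⁻¹ ∈ UE K S := by
    intro c hc x hx
    have h1 : UE K S ≤ (UE K S).comap (MulAut.conj c).toMonoidHom := by
      refine iSup_le fun a => ?_
      rintro _ ⟨b, hb, rfl⟩
      rw [mem_comap]
      obtain ⟨y, hy, e⟩ := D.C_norm_S a c hc b hb
      exact (le_iSup (fun a => (S a).map (K a).subtype) a) ⟨y, hy, e⟩
    exact h1 hx
  intro t ht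
  rw [mem_normalizer_iff]
  intro x
  refine ⟨fun hx => key t ht x hx, fun hx => ?_⟩
  have := key t⁻¹ (inv_mem ht) _ hx
  have e : t⁻¹ * (t * x * t⁻¹) * t⁻¹⁻¹ = x := by group
  rwa [e] at this

theorem isP [Finite α] [Finite H] : IsPGroup 2 (UE K S) := by
  have : Fact (Nat.Prime 2) := ⟨Nat.prime_two⟩
  exact D.S_fam.isPGroup fun a => ((D.sys a).isP).map _

omit D in
theorem relIndex_map {a : α} {L L' : Subgroup (K a)} : (L.map (K a).subtype).relIndex (L'.map (K a).subtype) =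
    L.relIndex L' := by
  rw [Subgroup.relIndex_map_map_of_injective _ _ (K a).subtype_injective]

theorem oddPow [Finite α] : OddPow (UE K S) (CC K S T) := by
  refine OddPow.sup_right ?_ D.T_norm_B D.oddT
  refine D.B_fam.oddPow (fun _ => Subgroup.map_mono le_normalizer) (fun a => B_norm_S a) fun a => ?_
  rw [relIndex_map]
  exact (D.sys a).odd

theorem index [Finite α] [Finite H] : Nat.Coprime 2 ((UE K S).relIndex (CC K S T)) := D.oddPow.coprime D.C_norm_U

/-- **`Enl`** -/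
theorem enl (a : α) : Enl (K a) (CC K S T) (UE K S) (normalizer (S a : Set (K a))) (S a) where
  B_le := fun x hx => mem_sup_left ((le_iSup (fun a => (normalizer (S a : Set (K a))).map (K a).subtype) a)
    ⟨x, hx, rfl⟩)
  of_C := by
    intro x hx
    have key : ∀ z : K a, (z : H) ∈ CC K S T → ∀ y ∈ S a, z * y * z⁻¹ ∈ S a := by
      intro z hz y hy
      obtain ⟨w, hw, e⟩ := D.C_norm_S a z hz y hy
      have : z * y * z⁻¹ = w := Subtype.ext (by rw [e, coe_mul, coe_mul, coe_inv])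
      rw [this]; exact hw
    rw [mem_normalizer_iff]
    intro y
    refine ⟨fun hy => key x hx y hy, fun hy => ?_⟩
    have := key x⁻¹ (by rw [coe_inv]; exact inv_mem hx) _ hy
    have e : x⁻¹ * (x * y * x⁻¹) * x⁻¹⁻¹ = y := by group
    rwa [e] at this
  S_le := fun x hx => (le_iSup (fun a => (S a).map (K a).subtype) a) ⟨x, hx, rfl⟩
  S_B := le_normalizer
  U_le := D.U_le
  dec := by
    intro u hu
    obtain ⟨_, ⟨s, hs, rfl⟩, z, hz, e⟩ := D.S_fam.exists_mul a hu
    refine ⟨s, hs, z, oth_le hz, fun x => ?_, e⟩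
    have h1 : oth (fun a => (S a).map (K a).subtype) a ≤ centralizer (K a : Set H) := by
      refine iSup_le fun b => ?_
      rintro _ ⟨y, -, rfl⟩
      rw [mem_centralizer_iff]
      intro w hw
      exact D.comm a b b.2.symm w hw y y.2
    exact (mem_centralizer_iff.1 (h1 hz) x x.2).symm

theorem PPx_le (x : Σ a, J a) : CC K S T ≤ PPx K S T P x := C_le_Mx

theorem mem_PPx_iff {a : α} {k : J a} {x : K a} : (x : H) ∈ PPx K S T P ⟨a, k⟩ ↔ x ∈ P a k :=
  (D.enl a).mem_Mx_iff (D.C_norm_P a k) ((D.sys a).le k)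

/-! ### the action of `T` on the panels -/

/-- the commutator of `t ∈ T` with `s z` -/
theorem T_comm_iff {a : α} {L : Subgroup (K a)} (hn : Cn (K a) (CC K S T) L) (hB : normalizer (S a : Set (K a)) ≤ L)
    {t : H} (ht : t ∈ T) {s : K a} (hs : s ∈ S a) {z : H} (hz : z ∈ UE K S) (hzc : ∀ x : K a, z * x = x * z) :
    t * (s * z) * t⁻¹ * (s * z)⁻¹ ∈ Qk (CC K S T) (Mx (K a) (CC K S T) L) ↔
      s⁻¹ * (K a).normalizerMonoidHom ⟨t, D.T_K a ht⟩ s ∈ Qk (normalizer (S a : Set (K a))) L := by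
  set s' := (K a).normalizerMonoidHom ⟨t, D.T_K a ht⟩ s with hs'
  have hs1 : (s' : H) = t * s * t⁻¹ := rfl
  have htC : t ∈ CC K S T := mem_sup_right ht
  have hw : t * z * t⁻¹ * z⁻¹ ∈ UE K S :=
    mul_mem ((mem_normalizer_iff.mp (D.C_norm_U htC) z).mp hz) (inv_mem hz)
  have hwc : ∀ x : K a, t * z * t⁻¹ * z⁻¹ * x = x * (t * z * t⁻¹ * z⁻¹) := by
    intro x
    have h1 : z⁻¹ * (x : H) = x * z⁻¹ := by
      rw [inv_mul_eq_iff_eq_mul, ← mul_assoc, hzc, mul_assoc, mul_inv_cancel, mul_one]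
    have h2 : t * z * t⁻¹ * (x : H) = x * (t * z * t⁻¹) := by
      have hx : t⁻¹ * (x : H) * t ∈ K a := by
        have := (mem_normalizer_iff.mp (D.T_K a (inv_mem ht)) (x : H)).mp x.2
        rwa [inv_inv] at this
      have h3 := hzc ⟨_, hx⟩
      have h4 : z * (t⁻¹ * (x : H) * t) = (t⁻¹ * x * t) * z := h3
      calc t * z * t⁻¹ * (x : H) = t * (z * (t⁻¹ * x * t)) * t⁻¹ := by group
        _ = x * (t * z * t⁻¹) := by rw [h4]; group
    calc t * z * t⁻¹ * z⁻¹ * (x : H) = t * z * t⁻¹ * (z⁻¹ * x) := by group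
      _ = (t * z * t⁻¹ * x) * z⁻¹ := by rw [h1]; group
      _ = x * (t * z * t⁻¹ * z⁻¹) := by rw [h2]; group
  have e : t * (s * z) * t⁻¹ * ((s : H) * z)⁻¹ = ((s' * s⁻¹ : K a) : H) * (t * z * t⁻¹ * z⁻¹) := by
    have h3 := hwc s⁻¹
    rw [coe_inv] at h3
    calc t * (s * z) * t⁻¹ * ((s : H) * z)⁻¹ = (t * s * t⁻¹) * (t * z * t⁻¹ * z⁻¹ * (s : H)⁻¹) := by group
      _ = ((s' * s⁻¹ : K a) : H) * (t * z * t⁻¹ * z⁻¹) := by rw [h3, coe_mul, coe_inv, hs1]; group
  rw [e, (D.enl a).mul_mem_Qk_iff hn (D.U_le hw) hwc]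
  have hsL : s ∈ L := hB (le_normalizer hs)
  constructor
  · intro h
    have := Qk_conj h hsL
    have e2 : s⁻¹ * (s' * s⁻¹) * s = s⁻¹ * s' := by group
    rwa [e2] at this
  · intro h
    have := Qk_conj' h hsL
    have e2 : s * (s⁻¹ * s') * s⁻¹ = s' * s⁻¹ := by group
    rwa [e2] at this

theorem unmoved {a : α} {k : J a} (h : Unmoved (S a) (actT (K a) T) (P a k)) {t : H} (ht : t ∈ T) {u : H}
    (hu : u ∈ UE K S) : t * u * t⁻¹ * u⁻¹ ∈ Qk (CC K S T) (PPx K S T P ⟨a, k⟩) := by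
  obtain ⟨s, hs, z, hz, hzc, rfl⟩ := (D.enl a).dec u hu
  exact (D.T_comm_iff (D.C_norm_P a k) ((D.sys a).le k) ht hs hz hzc).2
    (h _ (mem_actT.2 ⟨t, D.T_K a ht, ht, rfl⟩) s hs)

theorem moved {a : α} {k : J a} (h : Moved (S a) (actT (K a) T) (P a k)) {t : H} (ht : t ∈ T)
    (hne : (K a).normalizerMonoidHom ⟨t, D.T_K a ht⟩ ≠ 1) {u : H} (hu : u ∈ UE K S)
    (h1 : t * u * t⁻¹ * u⁻¹ ∈ Qk (CC K S T) (PPx K S T P ⟨a, k⟩)) : u ∈ Qk (CC K S T) (PPx K S T P ⟨a, k⟩) := by
  obtain ⟨s, hs, z, hz, hzc, rfl⟩ := (D.enl a).dec u hu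
  have h2 := (D.T_comm_iff (D.C_norm_P a k) ((D.sys a).le k) ht hs hz hzc).1 h1
  exact ((D.enl a).mul_mem_Qk_iff (D.C_norm_P a k) (D.U_le hz) hzc).2
    (h _ (mem_actT.2 ⟨t, D.T_K a ht, ht, rfl⟩) hne s hs h2)

theorem T_pow {t : H} (ht : t ∈ T) : ∃ k : ℕ, Nat.Coprime 2 k ∧ t ^ k = 1 :=
  ⟨Nat.card T, Nat.coprime_two_left.2 D.oddT, Hall.pow_card_of_mem ht⟩

theorem sep_T {a : α} {k l : J a} (h : Unmoved (S a) (actT (K a) T) (P a k))
    (h' : Moved (S a) (actT (K a) T) (P a l)) :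
    SepG 2 (CC K S T) (UE K S) (PPx K S T P ⟨a, k⟩) (PPx K S T P ⟨a, l⟩) := by
  obtain ⟨τ, hτ, hne⟩ := D.T_ne a
  obtain ⟨t, htN, ht, rfl⟩ := mem_actT.1 hτ
  exact ⟨t, mem_sup_right ht, D.T_pow ht, fun u hu => D.unmoved h ht hu, fun u hu h1 => D.moved h' ht hne hu h1⟩

/-! ### pairs of panels in different components -/

section two

variable {a b : α} (hab : a ≠ b) (k : J a) (l : J b)

include hab

theorem pair : Pair (CC K S T) (PPx K S T P ⟨a, k⟩) (PPx K S T P ⟨b, l⟩) ((P a k).map (K a).subtype)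
    ((P b l).map (K b).subtype) where
  left := C_le_Mx
  right := C_le_Mx
  L_le := le_sup_left
  M_le := le_sup_left
  eqP := by
    intro x hx
    obtain ⟨p, hp, c, hc, e⟩ := (D.C_norm_P a k).mem_Mx.1 hx
    exact ⟨p, ⟨p, hp, rfl⟩, c, hc, e⟩
  eqQ := by
    intro x hx
    obtain ⟨p, hp, c, hc, e⟩ := (D.C_norm_P b l).mem_Mx.1 hx
    exact ⟨p, ⟨p, hp, rfl⟩, c, hc, e⟩
  normL := (D.C_norm_P a k).le_normalizer
  normM := (D.C_norm_P b l).le_normalizer
  comm := by
    rintro _ ⟨x, -, rfl⟩ _ ⟨y, -, rfl⟩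
    have h := D.comm a b hab x x.2 y y.2
    have e : (x : H)⁻¹ * (y : H)⁻¹ * x * y = 1 := by
      calc (x : H)⁻¹ * (y : H)⁻¹ * x * y = (x : H)⁻¹ * (y : H)⁻¹ * (x * y) := by group
        _ = 1 := by rw [h]; group
    rw [coe_subtype, coe_subtype, e]
    exact one_mem _

theorem inf_le : ∀ x ∈ PPx K S T P ⟨a, k⟩, x ∈ PPx K S T P ⟨b, l⟩ → x ∈ CC K S T := by
  intro x hx hx'
  obtain ⟨p, hp, c, hc, rfl⟩ := (D.C_norm_P a k).mem_Mx.1 hx
  obtain ⟨q, hq, d, hd, e⟩ := (D.C_norm_P b l).mem_Mx.1 hx'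
  refine mul_mem ((D.enl a).B_le p ?_) hc
  -- `q⁻¹ p ∈ C` normalises `S a`
  have h1 : (q : H)⁻¹ * p ∈ CC K S T := by
    have h2 : (q : H)⁻¹ * p = d * c⁻¹ := by
      rw [inv_mul_eq_iff_eq_mul, ← mul_assoc, ← e, mul_inv_cancel_right]
    rw [h2]
    exact mul_mem hd (inv_mem hc)
  have hqc : ∀ x : K a, (q : H) * x = x * q := fun x => (D.comm a b hab x x.2 q q.2).symm
  have hqi : ∀ x : K a, (q : H)⁻¹ * x = x * (q : H)⁻¹ := fun x => by
    rw [inv_mul_eq_iff_eq_mul, ← mul_assoc, hqc, mul_assoc, mul_inv_cancel, mul_one]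
  have key : ∀ y ∈ S a, p * y * p⁻¹ ∈ S a := by
    intro y hy
    obtain ⟨w, hw, e2⟩ := D.C_norm_S a _ h1 y hy
    have : p * y * p⁻¹ = w := by
      apply Subtype.ext
      rw [e2, coe_mul, coe_mul, coe_inv]
      have h3 := hqi (p * y * p⁻¹)
      rw [coe_mul, coe_mul, coe_inv] at h3
      calc (p : H) * y * (p : H)⁻¹ = ((p : H) * y * (p : H)⁻¹ * (q : H)⁻¹) * q := by group
        _ = (q : H)⁻¹ * ((p : H) * y * (p : H)⁻¹) * q := by rw [← h3]
        _ = (q : H)⁻¹ * p * y * ((q : H)⁻¹ * p)⁻¹ := by group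
    rw [this]; exact hw
  have key' : ∀ y ∈ S a, p⁻¹ * y * p ∈ S a := by
    intro y hy
    obtain ⟨w, hw, e2⟩ := D.C_norm_S a _ (inv_mem h1) y hy
    have : p⁻¹ * y * p = w := by
      apply Subtype.ext
      rw [e2, coe_mul, coe_mul, coe_inv]
      have h3 := hqc y
      calc (p : H)⁻¹ * y * (p : H) = (p : H)⁻¹ * (y * q) * (q : H)⁻¹ * p := by group
        _ = (p : H)⁻¹ * (q * y) * (q : H)⁻¹ * p := by rw [← h3]
        _ = ((q : H)⁻¹ * p)⁻¹ * y * ((q : H)⁻¹ * p)⁻¹⁻¹ := by group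
    rw [this]; exact hw
  rw [mem_normalizer_iff]
  intro y
  refine ⟨fun hy => key y hy, fun hy => ?_⟩
  have := key' _ hy
  have e : p⁻¹ * (p * y * p⁻¹) * p = y := by group
  rwa [e] at this

theorem digon : Digon (CC K S T) (PPx K S T P ⟨a, k⟩) (PPx K S T P ⟨b, l⟩) :=
  (D.pair hab k l).digon (D.inf_le hab k l)

/-- an element of `U ⊓ K b` acts trivially on the panels of `K a` -/
theorem mem_Qk_of {x : K b} (hx : (x : H) ∈ CC K S T) : (x : H) ∈ Qk (CC K S T) (PPx K S T P ⟨a, k⟩) :=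
  (D.enl a).cen_mem_Qk (D.C_norm_P a k) hx fun y => (D.comm a b hab y y.2 x x.2).symm

theorem both : ∀ u ∈ UE K S, ∀ v ∈ UE K S, ∃ w ∈ UE K S, u⁻¹ * w ∈ Qk (CC K S T) (PPx K S T P ⟨a, k⟩) ∧
    v⁻¹ * w ∈ Qk (CC K S T) (PPx K S T P ⟨b, l⟩) := by
  intro u hu v hv
  obtain ⟨s, hs, z, hz, hzc, rfl⟩ := (D.enl a).dec u hu
  obtain ⟨r, hr, y, hy, hyc, rfl⟩ := (D.enl b).dec v hv
  have hsU := (D.enl a).S_le s hs
  have hrU := (D.enl b).S_le r hr
  refine ⟨s * r, mul_mem hsU hrU, ?_, ?_⟩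
  · have e : ((s : H) * z)⁻¹ * (s * r) = z⁻¹ * r := by group
    rw [e]
    exact mul_mem (inv_mem ((D.enl a).cen_mem_Qk (D.C_norm_P a k) (D.U_le hz) hzc))
      (D.mem_Qk_of hab k (D.U_le hrU))
  · have h1 : (s : H) * r = r * s := D.comm a b hab s s.2 r r.2
    have e : ((r : H) * y)⁻¹ * (s * r) = y⁻¹ * s := by rw [h1]; group
    rw [e]
    exact mul_mem (inv_mem ((D.enl b).cen_mem_Qk (D.C_norm_P b l) (D.U_le hy) hyc))
      (D.mem_Qk_of hab.symm l (D.U_le hsU))

theorem sep_ne : SepG 2 (CC K S T) (UE K S) (PPx K S T P ⟨a, k⟩) (PPx K S T P ⟨b, l⟩) := by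
  obtain ⟨c, hc, ⟨n, hn, hcn⟩, h1⟩ := (D.sys b).fpf l
  refine ⟨c, (D.enl b).B_le c hc, ⟨n, hn, Enl.pow_coe hcn⟩, fun u hu => ?_, (D.enl b).fpfE (D.C_norm_P b l) h1⟩
  obtain ⟨r, hr, y, hy, hyc, rfl⟩ := (D.enl b).dec u hu
  rw [(D.enl b).comm_eq c r hyc]
  refine D.mem_Qk_of hab k ((D.enl b).B_le _ ?_)
  exact mul_mem (mul_mem (mul_mem hc (le_normalizer hr)) (inv_mem hc)) (inv_mem (le_normalizer hr))

end two

theorem three (x : Σ a, J a) : ∃ y ∈ PPx K S T P x, ∃ z ∈ PPx K S T P x, y ∉ CC K S T ∧ z ∉ CC K S T ∧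
    y⁻¹ * z ∉ CC K S T :=
  (D.enl x.1).three (three_of_relIndex (le_trans (by norm_num) ((D.sys x.1).five x.2)))

theorem ptr (x : Σ a, J a) : Hall.HallData.PTr (CC K S T) (UE K S) (PPx K S T P x) :=
  (D.enl x.1).ptr (D.C_norm_P x.1 x.2) ((D.sys x.1).ptr x.2)

/-- **The parabolic system of the product.** -/
theorem pre [Finite α] [Finite H] : Pre 2 (CC K S T) (UE K S) (PPx K S T P) (mm m) where
  U_le := D.U_le
  norm := D.C_norm_U
  isP := D.isP
  index := D.index
  le := fun _ => C_le_Mx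
  three := D.three
  ptr := D.ptr
  reg := fun x => (D.enl x.1).reg (D.C_norm_P x.1 x.2) ((D.sys x.1).reg x.2)
  fpf := fun x => (D.enl x.1).fpf (D.C_norm_P x.1 x.2) ((D.sys x.1).fpf x.2)
  m_two := by
    rintro ⟨a, k⟩ ⟨b, l⟩ hne
    by_cases hab : a = b
    · subst hab
      rw [mm_same]
      exact (D.sys a).m_two k l fun h => hne (by rw [h])
    · rw [mm_ne _ hab]
  m_symm := by
    rintro ⟨a, k⟩ ⟨b, l⟩
    by_cases hab : a = b
    · subst hab
      rw [mm_same, mm_same]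
      exact (D.sys a).m_symm k l
    · rw [mm_ne _ hab, mm_ne _ (Ne.symm hab)]
  poly := by
    rintro ⟨a, k⟩ ⟨b, l⟩ hne
    by_cases hab : a = b
    · subst hab
      rw [mm_same]
      have h := (D.sys a).poly k l fun h => hne (by rw [h])
      exact (polygon_reindex (fun k : J a => (⟨a, k⟩ : Σ a, J a))).2
        ((D.enl a).poly (D.C_norm_P a) (D.sys a).le h)
    · rw [mm_ne _ hab]
      have h3 : ∀ x : Σ a, J a, ∃ y ∈ PPx K S T P x, y ∉ CC K S T := fun x => by
        obtain ⟨y, hy, _, _, h1, _⟩ := D.three x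
        exact ⟨y, hy, h1⟩
      exact (D.digon hab k l).polygon D.U_le (D.ptr _) (D.ptr _) (D.both hab k l) (h3 _) (h3 _)
  sep := by
    rintro ⟨a, k⟩ ⟨b, l⟩ hne
    by_cases hab : a = b
    · subst hab
      have hkl : k ≠ l := fun h => hne (by rw [h])
      rcases (D.sys a).dich k with hk | hk
      · rcases (D.sys a).dich l with hl | hl
        · exact ((D.sys a).sep k l hkl (Or.inl ⟨hk, hl⟩)).imp
            (fun h => (D.enl a).sep (D.C_norm_P a k) (D.C_norm_P a l) h)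
            (fun h => (D.enl a).sep (D.C_norm_P a l) (D.C_norm_P a k) h)
        · exact Or.inl (D.sep_T hk hl)
      · rcases (D.sys a).dich l with hl | hl
        · exact Or.inr (D.sep_T hl hk)
        · exact ((D.sys a).sep k l hkl (Or.inr ⟨hk, hl⟩)).imp
            (fun h => (D.enl a).sep (D.C_norm_P a k) (D.C_norm_P a l) h)
            (fun h => (D.enl a).sep (D.C_norm_P a l) (D.C_norm_P a k) h)
    · exact Or.inl (D.sep_ne hab k l)
  frat := by
    rintro ⟨a, k⟩ ⟨b, l⟩ hne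
    by_cases hab : a = b
    · subst hab
      have hkl : k ≠ l := fun h => hne (by rw [h])
      exact (D.enl a).frat (D.C_norm_P a k) (D.C_norm_P a l) ((D.sys a).frat k l hkl)
    · intro X _ h
      exact (D.digon hab k l).frat h

end PSit

end Cfsg.Agent.Omega.Lie.End

end
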