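import Cfsg.Agent.Mrg.Omega.Lie.End.Zero
import Cfsg.Agent.Mrg.Omega.BTwo.ModG
import Cfsg.Agent.Mrg.ParSys.Fam.Rgd
import Cfsg.Agent.KFacts.RgdSL
import Cfsg.Agent.Mrg.Omega.Lie.End.KSys
import Cfsg.Agent.Nodes.HasRGD
import Cfsg.Agent.KFacts.RgdCharP
import Cfsg.Agent.Nodes.ZFam
import Cfsg.Agent.KFacts.RgdFilt
import Mathlib
import Cfsg.Agent.OddHalf.NI.Mult.Torus
import Cfsg.Agent.Nodes.RGDLift
import Cfsg.Agent.KFacts.RgdRigid

section


/-!
# NODE LIE, the END: elements of a moved node which act nontrivially on `V / R i`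

`P` a moved node (`P ⊄ N(V)`), not of type `(γ)`; then `P ∩ B ∩ C(R i)` has an element which acts nontrivially on
`V / R i` (`exists_scal_node`): `h = g⁻¹ t g t⁻¹`, `t` a torus element of prime order, `g ∈ P ∖ B` with `t ∈ N(V ^ g)`.
Hence `SepG 2 B U P' P₀` for every node `P'` centralised by `P ∩ C(R i)` (`sepG_node`).
-/

set_option autoImplicit false
set_option linter.unusedSectionVars false

namespace Cfsg.Agent.Omega.Lie.Zero

open Subgroup Cfsg.Agent.Omega.BTwo Cfsg.Agent.ParSys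

universe u v w

/-! ### Fixed chambers -/

section fixed

variable {G : Type u} [Group G] {B U P : Subgroup G}

/-- `B` is maximal in `P` -/
theorem le_of_ptr (hUB : U ≤ B) (hptr : Hall.HallData.PTr B U P) {X : Subgroup G} (hBX : B ≤ X) (hXP : X ≤ P)
    (h : ¬ P ≤ X) : X ≤ B := by
  intro x hx
  by_contra hxB
  apply h
  intro y hy
  by_cases hyB : y ∈ B
  · exact hBX hyB
  · obtain ⟨u, hu, z, hz, rfl⟩ := hptr x (hXP hx) hxB y hy hyB
    exact mul_mem (mul_mem (hBX (hUB hu)) hx) (hBX hz)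

/-- **an element of odd prime order of `B` fixes a chamber `≠ B` of the panel** -/
theorem exists_fixed_chamber [Finite G] (hBP : B ≤ P) (hUB : U ≤ B) (hU : IsPGroup 2 U)
    (hptr : Hall.HallData.PTr B U P) (hne : ∃ x ∈ P, x ∉ B) {t : G} (ht : t ∈ B) {r : ℕ} (hr : r.Prime) (hr2 : r ≠ 2)
    (htr : t ^ r = 1) : ∃ x ∈ P, x ∉ B ∧ x⁻¹ * t * x ∈ B := by
  have : Fact r.Prime := ⟨hr⟩
  obtain ⟨x₀, hx₀, hx₀B⟩ := hne
  set c₀ : G ⧸ B := (x₀ : G ⧸ B) with hc₀
  have hmem : ∀ c : G ⧸ B, c ∈ MulAction.orbit U c₀ ↔ ∃ y ∈ P, y ∉ B ∧ c = (y : G ⧸ B) := by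
    intro c
    constructor
    · rintro ⟨u, rfl⟩
      refine ⟨(u : G) * x₀, mul_mem (hBP (hUB u.2)) hx₀, fun h => hx₀B ?_, rfl⟩
      have := mul_mem (inv_mem (hUB u.2)) h
      rwa [inv_mul_cancel_left] at this
    · rintro ⟨y, hy, hyB, rfl⟩
      obtain ⟨u, hu, b, hb, rfl⟩ := hptr x₀ hx₀ hx₀B y hy hyB
      refine ⟨⟨u, hu⟩, ?_⟩
      change ((u * x₀ : G) : G ⧸ B) = ((u * x₀ * b : G) : G ⧸ B)
      rw [QuotientGroup.eq]
      have e : (u * x₀)⁻¹ * (u * x₀ * b) = b := by group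
      rw [e]
      exact hb
  let O : SubMulAction (zpowers t) (G ⧸ B) :=
    { carrier := MulAction.orbit U c₀
      smul_mem' := by
        rintro ⟨k, hk⟩ c hc
        obtain ⟨y, hy, hyB, rfl⟩ := (hmem c).1 hc
        have hkB : k ∈ B := (zpowers_le.2 ht) hk
        refine (hmem _).2 ⟨k * y, mul_mem (hBP hkB) hy, fun h => hyB ?_, rfl⟩
        have := mul_mem (inv_mem hkB) h
        rwa [inv_mul_cancel_left] at this }
  have hK : IsPGroup r (zpowers t) := by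
    rintro ⟨x, hx⟩
    obtain ⟨k, rfl⟩ := mem_zpowers_iff.1 hx
    refine ⟨1, Subtype.ext ?_⟩
    change (t ^ k) ^ r ^ 1 = 1
    rw [pow_one, ← zpow_natCast, ← zpow_mul, mul_comm, zpow_mul, zpow_natCast, htr, one_zpow]
  have hcard : ¬ r ∣ Nat.card O := by
    intro h
    have h1 : Nat.card O = (MulAction.stabilizer U c₀).index := by
      rw [MulAction.index_stabilizer]
      exact Nat.card_coe_set_eq _
    obtain ⟨n, hn⟩ := IsPGroup.iff_card.1 hU
    have h2 : r ∣ 2 ^ n := by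
      rw [← hn]
      rw [h1] at h
      exact h.trans (Subgroup.index_dvd_card _)
    exact hr2 ((Nat.prime_dvd_prime_iff_eq hr Nat.prime_two).1 (hr.dvd_of_dvd_pow h2))
  obtain ⟨⟨c, hc⟩, hfix⟩ := hK.nonempty_fixed_point_of_prime_not_dvd_card O hcard
  obtain ⟨y, hy, hyB, rfl⟩ := (hmem c).1 hc
  refine ⟨y, hy, hyB, ?_⟩
  have h1 := hfix ⟨t, mem_zpowers t⟩
  have h2 : ((t * y : G) : G ⧸ B) = (y : G ⧸ B) := congrArg Subtype.val h1
  rw [eq_comm, QuotientGroup.eq] at h2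
  rwa [mul_assoc]

end fixed

variable {G : Type u} [Group G] {ι : Type w} {V : Subgroup G} {R : ι → Subgroup G} {i j : ι} {F : Type v} [Field F]
  {v : F → F → G} {w1 w2 : F → G} {t : F → G} {B U P : Subgroup G}

theorem t_pow (τ : TorD V R i j v t) {a : F} (ha : a ≠ 0) (n : ℕ) : t a ^ n = t (a ^ n) := by
  induction n with
  | zero => rw [pow_zero, pow_zero, τ.one]
  | succ n ih => rw [pow_succ, pow_succ, ih, τ.mul _ _ (pow_ne_zero n ha) ha]

/-- an element of prime order of `Fˣ` -/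
theorem exists_prime_unit [Finite F] [CharP F 2] (hF : ∃ a : F, a ≠ 0 ∧ a ≠ 1) :
    ∃ a : F, a ≠ 0 ∧ a ≠ 1 ∧ ∃ r : ℕ, r.Prime ∧ r ≠ 2 ∧ a ^ r = 1 := by
  have : Fintype F := Fintype.ofFinite F
  obtain ⟨a, ha, ha1⟩ := hF
  have hc : Nat.card Fˣ ≠ 1 := by
    intro h
    have h1 : Subsingleton Fˣ := (Nat.card_eq_one_iff_unique.1 h).1
    exact ha1 (congrArg Units.val (Subsingleton.elim (Units.mk0 a ha) 1))
  obtain ⟨r, hr, hd⟩ := Nat.exists_prime_and_dvd hc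
  have : Fact r.Prime := ⟨hr⟩
  obtain ⟨x, hx⟩ := exists_prime_orderOf_dvd_card' r hd
  have hxr : (x : F) ^ r = 1 := by
    have h1 := pow_orderOf_eq_one x
    rw [hx] at h1
    have := congrArg Units.val h1
    simpa using this
  have hx1 : (x : F) ≠ 1 := by
    intro h
    have h1 : x = 1 := Units.ext h
    rw [h1, orderOf_one] at hx
    exact hr.one_lt.ne hx
  refine ⟨x, x.ne_zero, hx1, r, hr, ?_, hxr⟩
  rintro rfl
  have h1 : ((x : F) - 1) ^ 2 = 0 := by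
    have h2 : (2 : F) = 0 := CharTwo.two_eq_zero
    linear_combination hxr - ((x : F) - 1) * h2
  exact hx1 (sub_eq_zero.1 (pow_eq_zero_iff (two_ne_zero) |>.1 h1))

/-! ### Lines on `R i` -/

section lines

variable [CharP F 2] {M B' N : Type u} [AddCommGroup M] [AddCommGroup B'] [DistribMulAction (NR R i) M]
  [DistribMulAction (NR R i) B'] [Module F M] {p : G → M} {r : G → B'} {f : M →+ M →+ B'}
  {φ : M →ₗ[F] M →ₗ[F] F} {s : NR R i → (F ≃+* F)} {h : FMod V R i j v w1 w2 M B' p r f φ s}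
  {τ : TorD V R i j v t} [AddCommGroup N] [Module F N] {P1 P2 : G → N} {y : YPair V R i j w1 w2 N P1 P2}
  {n : N →ₗ[F] M} {sf : N →ₗ[F] N →ₗ[F] M} {q : N → N →ₗ[F] F}

/-- the eigenvalue `a⁻¹` on `e^⊥` is only on `e` -/
theorem eig_inv (E : Eig h τ y n sf q) {x : M} (hx : φ x (p (v 0 1)) = 0) {a : Fˣ} (ha : (a : F) ≠ 1)
    (hT : tT τ a • x = (a : F)⁻¹ • x) : ∃ γ : F, x = γ • p (v 0 1) := by
  obtain ⟨γ, d, hd, g, rfl⟩ := (E.mem_U x).1 hx
  rw [smul_add, smul_add, h.T_smul_e τ, hd a, (E.n_mem g) a, smul_add, smul_add, smul_smul] at hT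
  have h1 : (0 : F) • p (v 0 1) + (1 - (a : F)⁻¹) • d + n (((a : F) - (a : F)⁻¹) • g) = 0 := by
    rw [map_smul, sub_smul, sub_smul, one_smul, zero_smul, zero_add]
    have h2 : (γ * (a : F)⁻¹) • p (v 0 1) + d + (a : F) • n g -
        ((a : F)⁻¹ * γ) • p (v 0 1) - (a : F)⁻¹ • d - (a : F)⁻¹ • n g = 0 := by
      rw [hT]; abel
    rw [mul_comm] at h2
    rw [← h2]
    abel
  obtain ⟨-, h2, h3⟩ := E.indep 0 _ _ ((h.M0 τ).smul_mem _ hd) h1
  have h4 : (1 : F) - (a : F)⁻¹ ≠ 0 := by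
    intro h5
    apply ha
    have := sub_eq_zero.1 h5
    rw [← inv_inv (a : F), ← this, inv_one]
  have h5 : d = 0 := (smul_eq_zero.1 h2).resolve_left h4
  have h6 : g = 0 := (smul_eq_zero.1 h3).resolve_left (h.sub_inv_ne a.ne_zero ha)
  exact ⟨γ, by rw [h5, h6, map_zero, add_zero, add_zero]⟩

end lines

/-- **the element `h = g⁻¹ t g t⁻¹`** for a line `V ^ g` on `R i`, normalised by `t = t a`, commuting with `V` -/
theorem scal_of_line [Finite G] [Finite F] [CharP F 2] (b : BTC V R) (c : Coord V R i j v w1 w2)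
    (τ : TorD V R i j v t) (hC : centralizer (WW V (R i) : Set G) ≤ R i) {a : F} (ha : a ≠ 0) (ha1 : a ≠ 1)
    {g : G} (hg : g ∈ centralizer (R i : Set G)) (hV : ¬ cj g V ≤ V)
    (hc : ∀ x ∈ V, ∀ y ∈ V, g * x * g⁻¹ * y = y * (g * x * g⁻¹)) (hT : t a ∈ normalizer (cj g V : Set G)) :
    g⁻¹ * t a * g * (t a)⁻¹ ∈ normalizer (V : Set G) ∧
      (∀ x ∈ R i, g⁻¹ * t a * g * (t a)⁻¹ * x = x * (g⁻¹ * t a * g * (t a)⁻¹)) ∧
      ∃ p₀ s₀ : F, (g⁻¹ * t a * g * (t a)⁻¹) * v 0 1 * (g⁻¹ * t a * g * (t a)⁻¹)⁻¹ = v p₀ s₀ ∧ s₀ ≠ 1 := by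
  have hF : ∃ a : F, a ≠ 0 ∧ a ≠ 1 := ⟨a, ha, ha1⟩
  obtain ⟨M, B', _, _, _, _, _, p, r, f, φ, s, h⟩ := b.exists_fMod c hF hC
  obtain ⟨N, _, _, P1, P2, y⟩ := c.exists_yPair b.toBT
  obtain ⟨n, sf, q, E⟩ := h.exists_eig τ y
  have htV : t a ∈ normalizer (V : Set G) := b.X_le_NV (τ.memX a ha)
  have hgN : g ∈ normalizer (R i : Set G) := by
    have := Subgroup.centralizer_le_normalizer (R i : Set G)
    exact this hg
  -- the element `h` is in `N(V)`
  have h1 : g⁻¹ * t a * g * (t a)⁻¹ ∈ normalizer (V : Set G) := by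
    rw [← cj_eq_self_iff]
    have e1 : cj (t a)⁻¹ V = V := cj_eq_self_iff.2 (inv_mem htV)
    have e2 : cj (t a) (cj g V) = cj g V := cj_eq_self_iff.2 hT
    rw [cj_mul, e1, mul_assoc, cj_mul, cj_mul, e2, cj_inv_cj]
  have h2 : ∀ x ∈ R i, g⁻¹ * t a * g * (t a)⁻¹ * x = x * (g⁻¹ * t a * g * (t a)⁻¹) := by
    intro x hx
    have k1 : (t a)⁻¹ * x * t a ∈ R i := BTwo.conj_inv_mem_of_normalizer (τ.normR ha) hx
    have k2 : g * ((t a)⁻¹ * x * t a) = ((t a)⁻¹ * x * t a) * g := (mem_centralizer_iff.1 hg _ k1).symm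
    have k3 : g⁻¹ * x = x * g⁻¹ := (mem_centralizer_iff.1 (inv_mem hg) _ hx).symm
    calc g⁻¹ * t a * g * (t a)⁻¹ * x = g⁻¹ * t a * (g * ((t a)⁻¹ * x * t a)) * (t a)⁻¹ := by group
      _ = g⁻¹ * t a * (((t a)⁻¹ * x * t a) * g) * (t a)⁻¹ := by rw [k2]
      _ = (g⁻¹ * x) * (t a * g * (t a)⁻¹) := by group
      _ = x * g⁻¹ * (t a * g * (t a)⁻¹) := by rw [k3]
      _ = x * (g⁻¹ * t a * g * (t a)⁻¹) := by group
  refine ⟨h1, h2, ?_⟩
  obtain ⟨p₀, s₀, hps⟩ := (c.mem_V _).1 (BTwo.conj_mem_of_normalizer h1 (c.v_mem 0 1))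
  refine ⟨p₀, s₀, hps.symm, ?_⟩
  rintro rfl
  -- the module
  set a' : Fˣ := Units.mk0 a ha with ha'
  set g' : NR R i := ⟨g, hgN⟩ with hg'
  have hvW : ∀ b c, v b c ∈ WW V (R i) := fun b c' => V_le_WW V (R i) (c.v_mem b c')
  have hgW : ∀ b c, g * v b c * g⁻¹ ∈ WW V (R i) := fun b c' =>
    BTwo.conj_mem_of_normalizer (normalizer_le_WW V (R i) hgN) (hvW b c')
  have e0 : ∀ b c, g' • p (v b c) = p (g * v b c * g⁻¹) := fun b c' => h.fr.p_act g' _ (hvW b c')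
  have hperp : φ (p (g * v 0 1 * g⁻¹)) (p (v 0 1)) = 0 := by
    have k1 := h.comm_eq (hgW 0 1) (hvW 0 1)
    have k2 := hc _ (c.v_mem 0 1) _ (c.v_mem 0 1)
    have k3 : g * v 0 1 * g⁻¹ * v 0 1 * (g * v 0 1 * g⁻¹)⁻¹ * (v 0 1)⁻¹ = 1 := by
      rw [k2, mul_inv_cancel_right, mul_inv_cancel]
    rw [k3] at k1
    have k4 : v (φ (p (g * v 0 1 * g⁻¹)) (p (v 0 1))) 0 = v 0 0 := by
      rw [← k1]
      have := c.v_add 0 0 0 0
      rw [add_zero] at this
      exact (left_eq_mul.1 this).symm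
    exact (c.v_inj k4).1
  -- `t (g v) t⁻¹ = g (h (t v t⁻¹) h⁻¹) g⁻¹`
  have hact : tT τ a' • p (g * v 0 1 * g⁻¹) = (a : F)⁻¹ • p (g * v 0 1 * g⁻¹) := by
    have k1 : tT τ a' • p (g * v 0 1 * g⁻¹) = p (t a * (g * v 0 1 * g⁻¹) * (t a)⁻¹) :=
      h.fr.p_act (tT τ a') _ (hgW 0 1)
    have k2 : t a * (g * v 0 a * g⁻¹) * (t a)⁻¹ = g * v p₀ 1 * g⁻¹ := by
      have k3 : t a * v 0 a * (t a)⁻¹ = v 0 1 := by rw [τ.act a 0 a ha, mul_zero, inv_mul_cancel₀ ha]
      have k3' : (t a)⁻¹ * v 0 1 * t a = v 0 a := by rw [← k3]; group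
      calc t a * (g * v 0 a * g⁻¹) * (t a)⁻¹ = t a * (g * ((t a)⁻¹ * v 0 1 * t a) * g⁻¹) * (t a)⁻¹ := by rw [k3']
        _ = g * (g⁻¹ * t a * g * (t a)⁻¹ * v 0 1 * (g⁻¹ * t a * g * (t a)⁻¹)⁻¹) * g⁻¹ := by group
        _ = g * v p₀ 1 * g⁻¹ := by rw [← hps]
    have k4 : a • (tT τ a' • p (g * v 0 1 * g⁻¹)) = p (g * v p₀ 1 * g⁻¹) := by
      have k5 : p (g * v 0 a * g⁻¹) = a • p (g * v 0 1 * g⁻¹) := by
        rw [← e0, ← e0, h.p_v, h.lin_cen (g := g') hg]
      rw [← h.T_lin τ, ← k5, h.fr.p_act (tT τ a') _ (hgW 0 a)]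
      change p (t a * (g * v 0 a * g⁻¹) * (t a)⁻¹) = _
      rw [k2]
    have k6 : p (g * v p₀ 1 * g⁻¹) = p (g * v 0 1 * g⁻¹) := by
      rw [← e0, ← e0, h.p_v, one_smul]
    rw [k6] at k4
    calc tT τ a' • p (g * v 0 1 * g⁻¹) = (a : F)⁻¹ • (a • (tT τ a' • p (g * v 0 1 * g⁻¹))) := by
          rw [smul_smul (a : F)⁻¹, inv_mul_cancel₀ ha, one_smul]
      _ = (a : F)⁻¹ • p (g * v 0 1 * g⁻¹) := by rw [k4]
  obtain ⟨γ, hγ⟩ := eig_inv E hperp (a := a') ha1 hact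
  apply hV
  rintro _ ⟨x, hx, rfl⟩
  obtain ⟨β, δ, rfl⟩ := (c.mem_V x).1 hx
  change g * v β δ * g⁻¹ ∈ V
  rw [← h.fr.p_mem_iff (hgW β δ) (b.R_le i), ← e0, h.p_v, h.lin_cen (g := g') hg, e0, hγ, smul_smul]
  exact h.mem_V.2 ⟨_, rfl⟩

/-- the conclusion of `scal_of_line` for all lines `V ^ g` on `R i` normalised by `t a`, commuting with `V` -/
def LineHyp (V : Subgroup G) (R : ι → Subgroup G) (i : ι) (v : F → F → G) (t : F → G) : Prop :=
  ∀ a : F, a ≠ 0 → a ≠ 1 → ∀ g ∈ centralizer (R i : Set G), ¬ cj g V ≤ V →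
    (∀ x ∈ V, ∀ y ∈ V, g * x * g⁻¹ * y = y * (g * x * g⁻¹)) → t a ∈ normalizer (cj g V : Set G) →
    g⁻¹ * t a * g * (t a)⁻¹ ∈ normalizer (V : Set G) ∧
      (∀ x ∈ R i, g⁻¹ * t a * g * (t a)⁻¹ * x = x * (g⁻¹ * t a * g * (t a)⁻¹)) ∧
      ∃ p₀ s₀ : F, (g⁻¹ * t a * g * (t a)⁻¹) * v 0 1 * (g⁻¹ * t a * g * (t a)⁻¹)⁻¹ = v p₀ s₀ ∧ s₀ ≠ 1

theorem lineHyp_of_btc [Finite G] [Finite F] [CharP F 2] (b : BTC V R) (c : Coord V R i j v w1 w2)
    (τ : TorD V R i j v t) (hC : centralizer (WW V (R i) : Set G) ≤ R i) : LineHyp V R i v t :=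
  fun _ ha ha1 _ hg hV hc hT => scal_of_line b c τ hC ha ha1 hg hV hc hT

/-- **A moved node, not of type `(γ)`, has an element acting nontrivially on `V / R i`** (`BT`).
`L ≤ P ∩ C(R i)` normalised by `B` with `P = L B`. -/
theorem exists_scal_node' [Finite G] [Finite F] [CharP F 2] (b : BT V R)
    (τ : TorD V R i j v t) (hF : ∃ a : F, a ≠ 0 ∧ a ≠ 1) (hl : LineHyp V R i v t)
    (D : Dat V R i B U) (hBP : B ≤ P) (hU : IsPGroup 2 U) (hptr : Hall.HallData.PTr B U P)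
    (hmov : ¬ P ≤ normalizer (V : Set G))
    (hgam : ∀ p ∈ P, ∀ x ∈ V, ∀ y ∈ V, p * x * p⁻¹ * y = y * (p * x * p⁻¹))
    {L : Subgroup G} (hLP : L ≤ P) (hLR : L ≤ centralizer (R i : Set G)) (hBL : B ≤ normalizer (L : Set G))
    (hPL : P ≤ L ⊔ B) :
    ∃ h ∈ L, h ∈ B ∧ (∀ x ∈ R i, h * x = x * h) ∧ ∃ p₀ s₀ : F, h * v 0 1 * h⁻¹ = v p₀ s₀ ∧ s₀ ≠ 1 := by
  obtain ⟨a, ha, ha1, r, hr, hr2, har⟩ := exists_prime_unit hF
  have htB : t a ∈ B := t_mem_B b D τ ha
  have htr : t a ^ r = 1 := by rw [t_pow τ ha, har, τ.one]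
  have hne : ∃ x ∈ P, x ∉ B := by
    by_contra hcon
    push Not at hcon
    exact hmov fun x hx => D.BV (hcon x hx)
  obtain ⟨x, hx, hxB, hxt⟩ := exists_fixed_chamber hBP D.UB hU hptr hne htB hr hr2 htr
  -- `x = g z`
  have hx' : x ∈ ((L ⊔ B : Subgroup G) : Set G) := hPL hx
  rw [coe_mul_of_right_le_normalizer_left _ _ hBL] at hx'
  obtain ⟨g, hgL, z, hz, e⟩ := hx'
  have hgB : g ∉ B := fun h => hxB (by rw [← e]; exact mul_mem h hz)
  have hPN : P ⊓ normalizer (V : Set G) ≤ B :=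
    le_of_ptr D.UB hptr (le_inf hBP D.BV) inf_le_left fun h => hmov (h.trans inf_le_right)
  have htg : g⁻¹ * t a * g ∈ B := by
    have h1 := mul_mem (mul_mem hz hxt) (inv_mem hz)
    have e2 : z * (x⁻¹ * t a * x) * z⁻¹ = g⁻¹ * t a * g := by rw [← e]; group
    rwa [e2] at h1
  have hgV : ¬ cj g V ≤ V := by
    intro h
    have h1 : cj g V = V := by
      apply SetLike.coe_injective
      apply Set.eq_of_subset_of_ncard_le h
      · rw [← Nat.card_coe_set_eq, ← Nat.card_coe_set_eq]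
        exact (Nat.card_congr (equivMapOfInjective V _ (MulEquiv.injective (MulAut.conj g))).toEquiv).le
    exact hgB (hPN (mem_inf.2 ⟨hLP hgL, cj_eq_self_iff.1 h1⟩))
  have hT : t a ∈ normalizer (cj g V : Set G) := by
    rw [← mem_norm_iff]
    exact D.BV htg
  obtain ⟨h1, h2, h3⟩ := hl a ha ha1 g (hLR hgL) hgV (hgam g (hLP hgL)) hT
  have hhL : g⁻¹ * t a * g * (t a)⁻¹ ∈ L := by
    have e3 : g⁻¹ * t a * g * (t a)⁻¹ = g⁻¹ * (t a * g * (t a)⁻¹) := by group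
    rw [e3]
    exact mul_mem (inv_mem hgL) (BTwo.conj_mem_of_normalizer (hBL htB) hgL)
  exact ⟨_, hhL, hPN (mem_inf.2 ⟨hLP hhL, h1⟩), h2, h3⟩

/-- **A moved node, not of type `(γ)`, has an element acting nontrivially on `V / R i`.**
`L ≤ P ∩ C(R i)` normalised by `B` with `P = L B`. -/
theorem exists_scal_node [Finite G] [Finite F] [CharP F 2] (b : BTC V R) (c : Coord V R i j v w1 w2)
    (τ : TorD V R i j v t) (hF : ∃ a : F, a ≠ 0 ∧ a ≠ 1) (hC : centralizer (WW V (R i) : Set G) ≤ R i)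
    (D : Dat V R i B U) (hBP : B ≤ P) (hU : IsPGroup 2 U) (hptr : Hall.HallData.PTr B U P)
    (hmov : ¬ P ≤ normalizer (V : Set G))
    (hgam : ∀ p ∈ P, ∀ x ∈ V, ∀ y ∈ V, p * x * p⁻¹ * y = y * (p * x * p⁻¹))
    {L : Subgroup G} (hLP : L ≤ P) (hLR : L ≤ centralizer (R i : Set G)) (hBL : B ≤ normalizer (L : Set G))
    (hPL : P ≤ L ⊔ B) :
    ∃ h ∈ L, h ∈ B ∧ (∀ x ∈ R i, h * x = x * h) ∧ ∃ p₀ s₀ : F, h * v 0 1 * h⁻¹ = v p₀ s₀ ∧ s₀ ≠ 1 :=
  exists_scal_node' b.toBT τ hF (lineHyp_of_btc b c τ hC) D hBP hU hptr hmov hgam hLP hLR hBL hPL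

/-- **`SepG` for a node `P'` on which `L ∩ B` acts trivially** (`BT`). -/
theorem sepG_node' [Finite G] [Finite F] [CharP F 2] (b : BT V R) (c : Coord V R i j v w1 w2)
    (τ : TorD V R i j v t) (hF : ∃ a : F, a ≠ 0 ∧ a ≠ 1) (hl : LineHyp V R i v t)
    (D : Dat V R i B U) (hBP : B ≤ P) (hU : IsPGroup 2 U) (norm : B ≤ normalizer (U : Set G))
    (index : Nat.Coprime 2 (U.relIndex B)) (hptr : Hall.HallData.PTr B U P)
    (hmov : ¬ P ≤ normalizer (V : Set G))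
    (hgam : ∀ p ∈ P, ∀ x ∈ V, ∀ y ∈ V, p * x * p⁻¹ * y = y * (p * x * p⁻¹))
    {L : Subgroup G} (hLP : L ≤ P) (hLR : L ≤ centralizer (R i : Set G)) (hBL : B ≤ normalizer (L : Set G))
    (hPL : P ≤ L ⊔ B) {P' : Subgroup G} (hBP' : B ≤ P') (hL' : L ⊓ B ≤ Qk B P') : SepG 2 B U P' (P0 V R B) := by
  obtain ⟨h, hL, hB, hR, p₀, s₀, hv, hs⟩ :=
    exists_scal_node' b τ hF hl D hBP hU hptr hmov hgam hLP hLR hBL hPL
  have hodd : Odd (U.relIndex B) := (Nat.coprime_two_left).1 index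
  refine sepG_scal b D c hU hBP' hB hR hv hs hodd (Hall.pow_relIndex_mem norm hB) ?_
  intro u hu
  have h1 := hL' (mem_inf.2 ⟨hL, hB⟩)
  have e : h * u * h⁻¹ * u⁻¹ = h * (u * h⁻¹ * u⁻¹) := by group
  rw [e]
  exact mul_mem h1 (Qk_conj' (inv_mem h1) (hBP' (D.UB hu)))

/-- **`SepG` for a node `P'` on which `L ∩ B` acts trivially.** -/
theorem sepG_node [Finite G] [Finite F] [CharP F 2] (b : BTC V R) (c : Coord V R i j v w1 w2)
    (τ : TorD V R i j v t) (hF : ∃ a : F, a ≠ 0 ∧ a ≠ 1) (hC : centralizer (WW V (R i) : Set G) ≤ R i)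
    (D : Dat V R i B U) (hBP : B ≤ P) (hU : IsPGroup 2 U) (norm : B ≤ normalizer (U : Set G))
    (index : Nat.Coprime 2 (U.relIndex B)) (hptr : Hall.HallData.PTr B U P)
    (hmov : ¬ P ≤ normalizer (V : Set G))
    (hgam : ∀ p ∈ P, ∀ x ∈ V, ∀ y ∈ V, p * x * p⁻¹ * y = y * (p * x * p⁻¹))
    {L : Subgroup G} (hLP : L ≤ P) (hLR : L ≤ centralizer (R i : Set G)) (hBL : B ≤ normalizer (L : Set G))
    (hPL : P ≤ L ⊔ B) {P' : Subgroup G} (hBP' : B ≤ P') (hL' : L ⊓ B ≤ Qk B P') : SepG 2 B U P' (P0 V R B) :=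
  sepG_node' b.toBT c τ hF (lineHyp_of_btc b c τ hC) D hBP hU norm index hptr hmov hgam hLP hLR hBL hPL hBP' hL'

end Cfsg.Agent.Omega.Lie.Zero

end

section


/-!
# Torus elements over a root group datum of characteristic 2 (END of NODE LIE, (k5), (k6))

`R : RGD cs h 2 T n X`, `T` abelian, the nodes of type `TrNode` (the elements of the rank one torus inverted by `n i` are
transitive on `X_i \ 1`, `|X_i| ≥ 4`, `X_i` of exponent 2).

* `exists_fpf` : (k5);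
* `nd` : `k`, `j` adjacent, not of type `G₂` : the rank one torus of `k` does not centralise `X_j`;
* `exists_sep` : (k6) in rank at least three.
-/

set_option autoImplicit false
set_option linter.unusedSectionVars false

namespace Cfsg.Agent.Omega.Lie.End.KTorus

open CoxeterSystem Cfsg.Agent.ChevalleyStructure.CoxeterGeom Cfsg.Agent.Tits.Roots Cfsg.Agent.Tits.Core
  Cfsg.Agent.Tits.RootComb Cfsg.Agent.Nodes.Comb Cfsg.Agent.Nodes.Reps Cfsg.Agent.Nodes.BNOf Cfsg.Agent.Nodes.BNOf.RGD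
  Cfsg.Agent.Nodes.FreeTorus
open scoped commutatorElement

variable {I W Y : Type*} [Fintype I] [DecidableEq I] [Group W] [Group Y] {M : CoxeterMatrix I}

/-- The elements of the rank one torus of the node `i` which are inverted by `n i`. -/
def TI (T : Subgroup Y) (n : I → Y) (X : (I → ℤ) → Subgroup Y) (i : I) : Set Y :=
  {t | t ∈ T ∧ t ∈ LL X (sr i) ∧ n i * t * (n i)⁻¹ = t⁻¹}

/-- `t` centralises `X_i`. -/
def Ct (X : (I → ℤ) → Subgroup Y) (t : Y) (i : I) : Prop := ∀ x ∈ X (sr i), t * x * t⁻¹ = x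

/-- A node over a field with at least four elements (coordinate free). -/
structure TrNode (T : Subgroup Y) (n : I → Y) (X : (I → ℤ) → Subgroup Y) (i : I) : Prop where
  two : ∃ x ∈ X (sr i), ∃ y ∈ X (sr i), x ≠ 1 ∧ y ≠ 1 ∧ x ≠ y
  sq : ∀ x ∈ X (sr i), x * x = 1
  tr : ∀ x ∈ X (sr i), ∀ y ∈ X (sr i), x ≠ 1 → y ≠ 1 → ∃ t ∈ TI T n X i, t * x * t⁻¹ = y

/-! ### Elementary facts -/

section Elem

variable {T : Subgroup Y} {n : I → Y} {X : (I → ℤ) → Subgroup Y}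

theorem TI.inv_conj {i : I} {t : Y} (ht : t ∈ TI T n X i) : (n i)⁻¹ * t * n i = t⁻¹ := by
  have h1 := ht.2.2
  have h2 : t = (n i)⁻¹ * t⁻¹ * n i := by
    rw [← h1]; group
  have h3 : (n i)⁻¹ * t * n i = ((n i)⁻¹ * t⁻¹ * n i)⁻¹ := by group
  rw [h3, ← h2]

theorem Ct.inv {t : Y} {i : I} (ht : Ct X t i) : Ct X t⁻¹ i := by
  intro x hx
  have h2 : t * x = x * t := mul_inv_eq_iff_eq_mul.1 (ht x hx)
  rw [inv_inv, mul_assoc, ← h2, inv_mul_cancel_left]

theorem Ct.mul {s t : Y} {i : I} (hs : Ct X s i) (ht : Ct X t i) : Ct X (s * t) i := by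
  intro x hx
  have h1 : s * t * x * (s * t)⁻¹ = s * (t * x * t⁻¹) * s⁻¹ := by group
  rw [h1, ht x hx, hs x hx]

theorem Ct.comm {t : Y} {i : I} (ht : Ct X t i) {x : Y} (hx : x ∈ X (sr i)) : t * x = x * t := by
  have h1 := ht x hx
  rw [mul_inv_eq_iff_eq_mul] at h1
  exact h1

end Elem

variable {cs : CoxeterSystem M W} {A : I → I → ℤ} {h : IsCartan M A} {T : Subgroup Y} {n : I → Y}
  {X : (I → ℤ) → Subgroup Y} [Finite W]

section Node

variable (R : RGD cs h 2 T n X) (hTc : ∀ s ∈ T, ∀ t ∈ T, s * t = t * s)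

include R hTc

theorem conj_mem_X {t : Y} (ht : t ∈ T) {i : I} {x : Y} (hx : x ∈ X (sr i)) : t * x * t⁻¹ ∈ X (sr i) := by
  have h1 := R.tor _ (isRoot_sr cs h i) t ht
  rw [← h1]
  exact conj_mem_cj.2 hx

/-- An element of `T` which fixes a nontrivial element of `X_i` centralises `X_i`. -/
theorem ct_of_fix {i : I} (hN : TrNode T n X i) {t y : Y} (ht : t ∈ T) (hy : y ∈ X (sr i)) (hy1 : y ≠ 1)
    (e : t * y * t⁻¹ = y) : Ct X t i := by
  intro x hx
  by_cases hx1 : x = 1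
  · rw [hx1]; group
  obtain ⟨s, hs, rfl⟩ := hN.tr y hy x hx hy1 hx1
  have h1 := hTc t ht s hs.1
  have h2 : t * (s * y * s⁻¹) * t⁻¹ = (t * s) * y * (t * s)⁻¹ := by group
  have h3 : (s * t) * y * (s * t)⁻¹ = s * (t * y * t⁻¹) * s⁻¹ := by group
  rw [h2, h1, h3, e]

theorem fpf_or_ct {i : I} (hN : TrNode T n X i) {t : Y} (ht : t ∈ T) :
    Ct X t i ∨ ∀ x ∈ X (sr i), t * x * t⁻¹ = x → x = 1 := by
  by_cases hc : Ct X t i
  · exact Or.inl hc
  · refine Or.inr fun x hx e => ?_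
    by_contra hx1
    exact hc (ct_of_fix R hTc hN ht hx hx1 e)

/-- An element of `T` which centralises `X_i` commutes with `n i`. -/
theorem comm_n {i : I} {t : Y} (ht : t ∈ T) (hc : Ct X t i) : t * n i = n i * t := by
  obtain ⟨u, hu, hu1⟩ := ((X (-sr i)).bot_or_exists_ne_one).resolve_left (Nodes.Bruhat.X_ne_bot R (isRoot_sr cs h i).neg)
  obtain ⟨a, ha, s, hs, b, hb, e⟩ := R.rk1 i u hu hu1
  have hn : (n i)⁻¹ * t * n i ∈ T := by
    have h1 := R.nsys.norm i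
    rw [Subgroup.mem_normalizer_iff''] at h1
    exact (h1 t).1 ht
  set τ : Y := (n i)⁻¹ * (s⁻¹ * t * s) * n i * t⁻¹ with hτ
  have hst : s⁻¹ * t * s = t := by
    rw [mul_assoc, hTc t ht s hs]; group
  have hτT : τ ∈ T := by rw [hτ, hst]; exact mul_mem hn (inv_mem ht)
  have h1 : t * u * t⁻¹ ∈ X (-sr i) := by
    have h1 := R.tor _ (isRoot_sr cs h i).neg t ht
    rw [← h1]
    exact conj_mem_cj.2 hu
  have h2 : t * u * t⁻¹ = u * (b⁻¹ * τ * b) := by
    have e1 : t * a * t⁻¹ = a := hc a ha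
    have e2 : t * b * t⁻¹ = b := hc b hb
    have e3 : t * u * t⁻¹ = (t * a * t⁻¹) * (t * s * n i * t⁻¹) * (t * b * t⁻¹) := by rw [e]; group
    rw [e3, e1, e2, e, hτ]
    group
  have h3 : b⁻¹ * τ * b ∈ B cs h T X := by
    have hbB : b ∈ B cs h T X := X_le_B (isRoot_sr cs h i) (sr_nonneg i) hb
    exact mul_mem (mul_mem (inv_mem hbB) (T_le_B hτT)) hbB
  have h4 : b⁻¹ * τ * b = u⁻¹ * (t * u * t⁻¹) := by rw [h2]; group
  have h5 : b⁻¹ * τ * b = 1 := by
    refine ParSys.Fam.neg_inf_B R i _ ?_ h3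
    rw [h4]
    exact mul_mem (inv_mem hu) h1
  have h6 : τ = 1 := by
    have : τ = b * (b⁻¹ * τ * b) * b⁻¹ := by group
    rw [this, h5]; group
  rw [hτ, hst] at h6
  have h7 : (n i)⁻¹ * t * n i = t := mul_inv_eq_one.1 h6
  calc t * n i = n i * ((n i)⁻¹ * t * n i) := by group
    _ = n i * t := by rw [h7]

/-- Every element of `T` acts on `X_i` as an element of the rank one torus. -/
theorem exists_same {i : I} (hN : TrNode T n X i) {t : Y} (ht : t ∈ T) : ∃ s ∈ TI T n X i, Ct X (t * s⁻¹) i := by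
  obtain ⟨x, hx, -, -, hx1, -, -⟩ := hN.two
  have h1 : t * x * t⁻¹ ≠ 1 := by
    intro h0
    apply hx1
    have : x = t⁻¹ * (t * x * t⁻¹) * t := by group
    rw [this, h0]; group
  obtain ⟨s, hs, e⟩ := hN.tr x hx _ (conj_mem_X R hTc ht hx) hx1 h1
  refine ⟨s, hs, ?_⟩
  have hsi : s⁻¹ ∈ T := inv_mem hs.1
  rw [hTc t ht _ hsi]
  refine ct_of_fix R hTc hN (mul_mem hsi ht) hx hx1 ?_
  have e1 : s⁻¹ * t * x * (s⁻¹ * t)⁻¹ = s⁻¹ * (t * x * t⁻¹) * s := by group
  rw [e1, ← e]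
  group

/-- **(k5)** -/
theorem exists_fpf {i : I} (hN : TrNode T n X i) : ∃ s ∈ TI T n X i, ∀ x ∈ X (sr i), s * x * s⁻¹ = x → x = 1 := by
  obtain ⟨x, hx, y, hy, hx1, hy1, hxy⟩ := hN.two
  obtain ⟨s, hs, e⟩ := hN.tr x hx y hy hx1 hy1
  refine ⟨s, hs, (fpf_or_ct R hTc hN hs.1).resolve_left fun hc => ?_⟩
  have := hc x hx
  rw [e] at this
  exact hxy this.symm

theorem ct_of_sq {i : I} {s : Y} (hs : s ∈ T) (hc : Ct X (s * s) i) : Ct X s i := by
  have h1 := R.tcop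
  have h2 : Odd (Nat.card T) := by
    exact Nat.coprime_two_right.1 h1
  obtain ⟨m, hm⟩ := h2
  have h3 : s ^ Nat.card T = 1 := by
    have h4 : (⟨s, hs⟩ : T) ^ Nat.card T = 1 := pow_card_eq_one'
    exact congrArg Subtype.val h4
  have hpow : ∀ q : ℕ, Ct X ((s * s) ^ q) i := by
    intro q
    induction q with
    | zero => intro x _; rw [pow_zero]; group
    | succ q ih => rw [pow_succ]; exact ih.mul hc
  have h4 : s = (s * s) ^ (m + 1) := by
    have h5 : s ^ (2 * m + 2) = s := by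
      rw [pow_succ, ← hm, h3, one_mul]
    rw [← pow_two, ← pow_mul]
    have : 2 * (m + 1) = 2 * m + 2 := by ring
    rw [this, h5]
  rw [h4]
  exact hpow _

end Node

/-! ### Roots -/

section Roots

variable (cs h)

theorem rep_sr_sr (i j : I) : rep cs h (cs.simple i) (sr j) = sr j - A i j • sr i := by
  rw [rep_simple_eq]
  congr 2
  show pairing A i (Pi.single j 1) = _
  rw [pairing_single, mul_one]

/-- The positive roots supported on `{i, j}`. -/
theorem mem_of_supp {i j : I} (S : Set (I → ℤ)) (hi : sr i ∈ S) (hj : sr j ∈ S) (h0 : ∀ x ∈ S, 0 ≤ x)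
    (hS : ∀ x ∈ S, ∀ m, (m = i ∨ m = j) → rep cs h (cs.simple m) x ∈ S ∨ -rep cs h (cs.simple m) x ∈ S) (N : ℕ) :
    ∀ x : I → ℤ, IsRoot cs h x → Supp i j x → 0 ≤ x → ht x ≤ N → x ∈ S := by
  have : Fintype W := Fintype.ofFinite W
  induction N with
  | zero =>
    intro x hx _ h0 hn
    exfalso
    apply hx.ne_zero
    have h1 : ∑ k, x k = 0 := le_antisymm hn (Finset.sum_nonneg fun k _ => h0 k)
    funext k
    exact (Finset.sum_eq_zero_iff_of_nonneg (fun k _ => h0 k)).1 h1 k (Finset.mem_univ k)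
  | succ N ih =>
    intro x hx hs hx0 hn
    obtain ⟨m, hm, hm'⟩ := exists_pairing_pos cs h hx0 hx.ne_zero
    have hmij : m = i ∨ m = j := by
      by_contra hcon
      rw [not_or] at hcon
      rw [hs m hcon.1 hcon.2] at hm
      exact lt_irrefl _ hm
    by_cases hxm : x = sr m
    · rcases hmij with rfl | rfl
      · rw [hxm]; exact hi
      · rw [hxm]; exact hj
    have hmem : cs.simple m ∈ WJ cs {i, j} := Subgroup.subset_closure ⟨m, hmij, rfl⟩
    have h1 := ih (rep cs h (cs.simple m) x) (hx.act _) (supp_rep cs h hmem hs)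
      (hx.simple_nonneg hx0 m hxm) (by rw [ht_simple]; push_cast at hn ⊢; linarith)
    have h2 : rep cs h (cs.simple m) (rep cs h (cs.simple m) x) = x := by
      rw [← rep_mul_apply, simple_mul_simple_self, map_one, Module.End.one_apply]
    have h3 := hS _ h1 m hmij
    rw [h2] at h3
    rcases h3 with h3 | h3
    · exact h3
    · exact absurd (neg_nonneg.1 (h0 _ h3)) (hx.not_pos_neg hx0)

theorem mem_of_supp' {i j : I} (S : Set (I → ℤ)) (hi : sr i ∈ S) (hj : sr j ∈ S) (h0 : ∀ x ∈ S, 0 ≤ x)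
    (hS : ∀ x ∈ S, ∀ m, (m = i ∨ m = j) → rep cs h (cs.simple m) x ∈ S ∨ -rep cs h (cs.simple m) x ∈ S)
    {x : I → ℤ} (hx : IsRoot cs h x) (hs : Supp i j x) (hx0 : 0 ≤ x) : x ∈ S :=
  mem_of_supp cs h S hi hj h0 hS (ht x).toNat x hx hs hx0 (Int.self_le_toNat _)

/-- The positive roots in the plane of two orthogonal simple roots. -/
theorem roots_orth {i j : I} (hij : i ≠ j) (h2 : M i j = 2) {x : I → ℤ} (hx : IsRoot cs h x) (hs : Supp i j x)
    (hx0 : 0 ≤ x) : x = sr i ∨ x = sr j := by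
  have hA : A i j = 0 := cartan_zero h hij h2
  have hA' : A j i = 0 := cartan_zero h hij.symm (by rw [M.symmetric]; exact h2)
  refine mem_of_supp' cs h {y | y = sr i ∨ y = sr j} (Or.inl rfl) (Or.inr rfl) ?_ ?_ hx hs hx0
  · rintro y (rfl | rfl)
    · exact sr_nonneg i
    · exact sr_nonneg j
  · rintro y (rfl | rfl) m (rfl | rfl)
    · right; left; rw [rep_simple_sr, neg_neg]
    · left; left; rw [rep_sr_sr, hA', zero_smul, sub_zero]
    · left; right; rw [rep_sr_sr, hA, zero_smul, sub_zero]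
    · right; right; rw [rep_simple_sr, neg_neg]

/-- The positive roots in a `C₂`-plane, `j` long, `k` short. -/
theorem roots_C2 {j k : I} (hjk : A j k = -1) (hkj : A k j = -2) {x : I → ℤ}
    (hx : IsRoot cs h x) (hs : Supp j k x) (hx0 : 0 ≤ x) :
    x = sr j ∨ x = sr k ∨ x = sr j + sr k ∨ x = sr j + (2 : ℤ) • sr k := by
  have ejj := rep_simple_sr cs h j
  have ekk := rep_simple_sr cs h k
  have ejk : rep cs h (cs.simple j) (sr k) = sr j + sr k := by rw [rep_sr_sr, hjk]; module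
  have ekj : rep cs h (cs.simple k) (sr j) = sr j + (2 : ℤ) • sr k := by rw [rep_sr_sr, hkj]; module
  refine mem_of_supp' cs h {y | y = sr j ∨ y = sr k ∨ y = sr j + sr k ∨ y = sr j + (2 : ℤ) • sr k} (Or.inl rfl)
    (Or.inr (Or.inl rfl)) ?_ ?_ hx hs hx0
  · have h2 : (0 : I → ℤ) ≤ (2 : ℤ) • sr k := smul_nonneg (by norm_num) (sr_nonneg k)
    rintro y (rfl | rfl | rfl | rfl)
    · exact sr_nonneg j
    · exact sr_nonneg k
    · exact add_nonneg (sr_nonneg j) (sr_nonneg k)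
    · exact add_nonneg (sr_nonneg j) h2
  · rintro y (rfl | rfl | rfl | rfl) m (rfl | rfl)
    · right; left; rw [ejj, neg_neg]
    · left; right; right; right; exact ekj
    · left; right; right; left; exact ejk
    · right; right; left; rw [ekk, neg_neg]
    · left; right; left; rw [map_add, ejj, ejk]; module
    · left; right; right; left; rw [map_add, ekk, ekj]; module
    · left; right; right; right; rw [map_add, map_smul, ejj, ejk]; module
    · left; left; rw [map_add, map_smul, ekk, ekj]; module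

include cs h in
/-- No triangles. -/
theorem no_triangle {i j k : I} (hij : i ≠ j) (hik : i ≠ k) (hjk : j ≠ k) (h1 : M i j ≠ 2) (h2 : M i k ≠ 2)
    (h3 : M j k ≠ 2) : False := by
  have : Fintype W := Fintype.ofFinite W
  have a1 := cartan_neg h hij h1
  have a2 := cartan_neg h hik h2
  have a3 := cartan_neg h hjk h3
  have b1 := cartan_neg h hij.symm (by rw [M.symmetric]; exact h1)
  have b2 := cartan_neg h hik.symm (by rw [M.symmetric]; exact h2)
  have b3 := cartan_neg h hjk.symm (by rw [M.symmetric]; exact h3)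
  have hp : ∀ l, pairing A l (sr i + sr j + sr k) = A l i + A l j + A l k := by
    intro l
    rw [pairing_add, pairing_add]
    show pairing A l (Pi.single i 1) + pairing A l (Pi.single j 1) + pairing A l (Pi.single k 1) = _
    rw [pairing_single, pairing_single, pairing_single, mul_one, mul_one, mul_one]
  have hne : (sr i + sr j + sr k : I → ℤ) ≠ 0 := by
    intro h0
    have := congrFun h0 i
    simp only [Pi.add_apply, sr_self, sr_ne hij, sr_ne hik, Pi.zero_apply] at this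
    exact absurd this (by norm_num)
  obtain ⟨l, hl, hl'⟩ := exists_pairing_pos cs h
    (add_nonneg (add_nonneg (sr_nonneg i) (sr_nonneg j)) (sr_nonneg k)) hne
  rw [hp] at hl'
  by_cases e1 : l = i
  · subst e1; rw [h.diag] at hl'; omega
  by_cases e2 : l = j
  · subst e2; rw [h.diag] at hl'; omega
  by_cases e3 : l = k
  · subst e3; rw [h.diag] at hl'; omega
  rw [Pi.add_apply, Pi.add_apply, sr_ne e1, sr_ne e2, sr_ne e3] at hl
  exact absurd hl (by norm_num)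

include cs h in
/-- A triple bond is isolated. -/
theorem no_six {i j k : I} (hij : i ≠ j) (hik : i ≠ k) (hjk : j ≠ k) (h1 : M k j = 6) (h2 : M i k ≠ 2) : False := by
  have : Fintype W := Fintype.ofFinite W
  have hpa : ∀ l (a b c : ℤ), pairing A l (a • sr i + b • sr j + c • sr k) = A l i * a + A l j * b + A l k * c := by
    intro l a b c
    rw [pairing_add, pairing_add, pairing_smul, pairing_smul, pairing_smul]
    show a * pairing A l (Pi.single i 1) + b * pairing A l (Pi.single j 1) + c * pairing A l (Pi.single k 1) = _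
    rw [pairing_single, pairing_single, pairing_single]
    ring
  have a2 := cartan_neg h hik h2
  have b2 := cartan_neg h hik.symm (by rw [M.symmetric]; exact h2)
  have a1 := cartan_nonpos h hij
  have b1 := cartan_nonpos h hij.symm
  have h3 : (A k j = -1 ∧ A j k = -3) ∨ (A k j = -3 ∧ A j k = -1) := by
    have := h.rel k j hjk.symm
    omega
  have key : ∀ a b c : ℤ, 0 < a → 0 < b → 0 < c → A i i * a + A i j * b + A i k * c ≤ 0 →
      A j i * a + A j j * b + A j k * c ≤ 0 → A k i * a + A k j * b + A k k * c ≤ 0 → False := by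
    intro a b c ha hb hc q1 q2 q3
    have hnn : (0 : I → ℤ) ≤ a • sr i + b • sr j + c • sr k :=
      add_nonneg (add_nonneg (smul_nonneg ha.le (sr_nonneg i)) (smul_nonneg hb.le (sr_nonneg j)))
        (smul_nonneg hc.le (sr_nonneg k))
    have hne : (a • sr i + b • sr j + c • sr k : I → ℤ) ≠ 0 := by
      intro h0
      have := congrFun h0 i
      simp only [Pi.add_apply, Pi.smul_apply, sr_self, sr_ne hij, sr_ne hik, Pi.zero_apply, smul_eq_mul, mul_zero,
        mul_one, add_zero] at this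
      omega
    obtain ⟨l, hl, hl'⟩ := exists_pairing_pos cs h hnn hne
    rw [hpa] at hl'
    by_cases e1 : l = i
    · subst e1; omega
    by_cases e2 : l = j
    · subst e2; omega
    by_cases e3 : l = k
    · subst e3; omega
    rw [Pi.add_apply, Pi.add_apply, Pi.smul_apply, Pi.smul_apply, Pi.smul_apply, sr_ne e1, sr_ne e2, sr_ne e3] at hl
    exact absurd hl (by norm_num)
  have di := h.diag i
  have dj := h.diag j
  have dk := h.diag k
  rcases h3 with ⟨q1, q2⟩ | ⟨q1, q2⟩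
  · exact key 1 3 2 (by norm_num) (by norm_num) (by norm_num) (by omega) (by omega) (by omega)
  · exact key 1 1 2 (by norm_num) (by norm_num) (by norm_num) (by omega) (by omega) (by omega)

end Roots

/-! ### The rank one torus of a neighbour is not trivial on `X_j` -/

section ND

variable (R : RGD cs h 2 T n X) (hTc : ∀ s ∈ T, ∀ t ∈ T, s * t = t * s)

include R hTc

/-- Conjugating a centralising element. -/
theorem ct_conj {j k : I} {w : W} {g z : Y} (hg : Rp cs R.nsys w g) (hw : rep cs h w (sr j) = sr k)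
    (hz : Ct X z j) : Ct X (g * z * g⁻¹) k := by
  intro x hx
  have h1 : g⁻¹ * x * g ∈ X (sr j) := by
    have h2 := R.conj_mem' hg (isRoot_sr cs h k) hx
    rwa [← hw, rep_inv_apply] at h2
  have h3 := hz _ h1
  have e : g * z * g⁻¹ * x * (g * z * g⁻¹)⁻¹ = g * (z * (g⁻¹ * x * g) * z⁻¹) * g⁻¹ := by group
  rw [e, h3]
  group

/-- The case `m = 3`. -/
theorem nd3 {j k : I} (hNk : TrNode T n X k) (hjk : A j k = -1) (hkj : A k j = -1)
    (hc : ∀ s ∈ TI T n X k, Ct X s j) : False := by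
  obtain ⟨s, hs, hf⟩ := exists_fpf R hTc hNk
  have hg := (rp_simple cs R.nsys j).mul (rp_simple cs R.nsys k)
  have hw : rep cs h (cs.simple j * cs.simple k) (sr j) = sr k := by
    rw [rep_mul_apply, rep_sr_sr cs h k j, hkj, map_sub, map_smul, rep_simple_sr, rep_sr_sr cs h j k, hjk]
    module
  have hsi : s⁻¹ ∈ TI T n X k := by
    refine ⟨inv_mem hs.1, inv_mem hs.2.1, ?_⟩
    have h1 : n k * s⁻¹ * (n k)⁻¹ = (n k * s * (n k)⁻¹)⁻¹ := by group
    rw [h1, hs.2.2]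
  have h1 := ct_conj R hTc hg hw (hc _ hsi)
  have h2 : n j * n k * s⁻¹ * (n j * n k)⁻¹ = s := by
    have e1 : n j * n k * s⁻¹ * (n j * n k)⁻¹ = n j * (n k * s⁻¹ * (n k)⁻¹) * (n j)⁻¹ := by group
    rw [e1, hsi.2.2, inv_inv, ← comm_n R hTc hs.1 (hc s hs)]
    group
  rw [h2] at h1
  obtain ⟨x, hx, -, -, hx1, -, -⟩ := hNk.two
  exact hx1 (hf x hx (h1 x hx))

/-- `m = 4`: if the torus of `k` centralises `X_j`, then the torus of `j` centralises `X_k`. -/
theorem ct_symm {j k : I} (hNk : TrNode T n X k) (h2 : A j k * A k j = 2)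
    (hc : ∀ s ∈ TI T n X k, Ct X s j) : ∀ t ∈ TI T n X j, Ct X t k := by
  intro t ht
  obtain ⟨s, hs, hz⟩ := exists_same R hTc hNk ht.1
  have hsT := hs.1
  have htT := ht.1
  have hsi : s⁻¹ ∈ T := inv_mem hs.1
  have hzT : t * s⁻¹ ∈ T := mul_mem htT hsi
  have hzn : t * s⁻¹ * n k = n k * (t * s⁻¹) := comm_n R hTc hzT hz
  have hsn : s * n j = n j * s := comm_n R hTc hsT (hc s hs)
  have hts : t * s = s * t := hTc t htT s hsT
  have hg : Rp cs R.nsys ((cs.simple j)⁻¹ * cs.simple k * cs.simple j) ((n j)⁻¹ * n k * n j) :=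
    ((rp_simple cs R.nsys j).inv.mul (rp_simple cs R.nsys k)).mul (rp_simple cs R.nsys j)
  have hw : rep cs h ((cs.simple j)⁻¹ * cs.simple k * cs.simple j) (sr k) = sr k := by
    have e1 : rep cs h (cs.simple k) (rep cs h (cs.simple j) (sr k)) = rep cs h (cs.simple j) (sr k) := by
      rw [rep_sr_sr cs h j k, map_sub, map_smul, rep_simple_sr, rep_sr_sr cs h k j, smul_sub, smul_smul, h2]
      module
    rw [mul_assoc, rep_mul_apply, rep_mul_apply, e1, rep_inv_apply]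
  have h1 := ct_conj R hTc hg hw hz
  -- compute the conjugate
  have c1 : n j * t * (n j)⁻¹ = t⁻¹ := ht.2.2
  have c2 : n j * s⁻¹ * (n j)⁻¹ = s⁻¹ := by
    have : n j * s * (n j)⁻¹ = s := by rw [← hsn]; group
    have e : n j * s⁻¹ * (n j)⁻¹ = (n j * s * (n j)⁻¹)⁻¹ := by group
    rw [e, this]
  have c3 : n k * s * (n k)⁻¹ = s⁻¹ := hs.2.2
  have c4 : n k * (t * s⁻¹) * (n k)⁻¹ = t * s⁻¹ := by rw [← hzn]; group
  have c5 : (n j)⁻¹ * t * n j = t⁻¹ := TI.inv_conj ht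
  have c6 : (n j)⁻¹ * s * n j = s := by
    rw [mul_assoc, hsn]; group
  have hti : t⁻¹ * s⁻¹ = (t * s⁻¹)⁻¹ * (s⁻¹ * s⁻¹) := by
    have e1 := hTc t⁻¹ (inv_mem htT) s hsT
    have : (t * s⁻¹)⁻¹ * (s⁻¹ * s⁻¹) = (s * t⁻¹) * (s⁻¹ * s⁻¹) := by group
    rw [this, ← e1]
    group
  have d1 : n j * (t * s⁻¹) * (n j)⁻¹ = t⁻¹ * s⁻¹ := by
    have e : n j * (t * s⁻¹) * (n j)⁻¹ = (n j * t * (n j)⁻¹) * (n j * s⁻¹ * (n j)⁻¹) := by group
    rw [e, c1, c2]
  have d2 : n k * (t⁻¹ * s⁻¹) * (n k)⁻¹ = (t * s⁻¹)⁻¹ * (s * s) := by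
    have e : n k * ((t * s⁻¹)⁻¹ * (s⁻¹ * s⁻¹)) * (n k)⁻¹ =
        (n k * (t * s⁻¹) * (n k)⁻¹)⁻¹ * ((n k * s * (n k)⁻¹)⁻¹ * (n k * s * (n k)⁻¹)⁻¹) := by group
    rw [hti, e, c4, c3, inv_inv]
  have d3 : (n j)⁻¹ * ((t * s⁻¹)⁻¹ * (s * s)) * n j = s * t * (s * s) := by
    have e : (n j)⁻¹ * ((t * s⁻¹)⁻¹ * (s * s)) * n j =
        ((n j)⁻¹ * s * n j) * ((n j)⁻¹ * t * n j)⁻¹ * (((n j)⁻¹ * s * n j) * ((n j)⁻¹ * s * n j)) := by group
    rw [e, c5, c6, inv_inv]
  have d4 : (n j)⁻¹ * n k * n j * (t * s⁻¹) * ((n j)⁻¹ * n k * n j)⁻¹ = s * t * (s * s) := by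
    have e : (n j)⁻¹ * n k * n j * (t * s⁻¹) * ((n j)⁻¹ * n k * n j)⁻¹ =
        (n j)⁻¹ * (n k * (n j * (t * s⁻¹) * (n j)⁻¹) * (n k)⁻¹) * n j := by group
    rw [e, d1, d2, d3]
  rw [d4] at h1
  have h3 : Ct X ((t * s⁻¹)⁻¹ * (s * t * (s * s))) k := hz.inv.mul h1
  have e4 : (t * s⁻¹)⁻¹ * (s * t * (s * s)) = (s * s) * (s * s) := by
    have e1 : (t * s⁻¹)⁻¹ * (s * t * (s * s)) = s * (t⁻¹ * (s * t)) * (s * s) := by group
    rw [e1, ← hts]
    group
  rw [e4] at h3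
  have h4 := ct_of_sq R hTc hsT (ct_of_sq R hTc (mul_mem hsT hsT) h3)
  have h5 := hz.mul h4
  have e5 : t * s⁻¹ * s = t := by group
  rwa [e5] at h5

omit hTc in
/-- `X_{-k}` commutes with `X_j`. -/
theorem comm_neg {j k : I} (hjk : j ≠ k) {u v : Y} (hu : u ∈ X (-sr k)) (hv : v ∈ X (sr j)) : u * v = v * u := by
  refine KFacts.RgdSL.comm_of_not_btwn R (isRoot_sr cs h k).neg (isRoot_sr cs h j) ?_ ?_ ?_ hu hv
  · intro h0
    have := congrFun h0 k
    rw [Pi.neg_apply, sr_self, sr_ne hjk.symm] at this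
    exact absurd this (by norm_num)
  · intro h0
    have := congrFun h0 k
    rw [Pi.neg_apply, Pi.neg_apply, sr_self, sr_ne hjk.symm] at this
    exact absurd this (by norm_num)
  · rintro z ⟨hz, m, a, b, hm, ha, hb, he⟩
    have h1 := congrFun he k
    have h2 := congrFun he j
    simp only [Pi.smul_apply, Pi.add_apply, Pi.neg_apply, smul_eq_mul, sr_self, sr_ne hjk, sr_ne hjk.symm,
      mul_zero, mul_one, mul_neg, neg_zero, zero_add, add_zero] at h1 h2
    rcases hz.pos_or_neg with h0 | h0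
    · have := mul_nonneg hm.le (h0 k)
      linarith
    · have := mul_nonpos_of_nonneg_of_nonpos hm.le (h0 j)
      linarith

omit hTc in
/-- `X_k` commutes with `X_{s_k j}`. -/
theorem comm_refl {j k : I} (hjk : j ≠ k) {u v : Y} (hu : u ∈ X (sr k))
    (hv : v ∈ X (rep cs h (cs.simple k) (sr j))) : u * v = v * u := by
  have h1 : (n k)⁻¹ * u * n k ∈ X (-sr k) := by
    have := R.conj_mem' (rp_simple cs R.nsys k) (isRoot_sr cs h k) hu
    rwa [inv_simple, rep_simple_sr] at this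
  have h2 : (n k)⁻¹ * v * n k ∈ X (sr j) := by
    have := R.conj_mem' (rp_simple cs R.nsys k) ((isRoot_sr cs h j).act _) hv
    rwa [rep_inv_apply] at this
  have h3 := comm_neg R hjk h1 h2
  calc u * v = n k * (((n k)⁻¹ * u * n k) * ((n k)⁻¹ * v * n k)) * (n k)⁻¹ := by group
    _ = n k * (((n k)⁻¹ * v * n k) * ((n k)⁻¹ * u * n k)) * (n k)⁻¹ := by rw [h3]
    _ = v * u := by group

omit hTc R in
/-- In an elementary abelian finite group on which `t` is fixed-point-free every element is of the form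
`u (t u t⁻¹)⁻¹`. -/
theorem exists_diff [Finite Y] {i : I} {t : Y} (hconj : ∀ x ∈ X (sr i), t * x * t⁻¹ ∈ X (sr i))
    (hsq : ∀ x ∈ X (sr i), x * x = 1) (hf : ∀ x ∈ X (sr i), t * x * t⁻¹ = x → x = 1) :
    ∀ u ∈ X (sr i), ∃ v ∈ X (sr i), u = v * (t * v * t⁻¹)⁻¹ := by
  have hinv : ∀ x ∈ X (sr i), x⁻¹ = x := fun x hx => inv_eq_of_mul_eq_one_left (hsq x hx)
  have hcom : ∀ x ∈ X (sr i), ∀ y ∈ X (sr i), x * y = y * x := by
    intro x hx y hy
    have h1 := hinv _ (mul_mem hx hy)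
    rw [mul_inv_rev, hinv x hx, hinv y hy] at h1
    exact h1.symm
  let φ : X (sr i) → X (sr i) := fun v => ⟨v.1 * (t * v.1 * t⁻¹)⁻¹, mul_mem v.2 (inv_mem (hconj _ v.2))⟩
  have hinj : Function.Injective φ := by
    rintro ⟨v, hv⟩ ⟨w, hw⟩ e
    have e1 : v * (t * v * t⁻¹)⁻¹ = w * (t * w * t⁻¹)⁻¹ := congrArg Subtype.val e
    have h1 := hf (w⁻¹ * v) (mul_mem (inv_mem hw) hv) (by
      have e2 : w⁻¹ * v = (t * w * t⁻¹)⁻¹ * (t * v * t⁻¹) := by
        have : w⁻¹ * (v * (t * v * t⁻¹)⁻¹) * (t * v * t⁻¹) = w⁻¹ * (w * (t * w * t⁻¹)⁻¹) * (t * v * t⁻¹) := by rw [e1]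
        calc w⁻¹ * v = w⁻¹ * (v * (t * v * t⁻¹)⁻¹) * (t * v * t⁻¹) := by group
          _ = w⁻¹ * (w * (t * w * t⁻¹)⁻¹) * (t * v * t⁻¹) := this
          _ = (t * w * t⁻¹)⁻¹ * (t * v * t⁻¹) := by group
      have e3 : t * (w⁻¹ * v) * t⁻¹ = (t * w * t⁻¹)⁻¹ * (t * v * t⁻¹) := by group
      rw [e3]
      exact e2.symm)
    apply Subtype.ext
    exact (inv_mul_eq_one.1 h1).symm
  have hsurj := Finite.surjective_of_injective hinj
  intro u hu
  obtain ⟨⟨v, hv⟩, e⟩ := hsurj ⟨u, hu⟩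
  exact ⟨v, hv, (congrArg Subtype.val e).symm⟩

/-- The case of two tori centralising each other, `j` long, `k` short. -/
theorem nd4_both [Finite Y] {j k : I} (hjk0 : j ≠ k) (hNk : TrNode T n X k) (hNj : TrNode T n X j)
    (hjk : A j k = -1) (hkj : A k j = -2)
    (hc : ∀ s ∈ TI T n X k, Ct X s j) (hc' : ∀ t ∈ TI T n X j, Ct X t k) : False := by
  have ejj := rep_simple_sr cs h j
  have ekk := rep_simple_sr cs h k
  have ejk : rep cs h (cs.simple j) (sr k) = sr j + sr k := by rw [rep_sr_sr, hjk]; module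
  have ekj : rep cs h (cs.simple k) (sr j) = sr j + (2 : ℤ) • sr k := by rw [rep_sr_sr, hkj]; module
  have hk' : IsRoot cs h (sr j + sr k) := by rw [← ejk]; exact (isRoot_sr cs h k).act _
  have hj' : IsRoot cs h (sr j + (2 : ℤ) • sr k) := by rw [← ekj]; exact (isRoot_sr cs h j).act _
  obtain ⟨s0, hs0, hf⟩ := exists_fpf R hTc hNk
  obtain ⟨t0, ht0, hf'⟩ := exists_fpf R hTc hNj
  have hs0n : s0 * n j = n j * s0 := comm_n R hTc hs0.1 (hc s0 hs0)
  have ht0n : t0 * n k = n k * t0 := comm_n R hTc ht0.1 (hc' t0 ht0)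
  have hnj := rp_simple cs R.nsys j
  have hnk := rp_simple cs R.nsys k
  -- conjugates
  have hdj : ∀ x ∈ X (sr j + sr k), (n j)⁻¹ * x * n j ∈ X (sr k) := by
    intro x hx
    rw [← ejk] at hx
    have := R.conj_mem' hnj ((isRoot_sr cs h k).act _) hx
    rwa [rep_inv_apply] at this
  have hdk : ∀ x ∈ X (sr j + (2 : ℤ) • sr k), (n k)⁻¹ * x * n k ∈ X (sr j) := by
    intro x hx
    rw [← ekj] at hx
    have := R.conj_mem' hnk ((isRoot_sr cs h j).act _) hx
    rwa [rep_inv_apply] at this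
  -- `X_{k'}`, `X_{j'}` commute
  have c0 : ∀ a ∈ X (sr j + sr k), ∀ b ∈ X (sr j + (2 : ℤ) • sr k), a * b = b * a := by
    intro a ha b hb
    have e1 : rep cs h (cs.simple j)⁻¹ (sr j + (2 : ℤ) • sr k) = rep cs h (cs.simple k) (sr j) := by
      rw [inv_simple, ekj, map_add, map_smul, ejj, ejk]
      module
    have h2 : (n j)⁻¹ * b * n j ∈ X (rep cs h (cs.simple k) (sr j)) := by
      have := R.conj_mem' hnj hj' hb
      rwa [e1] at this
    have h3 := comm_refl R hjk0 (hdj a ha) h2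
    calc a * b = n j * (((n j)⁻¹ * a * n j) * ((n j)⁻¹ * b * n j)) * (n j)⁻¹ := by group
      _ = n j * (((n j)⁻¹ * b * n j) * ((n j)⁻¹ * a * n j)) * (n j)⁻¹ := by rw [h3]
      _ = b * a := by group
  -- `X_j` commutes with `X_{k'}`, `X_k` with `X_{j'}`
  have c1 : ∀ u ∈ X (sr j), ∀ a ∈ X (sr j + sr k), u * a = a * u := by
    intro u hu a ha
    rw [← ejk] at ha
    exact comm_refl R hjk0.symm hu ha
  have c2 : ∀ x ∈ X (sr k), ∀ b ∈ X (sr j + (2 : ℤ) • sr k), x * b = b * x := by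
    intro x hx b hb
    rw [← ekj] at hb
    exact comm_refl R hjk0 hx hb
  -- the tori
  have t1 : ∀ x ∈ X (sr j + sr k), s0 * x * s0⁻¹ = x → x = 1 := by
    intro x hx e
    have h1 := hf _ (hdj x hx) (by
      have e1 : s0 * ((n j)⁻¹ * x * n j) * s0⁻¹ = (n j * s0⁻¹)⁻¹ * x * (n j * s0⁻¹) := by group
      have e2 : n j * s0⁻¹ = s0⁻¹ * n j := by
        have : s0 * (n j * s0⁻¹) = n j := by rw [← mul_assoc, hs0n]; group
        calc n j * s0⁻¹ = s0⁻¹ * (s0 * (n j * s0⁻¹)) := by group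
          _ = s0⁻¹ * n j := by rw [this]
      have e3 : (s0⁻¹ * n j)⁻¹ * x * (s0⁻¹ * n j) = (n j)⁻¹ * (s0 * x * s0⁻¹) * n j := by group
      rw [e1, e2, e3, e])
    have : x = n j * ((n j)⁻¹ * x * n j) * (n j)⁻¹ := by group
    rw [this, h1]; group
  have t2 : ∀ x ∈ X (sr j + (2 : ℤ) • sr k), s0 * x * s0⁻¹ = x := by
    intro x hx
    have hsi : s0⁻¹ ∈ T := inv_mem hs0.1
    have e0 := (hc s0 hs0).inv _ (hdk x hx)
    have e1 : (n k)⁻¹ * s0 * n k = s0⁻¹ := TI.inv_conj hs0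
    have e2 : s0 * x * s0⁻¹ = n k * (((n k)⁻¹ * s0 * n k) * ((n k)⁻¹ * x * n k) * ((n k)⁻¹ * s0 * n k)⁻¹) * (n k)⁻¹ := by
      group
    rw [e2, e1, e0]
    group
  have t3 : ∀ x ∈ X (sr j + sr k), t0 * x * t0⁻¹ = x := by
    intro x hx
    have e0 := (hc' t0 ht0).inv _ (hdj x hx)
    have e1 : (n j)⁻¹ * t0 * n j = t0⁻¹ := TI.inv_conj ht0
    have e2 : t0 * x * t0⁻¹ = n j * (((n j)⁻¹ * t0 * n j) * ((n j)⁻¹ * x * n j) * ((n j)⁻¹ * t0 * n j)⁻¹) * (n j)⁻¹ := by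
      group
    rw [e2, e1, e0]
    group
  -- `[X_j, X_{j'}] = 1`
  have c3 : ∀ u ∈ X (sr j), ∀ b ∈ X (sr j + (2 : ℤ) • sr k), u * b = b * u := by
    intro u hu b hb
    have hne : (sr j : I → ℤ) ≠ sr j + (2 : ℤ) • sr k := by
      intro h0
      have := congrFun h0 k
      simp only [Pi.add_apply, Pi.smul_apply, smul_eq_mul, sr_self, sr_ne hjk0.symm] at this
      omega
    have hne' : (sr j : I → ℤ) ≠ -(sr j + (2 : ℤ) • sr k) := by
      intro h0
      have := congrFun h0 k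
      simp only [Pi.neg_apply, Pi.add_apply, Pi.smul_apply, smul_eq_mul, sr_self, sr_ne hjk0.symm] at this
      omega
    have h1 := R.comm _ _ (isRoot_sr cs h j) hj' hne hne' u hu b hb
    have h2 : Nodes.Reps.btw cs h X (sr j) (sr j + (2 : ℤ) • sr k) ≤ X (sr j + sr k) := by
      refine KFacts.RgdSL.btw_le_of fun z hz => ?_
      obtain ⟨hzr, m, a, b, hm, ha, hb, he⟩ := hz
      have q1 := congrFun he j
      have q2 := congrFun he k
      simp only [Pi.smul_apply, Pi.add_apply, smul_eq_mul, sr_self, sr_ne hjk0, sr_ne hjk0.symm, mul_one, mul_zero,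
        zero_add, add_zero] at q1 q2
      have hs : Supp j k z := by
        intro l hl1 hl2
        have q3 := congrFun he l
        simp only [Pi.smul_apply, Pi.add_apply, smul_eq_mul, sr_ne hl1, sr_ne hl2, mul_zero, add_zero] at q3
        exact (mul_eq_zero.1 q3).resolve_left hm.ne'
      have hz0 : 0 ≤ z := by
        rcases hzr.pos_or_neg with h0 | h0
        · exact h0
        · have := mul_nonpos_of_nonneg_of_nonpos hm.le (h0 j)
          exfalso
          have h00 : m * z j ≤ 0 := this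
          linarith
      rcases roots_C2 cs h hjk hkj hzr hs hz0 with rfl | rfl | rfl | rfl
      · simp only [sr_ne hjk0.symm] at q2; omega
      · simp only [sr_ne hjk0] at q1; omega
      · rfl
      · simp only [Pi.add_apply, Pi.smul_apply, smul_eq_mul, sr_self, sr_ne hjk0, sr_ne hjk0.symm] at q1 q2; omega
    have h3 := h2 h1
    have h4 : ⁅u, b⁆ = 1 := by
      refine t1 _ h3 ?_
      have e1 : s0 * ⁅u, b⁆ * s0⁻¹ = ⁅s0 * u * s0⁻¹, s0 * b * s0⁻¹⁆ := by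
        rw [commutatorElement_def, commutatorElement_def]; group
      rw [e1, hc s0 hs0 u hu, t2 b hb]
    exact commutatorElement_eq_one_iff_mul_comm.1 h4
  -- the commutators `[x, u]`
  have hKJ : ∀ x ∈ X (sr k), ∀ u ∈ X (sr j), ∃ a ∈ X (sr j + sr k), ∃ b ∈ X (sr j + (2 : ℤ) • sr k), ⁅x, u⁆ = a * b := by
    intro x hx u hu
    have hne : (sr k : I → ℤ) ≠ sr j := by
      intro h0
      have := congrFun h0 k
      rw [sr_self, sr_ne hjk0.symm] at this
      omega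
    have hne' : (sr k : I → ℤ) ≠ -sr j := by
      intro h0
      have := congrFun h0 k
      rw [Pi.neg_apply, sr_self, sr_ne hjk0.symm] at this
      omega
    have h1 := R.comm _ _ (isRoot_sr cs h k) (isRoot_sr cs h j) hne hne' x hx u hu
    have h2 : Nodes.Reps.btw cs h X (sr k) (sr j) ≤ X (sr j + sr k) ⊔ X (sr j + (2 : ℤ) • sr k) := by
      unfold Nodes.Reps.btw
      refine iSup_le ?_
      rintro ⟨z, hzr, m, a, b, hm, ha, hb, he⟩
      show X z ≤ _
      have q1 := congrFun he j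
      have q2 := congrFun he k
      simp only [Pi.smul_apply, Pi.add_apply, smul_eq_mul, sr_self, sr_ne hjk0, sr_ne hjk0.symm, mul_one, mul_zero,
        zero_add, add_zero] at q1 q2
      have hs : Supp j k z := by
        intro l hl1 hl2
        have q3 := congrFun he l
        simp only [Pi.smul_apply, Pi.add_apply, smul_eq_mul, sr_ne hl1, sr_ne hl2, mul_zero, add_zero] at q3
        exact (mul_eq_zero.1 q3).resolve_left hm.ne'
      have hz0 : 0 ≤ z := by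
        rcases hzr.pos_or_neg with h0 | h0
        · exact h0
        · have := mul_nonpos_of_nonneg_of_nonpos hm.le (h0 j)
          exfalso
          have h00 : m * z j ≤ 0 := this
          linarith
      rcases roots_C2 cs h hjk hkj hzr hs hz0 with rfl | rfl | rfl | rfl
      · simp only [sr_ne hjk0.symm] at q2; omega
      · simp only [sr_ne hjk0] at q1; omega
      · exact le_sup_left
      · exact le_sup_right
    have h3 : ⁅x, u⁆ ∈ ((X (sr j + sr k) ⊔ X (sr j + (2 : ℤ) • sr k) : Subgroup Y) : Set Y) := h2 h1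
    have hnorm : X (sr j + sr k) ≤ Subgroup.normalizer (X (sr j + (2 : ℤ) • sr k) : Set Y) := by
      intro a ha
      rw [Subgroup.mem_normalizer_iff]
      intro b
      constructor
      · intro hb
        rw [c0 a ha b hb, mul_inv_cancel_right]
        exact hb
      · intro hb
        have e : b = a⁻¹ * (a * b * a⁻¹) * a := by group
        have := c0 a⁻¹ (inv_mem ha) _ hb
        rw [e, this, inv_mul_cancel_right]
        exact hb
    rw [Subgroup.coe_mul_of_left_le_normalizer_right _ _ hnorm, Set.mem_mul] at h3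
    obtain ⟨a, ha, b, hb, e⟩ := h3
    exact ⟨a, ha, b, hb, e.symm⟩
  -- `u0` commutes with these commutators
  have hcu : ∀ u ∈ X (sr j), ∀ c, (∃ a ∈ X (sr j + sr k), ∃ b ∈ X (sr j + (2 : ℤ) • sr k), c = a * b) →
      u * c = c * u := by
    rintro u hu _ ⟨a, ha, b, hb, rfl⟩
    rw [← mul_assoc, c1 u hu a ha, mul_assoc, c3 u hu b hb, mul_assoc]
  have hmulr : ∀ x ∈ X (sr k), ∀ u ∈ X (sr j), ∀ v ∈ X (sr j), ⁅x, u * v⁆ = ⁅x, u⁆ * ⁅x, v⁆ := by
    intro x hx u hu v hv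
    have e1 : ⁅x, u * v⁆ = ⁅x, u⁆ * (u * ⁅x, v⁆ * u⁻¹) := by
      rw [commutatorElement_def, commutatorElement_def, commutatorElement_def]; group
    rw [e1, hcu u hu _ (hKJ x hx v hv), mul_inv_cancel_right]
  have hJ : ∀ x ∈ X (sr k), ∀ u ∈ X (sr j), ⁅x, u⁆ ∈ X (sr j + (2 : ℤ) • sr k) := by
    intro x hx u hu
    obtain ⟨v, hv, rfl⟩ := exists_diff (fun x hx => conj_mem_X R hTc ht0.1 hx) hNj.sq hf' u hu
    have hv' : t0 * v * t0⁻¹ ∈ X (sr j) := conj_mem_X R hTc ht0.1 hv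
    obtain ⟨a, ha, b, hb, e⟩ := hKJ x hx v hv
    have e1 : ⁅x, (t0 * v * t0⁻¹)⁻¹⁆ = ⁅x, t0 * v * t0⁻¹⁆⁻¹ := by
      have := hmulr x hx _ (inv_mem hv') _ hv'
      rw [inv_mul_cancel, commutatorElement_one_right] at this
      exact (inv_eq_of_mul_eq_one_left this.symm).symm
    have e2 : ⁅x, t0 * v * t0⁻¹⁆ = a * (t0 * b * t0⁻¹) := by
      have h1 := hc' t0 ht0 x hx
      have h2 : ⁅x, t0 * v * t0⁻¹⁆ = t0 * ⁅x, v⁆ * t0⁻¹ := by
        conv_lhs => rw [← h1]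
        rw [commutatorElement_def, commutatorElement_def]; group
      have h3 := t3 a ha
      have h4 : t0 * (a * b) * t0⁻¹ = (t0 * a * t0⁻¹) * (t0 * b * t0⁻¹) := by group
      rw [h2, e, h4, h3]
    have hb' : t0 * b * t0⁻¹ ∈ X (sr j + (2 : ℤ) • sr k) := by
      have h1 := R.tor _ hj' t0 ht0.1
      rw [← h1]
      exact conj_mem_cj.2 hb
    rw [hmulr x hx v hv _ (inv_mem hv'), e1, e, e2]
    have e3 : a * b * (a * (t0 * b * t0⁻¹))⁻¹ = a * (b * (t0 * b * t0⁻¹)⁻¹) * a⁻¹ := by group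
    have hbb := mul_mem hb (inv_mem hb')
    rw [e3, c0 a ha _ hbb, mul_inv_cancel_right]
    exact hbb
  have hmull : ∀ x ∈ X (sr k), ∀ y ∈ X (sr k), ∀ u ∈ X (sr j), ⁅x * y, u⁆ = ⁅y, u⁆ * ⁅x, u⁆ := by
    intro x hx y hy u hu
    have e1 : ⁅x * y, u⁆ = (x * ⁅y, u⁆ * x⁻¹) * ⁅x, u⁆ := by
      rw [commutatorElement_def, commutatorElement_def, commutatorElement_def]; group
    rw [e1, c2 x hx _ (hJ y hy u hu), mul_inv_cancel_right]
  have hall : ∀ x ∈ X (sr k), ∀ u ∈ X (sr j), x * u = u * x := by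
    intro x hx u hu
    obtain ⟨y, hy, rfl⟩ := exists_diff (fun x hx => conj_mem_X R hTc hs0.1 hx) hNk.sq hf x hx
    have hy' : s0 * y * s0⁻¹ ∈ X (sr k) := conj_mem_X R hTc hs0.1 hy
    have e1 : ⁅(s0 * y * s0⁻¹)⁻¹, u⁆ = ⁅s0 * y * s0⁻¹, u⁆⁻¹ := by
      have := hmull _ hy' _ (inv_mem hy') u hu
      rw [mul_inv_cancel, commutatorElement_one_left] at this
      exact (inv_eq_of_mul_eq_one_left this.symm).symm
    have e2 : ⁅s0 * y * s0⁻¹, u⁆ = ⁅y, u⁆ := by
      have h1 := hc s0 hs0 u hu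
      have h2 : ⁅s0 * y * s0⁻¹, u⁆ = s0 * ⁅y, u⁆ * s0⁻¹ := by
        conv_lhs => rw [← h1]
        rw [commutatorElement_def, commutatorElement_def]; group
      rw [h2, t2 _ (hJ y hy u hu)]
    have e3 := hmull y hy _ (inv_mem hy') u hu
    rw [e1, e2, inv_mul_cancel] at e3
    exact commutatorElement_eq_one_iff_mul_comm.1 e3
  -- the contradiction
  obtain ⟨x, hx, -, -, hx1, -, -⟩ := hNk.two
  obtain ⟨u, hu, hu1⟩ := ((X (-sr j)).bot_or_exists_ne_one).resolve_left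
    (Nodes.Bruhat.X_ne_bot R (isRoot_sr cs h j).neg)
  obtain ⟨a, ha, s, hs, b, hb, e⟩ := R.rk1 j u hu hu1
  have hm : s * n j = a⁻¹ * u * b⁻¹ := by rw [e]; group
  have k1 : u * x = x * u := comm_neg R hjk0.symm hu hx
  have k2 : a⁻¹ * x = x * a⁻¹ := (hall x hx _ (inv_mem ha)).symm
  have k3 : b⁻¹ * x = x * b⁻¹ := (hall x hx _ (inv_mem hb)).symm
  have k4 : (s * n j) * x = x * (s * n j) := by
    rw [hm, mul_assoc, k3, ← mul_assoc, mul_assoc a⁻¹, k1, ← mul_assoc, k2]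
    group
  have k5 : n j * x * (n j)⁻¹ ∈ X (sr j + sr k) := by
    have := R.conj_mem hnj (isRoot_sr cs h k) hx
    rwa [ejk] at this
  have k6 : s⁻¹ * x * s = n j * x * (n j)⁻¹ := by
    have : s⁻¹ * (s * n j * x) * (n j)⁻¹ = s⁻¹ * (x * (s * n j)) * (n j)⁻¹ := by rw [k4]
    calc s⁻¹ * x * s = s⁻¹ * (x * (s * n j)) * (n j)⁻¹ := by group
      _ = s⁻¹ * (s * n j * x) * (n j)⁻¹ := this.symm
      _ = n j * x * (n j)⁻¹ := by group
  have k7 : x ∈ X (sr j + sr k) := by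
    have h1 := R.tor _ hk' s hs
    rw [← h1, mem_cj, k6]
    exact k5
  have h8 := ParSys.Fam.X_inf_V R k x hx (le_Sup (S := PosNe cs h k) ⟨hk', add_nonneg (sr_nonneg j) (sr_nonneg k), by
    intro h0
    have := congrFun h0 j
    rw [Pi.add_apply, sr_self, sr_ne hjk0] at this
    omega⟩ k7)
  exact hx1 h8

/-- **The rank one torus of a neighbour is not trivial on `X_j`.** -/
theorem nd [Finite Y] {j k : I} (hjk0 : j ≠ k) (hNk : TrNode T n X k) (hNj : TrNode T n X j)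
    (hm : M j k = 3 ∨ M j k = 4) : ∃ s ∈ TI T n X k, ∀ x ∈ X (sr j), s * x * s⁻¹ = x → x = 1 := by
  by_contra hcon
  push Not at hcon
  have hc : ∀ s ∈ TI T n X k, Ct X s j := by
    intro s hs
    refine (fpf_or_ct R hTc hNj hs.1).resolve_right fun hf => ?_
    obtain ⟨x, hx, e, hx1⟩ := hcon s hs
    exact hx1 (hf x hx e)
  rcases hm with hm | hm
  · have h1 := h.rel j k hjk0
    have h2 : A j k = -1 ∧ A k j = -1 := by omega
    exact nd3 R hTc hNk h2.1 h2.2 hc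
  · have h1 := h.rel j k hjk0
    have h2 : (A j k = -1 ∧ A k j = -2) ∨ (A j k = -2 ∧ A k j = -1) := by omega
    rcases h2 with ⟨e1, e2⟩ | ⟨e1, e2⟩
    · exact nd4_both R hTc hjk0 hNk hNj e1 e2 hc (ct_symm R hTc hNk (by rw [e1, e2]; norm_num) hc)
    · exact nd4_both R hTc hjk0.symm hNj hNk e2 e1 (ct_symm R hTc hNk (by rw [e1, e2]; norm_num) hc) hc

omit hTc in
/-- The rank one group of `j` centralises `X_i` if `m = 2`. -/
theorem comm_LL {i j : I} (hij : i ≠ j) (h2 : M i j = 2) {t x : Y} (ht : t ∈ LL X (sr j)) (hx : x ∈ X (sr i)) :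
    t * x = x * t := by
  have h1 : LL X (sr j) ≤ Subgroup.centralizer {x} := by
    refine sup_le ?_ ?_
    · intro u hu
      rw [Subgroup.mem_centralizer_singleton_iff]
      refine KFacts.RgdSL.comm_of_not_btwn R (isRoot_sr cs h j) (isRoot_sr cs h i) ?_ ?_ ?_ hu hx
      · intro h0
        have := congrFun h0 j
        rw [sr_self, sr_ne hij.symm] at this
        omega
      · intro h0
        have := congrFun h0 j
        rw [Pi.neg_apply, sr_self, sr_ne hij.symm] at this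
        omega
      · rintro z ⟨hzr, m, a, b, hm, ha, hb, he⟩
        have q1 := congrFun he i
        have q2 := congrFun he j
        simp only [Pi.smul_apply, Pi.add_apply, smul_eq_mul, sr_self, sr_ne hij, sr_ne hij.symm, mul_one, mul_zero,
          zero_add, add_zero] at q1 q2
        have hs : Supp i j z := by
          intro l hl1 hl2
          have q3 := congrFun he l
          simp only [Pi.smul_apply, Pi.add_apply, smul_eq_mul, sr_ne hl1, sr_ne hl2, mul_zero, add_zero] at q3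
          exact (mul_eq_zero.1 q3).resolve_left hm.ne'
        have hz0 : 0 ≤ z := by
          rcases hzr.pos_or_neg with h0 | h0
          · exact h0
          · have := mul_nonpos_of_nonneg_of_nonpos hm.le (h0 j)
            exfalso
            have h00 : m * z j ≤ 0 := this
            linarith
        rcases roots_orth cs h hij h2 hzr hs hz0 with rfl | rfl
        · simp only [sr_ne hij.symm] at q2; omega
        · simp only [sr_ne hij] at q1; omega
    · intro u hu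
      rw [Subgroup.mem_centralizer_singleton_iff]
      exact comm_neg R hij hu hx
  exact Subgroup.mem_centralizer_singleton_iff.1 (h1 ht)

/-- **(k6)** for `m = 2`. -/
theorem exists_sep_two {i j : I} (hij : i ≠ j) (h2 : M i j = 2) (hNj : TrNode T n X j) :
    ∃ t ∈ T, Ct X t i ∧ ∀ x ∈ X (sr j), t * x * t⁻¹ = x → x = 1 := by
  obtain ⟨s, hs, hf⟩ := exists_fpf R hTc hNj
  exact ⟨s, hs.1, fun x hx => by rw [comm_LL R hij h2 hs.2.1 hx, mul_inv_cancel_right], hf⟩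

/-- **(k6)** for adjacent nodes, with a third node. -/
theorem exists_sep_adj [Finite Y] (hN : ∀ i, TrNode T n X i) {i j k : I} (hij : i ≠ j) (hik : i ≠ k) (hjk : j ≠ k)
    (h1 : M i j ≠ 2) (h2 : M i k ≠ 2 ∨ M j k ≠ 2) :
    (∃ t ∈ T, Ct X t i ∧ ∀ x ∈ X (sr j), t * x * t⁻¹ = x → x = 1) ∨
      ∃ t ∈ T, Ct X t j ∧ ∀ x ∈ X (sr i), t * x * t⁻¹ = x → x = 1 := by
  have key : ∀ i j k : I, i ≠ j → i ≠ k → j ≠ k → M i j ≠ 2 → M j k ≠ 2 →
      ∃ t ∈ T, Ct X t i ∧ ∀ x ∈ X (sr j), t * x * t⁻¹ = x → x = 1 := by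
    intro i j k hij hik hjk h1 h3
    have h4 : M i k = 2 := by
      by_contra h5
      exact no_triangle cs h hij hik hjk h1 h5 h3
    have h6 : M j k ≠ 6 := by
      intro h7
      exact no_six cs h hik hij hjk.symm h7 h1
    have h8 : M j k = 3 ∨ M j k = 4 := by
      have := h.rel j k hjk
      omega
    obtain ⟨s, hs, hf⟩ := nd R hTc hjk (hN k) (hN j) h8
    exact ⟨s, hs.1, fun x hx => by rw [comm_LL R hik h4 hs.2.1 hx, mul_inv_cancel_right], hf⟩
  rcases h2 with h2 | h2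
  · exact Or.inr (key j i k hij.symm hjk hik (by rw [M.symmetric]; exact h1) h2)
  · exact Or.inl (key i j k hij hik hjk h1 h2)

/-- **(k6)**, all pairs, in a connected diagram of rank at least three. -/
theorem exists_sep [Finite Y] (hN : ∀ i, TrNode T n X i) {i j : I} (hij : i ≠ j)
    (hk : M i j ≠ 2 → ∃ k, i ≠ k ∧ j ≠ k ∧ (M i k ≠ 2 ∨ M j k ≠ 2)) :
    (∃ t ∈ T, Ct X t i ∧ ∀ x ∈ X (sr j), t * x * t⁻¹ = x → x = 1) ∨
      ∃ t ∈ T, Ct X t j ∧ ∀ x ∈ X (sr i), t * x * t⁻¹ = x → x = 1 := by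
  by_cases h2 : M i j = 2
  · exact Or.inl (exists_sep_two R hTc hij h2 (hN j))
  · obtain ⟨k, h3, h4, h5⟩ := hk h2
    exact exists_sep_adj R hTc hN hij h3 h4 h2 h5

end ND

end Cfsg.Agent.Omega.Lie.End.KTorus

end

section


/-!
# The K-side of the END of NODE LIE: rows (helper650)

Everything is stated for a root group datum `R : RGD cs h 2 T n X`; `X (sr i)` is the simple root group of the node `i`,
`TL T X i = T ⊓ ⟨X (sr i), X (-sr i)⟩` its own torus.

* `KRow cs h T n X` : what is needed of a simple group of rank `≥ 2`;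
* `HasRow Y`, `KTable` : the table.
* `RankOneSide`, `DeadY` : the groups of rank one, and `²F₄`.
-/

set_option autoImplicit false

namespace Cfsg.Agent.Omega.Lie.End

open Subgroup CoxeterSystem Cfsg.Agent.ChevalleyStructure.CoxeterGeom Cfsg.Agent.Tits.Roots Cfsg.Agent.Tits.Core
  Cfsg.Agent.Tits.RootComb Cfsg.Agent.Nodes.Comb Cfsg.Agent.Nodes.Reps Cfsg.Agent.Nodes.BNOf
  Cfsg.Agent.KFacts.RgdCharP

section defs

variable {I W Y : Type*} [Fintype I] [DecidableEq I] [Group W] [Group Y] {M : CoxeterMatrix I}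
  {A : I → I → ℤ}

/-- the own torus of the node `i` -/
def TL (T : Subgroup Y) (X : (I → ℤ) → Subgroup Y) (i : I) : Subgroup Y := T ⊓ (X (sr i) ⊔ X (-sr i))

/-- `H` is transitive by conjugation on the nontrivial elements of `P`. -/
def TrOn (H P : Subgroup Y) : Prop := ∀ x ∈ P, x ≠ 1 → ∀ y ∈ P, y ≠ 1 → ∃ t ∈ H, t * x * t⁻¹ = y

/-- Some element of `H` acts fixed-point-freely on `P`. -/
def FpOn (H P : Subgroup Y) : Prop := ∃ t ∈ H, ∀ x ∈ P, t * x * t⁻¹ = x → x = 1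

/-- Some element of `H` centralises `P` and acts fixed-point-freely on `Q`. -/
def SpOn (H P Q : Subgroup Y) : Prop :=
  ∃ t ∈ H, (∀ x ∈ P, t * x * t⁻¹ = x) ∧ ∀ x ∈ Q, t * x * t⁻¹ = x → x = 1

/-- `P` and `Q` do not commute. -/
def NComm (P Q : Subgroup Y) : Prop := ∃ x ∈ P, ∃ y ∈ Q, x * y ≠ y * x

/-- **A row of rank `≥ 2`** (helper923's `TrNode`: the node is an `SL₂(F)` with `|F| ≥ 4`). In `tr`, `sp2` one may assume
that all root groups have order `≥ 4` and exponent 2 (so there is nothing to prove for `q = 2` and for the unitary groups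
of odd degree). `sp2` : only `PSp₄(q)`, `U₄(q)`; `six` : only `G₂(q)`, `³D₄(q)`, both orders. -/
structure KRow (cs : CoxeterSystem M W) (h : IsCartan M A) (T : Subgroup Y) (n : I → Y) (X : (I → ℤ) → Subgroup Y) :
    Prop where
  two : ∃ i j : I, i ≠ j
  conn : Conn M
  ab : ∀ s ∈ T, ∀ t ∈ T, s * t = t * s
  tr : (∀ k, 4 ≤ Nat.card (X (sr k))) → (∀ k, ∀ x ∈ X (sr k), x * x = 1) → ∀ i, KTorus.TrNode T n X i
  sp2 : (∀ k, 4 ≤ Nat.card (X (sr k))) → (∀ k, ∀ x ∈ X (sr k), x * x = 1) → ∀ i j, M i j = 4 →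
    (∀ k, k = i ∨ k = j) → SpOn T (X (sr i)) (X (sr j)) ∨ SpOn T (X (sr j)) (X (sr i))
  six : ∀ i j, M i j = 6 → (∀ k, k = i ∨ k = j) ∧ NComm (X (sr i)) (X (rep cs h (cs.simple j) (sr i)))

end defs

/-- `Y` has a root group datum which is a row of rank `≥ 2`. -/
def HasRow (Y : Type*) [Group Y] : Prop :=
  ∃ (l : ℕ) (M : CoxeterMatrix (Fin l)) (A : Fin l → Fin l → ℤ) (h : IsCartan M A) (T : Subgroup Y) (n : Fin l → Y)
    (X : (Fin l → ℤ) → Subgroup Y), Finite M.Group ∧ RGD M.toCoxeterSystem h 2 T n X ∧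
      RGD.Sup X {x | IsRoot M.toCoxeterSystem h x} = ⊤ ∧ KRow M.toCoxeterSystem h T n X

/-- `Y ≅ L₂(F)` -/
def IsLTwo (Y : Type*) [Group Y] : Prop :=
  ∃ (F : Type) (_ : Field F) (_ : Fintype F), CharP F 2 ∧ 4 ≤ Fintype.card F ∧
    Nonempty (Y ≃* Matrix.ProjectiveSpecialLinearGroup (Fin 2) F)

/-- `Y ≅ U₃(q)` -/
def IsUThree (Y : Type*) [Group Y] : Prop :=
  ∃ (F : Type) (_ : Field F) (_ : Fintype F) (_ : CharP F 2) (q : ℕ), Fintype.card F = q ^ 2 ∧ q ≠ 2 ∧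
    Nonempty (Y ≃* PSU 3 F q)

/-- `Y` has no action of the kind considered. -/
def DeadY (Y : Type*) [Group Y] : Prop := ∀ (S : Sylow 2 Y) (T : Subgroup (MulAut Y)), ¬ TAct (S : Subgroup Y) T

universe u

/-- **The table** (helper923, helper679). -/
def KTable : Prop :=
  ∀ (Y : Type u) [Group Y] [Finite Y], IsSimpleGroup Y → IsLieTypeChar 2 Y →
    HasRow Y ∨ IsLTwo Y ∨ IsUThree Y ∨ Lie.IsoSuzuki Y ∨ Lie.Iso2F4 Y

/-- `U₃(q)`, `Sz(q)`, `²F₄(q)` (helper484). -/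
def KDead : Prop :=
  ∀ (Y : Type u) [Group Y] [Finite Y], IsSimpleGroup Y → (IsUThree Y ∨ Lie.IsoSuzuki Y ∨ Lie.Iso2F4 Y) → DeadY Y

/-- The groups `L₂(q)` (helper578; `Z(K) = 1` by transfer). -/
def KLTwo : Prop :=
  ∀ (K : Type u) [Group K] [Finite K], commutator K = ⊤ → Odd (Nat.card (center K)) → IsLTwo (K ⧸ center K) →
    ∀ (S : Sylow 2 K) (T : Subgroup (MulAut K)), TAct (S : Subgroup K) T →
      (∃ (J : Type) (_ : Finite J) (P : J → Subgroup K) (m : J → J → ℕ), KSys (S : Subgroup K) T P m) ∨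
        KExc K (S : Subgroup K) T

end Cfsg.Agent.Omega.Lie.End

end

section


/-!
# (k4) FRAT of the K-side of LieBNP, over root group data of any rank

`frat`: `X₀ ≤ U` covers `U / (Q_i ∩ Q_j)`  ==>  `X₀` covers `U / Q_{ij}`, if the middle root groups of the rank two
subsystem of `i`, `j` are in `U'`; this holds for `M i j = 2, 3` always (`le_comm_three`), and for `M i j = 4` if
a torus element centralises `X α_i` and is f.p.f. on `X α_j` or conversely (`le_comm_four`).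
-/

set_option autoImplicit false
set_option linter.unusedSectionVars false

namespace Cfsg.Agent.OmegaEnd.Frat

open CoxeterSystem Cfsg.Agent.ChevalleyStructure.CoxeterGeom Cfsg.Agent.Tits.Roots Cfsg.Agent.Tits.Core
  Cfsg.Agent.Tits.RootComb Cfsg.Agent.Nodes.Comb Cfsg.Agent.Nodes.Reps Cfsg.Agent.Nodes.BNOf Cfsg.Agent.Nodes.BNOf.RGD
  Cfsg.Agent.Nodes.ZFam Cfsg.Agent.Nodes.Bruhat Cfsg.Agent.ParSys Cfsg.Agent.ParSys.Fam
  Cfsg.Agent.KFacts.RgdFilt Cfsg.Agent.KFacts.RgdPar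
open scoped commutatorElement

variable {I W Y : Type*} [Fintype I] [DecidableEq I] [Group W] [Finite W] [Group Y] {M : CoxeterMatrix I}
  {cs : CoxeterSystem M W} {A : I → I → ℤ} {h : IsCartan M A} {p : ℕ} {T : Subgroup Y} {n : I → Y}
  {X : (I → ℤ) → Subgroup Y}

/-! ### The unipotent radical of the parabolic subgroup of type `{i, j}` -/

/-- The positive roots which are not supported on `{i, j}`. -/
def PosNot (cs : CoxeterSystem M W) (h : IsCartan M A) (i j : I) : Set (I → ℤ) :=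
  {x | IsRoot cs h x ∧ 0 ≤ x ∧ ¬ Supp i j x}

omit [Finite W] in
theorem exists_coord {i j : I} {x : I → ℤ} (hx : x ∈ PosNot cs h i j) : ∃ k, k ≠ i ∧ k ≠ j ∧ 0 < x k := by
  obtain ⟨-, h0, hs⟩ := hx
  unfold Supp at hs
  push Not at hs
  obtain ⟨k, hki, hkj, hk⟩ := hs
  exact ⟨k, hki, hkj, lt_of_le_of_ne (h0 k) (Ne.symm hk)⟩

omit [Finite W] in
theorem mem_of_coord {i j k : I} {x : I → ℤ} (hx : IsRoot cs h x) (hki : k ≠ i) (hkj : k ≠ j) (hk : 0 < x k) :
    x ∈ PosNot cs h i j := by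
  refine ⟨hx, ?_, fun hs => ?_⟩
  · rcases hx.pos_or_neg with h1 | h1
    · exact h1
    · have h2 : x k ≤ 0 := h1 k
      omega
  · rw [hs k hki hkj] at hk
    exact lt_irrefl _ hk

omit [Finite W] in
theorem PosNot_subset (i j : I) : PosNot cs h i j ⊆ Pos cs h := fun _ hx => ⟨hx.1, hx.2.1⟩

omit [Finite W] in
theorem X_le_normalizer (R : RGD cs h p T n X) {i j : I} {x : I → ℤ} (hx : IsRoot cs h x) (hs : Supp i j x) :
    X x ≤ Subgroup.normalizer (Sup X (PosNot cs h i j) : Set Y) := by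
  refine R.le_normalizer hx ?_
  intro y hy
  refine ⟨hy.1, Or.inr ⟨?_, ?_⟩⟩
  · rintro rfl
    exact hy.2.2 (by simpa using hs.neg)
  · rintro z ⟨hz, m, a, b, hm, ha, hb, e⟩
    obtain ⟨k, hki, hkj, hk⟩ := exists_coord hy
    refine mem_of_coord hz hki hkj ?_
    have h1 := congrFun e k
    rw [Pi.add_apply, Pi.smul_apply, Pi.smul_apply, Pi.smul_apply, hs k hki hkj, smul_zero, zero_add,
      smul_eq_mul, smul_eq_mul] at h1
    have h2 : 0 < m * z k := by rw [h1]; exact mul_pos hb hk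
    exact (mul_pos_iff_of_pos_left hm).1 h2

omit [Finite W] in
theorem U_le_normalizer (R : RGD cs h p T n X) (i j : I) :
    Sup X (Pos cs h) ≤ Subgroup.normalizer (Sup X (PosNot cs h i j) : Set Y) := by
  refine Sup_le fun z hz => ?_
  by_cases hs : Supp i j z
  · exact X_le_normalizer R hz.1 hs
  · exact (le_Sup (S := PosNot cs h i j) ⟨hz.1, hz.2, hs⟩).trans Subgroup.le_normalizer

omit [Finite W] in
theorem cj_n (R : RGD cs h p T n X) {i j l : I} (hl : l = i ∨ l = j) :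
    cj (n l) (Sup X (PosNot cs h i j)) = Sup X (PosNot cs h i j) := by
  have key : cj (n l) (Sup X (PosNot cs h i j)) ≤ Sup X (PosNot cs h i j) := by
    rw [cj_Sup]
    refine iSup_le ?_
    rintro ⟨y, hy⟩
    change cj (n l) (X y) ≤ _
    rw [R.conj l y hy.1]
    obtain ⟨k, hki, hkj, hk⟩ := exists_coord hy
    refine le_Sup (mem_of_coord (hy.1.act _) hki hkj ?_)
    rw [rep_simple_apply]
    · exact hk
    · rcases hl with rfl | rfl
      · exact hki
      · exact hkj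
  apply le_antisymm key
  have h3 : cj (n l * n l) (Sup X (PosNot cs h i j)) = Sup X (PosNot cs h i j) := by
    rw [cj_Sup]
    exact iSup_congr fun z => R.tor z.1 z.2.1 _ (R.sq_mem_T l)
  calc Sup X (PosNot cs h i j) = cj (n l) (cj (n l) (Sup X (PosNot cs h i j))) := by rw [← cj_mul, h3]
    _ ≤ cj (n l) (Sup X (PosNot cs h i j)) := cj_mono _ key

omit [Finite W] in
/-- The parabolic subgroup of type `{i, j}` normalises the unipotent radical. -/
theorem par_le_normalizer (R : RGD cs h p T n X) (i j : I) :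
    B cs h T X ⊔ Subgroup.closure {n i, n j} ≤ Subgroup.normalizer (Sup X (PosNot cs h i j) : Set Y) := by
  refine sup_le (sup_le (R.T_le_normalizer fun _ hx => hx.1) (U_le_normalizer R i j)) ?_
  rw [Subgroup.closure_le]
  rintro x (rfl | rfl)
  · exact mem_normalizer_iff_cj.2 (cj_n R (Or.inl rfl))
  · exact mem_normalizer_iff_cj.2 (cj_n R (Or.inr rfl))

omit [Finite W] in
theorem le_Qk (R : RGD cs h p T n X) {i j : I} {P : Subgroup Y} (hP : P ≤ B cs h T X ⊔ Subgroup.closure {n i, n j}) :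
    Sup X (PosNot cs h i j) ≤ Qk (B cs h T X) P := by
  intro x hx g hg
  have h1 := (Subgroup.mem_normalizer_iff.1 (inv_mem (par_le_normalizer R i j (hP hg))) x).1 hx
  rw [inv_inv] at h1
  exact U_le_B (Sup_mono (PosNot_subset i j) h1)

/-- **FRAT**, the root groups of the middle roots being in `U'`. -/
theorem frat_of_comm [Finite Y] [Fact p.Prime] (R : RGD cs h p T n X) {i j : I} (hij : i ≠ j)
    (hc : ∀ k : ℤ, 1 < k → k < M i j → X (cyc cs h i j k) ≤ ⁅Sup X (Pos cs h), Sup X (Pos cs h)⁆)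
    {Pi Pj P : Subgroup Y} (hi : n i ∈ Pi) (hj : n j ∈ Pj)
    (hP : P ≤ B cs h T X ⊔ Subgroup.closure {n i, n j}) {X₀ : Subgroup Y} (hX₀ : X₀ ≤ Sup X (Pos cs h))
    (hcov : ∀ u ∈ Sup X (Pos cs h), ∃ x ∈ X₀, x⁻¹ * u ∈ Qk (B cs h T X) Pi ∧ x⁻¹ * u ∈ Qk (B cs h T X) Pj) :
    ∀ u ∈ Sup X (Pos cs h), ∃ x ∈ X₀, x⁻¹ * u ∈ Qk (B cs h T X) P := by
  have hNU : Sup X (PosNot cs h i j) ≤ Sup X (Pos cs h) := Sup_mono (PosNot_subset i j)
  have hle : Sup X (Pos cs h) ≤ X₀ ⊔ Sup X (PosNot cs h i j) := by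
    refine le_of_sup_commutator R.isPGroup_Upos (sup_le hX₀ hNU) ?_
    intro u hu
    obtain ⟨x, hx, h1, h2⟩ := hcov u hu
    have h3 : x⁻¹ * u ∈ Sup X (Pos cs h) := mul_mem (inv_mem (hX₀ hx)) hu
    have h4 := mem_V_of_stab R i h3 (h1 _ hi)
    have h5 := mem_V_of_stab R j h3 (h2 _ hj)
    have h6 := V_inf_V R i j _ h4 h5
    have h7 : Sup X (PosNN cs h i j) ≤
        Sup X (PosNot cs h i j) ⊔ ⁅Sup X (Pos cs h), Sup X (Pos cs h)⁆ := by
      refine Sup_le ?_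
      rintro z ⟨hz, hz0, hzi, hzj⟩
      by_cases hs : Supp i j z
      · obtain ⟨k, hk1, hk2, rfl⟩ := exists_cyc_pos cs h hij hz hs hz0
        refine (hc k ?_ ?_).trans le_sup_right
        · rcases eq_or_lt_of_le hk1 with h8 | h8
          · rw [← h8, cyc_one] at hzi
            exact absurd rfl hzi
          · exact h8
        · rcases eq_or_lt_of_le hk2 with h8 | h8
          · rw [h8, cyc_m cs h hij] at hzj
            exact absurd rfl hzj
          · exact h8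
      · exact (le_Sup (S := PosNot cs h i j) ⟨hz, hz0, hs⟩).trans le_sup_left
    have e : u = x * (x⁻¹ * u) := by group
    rw [e, sup_assoc]
    exact mul_mem (Subgroup.mem_sup_left hx) (Subgroup.mem_sup_right (h7 h6))
  intro u hu
  have h1 : u ∈ ((X₀ ⊔ Sup X (PosNot cs h i j) : Subgroup Y) : Set Y) := hle hu
  rw [Subgroup.coe_mul_of_left_le_normalizer_right _ _ (hX₀.trans (U_le_normalizer R i j)), Set.mem_mul] at h1
  obtain ⟨x, hx, w, hw, rfl⟩ := h1
  refine ⟨x, hx, ?_⟩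
  rw [inv_mul_cancel_left]
  exact le_Qk R hP hw

/-! ### The rank one groups -/

/-- the decomposition of the nontrivial elements of `X α_i` -/
theorem rk1_pos (R : RGD cs h p T n X) (i : I) {u : Y} (hu : u ∈ X (sr i)) (hu1 : u ≠ 1) :
    ∃ a ∈ X (-sr i), ∃ t ∈ T, ∃ b ∈ X (-sr i), u = a * (t * n i) * b := by
  have hn : ∀ x ∈ X (sr i), n i * x * (n i)⁻¹ ∈ X (-sr i) := fun x hx => by
    have := R.conj_mem (rp_simple cs R.nsys i) (isRoot_sr cs h i) hx
    rwa [rep_simple_sr] at this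
  have hn' : ∀ x ∈ X (sr i), (n i)⁻¹ * x * n i ∈ X (-sr i) := fun x hx => by
    have := R.conj_mem' (rp_simple cs R.nsys i) (isRoot_sr cs h i) hx
    rwa [inv_simple, rep_simple_sr] at this
  have h1 : n i * u * (n i)⁻¹ ≠ 1 := by
    intro h2
    apply hu1
    have e : u = (n i)⁻¹ * (n i * u * (n i)⁻¹) * n i := by group
    rw [e, h2]; group
  obtain ⟨a, ha, t, ht, b, hb, e⟩ := R.rk1 i _ (hn u hu) h1
  have ht' : (n i)⁻¹ * t * n i ∈ T := by
    have := (Subgroup.mem_normalizer_iff.1 (inv_mem (R.nsys.norm i)) t).1 ht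
    rwa [inv_inv] at this
  refine ⟨_, hn' a ha, _, ht', _, hn' b hb, ?_⟩
  have e2 : u = (n i)⁻¹ * (n i * u * (n i)⁻¹) * n i := by group
  rw [e2, e]; group

/-- conjugation with an element of `T n_i` -/
theorem mu_conj (R : RGD cs h p T n X) {i : I} {t : Y} (ht : t ∈ T) {x : I → ℤ} (hx : IsRoot cs h x) {g : Y}
    (hg : g ∈ X x) : t * n i * g * (t * n i)⁻¹ ∈ X (rep cs h (cs.simple i) x) := by
  have h1 : Rp cs R.nsys (cs.simple i) (t * n i) := by
    have := (rp_of_mem (cs := cs) (hN := R.nsys) ht).mul (rp_simple cs R.nsys i)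
    rwa [one_mul] at this
  exact R.conj_mem h1 hx hg

theorem mu_conj' (R : RGD cs h p T n X) {i : I} {t : Y} (ht : t ∈ T) {x : I → ℤ} (hx : IsRoot cs h x) {g : Y}
    (hg : g ∈ X x) : (t * n i)⁻¹ * g * (t * n i) ∈ X (rep cs h (cs.simple i) x) := by
  have h1 : Rp cs R.nsys (cs.simple i) (t * n i) := by
    have := (rp_of_mem (cs := cs) (hN := R.nsys) ht).mul (rp_simple cs R.nsys i)
    rwa [one_mul] at this
  have := R.conj_mem' h1 hx hg
  rwa [inv_simple] at this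

theorem T_conj (R : RGD cs h p T n X) {t : Y} (ht : t ∈ T) {x : I → ℤ} (hx : IsRoot cs h x) {g : Y}
    (hg : g ∈ X x) : t * g * t⁻¹ ∈ X x := by
  rw [← R.tor x hx t ht]
  exact conj_mem_cj.2 hg

/-- a torus element centralising `X α_i` centralises `X (-α_i)` -/
theorem fix_neg (R : RGD cs h p T n X) {i : I} {t : Y} (ht : t ∈ T) (hf : ∀ x ∈ X (sr i), t * x * t⁻¹ = x) :
    ∀ x ∈ X (-sr i), t * x * t⁻¹ = x := by
  intro x hx
  by_cases hx1 : x = 1
  · rw [hx1]; group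
  obtain ⟨a, ha, s, hs, b, hb, e⟩ := R.rk1 i x hx hx1
  have h1 : x⁻¹ * (t * x * t⁻¹) ∈ B cs h T X := by
    have hT : (s * n i)⁻¹ * (t * (s * n i) * t⁻¹) ∈ T := by
      have h2 : (n i)⁻¹ * (s⁻¹ * t * s) * n i ∈ T := by
        have := (Subgroup.mem_normalizer_iff.1 (inv_mem (R.nsys.norm i)) (s⁻¹ * t * s)).1
          (mul_mem (mul_mem (inv_mem hs) ht) hs)
        rwa [inv_inv] at this
      have e2 : (s * n i)⁻¹ * (t * (s * n i) * t⁻¹) = ((n i)⁻¹ * (s⁻¹ * t * s) * n i) * t⁻¹ := by group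
      rw [e2]
      exact mul_mem h2 (inv_mem ht)
    have e1 : x⁻¹ * (t * x * t⁻¹) = b⁻¹ * ((s * n i)⁻¹ * (t * (s * n i) * t⁻¹)) * b := by
      have e3 : t * x * t⁻¹ = (t * a * t⁻¹) * (t * (s * n i) * t⁻¹) * (t * b * t⁻¹) := by rw [e]; group
      rw [e3, hf a ha, hf b hb, e]; group
    rw [e1]
    have hbB : b ∈ B cs h T X := X_le_B (isRoot_sr cs h i) (sr_nonneg i) hb
    exact mul_mem (mul_mem (inv_mem hbB) (T_le_B hT)) hbB
  have h2 := neg_inf_B R i _ (mul_mem (inv_mem hx) (T_conj R ht (isRoot_sr cs h i).neg hx)) h1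
  exact (inv_mul_eq_one.1 h2).symm

/-- a torus element f.p.f. on `X α_i` is f.p.f. on `X (-α_i)` -/
theorem fpf_neg (R : RGD cs h p T n X) {i : I} {t : Y} (ht : t ∈ T) (hf : ∀ x ∈ X (sr i), t * x * t⁻¹ = x → x = 1) :
    ∀ x ∈ X (-sr i), t * x * t⁻¹ = x → x = 1 := by
  intro x hx hx2
  by_contra hx1
  obtain ⟨a, ha, s, hs, b, hb, e⟩ := R.rk1 i x hx hx1
  have hXB : ∀ y ∈ X (sr i), y ∈ B cs h T X := fun y hy => X_le_B (isRoot_sr cs h i) (sr_nonneg i) hy
  -- `t a t⁻¹ = a`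
  have hta := T_conj R ht (isRoot_sr cs h i) ha
  have htb := T_conj R ht (isRoot_sr cs h i) hb
  have hs' : t * s * n i * t⁻¹ * (n i)⁻¹ ∈ T := by
    have h2 : n i * t⁻¹ * (n i)⁻¹ ∈ T := (Subgroup.mem_normalizer_iff.1 (R.nsys.norm i) t⁻¹).1 (inv_mem ht)
    have e2 : t * s * n i * t⁻¹ * (n i)⁻¹ = t * s * (n i * t⁻¹ * (n i)⁻¹) := by group
    rw [e2]
    exact mul_mem (mul_mem ht hs) h2
  have e3 : a * s * n i * b = (t * a * t⁻¹) * (t * s * n i * t⁻¹ * (n i)⁻¹) * n i * (t * b * t⁻¹) := by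
    rw [← e]
    conv_lhs => rw [← hx2, e]
    group
  have h4 : a⁻¹ * (t * a * t⁻¹) ∈ X (sr i) := mul_mem (inv_mem ha) hta
  have h5 : n i * (b * (t * b * t⁻¹)⁻¹) * (n i)⁻¹ ∈ X (-sr i) := by
    have := R.conj_mem (rp_simple cs R.nsys i) (isRoot_sr cs h i) (mul_mem hb (inv_mem htb))
    rwa [rep_simple_sr] at this
  have e6 : n i * (b * (t * b * t⁻¹)⁻¹) * (n i)⁻¹ =
      s⁻¹ * (a⁻¹ * (t * a * t⁻¹)) * (t * s * n i * t⁻¹ * (n i)⁻¹) := by
    have : n i * b = s⁻¹ * a⁻¹ * (a * s * n i * b) := by group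
    have e7 : n i * (b * (t * b * t⁻¹)⁻¹) * (n i)⁻¹ = (n i * b) * ((t * b * t⁻¹)⁻¹ * (n i)⁻¹) := by group
    rw [e7, this, e3]
    group
  have h6 := neg_inf_B R i _ h5 (by
    rw [e6]
    exact mul_mem (mul_mem (T_le_B (inv_mem hs)) (hXB _ h4)) (T_le_B hs'))
  have h7 : b * (t * b * t⁻¹)⁻¹ = 1 := by
    have : b * (t * b * t⁻¹)⁻¹ = (n i)⁻¹ * (n i * (b * (t * b * t⁻¹)⁻¹) * (n i)⁻¹) * n i := by group
    rw [this, h6]; group
  have hb1 : b = 1 := hf b hb (mul_inv_eq_one.1 h7).symm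
  rw [hb1, mul_one] at e
  -- `x = a s n_i ∈ X_{-i}`
  have h8 : (n i)⁻¹ * (s⁻¹ * a * s) * n i ∈ X (-sr i) := by
    have h9 : s⁻¹ * a * s ∈ X (sr i) := by
      have := T_conj R (inv_mem hs) (isRoot_sr cs h i) ha
      rwa [inv_inv] at this
    have := R.conj_mem' (rp_simple cs R.nsys i) (isRoot_sr cs h i) h9
    rwa [inv_simple, rep_simple_sr] at this
  have h10 : s * n i ∈ X (-sr i) := by
    have e11 : s * n i = x * ((n i)⁻¹ * (s⁻¹ * a * s) * n i)⁻¹ := by rw [e]; group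
    rw [e11]
    exact mul_mem hx (inv_mem h8)
  -- then `x = a (s n_i)`, so `a ∈ X_{-i} ∩ X_i`
  have h11 : a = 1 := by
    refine neg_inf_B R i a ?_ (hXB a ha)
    have e12 : a = x * (s * n i)⁻¹ := by rw [e]; group
    rw [e12]
    exact mul_mem hx (inv_mem h10)
  rw [h11, one_mul] at e
  -- conjugating `X_i` by `x ∈ X_{-i}` gives `X_{-i}`
  have h12 : X (sr i) = X (-sr i) := by
    have h13 : cj x (X (-sr i)) = X (-sr i) := cj_eq_of_mem hx
    have h14 : cj x (X (-sr i)) = X (sr i) := by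
      rw [e, cj_mul, R.conj i _ (isRoot_sr cs h i).neg, map_neg, rep_simple_sr, neg_neg,
        R.tor _ (isRoot_sr cs h i) s hs]
    rw [← h14, h13]
  apply hx1
  apply neg_inf_B R i x hx
  apply hXB
  rw [h12]
  exact hx

/-! ### The middle root groups are in `U'` -/

omit [Finite W] in
/-- reading the rank two subsystem backwards -/
theorem cyc_swap {i j : I} (hij : i ≠ j) (k : ℤ) : cyc cs h j i k = cyc cs h i j (M i j + 1 - k) := by
  have hz : ∀ a : ℤ, (cs.simple j * cs.simple i) ^ a = (cs.simple i * cs.simple j) ^ (-a) := by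
    intro a
    rw [zpow_neg, ← inv_zpow, mul_inv_rev, inv_simple, inv_simple]
  rcases Int.even_or_odd' k with ⟨c, rfl | rfl⟩
  · have e : (M i j : ℤ) + 1 - 2 * c = (M i j + 1) + 2 * (-c) := by ring
    rw [e, cyc_shift, cyc_m1 cs h hij, cyc_even, hz]
  · have e : (M i j : ℤ) + 1 - (2 * c + 1) = M i j + 2 * (-c) := by ring
    rw [e, cyc_shift, cyc_m cs h hij, cyc_odd, hz]

theorem cyc_ne {i j : I} (hij : i ≠ j) {k l : ℤ} (hk : 1 ≤ k) (hkl : k < l) (hl : l ≤ M i j) :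
    cyc cs h i j k ≠ cyc cs h i j l := by
  intro he
  have hpos := dt_pos cs h hij hk hkl hl
  rw [he] at hpos
  unfold dt at hpos
  have : cyc cs h i j l i * cyc cs h i j l j - cyc cs h i j l j * cyc cs h i j l i = 0 := by ring
  omega

theorem cyc_ne_neg {i j : I} (hij : i ≠ j) {k l : ℤ} (hk : 1 ≤ k) (hkl : k < l) (hl : l ≤ M i j) :
    cyc cs h i j k ≠ -cyc cs h i j l := by
  intro he
  have h1 := cyc_nonneg cs h hij hk (by omega)
  rw [he] at h1
  exact (isRoot_cyc cs h i j l).neg.not_pos_neg h1 (neg_nonpos.2 (cyc_nonneg cs h hij (by omega) hl))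

/-- the root groups of the roots number `a`, ..., `b` -/
def Win (cs : CoxeterSystem M W) (h : IsCartan M A) (X : (I → ℤ) → Subgroup Y) (i j : I) (a b : ℤ) : Subgroup Y :=
  Sup X {z | ∃ r : ℤ, a ≤ r ∧ r ≤ b ∧ z = cyc cs h i j r}

theorem le_Win {i j : I} {a b r : ℤ} (h1 : a ≤ r) (h2 : r ≤ b) : X (cyc cs h i j r) ≤ Win cs h X i j a b :=
  le_Sup (S := {z | ∃ r : ℤ, a ≤ r ∧ r ≤ b ∧ z = cyc cs h i j r}) ⟨r, h1, h2, rfl⟩

theorem Win_le {i j : I} {a b : ℤ} {K : Subgroup Y} (hK : ∀ r, a ≤ r → r ≤ b → X (cyc cs h i j r) ≤ K) :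
    Win cs h X i j a b ≤ K := by
  refine Sup_le ?_
  rintro z ⟨r, h1, h2, rfl⟩
  exact hK r h1 h2

/-- the commutator relations -/
theorem comm_Win (R : RGD cs h p T n X) {i j : I} (hij : i ≠ j) {k l : ℤ} (hk : 1 ≤ k) (hkl : k < l) (hl : l ≤ M i j)
    {x y : Y} (hx : x ∈ X (cyc cs h i j k)) (hy : y ∈ X (cyc cs h i j l)) :
    ⁅x, y⁆ ∈ Win cs h X i j (k + 1) (l - 1) := by
  have h1 := R.comm _ _ (isRoot_cyc cs h i j k) (isRoot_cyc cs h i j l) (cyc_ne hij hk hkl hl)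
    (cyc_ne_neg hij hk hkl hl) x hx y hy
  refine (?_ : btw cs h X _ _ ≤ _) h1
  unfold Nodes.Reps.btw
  refine iSup_le ?_
  rintro ⟨z, hz⟩
  obtain ⟨r, hr1, hr2, rfl⟩ := window cs h hij hk hkl hl hz
  exact le_Win (by omega) (by omega)

/-- `X (-α_i)` and `X α_j` commute. -/
theorem neg_comm (R : RGD cs h p T n X) {i j : I} (hij : i ≠ j) {b v : Y} (hb : b ∈ X (-sr i)) (hv : v ∈ X (sr j)) :
    b * v * b⁻¹ = v := by
  have h1 := R.comm (-sr i) (sr j) (isRoot_sr cs h i).neg (isRoot_sr cs h j) ?_ ?_ b hb v hv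
  · have h2 : btw cs h X (-sr i) (sr j) ≤ ⊥ := by
      unfold Nodes.Reps.btw
      refine iSup_le ?_
      rintro ⟨z, hz, m, a, b, hm, ha, hb, e⟩
      exfalso
      have e1 := congrFun e i
      have e2 := congrFun e j
      rw [Pi.add_apply, Pi.smul_apply, Pi.smul_apply, Pi.smul_apply, Pi.neg_apply, sr_self, sr_ne hij,
        smul_eq_mul, smul_eq_mul, smul_eq_mul] at e1
      rw [Pi.add_apply, Pi.smul_apply, Pi.smul_apply, Pi.smul_apply, Pi.neg_apply, sr_self, sr_ne hij.symm,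
        smul_eq_mul, smul_eq_mul, smul_eq_mul] at e2
      rcases hz.pos_or_neg with h3 | h3
      · have h4 : 0 ≤ z i := h3 i
        have : 0 ≤ m * z i := mul_nonneg hm.le h4
        omega
      · have h4 : z j ≤ 0 := h3 j
        have : m * z j ≤ 0 := mul_nonpos_of_nonneg_of_nonpos hm.le h4
        omega
    have h3 : ⁅b, v⁆ = 1 := Subgroup.mem_bot.1 (h2 h1)
    rw [commutatorElement_def, mul_inv_eq_one] at h3
    exact h3
  · intro he
    have := congrFun he i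
    rw [Pi.neg_apply, sr_self, sr_ne hij] at this
    omega
  · intro he
    have := congrFun he i
    rw [Pi.neg_apply, Pi.neg_apply, sr_self, sr_ne hij] at this
    omega

/-- `[X (-α_i), X z₂]` -/
theorem neg_comm_two (R : RGD cs h p T n X) {i j : I} (hij : i ≠ j) (h3 : 3 ≤ M i j) {a w : Y} (ha : a ∈ X (-sr i))
    (hw : w ∈ X (cyc cs h i j 2)) : ⁅a, w⁆ ∈ Win cs h X i j 3 (M i j) := by
  have hM : (3 : ℤ) ≤ M i j := by exact_mod_cast h3
  have e1 : rep cs h (cs.simple i) (cyc cs h i j 2) = cyc cs h i j (M i j) := by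
    rw [left_cyc cs h hij]; congr 1; ring
  have e0 : rep cs h (cs.simple i) (-sr i) = cyc cs h i j 1 := by
    rw [map_neg, rep_simple_sr, neg_neg, cyc_one]
  have h1 := R.comm (-sr i) (cyc cs h i j 2) (isRoot_sr cs h i).neg (isRoot_cyc cs h i j 2) ?_ ?_ a ha w hw
  · refine (?_ : btw cs h X _ _ ≤ _) h1
    unfold Nodes.Reps.btw
    refine iSup_le ?_
    rintro ⟨z, hz⟩
    have h2 := hz.act (cs.simple i)
    rw [e1, e0] at h2
    obtain ⟨r, hr1, hr2, hr⟩ := window cs h hij (le_refl 1) (by omega) (le_refl _) h2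
    have h4 : z = cyc cs h i j (M i j + 2 - r) := by
      rw [← left_cyc cs h hij, ← hr, ← rep_mul_apply, simple_mul_simple_self, map_one, Module.End.one_apply]
    change X z ≤ _
    rw [h4]
    exact le_Win (by omega) (by omega)
  · intro he
    have h2 := cyc_nonneg cs h hij (k := 2) (by omega) (by omega)
    rw [← he] at h2
    exact (isRoot_sr cs h i).neg.not_pos_neg h2 (neg_nonpos.2 (sr_nonneg i))
  · intro he
    have h2 := congrArg (rep cs h (cs.simple i)) he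
    rw [map_neg (rep cs h (cs.simple i)) (cyc cs h i j 2), e0, e1] at h2
    exact cyc_ne_neg hij (le_refl 1) (by omega) (le_refl _) h2

/-- **The first component of the commutators.** -/
theorem first_comp (R : RGD cs h p T n X) {i j : I} (hij : i ≠ j) (h3 : 3 ≤ M i j) {u w : Y} (hu : u ∈ X (sr i))
    (hu1 : u ≠ 1) (hw : w ∈ X (cyc cs h i j 2)) :
    ∃ v ∈ X (sr j), ∃ c ∈ Win cs h X i j 3 (M i j), ⁅u, v⁆ = c * w * v⁻¹ := by
  obtain ⟨a, ha, t, ht, b, hb, e⟩ := rk1_pos R i hu hu1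
  have hv : (t * n i)⁻¹ * w * (t * n i) ∈ X (sr j) := by
    have h1 := mu_conj' R (i := i) ht (isRoot_cyc cs h i j 2) hw
    rw [left_cyc cs h hij] at h1
    have e1 : (M i j : ℤ) + 2 - 2 = M i j := by ring
    rwa [e1, cyc_m cs h hij] at h1
  refine ⟨_, hv, ⁅a, w⁆, neg_comm_two R hij h3 ha hw, ?_⟩
  have h2 := neg_comm R hij hb hv
  have h5 : u * ((t * n i)⁻¹ * w * (t * n i)) * u⁻¹ = a * w * a⁻¹ := by
    have e5 : u * ((t * n i)⁻¹ * w * (t * n i)) * u⁻¹ =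
        a * (t * n i) * (b * ((t * n i)⁻¹ * w * (t * n i)) * b⁻¹) * (t * n i)⁻¹ * a⁻¹ := by rw [e]; group
    rw [e5, h2]; group
  have e6 : ⁅u, (t * n i)⁻¹ * w * (t * n i)⁆ =
      (u * ((t * n i)⁻¹ * w * (t * n i)) * u⁻¹) * ((t * n i)⁻¹ * w * (t * n i))⁻¹ := by
    rw [commutatorElement_def]
  rw [e6, h5, commutatorElement_def]; group

theorem Win_le_V {i j : I} (hij : i ≠ j) {a b : ℤ} (ha : 1 ≤ a) (hb : b < M i j) :
    Win cs h X i j a b ≤ Sup X (PosNe cs h j) := by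
  refine Win_le fun r h1 h2 => le_Sup ⟨isRoot_cyc cs h i j r, cyc_nonneg cs h hij (by omega) (by omega), ?_⟩
  rw [← cyc_m cs h hij]
  exact cyc_ne hij (by omega) (by omega) (le_refl _)

/-- type `A₂`: `[X α_i, X α_j] = X (α_i + α_j)` -/
theorem le_comm_three [Finite Y] (R : RGD cs h p T n X) {i j : I} (hij : i ≠ j) (h3 : M i j = 3) :
    X (cyc cs h i j 2) ≤ ⁅Sup X (Pos cs h), Sup X (Pos cs h)⁆ := by
  have hM : (M i j : ℤ) = 3 := by exact_mod_cast h3
  intro w hw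
  obtain ⟨u, hu, hu1⟩ := exists_ne_one R i
  obtain ⟨v, hv, c, hc, e⟩ := first_comp R hij h3.ge hu hu1 hw
  have hXU : ∀ l, X (sr l) ≤ Sup X (Pos cs h) := fun l => le_Sup (S := Pos cs h) ⟨isRoot_sr cs h l, sr_nonneg l⟩
  have h1 : ⁅u, v⁆ ∈ X (cyc cs h i j 2) := by
    have h2 := comm_Win R hij (le_refl 1) (by omega) (le_refl _) (x := u) (y := v) (by rwa [cyc_one])
      (by rwa [cyc_m cs h hij])
    refine (Win_le fun r h4 h5 => ?_ : Win cs h X i j (1 + 1) (M i j - 1) ≤ _) h2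
    have : r = 2 := by omega
    rw [this]
  have hc' : c ∈ X (sr j) := by
    refine (Win_le fun r h4 h5 => ?_ : Win cs h X i j 3 (M i j) ≤ _) hc
    have : r = M i j := by omega
    rw [this, cyc_m cs h hij]
  have h4 : ⁅w, v⁻¹⁆ = 1 := by
    have h2 := comm_Win R hij (k := 2) (l := M i j) (by omega) (by omega) (le_refl _) hw
      (y := v⁻¹) (by rw [cyc_m cs h hij]; exact inv_mem hv)
    have h5 : Win cs h X i j (2 + 1) (M i j - 1) ≤ ⊥ := Win_le fun r h4 h5 => by omega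
    exact Subgroup.mem_bot.1 (h5 h2)
  have h6 : w * v⁻¹ = v⁻¹ * w := by
    rw [commutatorElement_def, mul_inv_eq_one, mul_inv_eq_iff_eq_mul] at h4
    exact h4
  have h7 : c * v⁻¹ = ⁅u, v⁆ * w⁻¹ := by
    rw [e, mul_assoc c w, h6]; group
  have h8 : c * v⁻¹ = 1 := by
    refine eq_one_of_mem_V R j (mul_mem hc' (inv_mem hv)) ?_
    have h9 : X (cyc cs h i j 2) ≤ Sup X (PosNe cs h j) :=
      (le_Win (le_refl 2) (le_refl 2)).trans (Win_le_V hij (by omega) (by omega))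
    rw [h7]
    exact h9 (mul_mem h1 (inv_mem hw))
  have h9 : w = ⁅u, v⁆ := by
    rw [h7, mul_inv_eq_one] at h8
    exact h8.symm
  rw [h9]
  exact Subgroup.commutator_mem_commutator (hXU i hu) (hXU j hv)

/-- type `B₂`: the elements of `X z₂` are in `U'` modulo `X z₃`. -/
theorem comp_four [Finite Y] (R : RGD cs h p T n X) {i j : I} (hij : i ≠ j) (h4 : M i j = 4) {w : Y}
    (hw : w ∈ X (cyc cs h i j 2)) :
    ∃ y ∈ X (cyc cs h i j 3), y * w ∈ ⁅Sup X (Pos cs h), Sup X (Pos cs h)⁆ := by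
  have hM : (M i j : ℤ) = 4 := by exact_mod_cast h4
  obtain ⟨u, hu, hu1⟩ := exists_ne_one R i
  obtain ⟨v, hv, c, hc, e⟩ := first_comp R hij (by omega) hu hu1 hw
  have hXU : ∀ l, X (sr l) ≤ Sup X (Pos cs h) := fun l => le_Sup (S := Pos cs h) ⟨isRoot_sr cs h l, sr_nonneg l⟩
  have h1 : ⁅u, v⁆ ∈ Win cs h X i j 2 3 := by
    have h2 := comm_Win R hij (le_refl 1) (by omega) (le_refl _) (x := u) (y := v) (by rwa [cyc_one])
      (by rwa [cyc_m cs h hij])
    rw [hM] at h2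
    exact h2
  have h2 : w * v⁻¹ * w⁻¹ ∈ Win cs h X i j 3 (M i j) := by
    have h5 := comm_Win R hij (k := 2) (l := M i j) (by omega) (by omega) (le_refl _) hw
      (y := v⁻¹) (by rw [cyc_m cs h hij]; exact inv_mem hv)
    have e5 : w * v⁻¹ * w⁻¹ = ⁅w, v⁻¹⁆ * v⁻¹ := by rw [commutatorElement_def]; group
    rw [e5]
    refine mul_mem ?_ ?_
    · refine (Win_le fun r h6 h7 => ?_ : Win cs h X i j (2 + 1) (M i j - 1) ≤ _) h5
      exact le_Win (by omega) (by omega)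
    · have h6 : X (cyc cs h i j (M i j)) ≤ Win cs h X i j 3 (M i j) := le_Win (by omega) (le_refl _)
      rw [cyc_m cs h hij] at h6
      exact h6 (inv_mem hv)
  have h5 : ⁅u, v⁆ * w⁻¹ ∈ Win cs h X i j 3 (M i j) := by
    have e5 : ⁅u, v⁆ * w⁻¹ = c * (w * v⁻¹ * w⁻¹) := by rw [e]; group
    rw [e5]
    exact mul_mem hc h2
  have h6 : ⁅u, v⁆ * w⁻¹ ∈ Win cs h X i j 2 3 :=
    mul_mem h1 (inv_mem (le_Win (le_refl 2) (by omega) hw))
  -- `X z₄` normalises `X z₃`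
  have h7 : X (cyc cs h i j (M i j)) ≤ Subgroup.normalizer (X (cyc cs h i j 3) : Set Y) := by
    intro y hy
    have key : ∀ y ∈ X (cyc cs h i j (M i j)), ∀ x ∈ X (cyc cs h i j 3), y * x * y⁻¹ = x := by
      intro y hy x hx
      have h8 := comm_Win R hij (k := 3) (l := M i j) (by omega) (by omega) (le_refl _) hx hy
      have h9 : Win cs h X i j (3 + 1) (M i j - 1) ≤ ⊥ := Win_le fun r h4 h5 => by omega
      have h10 := Subgroup.mem_bot.1 (h9 h8)
      rw [commutatorElement_def, mul_inv_eq_one, mul_inv_eq_iff_eq_mul] at h10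
      rw [← h10]; group
    rw [Subgroup.mem_normalizer_iff]
    intro x
    constructor
    · intro hx
      rw [key y hy x hx]; exact hx
    · intro hx
      have h8 := key y⁻¹ (inv_mem hy) _ hx
      have e8 : y⁻¹ * (y * x * y⁻¹) * y⁻¹⁻¹ = x := by group
      rw [e8] at h8
      rw [h8]; exact hx
  have h8 : Win cs h X i j 3 (M i j) ≤ X (cyc cs h i j 3) ⊔ X (cyc cs h i j (M i j)) := by
    refine Win_le fun r h9 h10 => ?_
    rcases (by omega : r = 3 ∨ r = M i j) with rfl | rfl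
    · exact le_sup_left
    · exact le_sup_right
  have h9 : ⁅u, v⁆ * w⁻¹ ∈ ((X (cyc cs h i j 3) ⊔ X (cyc cs h i j (M i j)) : Subgroup Y) : Set Y) := h8 h5
  rw [Subgroup.coe_mul_of_right_le_normalizer_left _ _ h7, Set.mem_mul] at h9
  obtain ⟨y, hy, z, hz, e9⟩ := h9
  have h10 : z = 1 := by
    rw [cyc_m cs h hij] at hz
    refine eq_one_of_mem_V R j hz (Win_le_V hij (a := 2) (b := 3) (by omega) (by omega) ?_)
    have e10 : z = y⁻¹ * (⁅u, v⁆ * w⁻¹) := by rw [← e9]; group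
    rw [e10]
    exact mul_mem (inv_mem (le_Win (by omega) (le_refl 3) hy)) h6
  rw [h10, mul_one] at e9
  refine ⟨y, hy, ?_⟩
  have e11 : y * w = ⁅u, v⁆ := by rw [e9]; group
  rw [e11]
  exact Subgroup.commutator_mem_commutator (hXU i hu) (hXU j hv)

omit [Finite W] in
theorem swap_two {i j : I} (hij : i ≠ j) (h4 : M i j = 4) : cyc cs h j i 2 = cyc cs h i j 3 := by
  have hM : (M i j : ℤ) = 4 := by exact_mod_cast h4
  rw [cyc_swap hij, hM]; norm_num

omit [Finite W] in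
theorem swap_three {i j : I} (hij : i ≠ j) (h4 : M i j = 4) : cyc cs h j i 3 = cyc cs h i j 2 := by
  have hM : (M i j : ℤ) = 4 := by exact_mod_cast h4
  rw [cyc_swap hij, hM]; norm_num

/-- an f.p.f. automorphism of a finite group: every element is `w⁻¹ w^t` -/
theorem exists_of_fpf [Finite Y] {K : Subgroup Y} {t : Y} (hK : ∀ x ∈ K, t * x * t⁻¹ ∈ K)
    (hf : ∀ x ∈ K, t * x * t⁻¹ = x → x = 1) : ∀ x ∈ K, ∃ w ∈ K, x = w⁻¹ * (t * w * t⁻¹) := by
  let f : K → K := fun w => ⟨w.1⁻¹ * (t * w.1 * t⁻¹), mul_mem (inv_mem w.2) (hK _ w.2)⟩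
  have hinj : Function.Injective f := by
    intro w w' e
    have e1 : w.1⁻¹ * (t * w.1 * t⁻¹) = w'.1⁻¹ * (t * w'.1 * t⁻¹) := congrArg Subtype.val e
    have e2 : t * (w'.1 * w.1⁻¹) * t⁻¹ = w'.1 * w.1⁻¹ := by
      have e3 : t * w'.1 * t⁻¹ = w'.1 * (w.1⁻¹ * (t * w.1 * t⁻¹)) := by rw [e1]; group
      have e4 : t * (w'.1 * w.1⁻¹) * t⁻¹ = (t * w'.1 * t⁻¹) * (t * w.1 * t⁻¹)⁻¹ := by group
      rw [e4, e3]; group
    have e5 := hf _ (mul_mem w'.2 (inv_mem w.2)) e2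
    exact Subtype.ext (mul_inv_eq_one.1 e5).symm
  have hsur := Finite.surjective_of_injective hinj
  intro x hx
  obtain ⟨w, hw⟩ := hsur ⟨x, hx⟩
  exact ⟨w.1, w.2, (congrArg Subtype.val hw).symm⟩

theorem T_conj_U (R : RGD cs h p T n X) {t : Y} (ht : t ∈ T) :
    ∀ x ∈ ⁅Sup X (Pos cs h), Sup X (Pos cs h)⁆, t * x * t⁻¹ ∈ ⁅Sup X (Pos cs h), Sup X (Pos cs h)⁆ := by
  intro x hx
  have h1 : cj t (Sup X (Pos cs h)) = Sup X (Pos cs h) := mem_normalizer_iff_cj.1 (R.T_le_normalizer_U ht)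
  have h2 : cj t ⁅Sup X (Pos cs h), Sup X (Pos cs h)⁆ = ⁅Sup X (Pos cs h), Sup X (Pos cs h)⁆ := by
    unfold cj at h1 ⊢
    rw [Subgroup.map_commutator, h1]
  rw [← h2]
  exact conj_mem_cj.2 hx

/-- a torus element which centralises `X z₃` and is f.p.f. on `X z₂` -/
theorem mid_of_tor [Finite Y] (R : RGD cs h p T n X) {i j : I} (hij : i ≠ j) (h4 : M i j = 4)
    (hs : ∃ t ∈ T, (∀ x ∈ X (cyc cs h i j 3), t * x * t⁻¹ = x) ∧
      ∀ x ∈ X (cyc cs h i j 2), t * x * t⁻¹ = x → x = 1) :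
    X (cyc cs h i j 2) ≤ ⁅Sup X (Pos cs h), Sup X (Pos cs h)⁆ ∧
      X (cyc cs h i j 3) ≤ ⁅Sup X (Pos cs h), Sup X (Pos cs h)⁆ := by
  obtain ⟨t, ht, h3, h5⟩ := hs
  have h6 : X (cyc cs h i j 2) ≤ ⁅Sup X (Pos cs h), Sup X (Pos cs h)⁆ := by
    intro x hx
    obtain ⟨w, hw, rfl⟩ := exists_of_fpf (fun x hx => T_conj R ht (isRoot_cyc cs h i j 2) hx) h5 x hx
    obtain ⟨y, hy, hyw⟩ := comp_four R hij h4 hw
    have h7 := T_conj_U R ht _ hyw
    have e8 : t * (y * w) * t⁻¹ = (t * y * t⁻¹) * (t * w * t⁻¹) := by group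
    rw [e8, h3 y hy] at h7
    have h9 := mul_mem (inv_mem hyw) h7
    have e10 : (y * w)⁻¹ * (y * (t * w * t⁻¹)) = w⁻¹ * (t * w * t⁻¹) := by group
    rwa [e10] at h9
  refine ⟨h6, fun x hx => ?_⟩
  have h4' : M j i = 4 := by rw [M.symmetric]; exact h4
  rw [← swap_two (cs := cs) (h := h) hij h4] at hx
  obtain ⟨y, hy, hyx⟩ := comp_four R hij.symm h4' hx
  rw [swap_three (cs := cs) (h := h) hij h4] at hy
  have := mul_mem (inv_mem (h6 hy)) hyx
  rwa [inv_mul_cancel_left] at this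

theorem mid_four [Finite Y] (R : RGD cs h p T n X) {i j : I} (hij : i ≠ j) (h4 : M i j = 4)
    (hs : ∃ t ∈ T, (∀ x ∈ X (sr i), t * x * t⁻¹ = x) ∧ ∀ x ∈ X (sr j), t * x * t⁻¹ = x → x = 1) :
    X (cyc cs h i j 2) ≤ ⁅Sup X (Pos cs h), Sup X (Pos cs h)⁆ ∧
      X (cyc cs h i j 3) ≤ ⁅Sup X (Pos cs h), Sup X (Pos cs h)⁆ := by
  obtain ⟨t, ht, h1, h2⟩ := hs
  have h2' := fpf_neg R ht h2
  -- transport with `n_i n_j`
  set g : Y := n i * n j with hg
  have hgw : Rp cs R.nsys (cs.simple i * cs.simple j) g := (rp_simple cs R.nsys i).mul (rp_simple cs R.nsys j)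
  have hsh : ∀ k, rep cs h (cs.simple i * cs.simple j) (cyc cs h i j k) = cyc cs h i j (k + 2) := by
    intro k
    have := cyc_shift cs h i j k 1
    rw [zpow_one, mul_one] at this
    exact this.symm
  have hcj : ∀ k, cj g (X (cyc cs h i j k)) = X (cyc cs h i j (k + 2)) := by
    intro k
    rw [R.conj_rp hgw (isRoot_cyc cs h i j k), hsh]
  have htT : g * t * g⁻¹ ∈ T := by
    have h5 := (Subgroup.mem_normalizer_iff.1 (mul_mem (R.nsys.norm i) (R.nsys.norm j)) t).1 ht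
    exact h5
  refine mid_of_tor R hij h4 ⟨g * t * g⁻¹, htT, ?_, ?_⟩
  · intro x hx
    have h6 := hcj 1
    rw [cyc_one] at h6
    have e : (1 : ℤ) + 2 = 3 := by norm_num
    rw [e] at h6
    rw [← h6, mem_cj] at hx
    have h7 := h1 _ hx
    have e8 : (g * t * g⁻¹) * x * (g * t * g⁻¹)⁻¹ = g * (t * (g⁻¹ * x * g) * t⁻¹) * g⁻¹ := by group
    rw [e8, h7]; group
  · intro x hx hx2
    have h6 := hcj 0
    rw [cyc_zero, zero_add] at h6
    rw [← h6, mem_cj] at hx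
    have h7 : t * (g⁻¹ * x * g) * t⁻¹ = g⁻¹ * x * g := by
      have e8 : t * (g⁻¹ * x * g) * t⁻¹ = g⁻¹ * ((g * t * g⁻¹) * x * (g * t * g⁻¹)⁻¹) * g := by group
      rw [e8, hx2]
    have h8 := h2' _ hx h7
    have e9 : x = g * (g⁻¹ * x * g) * g⁻¹ := by group
    rw [e9, h8]; group

/-- `X α_i` commutes with `X z₃`; an element of the rank one torus of `i` is f.p.f. on `X α_j` -/
theorem mid_of_comm [Finite Y] (R : RGD cs h p T n X) {i j : I} (hij : i ≠ j) (h4 : M i j = 4)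
    (hc : ∀ a ∈ X (sr i), ∀ b ∈ X (cyc cs h i j 3), a * b * a⁻¹ = b)
    (hs : ∃ t ∈ T ⊓ (X (sr i) ⊔ X (-sr i)), ∀ x ∈ X (sr j), t * x * t⁻¹ = x → x = 1) :
    X (cyc cs h i j 2) ≤ ⁅Sup X (Pos cs h), Sup X (Pos cs h)⁆ ∧
      X (cyc cs h i j 3) ≤ ⁅Sup X (Pos cs h), Sup X (Pos cs h)⁆ := by
  have hM : (M i j : ℤ) = 4 := by exact_mod_cast h4
  obtain ⟨t, ht, hf⟩ := hs
  have h3 : cj (n i) (X (cyc cs h i j 3)) = X (cyc cs h i j 3) := by
    rw [R.conj i _ (isRoot_cyc cs h i j 3), left_cyc cs h hij, hM]; norm_num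
  have h2 : cj (n i) (X (sr j)) = X (cyc cs h i j 2) := by
    rw [← cyc_m cs h hij, R.conj i _ (isRoot_cyc cs h i j _), left_cyc cs h hij, hM]; norm_num
  have hn : cj (n i) (X (sr i)) = X (-sr i) := by
    rw [R.conj i _ (isRoot_sr cs h i), rep_simple_sr]
  have hn' : cj (n i) (X (-sr i)) = X (sr i) := by
    rw [R.conj i _ (isRoot_sr cs h i).neg, map_neg, rep_simple_sr, neg_neg]
  -- `⟨X_i, X_{-i}⟩` centralises `X z₃`
  have hcen : X (sr i) ⊔ X (-sr i) ≤ Subgroup.centralizer (X (cyc cs h i j 3) : Set Y) := by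
    refine sup_le ?_ ?_
    · intro a ha
      rw [Subgroup.mem_centralizer_iff]
      intro b hb
      have := hc a ha b hb
      rw [mul_inv_eq_iff_eq_mul] at this
      exact this.symm
    · intro a ha
      rw [← hn, mem_cj] at ha
      rw [Subgroup.mem_centralizer_iff]
      intro b hb
      have hb' := hb
      rw [SetLike.mem_coe, ← h3, mem_cj] at hb'
      have h5 := hc _ ha _ hb'
      have e1 : b * a = n i * (((n i)⁻¹ * b * n i) * ((n i)⁻¹ * a * n i)) * (n i)⁻¹ := by group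
      have e2 : a * b = n i * (((n i)⁻¹ * a * n i) * ((n i)⁻¹ * b * n i)) * (n i)⁻¹ := by group
      rw [mul_inv_eq_iff_eq_mul] at h5
      rw [e1, e2, h5]
  refine mid_of_tor R hij h4 ⟨n i * t * (n i)⁻¹, ?_, ?_, ?_⟩
  · exact (Subgroup.mem_normalizer_iff.1 (R.nsys.norm i) t).1 ht.1
  · intro x hx
    have h5 : n i * t * (n i)⁻¹ ∈ X (sr i) ⊔ X (-sr i) := by
      have h6 : cj (n i) (X (sr i) ⊔ X (-sr i)) = X (sr i) ⊔ X (-sr i) := by
        rw [cj_sup, hn, hn', sup_comm]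
      rw [← h6]
      exact conj_mem_cj.2 ht.2
    have h6 := Subgroup.mem_centralizer_iff.1 (hcen h5) x hx
    rw [← h6]; group
  · intro x hx hx2
    rw [← h2, mem_cj] at hx
    have h7 : t * ((n i)⁻¹ * x * n i) * t⁻¹ = (n i)⁻¹ * x * n i := by
      have e8 : t * ((n i)⁻¹ * x * n i) * t⁻¹ = (n i)⁻¹ * ((n i * t * (n i)⁻¹) * x * (n i * t * (n i)⁻¹)⁻¹) * n i := by
        group
      rw [e8, hx2]
    have h8 := hf _ hx h7
    have e9 : x = n i * ((n i)⁻¹ * x * n i) * (n i)⁻¹ := by group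
    rw [e9, h8]; group

/-- In the double bond `i`, `j` one of the two pairs of orthogonal root groups commutes. -/
def CommFour (cs : CoxeterSystem M W) (h : IsCartan M A) (X : (I → ℤ) → Subgroup Y) (i j : I) : Prop :=
  (∀ a ∈ X (sr i), ∀ b ∈ X (cyc cs h i j 3), a * b * a⁻¹ = b) ∨
    ∀ a ∈ X (sr j), ∀ b ∈ X (cyc cs h i j 2), a * b * a⁻¹ = b

omit [Finite W] in
theorem CommFour.symm {i j : I} (hij : i ≠ j) (h4 : M i j = 4) (hc : CommFour cs h X i j) : CommFour cs h X j i := by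
  rcases hc with h1 | h1
  · right
    rw [swap_two (cs := cs) (h := h) hij h4]
    exact h1
  · left
    rw [swap_three (cs := cs) (h := h) hij h4]
    exact h1

theorem le_comm_four' [Finite Y] (R : RGD cs h p T n X) {i j : I} (hij : i ≠ j) (h4 : M i j = 4)
    (hc : CommFour cs h X i j)
    (hi : ∃ t ∈ T ⊓ (X (sr i) ⊔ X (-sr i)), ∀ x ∈ X (sr j), t * x * t⁻¹ = x → x = 1)
    (hj : ∃ t ∈ T ⊓ (X (sr j) ⊔ X (-sr j)), ∀ x ∈ X (sr i), t * x * t⁻¹ = x → x = 1) :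
    X (cyc cs h i j 2) ≤ ⁅Sup X (Pos cs h), Sup X (Pos cs h)⁆ ∧
      X (cyc cs h i j 3) ≤ ⁅Sup X (Pos cs h), Sup X (Pos cs h)⁆ := by
  rcases hc with h1 | h1
  · exact mid_of_comm R hij h4 h1 hi
  · have h4' : M j i = 4 := by rw [M.symmetric]; exact h4
    have h2 := mid_of_comm R hij.symm h4' (by rw [swap_three (cs := cs) (h := h) hij h4]; exact h1) hj
    rw [swap_two (cs := cs) (h := h) hij h4, swap_three (cs := cs) (h := h) hij h4] at h2
    exact h2.symm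

/-- type `B₂` -/
theorem le_comm_four [Finite Y] (R : RGD cs h p T n X) {i j : I} (hij : i ≠ j) (h4 : M i j = 4)
    (hs : (∃ t ∈ T, (∀ x ∈ X (sr i), t * x * t⁻¹ = x) ∧ ∀ x ∈ X (sr j), t * x * t⁻¹ = x → x = 1) ∨
      ∃ t ∈ T, (∀ x ∈ X (sr j), t * x * t⁻¹ = x) ∧ ∀ x ∈ X (sr i), t * x * t⁻¹ = x → x = 1) :
    X (cyc cs h i j 2) ≤ ⁅Sup X (Pos cs h), Sup X (Pos cs h)⁆ ∧
      X (cyc cs h i j 3) ≤ ⁅Sup X (Pos cs h), Sup X (Pos cs h)⁆ := by
  rcases hs with hs | hs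
  · exact mid_four R hij h4 hs
  · have h4' : M j i = 4 := by rw [M.symmetric]; exact h4
    have h1 := mid_four R hij.symm h4' hs
    rw [swap_two (cs := cs) (h := h) hij h4, swap_three (cs := cs) (h := h) hij h4] at h1
    exact h1.symm

/-- **(k4) FRAT.** -/
theorem frat [Finite Y] [Fact p.Prime] (R : RGD cs h p T n X) {i j : I} (hij : i ≠ j) (h6 : M i j ≠ 6)
    (h4 : M i j = 4 → (∃ t ∈ T, (∀ x ∈ X (sr i), t * x * t⁻¹ = x) ∧ ∀ x ∈ X (sr j), t * x * t⁻¹ = x → x = 1) ∨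
      ∃ t ∈ T, (∀ x ∈ X (sr j), t * x * t⁻¹ = x) ∧ ∀ x ∈ X (sr i), t * x * t⁻¹ = x → x = 1)
    {Pi Pj P : Subgroup Y} (hi : n i ∈ Pi) (hj : n j ∈ Pj)
    (hP : P ≤ B cs h T X ⊔ Subgroup.closure {n i, n j}) {X₀ : Subgroup Y} (hX₀ : X₀ ≤ Sup X (Pos cs h))
    (hcov : ∀ u ∈ Sup X (Pos cs h), ∃ x ∈ X₀, x⁻¹ * u ∈ Qk (B cs h T X) Pi ∧ x⁻¹ * u ∈ Qk (B cs h T X) Pj) :
    ∀ u ∈ Sup X (Pos cs h), ∃ x ∈ X₀, x⁻¹ * u ∈ Qk (B cs h T X) P := by
  refine frat_of_comm R hij (fun k hk1 hk2 => ?_) hi hj hP hX₀ hcov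
  rcases h.rel i j hij with ⟨h0, -⟩ | ⟨h0, -⟩ | ⟨h0, -⟩ | ⟨h0, -⟩
  · have : (M i j : ℤ) = 2 := by exact_mod_cast h0
    omega
  · have : (M i j : ℤ) = 3 := by exact_mod_cast h0
    obtain rfl : k = 2 := by omega
    exact le_comm_three R hij h0
  · have : (M i j : ℤ) = 4 := by exact_mod_cast h0
    rcases (by omega : k = 2 ∨ k = 3) with rfl | rfl
    · exact (le_comm_four R hij h0 (h4 h0)).1
    · exact (le_comm_four R hij h0 (h4 h0)).2
  · exact absurd h0 h6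

/-- **(k4) FRAT**, from the fixed-point-free elements of the rank one tori. -/
theorem frat' [Finite Y] [Fact p.Prime] (R : RGD cs h p T n X) {i j : I} (hij : i ≠ j) (h6 : M i j ≠ 6)
    (hc : M i j = 4 → CommFour cs h X i j)
    (hi : M i j = 4 → ∃ t ∈ T ⊓ (X (sr i) ⊔ X (-sr i)), ∀ x ∈ X (sr j), t * x * t⁻¹ = x → x = 1)
    (hj : M i j = 4 → ∃ t ∈ T ⊓ (X (sr j) ⊔ X (-sr j)), ∀ x ∈ X (sr i), t * x * t⁻¹ = x → x = 1)
    {Pi Pj P : Subgroup Y} (hi' : n i ∈ Pi) (hj' : n j ∈ Pj)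
    (hP : P ≤ B cs h T X ⊔ Subgroup.closure {n i, n j}) {X₀ : Subgroup Y} (hX₀ : X₀ ≤ Sup X (Pos cs h))
    (hcov : ∀ u ∈ Sup X (Pos cs h), ∃ x ∈ X₀, x⁻¹ * u ∈ Qk (B cs h T X) Pi ∧ x⁻¹ * u ∈ Qk (B cs h T X) Pj) :
    ∀ u ∈ Sup X (Pos cs h), ∃ x ∈ X₀, x⁻¹ * u ∈ Qk (B cs h T X) P := by
  refine frat_of_comm R hij (fun k hk1 hk2 => ?_) hi' hj' hP hX₀ hcov
  rcases h.rel i j hij with ⟨h0, -⟩ | ⟨h0, -⟩ | ⟨h0, -⟩ | ⟨h0, -⟩
  · have : (M i j : ℤ) = 2 := by exact_mod_cast h0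
    omega
  · have : (M i j : ℤ) = 3 := by exact_mod_cast h0
    obtain rfl : k = 2 := by omega
    exact le_comm_three R hij h0
  · have : (M i j : ℤ) = 4 := by exact_mod_cast h0
    have h5 := le_comm_four' R hij h0 (hc h0) (hi h0) (hj h0)
    rcases (by omega : k = 2 ∨ k = 3) with rfl | rfl
    · exact h5.1
    · exact h5.2
  · exact absurd h0 h6

/-! ### The integral commutator formula -/

/-- the coordinates of the roots of a double bond -/
theorem coords_four {i j : I} (hij : i ≠ j) {a b : ℤ} (ha : -A i j = a) (hb : -A j i = b) :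
    (cyc cs h i j 2 i = a ∧ cyc cs h i j 2 j = 1) ∧ (cyc cs h i j 3 i = b * a - 1 ∧ cyc cs h i j 3 j = b) := by
  have h2 := cyc_apply cs h hij 2
  have h3 := cyc_apply cs h hij 3
  rw [ha, hb] at h2 h3
  simp only [co] at h2 h3
  norm_num at h2 h3
  exact ⟨h2, h3⟩

/-- The integral commutator formula gives `CommFour`. -/
theorem commFour_of_int (hX : IntComm cs h X) {i j : I} (hij : i ≠ j) (h4 : M i j = 4) : CommFour cs h X i j := by
  have hM : (M i j : ℤ) = 4 := by exact_mod_cast h4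
  have key : ∀ {x y : I → ℤ}, IsRoot cs h x → IsRoot cs h y → x ≠ y → x ≠ -y → (∀ z, ¬ IB cs h x y z) →
      ∀ a ∈ X x, ∀ b ∈ X y, a * b * a⁻¹ = b := by
    intro x y hx hy hxy hxy' hz a ha b hb
    have h5 := hX x y hx hy hxy hxy' a ha b hb
    have h6 : KFacts.RgdBorelTits.FS X {z | IB cs h x y z} ≤ ⊥ := by
      unfold KFacts.RgdBorelTits.FS
      exact iSup_le fun z => absurd z.2 (hz z.1)
    have h7 := Subgroup.mem_bot.1 (h6 h5)
    rw [commutatorElement_def, mul_inv_eq_one] at h7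
    exact h7
  have hpos : ∀ z, IsRoot cs h z → Supp i j z → 0 ≤ z → z = sr i ∨ z = cyc cs h i j 2 ∨ z = cyc cs h i j 3 ∨
      z = sr j := by
    intro z hz hs h0
    obtain ⟨k, hk1, hk2, rfl⟩ := exists_cyc_pos cs h hij hz hs h0
    rw [hM] at hk2
    rcases (by omega : k = 1 ∨ k = 2 ∨ k = 3 ∨ k = M i j) with rfl | rfl | rfl | rfl
    · exact Or.inl (cyc_one cs h i j)
    · exact Or.inr (Or.inl rfl)
    · exact Or.inr (Or.inr (Or.inl rfl))
    · exact Or.inr (Or.inr (Or.inr (cyc_m cs h hij)))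
  have hi1 : (sr i : I → ℤ) i = 1 := sr_self i
  have hi2 : (sr i : I → ℤ) j = 0 := sr_ne hij.symm
  have hj1 : (sr j : I → ℤ) j = 1 := sr_self j
  have hj2 : (sr j : I → ℤ) i = 0 := sr_ne hij
  rcases h.rel i j hij with ⟨h0, -⟩ | ⟨h0, -⟩ | ⟨h0, ⟨h1, h1'⟩ | ⟨h1, h1'⟩⟩ | ⟨h0, -⟩
  · omega
  · omega
  · -- `A i j = -1`, `A j i = -2`
    left
    obtain ⟨⟨c1, c2⟩, c3, c4⟩ := coords_four (cs := cs) (h := h) hij (a := 1) (b := 2) (by rw [h1]; norm_num)
      (by rw [h1']; norm_num)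
    refine key (isRoot_sr cs h i) (isRoot_cyc cs h i j 3) ?_ ?_ ?_
    · intro he
      have := congrFun he j
      omega
    · intro he
      have := congrFun he j
      rw [Pi.neg_apply] at this
      omega
    · rintro z ⟨hz, r, s, hr, hs, e⟩
      have e1 := congrFun e i
      have e2 := congrFun e j
      rw [Pi.add_apply, Pi.smul_apply, Pi.smul_apply, smul_eq_mul, smul_eq_mul, c3, hi1] at e1
      rw [Pi.add_apply, Pi.smul_apply, Pi.smul_apply, smul_eq_mul, smul_eq_mul, c4, hi2] at e2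
      have hsz : Supp i j z := by
        intro k hki hkj
        rw [e, Pi.add_apply, Pi.smul_apply, Pi.smul_apply, sr_ne hki, cyc_supp cs h 3 k hki hkj, smul_zero,
          smul_zero, add_zero]
      have hz0 : 0 ≤ z := by
        rcases hz.pos_or_neg with h5 | h5
        · exact h5
        · have h6 : z j ≤ 0 := h5 j
          omega
      rcases hpos z hz hsz hz0 with h5 | h5 | h5 | h5 <;> rw [h5] at e1 e2 <;> omega
  · right
    obtain ⟨⟨c1, c2⟩, c3, c4⟩ := coords_four (cs := cs) (h := h) hij (a := 2) (b := 1) (by rw [h1]; norm_num)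
      (by rw [h1']; norm_num)
    refine key (isRoot_sr cs h j) (isRoot_cyc cs h i j 2) ?_ ?_ ?_
    · intro he
      have := congrFun he i
      omega
    · intro he
      have := congrFun he i
      rw [Pi.neg_apply] at this
      omega
    · rintro z ⟨hz, r, s, hr, hs, e⟩
      have e1 := congrFun e i
      have e2 := congrFun e j
      rw [Pi.add_apply, Pi.smul_apply, Pi.smul_apply, smul_eq_mul, smul_eq_mul, c1, hj2] at e1
      rw [Pi.add_apply, Pi.smul_apply, Pi.smul_apply, smul_eq_mul, smul_eq_mul, c2, hj1] at e2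
      have hsz : Supp i j z := by
        intro k hki hkj
        rw [e, Pi.add_apply, Pi.smul_apply, Pi.smul_apply, sr_ne hkj, cyc_supp cs h 2 k hki hkj, smul_zero,
          smul_zero, add_zero]
      have hz0 : 0 ≤ z := by
        rcases hz.pos_or_neg with h5 | h5
        · exact h5
        · have h6 : z j ≤ 0 := h5 j
          omega
      rcases hpos z hz hsz hz0 with h5 | h5 | h5 | h5 <;> rw [h5] at e1 e2 <;> omega
  · omega

end Cfsg.Agent.OmegaEnd.Frat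

end

section


/-!
# Double bonds (K-side of the END of NODE LIE)

* `sp_of` : `T` abelian, `M i j = 4`, the nodes `i`, `j` of type `TrNode`, `CommFour` ⟹ a torus element centralises one of
  `X_i`, `X_j` and is fixed-point-free on the other one. No coordinates;
* `tr_of_comm` : if `X_i` and `X_{s_j i}` commute, the torus of `j` is transitive on `X_i`;
* `krow_of` : `KRow` from `TrNode` and `CommFour`.
-/

set_option autoImplicit false
set_option linter.unusedSectionVars false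

namespace Cfsg.Agent.Omega.Lie.End.KFour

open CoxeterSystem Cfsg.Agent.ChevalleyStructure.CoxeterGeom Cfsg.Agent.Tits.Roots Cfsg.Agent.Tits.Core
  Cfsg.Agent.Tits.RootComb Cfsg.Agent.Nodes.Comb Cfsg.Agent.Nodes.Reps Cfsg.Agent.Nodes.BNOf Cfsg.Agent.Nodes.BNOf.RGD
  Cfsg.Agent.Nodes.FreeTorus Cfsg.Agent.Omega.Lie.End.KTorus
open scoped commutatorElement

variable {I W Y : Type*} [Fintype I] [DecidableEq I] [Group W] [Group Y] {M : CoxeterMatrix I}
  {cs : CoxeterSystem M W} {A : I → I → ℤ} {h : IsCartan M A} {T : Subgroup Y} {n : I → Y}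
  {X : (I → ℤ) → Subgroup Y} [Finite W]

/-- `H` is transitive by conjugation on the nontrivial elements of `P`. -/
def TrOn (H P : Subgroup Y) : Prop := ∀ x ∈ P, x ≠ 1 → ∀ y ∈ P, y ≠ 1 → ∃ t ∈ H, t * x * t⁻¹ = y

omit [Finite W] in
theorem TrNode.own {i : I} (hN : TrNode T n X i) : TrOn (T ⊓ LL X (sr i)) (X (sr i)) := by
  intro x hx hx1 y hy hy1
  obtain ⟨t, ht, e⟩ := hN.tr x hx y hy hx1 hy1
  exact ⟨t, ⟨ht.1, ht.2.1⟩, e⟩

variable (R : RGD cs h 2 T n X)

include R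

/-- `s_i s_j α_i = s_j α_i` -/
theorem rep_fix {i j : I} (h2 : A i j * A j i = 2) :
    rep cs h (cs.simple i) (rep cs h (cs.simple j) (sr i)) = rep cs h (cs.simple j) (sr i) := by
  rw [rep_sr_sr cs h j i, map_sub, map_smul, rep_simple_sr, rep_sr_sr cs h i j, smul_sub, smul_smul, mul_comm (A j i),
    h2]
  module

/-- If `X_i` and `X_{s_j i}` commute, then `⟨X_i, X_{-i}⟩` centralises `X_{s_j i}`. -/
theorem LL_comm {i j : I} (h2 : A i j * A j i = 2)
    (hc : ∀ x ∈ X (sr i), ∀ y ∈ X (rep cs h (cs.simple j) (sr i)), x * y = y * x) {u y : Y} (hu : u ∈ LL X (sr i))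
    (hy : y ∈ X (rep cs h (cs.simple j) (sr i))) : u * y = y * u := by
  have h1 : LL X (sr i) ≤ Subgroup.centralizer {y} := by
    refine sup_le ?_ ?_
    · intro u hu
      rw [Subgroup.mem_centralizer_singleton_iff]
      exact hc u hu y hy
    · intro u hu
      rw [Subgroup.mem_centralizer_singleton_iff]
      have hni := rp_simple cs R.nsys i
      have a1 : (n i)⁻¹ * u * n i ∈ X (sr i) := by
        have := R.conj_mem' hni (isRoot_sr cs h i).neg hu
        rwa [inv_simple, map_neg, rep_simple_sr, neg_neg] at this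
      have a2 : (n i)⁻¹ * y * n i ∈ X (rep cs h (cs.simple j) (sr i)) := by
        have := R.conj_mem' hni ((isRoot_sr cs h i).act _) hy
        rwa [inv_simple, rep_fix R h2] at this
      have a3 := hc _ a1 _ a2
      calc u * y = n i * (((n i)⁻¹ * u * n i) * ((n i)⁻¹ * y * n i)) * (n i)⁻¹ := by group
        _ = n i * (((n i)⁻¹ * y * n i) * ((n i)⁻¹ * u * n i)) * (n i)⁻¹ := by rw [a3]
        _ = y * u := by group
  exact Subgroup.mem_centralizer_singleton_iff.1 (h1 hu)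

/-- If `X_i` and `X_{s_j i}` commute and the own torus of `i` is transitive, then the torus of `j` is transitive on
`X_i`. -/
theorem tr_of_comm {i j : I} (h2 : A i j * A j i = 2)
    (hc : ∀ x ∈ X (sr i), ∀ y ∈ X (rep cs h (cs.simple j) (sr i)), x * y = y * x)
    (hown : TrOn (T ⊓ LL X (sr i)) (X (sr i))) : TrOn (T ⊓ LL X (sr j)) (X (sr i)) := by
  intro x hx hx1 y hy hy1
  obtain ⟨s, hs, e⟩ := hown x hx hx1 y hy hy1
  have hsT : s ∈ T := hs.1
  have hsL : s ∈ LL X (sr i) := hs.2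
  obtain ⟨m, hmL, hmA, t0, ht0, hm⟩ := ParSys.Fam.exists_mem_LL R j
  have hmN : m ∈ Subgroup.normalizer (T : Set Y) := by
    rw [hm]
    exact mul_mem (Subgroup.le_normalizer ht0) (R.nsys.norm j)
  have hmT : m * s⁻¹ * m⁻¹ ∈ T := (Subgroup.mem_normalizer_iff.1 hmN _).1 (inv_mem hsT)
  have hTX : ∀ r, IsRoot cs h r → ∀ u ∈ X r, s * u * s⁻¹ ∈ X r := by
    intro r hr u hu
    have h1 := R.tor r hr s hsT
    rw [← h1]
    exact conj_mem_cj.2 hu
  have hsm : s * m * s⁻¹ ∈ LL X (sr j) := by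
    have h1 : LL X (sr j) ≤ (LL X (sr j)).comap (MulAut.conj s).toMonoidHom := by
      refine sup_le ?_ ?_
      · intro u hu
        exact Subgroup.mem_sup_left (hTX _ (isRoot_sr cs h j) u hu)
      · intro u hu
        exact Subgroup.mem_sup_right (hTX _ (isRoot_sr cs h j).neg u hu)
    exact h1 hmL
  refine ⟨s * (m * s⁻¹ * m⁻¹), ⟨mul_mem hsT hmT, ?_⟩, ?_⟩
  · have e1 : s * (m * s⁻¹ * m⁻¹) = s * m * s⁻¹ * m⁻¹ := by group
    rw [e1]
    exact (LL X (sr j)).mul_mem hsm ((LL X (sr j)).inv_mem hmL)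
  · have h3 : m⁻¹ * x * m ∈ X (rep cs h (cs.simple j) (sr i)) := by
      have h4 := hmA.inv (sr i) (isRoot_sr cs h i)
      rw [inv_simple] at h4
      rw [← h4, mem_cj, inv_inv]
      have e1 : m * (m⁻¹ * x * m) * m⁻¹ = x := by group
      rw [e1]
      exact hx
    have h5 := LL_comm R h2 hc (inv_mem hsL) h3
    have e2 : s * (m * s⁻¹ * m⁻¹) * x * (s * (m * s⁻¹ * m⁻¹))⁻¹ =
        s * (m * (s⁻¹ * (m⁻¹ * x * m) * s) * m⁻¹) * s⁻¹ := by group
    have e3 : m * (s⁻¹ * (m⁻¹ * x * m) * s) * m⁻¹ = x := by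
      rw [h5]; group
    rw [e2, e3, e]

variable (hTc : ∀ s ∈ T, ∀ t ∈ T, s * t = t * s)

include hTc

/-- (k6) of the double bond. -/
theorem sep_of_comm [Finite Y] {i j : I} (hij : i ≠ j) (h4 : M i j = 4)
    (hc : ∀ x ∈ X (sr i), ∀ y ∈ X (rep cs h (cs.simple j) (sr i)), x * y = y * x)
    (hNi : TrNode T n X i) (hNj : TrNode T n X j) : SpOn T (X (sr i)) (X (sr j)) := by
  have h2 : A i j * A j i = 2 := by
    have := h.rel i j hij
    rcases this with h1 | h1 | ⟨-, h1 | h1⟩ | h1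
    · omega
    · omega
    · rw [h1.1, h1.2]; norm_num
    · rw [h1.1, h1.2]; norm_num
    · omega
  obtain ⟨s, hs, hf⟩ := nd R hTc hij.symm hNi hNj (Or.inr (by rw [M.symmetric]; exact h4))
  have hnj := rp_simple cs R.nsys j
  have htT : n j * s * (n j)⁻¹ ∈ T := (Subgroup.mem_normalizer_iff.1 (R.nsys.norm j) _).1 hs.1
  refine ⟨n j * s * (n j)⁻¹, htT, ?_, ?_⟩
  · intro x hx
    have h3 : (n j)⁻¹ * x * n j ∈ X (rep cs h (cs.simple j) (sr i)) := by
      have := R.conj_mem' hnj (isRoot_sr cs h i) hx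
      rwa [inv_simple] at this
    have h5 := LL_comm R h2 hc hs.2.1 h3
    have e1 : n j * s * (n j)⁻¹ * x * (n j * s * (n j)⁻¹)⁻¹ = n j * (s * ((n j)⁻¹ * x * n j) * s⁻¹) * (n j)⁻¹ := by
      group
    rw [e1, h5]
    group
  · intro u hu e
    by_contra hu1
    have h6 := ct_of_fix R hTc hNj htT hu hu1 e
    have h7 := comm_n R hTc htT h6
    have h8 : s = n j * s * (n j)⁻¹ := by
      have : n j * s = n j * (n j * s * (n j)⁻¹) := by rw [← h7]; group
      exact mul_left_cancel this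
    rw [← h8] at e
    exact hu1 (hf u hu e)

/-- **(k6) of every double bond** : `sp2` of `KRow`. -/
theorem sp_of [Finite Y] {i j : I} (h4 : M i j = 4) (hNi : TrNode T n X i) (hNj : TrNode T n X j)
    (hcf : OmegaEnd.Frat.CommFour cs h X i j) :
    SpOn T (X (sr i)) (X (sr j)) ∨ SpOn T (X (sr j)) (X (sr i)) := by
  have hij : i ≠ j := by
    rintro rfl
    rw [M.diagonal] at h4
    omega
  have h4' : M j i = 4 := by rw [M.symmetric]; exact h4
  rcases hcf with hcf | hcf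
  · left
    refine sep_of_comm R hTc hij h4 (fun x hx y hy => ?_) hNi hNj
    have e1 : Nodes.ZFam.cyc cs h i j 3 = rep cs h (cs.simple j) (sr i) := by
      have h1 := Nodes.ZFam.right_cyc cs h hij 1
      rw [Nodes.ZFam.cyc_one, h4] at h1
      rw [h1]; norm_num
    rw [← e1] at hy
    exact mul_inv_eq_iff_eq_mul.1 (hcf x hx y hy)
  · right
    refine sep_of_comm R hTc hij.symm h4' (fun x hx y hy => ?_) hNj hNi
    have e1 : Nodes.ZFam.cyc cs h i j 2 = rep cs h (cs.simple i) (sr j) := by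
      have h1 := Nodes.ZFam.left_cyc cs h hij (M i j)
      rw [Nodes.ZFam.cyc_m cs h hij] at h1
      rw [h1]
      congr 1
      ring
    rw [← e1] at hy
    exact mul_inv_eq_iff_eq_mul.1 (hcf x hx y hy)

/-- **Rows** : `KRow` from `TrNode` and `CommFour`. -/
theorem krow_of [Finite Y] (two : ∃ i j : I, i ≠ j) (conn : Cfsg.Agent.KFacts.RgdCharP.Conn M)
    (tr : (∀ k, 4 ≤ Nat.card (X (sr k))) → (∀ k, ∀ x ∈ X (sr k), x * x = 1) → ∀ i, TrNode T n X i)
    (cf : ∀ i j, M i j = 4 → OmegaEnd.Frat.CommFour cs h X i j)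
    (six : ∀ i j, M i j = 6 → (∀ k, k = i ∨ k = j) ∧ NComm (X (sr i)) (X (rep cs h (cs.simple j) (sr i)))) :
    KRow cs h T n X where
  two := two
  conn := conn
  ab := hTc
  tr := tr
  sp2 h1 h2 i j h4 _ := sp_of R hTc h4 (tr h1 h2 i) (tr h1 h2 j) (cf i j h4)
  six := six

end Cfsg.Agent.Omega.Lie.End.KFour

end

section


/-!
# `TrNode` is free

For every root group datum of characteristic two with abelian torus, every node `i` with `|X_i| ≥ 4` and `X_i` of exponent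
two is of type `TrNode`: the elements of `T ∩ ⟨X_i, X_{-i}⟩` inverted by `n_i` are transitive on the nontrivial elements of
`X_i`. No coordinates, no identification of the rank one group:

* `One.exists_conj` : `x ∈ X_i`, `y ∈ X_{-i}` nontrivial: `x y` has odd order, so `x` and `y` are conjugate;
* `One.tr` : the rank one torus is transitive on `X_i \ 1`;
* `One.fix` : a torus element which commutes with `n_i` centralises `X_i` (the elements `μ` are involutions, and `μ` is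
  injective on `X_i \ 1`);
* `trNode`.
-/

set_option autoImplicit false
set_option linter.unusedSectionVars false

namespace Cfsg.Agent.Omega.Lie.End.KTrFree

/-- Rank one data of characteristic two with abelian torus. -/
structure One {Y : Type*} [Group Y] (A B T : Subgroup Y) (n : Y) : Prop where
  ab : ∀ s ∈ T, ∀ t ∈ T, s * t = t * s
  odd : Odd (Nat.card T)
  sq : ∀ x ∈ A, x * x = 1
  TA : ∀ t ∈ T, ∀ x ∈ A, t * x * t⁻¹ ∈ A
  TB : ∀ t ∈ T, ∀ x ∈ B, t * x * t⁻¹ ∈ B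
  nA : ∀ x ∈ A, n * x * n⁻¹ ∈ B
  nA' : ∀ x ∈ A, n⁻¹ * x * n ∈ B
  nB : ∀ x ∈ B, n * x * n⁻¹ ∈ A
  nB' : ∀ x ∈ B, n⁻¹ * x * n ∈ A
  nT : ∀ t ∈ T, n * t * n⁻¹ ∈ T
  nT' : ∀ t ∈ T, n⁻¹ * t * n ∈ T
  nn : n * n ∈ T
  rk : ∀ u ∈ B, u ≠ 1 → ∃ a ∈ A, ∃ t ∈ T, ∃ b ∈ A, u = a * t * n * b
  inf : ∀ x ∈ B, ∀ a ∈ A, ∀ t ∈ T, x = a * t → x = 1

namespace One

variable {Y : Type*} [Group Y] {A B T : Subgroup Y} {n : Y}

theorem conj_ne {g x : Y} (hx : x ≠ 1) : g * x * g⁻¹ ≠ 1 := by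
  intro h0
  apply hx
  have : x = g⁻¹ * (g * x * g⁻¹) * g := by group
  rw [this, h0]; group

theorem symm (D : One A B T n) : One B A T n where
  ab := D.ab
  odd := D.odd
  sq x hx := by
    have h1 := D.sq _ (D.nB x hx)
    have h2 : n * x * n⁻¹ * (n * x * n⁻¹) = n * (x * x) * n⁻¹ := by group
    rw [h2] at h1
    have h3 : x * x = n⁻¹ * (n * (x * x) * n⁻¹) * n := by group
    rw [h3, h1]; group
  TA := D.TB
  TB := D.TA
  nA := D.nB
  nA' := D.nB'
  nB := D.nA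
  nB' := D.nA'
  nT := D.nT
  nT' := D.nT'
  nn := D.nn
  rk u hu hu1 := by
    obtain ⟨a, ha, t, ht, b, hb, e⟩ := D.rk _ (D.nA u hu) (conj_ne hu1)
    refine ⟨n⁻¹ * a * n, D.nA' a ha, n⁻¹ * t * n, D.nT' t ht, n⁻¹ * b * n, D.nA' b hb, ?_⟩
    have h1 : u = n⁻¹ * (n * u * n⁻¹) * n := by group
    rw [h1, e]; group
  inf x hx a ha t ht e := by
    have h1 := D.inf _ (D.nA x hx) _ (D.nB a ha) _ (D.nT t ht) (by rw [e]; group)
    by_contra hx1
    exact conj_ne hx1 h1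

variable (D : One A B T n)

include D

theorem comm {x y : Y} (hx : x ∈ A) (hy : y ∈ A) : x * y = y * x := by
  have h1 := D.sq _ (A.mul_mem hx hy)
  have h2 := D.sq x hx
  have h3 := D.sq y hy
  have h4 : x⁻¹ = x := inv_eq_of_mul_eq_one_left h2
  have h5 : y⁻¹ = y := inv_eq_of_mul_eq_one_left h3
  have h6 : (x * y)⁻¹ = x * y := inv_eq_of_mul_eq_one_left h1
  rw [← h6, mul_inv_rev, h4, h5]

theorem inf' {x : Y} (hA : x ∈ A) (hB : x ∈ B) : x = 1 :=
  D.inf x hB x hA 1 T.one_mem (by rw [mul_one])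

theorem t_one {t : Y} (ht : t ∈ T) (h2 : t * t = 1) : t = 1 := by
  have h3 : t ^ Nat.card T = 1 := by
    have h4 : (⟨t, ht⟩ : T) ^ Nat.card T = 1 := pow_card_eq_one'
    exact congrArg Subtype.val h4
  obtain ⟨m, hm⟩ := D.odd
  rw [hm, pow_succ, pow_mul, pow_two, h2, one_pow, one_mul] at h3
  exact h3

theorem exists_sqrt {t : Y} (ht : t ∈ T) : ∃ r ∈ T, r * r = t ∧ ∃ m : ℕ, r = t ^ m := by
  have h3 : t ^ Nat.card T = 1 := by
    have h4 : (⟨t, ht⟩ : T) ^ Nat.card T = 1 := pow_card_eq_one'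
    exact congrArg Subtype.val h4
  obtain ⟨m, hm⟩ := D.odd
  refine ⟨t ^ (m + 1), T.pow_mem ht _, ?_, m + 1, rfl⟩
  rw [← pow_add]
  have : m + 1 + (m + 1) = Nat.card T + 1 := by omega
  rw [this, pow_succ, h3, one_mul]

/-- Bruhat decomposition in rank one. -/
theorem bruhat {g : Y} (hg : g ∈ A ⊔ B) :
    (∃ a ∈ A, ∃ t ∈ T, g = a * t) ∨ ∃ a ∈ A, ∃ t ∈ T, ∃ b ∈ A, g = a * t * n * b := by
  have st : ∀ y, (y ∈ A ∨ y ∈ B) → ∀ x, ((∃ a ∈ A, ∃ t ∈ T, x = a * t) ∨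
      ∃ a ∈ A, ∃ t ∈ T, ∃ b ∈ A, x = a * t * n * b) →
      ((∃ a ∈ A, ∃ t ∈ T, y * x = a * t) ∨ ∃ a ∈ A, ∃ t ∈ T, ∃ b ∈ A, y * x = a * t * n * b) := by
    rintro y (hy | hy) x hx
    · rcases hx with ⟨a, ha, t, ht, rfl⟩ | ⟨a, ha, t, ht, b, hb, rfl⟩
      · exact Or.inl ⟨y * a, A.mul_mem hy ha, t, ht, by group⟩
      · exact Or.inr ⟨y * a, A.mul_mem hy ha, t, ht, b, hb, by group⟩
    · by_cases hy1 : y = 1
      · rw [hy1, one_mul]; exact hx
      obtain ⟨a, ha, t, ht, b, hb, rfl⟩ := D.rk y hy hy1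
      rcases hx with ⟨a', ha', t', ht', rfl⟩ | ⟨a', ha', t', ht', b', hb', rfl⟩
      · refine Or.inr ⟨a, ha, t * (n * t' * n⁻¹), T.mul_mem ht (D.nT t' ht'), t'⁻¹ * (b * a') * t', ?_, by group⟩
        have := D.TA t'⁻¹ (T.inv_mem ht') _ (A.mul_mem hb ha')
        rwa [inv_inv] at this
      · have hs : n * t' * n⁻¹ * (n * n) ∈ T := T.mul_mem (D.nT t' ht') D.nn
        by_cases hc : b * a' = 1
        · refine Or.inl ⟨a * ((t * (n * t' * n⁻¹ * (n * n))) * b' * (t * (n * t' * n⁻¹ * (n * n)))⁻¹),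
            A.mul_mem ha (D.TA _ (T.mul_mem ht hs) _ hb'), t * (n * t' * n⁻¹ * (n * n)), T.mul_mem ht hs, ?_⟩
          calc a * t * n * b * (a' * t' * n * b') = a * t * n * (b * a') * t' * n * b' := by group
            _ = a * t * n * t' * n * b' := by rw [hc, mul_one]
            _ = _ := by group
        · obtain ⟨a2, ha2, t2, ht2, b2, hb2, e2⟩ := D.rk _ (D.nA _ (A.mul_mem hb ha')) (conj_ne hc)
          generalize hS : n * t' * n⁻¹ * (n * n) = s at hs
          have hb3 : s⁻¹ * b2 * s ∈ A := by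
            have := D.TA s⁻¹ (T.inv_mem hs) _ hb2
            rwa [inv_inv] at this
          refine Or.inr ⟨a * (t * a2 * t⁻¹), A.mul_mem ha (D.TA t ht _ ha2), t * t2 * (n * s * n⁻¹),
            T.mul_mem (T.mul_mem ht ht2) (D.nT s hs), s⁻¹ * b2 * s * b', A.mul_mem hb3 hb', ?_⟩
          calc a * t * n * b * (a' * t' * n * b') = a * t * (n * (b * a') * n⁻¹) * (n * t' * n⁻¹ * (n * n)) * b' := by
                group
            _ = a * t * (a2 * t2 * n * b2) * s * b' := by rw [e2, hS]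
            _ = _ := by group
  have hx' : g ∈ Subgroup.closure ((A : Set Y) ∪ (B : Set Y)) := by
    rw [Subgroup.closure_union, Subgroup.closure_eq, Subgroup.closure_eq]
    exact hg
  clear hg
  induction hx' using Subgroup.closure_induction_left with
  | one => exact Or.inl ⟨1, one_mem _, 1, one_mem _, by group⟩
  | mul_left y hy x _ ih => exact st y hy x ih
  | inv_mul_cancel y hy x _ ih =>
    refine st y⁻¹ ?_ x ih
    rcases hy with hy | hy
    · exact Or.inl (A.inv_mem hy)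
    · exact Or.inr (B.inv_mem hy)

/-- The conjugates of `A` intersect trivially. -/
theorem mem_of_conj {g x : Y} (hg : g ∈ A ⊔ B) (hx : x ∈ A) (hx1 : x ≠ 1) (h : g * x * g⁻¹ ∈ A) :
    ∃ a ∈ A, ∃ t ∈ T, g = a * t := by
  rcases D.bruhat hg with h1 | ⟨a, ha, t, ht, b, hb, rfl⟩
  · exact h1
  · exfalso
    have h2 : b * x * b⁻¹ = x := by rw [D.comm hb hx, mul_inv_cancel_right]
    have h3 : t * (n * x * n⁻¹) * t⁻¹ ∈ B := D.TB t ht _ (D.nA x hx)
    have h4 : t * (n * x * n⁻¹) * t⁻¹ ∈ A := by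
      have e : t * (n * x * n⁻¹) * t⁻¹ = a⁻¹ * (a * t * n * b * x * (a * t * n * b)⁻¹) * a := by
        have : a * t * n * b * x * (a * t * n * b)⁻¹ = a * t * n * (b * x * b⁻¹) * n⁻¹ * t⁻¹ * a⁻¹ := by group
        rw [this, h2]; group
      rw [e]
      exact A.mul_mem (A.mul_mem (A.inv_mem ha) h) ha
    exact conj_ne (conj_ne hx1) (D.inf' h4 h3)

theorem mem_of_comm {x z : Y} (hz : z ∈ A ⊔ B) (hx : x ∈ A) (hx1 : x ≠ 1) (h : z * x = x * z) (hzz : z * z = 1) :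
    z ∈ A := by
  obtain ⟨a, ha, t, ht, rfl⟩ := D.mem_of_conj hz hx hx1 (by rw [h, mul_inv_cancel_right]; exact hx)
  have h1 : t * t ∈ A := by
    have e : t * t = (t * a * t⁻¹)⁻¹ * a⁻¹ * (a * t * (a * t)) := by group
    rw [e, hzz, mul_one]
    exact A.mul_mem (A.inv_mem (D.TA t ht a ha)) (A.inv_mem ha)
  have h2 : t * t = 1 := D.t_one (T.mul_mem ht ht) (D.sq _ h1)
  rw [D.t_one ht h2, mul_one]
  exact ha

/-- `x ∈ A` and `y ∈ B` are conjugate. -/
theorem exists_conj [Finite Y] {x y : Y} (hx : x ∈ A) (hx1 : x ≠ 1) (hy : y ∈ B) (hy1 : y ≠ 1) :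
    ∃ g ∈ A ⊔ B, g * x * g⁻¹ = y := by
  have hA : A ≤ A ⊔ B := le_sup_left
  have hB : B ≤ A ⊔ B := le_sup_right
  have hxx := D.sq x hx
  have hyy := D.symm.sq y hy
  have hxi : x⁻¹ = x := inv_eq_of_mul_eq_one_left hxx
  have hyi : y⁻¹ = y := inv_eq_of_mul_eq_one_left hyy
  have hrL : x * y ∈ A ⊔ B := mul_mem (hA hx) (hB hy)
  have hxr : ∀ k : ℕ, x * (x * y) ^ k * x⁻¹ = ((x * y) ^ k)⁻¹ := by
    intro k
    have h1 : x * (x * y) * x⁻¹ = (x * y)⁻¹ := by
      rw [mul_inv_rev, hxi, hyi]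
      calc x * (x * y) * x = (x * x) * y * x := by group
        _ = y * x := by rw [hxx, one_mul]
    have h2 : x * (x * y) ^ k * x⁻¹ = (x * (x * y) * x⁻¹) ^ k := by rw [conj_pow]
    rw [h2, h1, inv_pow]
  have hyr : ∀ k : ℕ, y * (x * y) ^ k * y⁻¹ = ((x * y) ^ k)⁻¹ := by
    intro k
    have h1 : y * (x * y) * y⁻¹ = (x * y)⁻¹ := by
      rw [mul_inv_rev, hxi, hyi]
      calc y * (x * y) * y = y * x * (y * y) := by group
        _ = y * x := by rw [hyy, mul_one]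
    have h2 : y * (x * y) ^ k * y⁻¹ = (y * (x * y) * y⁻¹) ^ k := by rw [conj_pow]
    rw [h2, h1, inv_pow]
  have hpow : (x * y) ^ orderOf (x * y) = 1 := pow_orderOf_eq_one _
  rcases Nat.even_or_odd' (orderOf (x * y)) with ⟨m, hm | hm⟩
  · exfalso
    have hpos := orderOf_pos (x * y)
    set z := (x * y) ^ m with hz
    have hzz : z * z = 1 := by rw [hz, ← pow_add, ← two_mul, ← hm, hpow]
    have hz1 : z ≠ 1 := by
      intro h0
      have := orderOf_dvd_of_pow_eq_one h0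
      have := Nat.le_of_dvd (by omega) this
      omega
    have hzi : z⁻¹ = z := inv_eq_of_mul_eq_one_left hzz
    have hzL : z ∈ A ⊔ B := pow_mem hrL m
    have h1 : z * x = x * z := by
      have := hxr m
      rw [← hz, hzi, mul_inv_eq_iff_eq_mul] at this
      exact this.symm
    have h2 : z * y = y * z := by
      have := hyr m
      rw [← hz, hzi, mul_inv_eq_iff_eq_mul] at this
      exact this.symm
    have h3 := D.mem_of_comm hzL hx hx1 h1 hzz
    have h4 := D.symm.mem_of_comm (by rw [sup_comm]; exact hzL) hy hy1 h2 hzz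
    exact hz1 (D.inf' h3 h4)
  · refine ⟨(x * y) ^ m, pow_mem hrL m, ?_⟩
    have h1 := hxr m
    have h2 : x * ((x * y) ^ m)⁻¹ = (x * y) ^ m * x := by
      have h3 := congrArg (fun g => g⁻¹) h1
      simp only [mul_inv_rev, inv_inv] at h3
      calc x * ((x * y) ^ m)⁻¹ = x * (((x * y) ^ m)⁻¹ * x⁻¹) * x := by group
        _ = (x * y) ^ m * x := by rw [h3]
    have h4 : (x * y) ^ m * (x * y) ^ m * (x * y) = 1 := by
      rw [← pow_add, ← two_mul, ← pow_succ, ← hm, hpow]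
    calc (x * y) ^ m * x * ((x * y) ^ m)⁻¹ = (x * y) ^ m * (x * ((x * y) ^ m)⁻¹) := by group
      _ = (x * y) ^ m * (x * y) ^ m * (x * y) * (y⁻¹ * x⁻¹ * x) := by rw [h2]; group
      _ = y := by rw [h4, hyi]; group

/-- An element of `T n` in `⟨A, B⟩`. -/
theorem exists_mu {u : Y} (hu : u ∈ B) (hu1 : u ≠ 1) : ∃ a ∈ A, ∃ s ∈ T, s * n = a * u * a⁻¹ := by
  obtain ⟨a, ha, s, hs, b, hb, e⟩ := D.rk u hu hu1
  have hai : a⁻¹ = a := inv_eq_of_mul_eq_one_left (D.sq a ha)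
  have hbi : b⁻¹ = b := inv_eq_of_mul_eq_one_left (D.sq b hb)
  have hui : u⁻¹ = u := inv_eq_of_mul_eq_one_left (D.symm.sq u hu)
  have hm : s * n = a * u * b := by
    have h1 : s * n = a⁻¹ * u * b⁻¹ := by rw [e]; group
    rw [h1, hai, hbi]
  set m := s * n with hmdef
  have hmm : m * m ∈ T := by
    have e1 : m * m = s * (n * s * n⁻¹) * (n * n) := by rw [hmdef]; group
    rw [e1]
    exact T.mul_mem (T.mul_mem hs (D.nT s hs)) D.nn
  have hc : b * a⁻¹ = 1 := by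
    have hcA : b * a⁻¹ ∈ A := A.mul_mem hb (A.inv_mem ha)
    have hmi : m⁻¹ = (b * a⁻¹) * m * (b * a⁻¹)⁻¹ := by
      have h1 : m⁻¹ = b * u * a := by rw [hm]; simp only [mul_inv_rev]; rw [hai, hbi, hui, ← mul_assoc]
      have h2 : a * b⁻¹ = b⁻¹ * a := D.comm ha (A.inv_mem hb)
      have h3 : (b * a⁻¹)⁻¹ = b⁻¹ * a := by rw [mul_inv_rev, inv_inv, h2]
      rw [h1, h3, hm]
      group
    -- `m c⁻¹ m⁻¹ = c⁻¹ m⁻²`
    have h3 : m * (b * a⁻¹)⁻¹ * m⁻¹ = (b * a⁻¹)⁻¹ * (m * m)⁻¹ := by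
      calc m * (b * a⁻¹)⁻¹ * m⁻¹ = (b * a⁻¹)⁻¹ * ((b * a⁻¹) * m * (b * a⁻¹)⁻¹) * m⁻¹ := by group
        _ = (b * a⁻¹)⁻¹ * m⁻¹ * m⁻¹ := by rw [← hmi]
        _ = _ := by group
    have h4 : m * (b * a⁻¹)⁻¹ * m⁻¹ ∈ B := by
      have e1 : m * (b * a⁻¹)⁻¹ * m⁻¹ = s * (n * (b * a⁻¹)⁻¹ * n⁻¹) * s⁻¹ := by rw [hmdef]; group
      rw [e1]
      exact D.TB s hs _ (D.nA _ (A.inv_mem hcA))
    have h5 := D.inf _ h4 _ (A.inv_mem hcA) _ (T.inv_mem hmm) h3
    by_contra hne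
    exact conj_ne (inv_ne_one.2 hne) h5
  have hab : b = a⁻¹ := by rw [hai]; exact mul_inv_eq_one.1 hc
  rw [hab] at hm
  exact ⟨a, ha, s, hs, hm⟩

/-- The rank one torus is transitive. -/
theorem tr [Finite Y] {x y : Y} (hx : x ∈ A) (hx1 : x ≠ 1) (hy : y ∈ A) (hy1 : y ≠ 1) :
    ∃ t ∈ T, t ∈ A ⊔ B ∧ t * x * t⁻¹ = y := by
  have hA : A ≤ A ⊔ B := le_sup_left
  have hB : B ≤ A ⊔ B := le_sup_right
  obtain ⟨a, ha, s, hs, e⟩ := D.exists_mu (D.nA x hx) (conj_ne hx1)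
  have hmL : s * n ∈ A ⊔ B := by
    rw [e]
    exact mul_mem (mul_mem (hA ha) (hB (D.nA x hx))) (inv_mem (hA ha))
  have h1 : s * n * y * (s * n)⁻¹ ∈ B := by
    have e1 : s * n * y * (s * n)⁻¹ = s * (n * y * n⁻¹) * s⁻¹ := by group
    rw [e1]
    exact D.TB s hs _ (D.nA y hy)
  obtain ⟨g, hg, h2⟩ := D.exists_conj hx hx1 h1 (conj_ne hy1)
  have h3 : (s * n)⁻¹ * g * x * ((s * n)⁻¹ * g)⁻¹ = y := by
    calc (s * n)⁻¹ * g * x * ((s * n)⁻¹ * g)⁻¹ = (s * n)⁻¹ * (g * x * g⁻¹) * (s * n) := by group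
      _ = y := by rw [h2]; group
  have h4 : (s * n)⁻¹ * g ∈ A ⊔ B := mul_mem (inv_mem hmL) hg
  obtain ⟨c, hc, t, ht, e2⟩ := D.mem_of_conj h4 hx hx1 (by rw [h3]; exact hy)
  refine ⟨t, ht, ?_, ?_⟩
  · have e3 : t = c⁻¹ * ((s * n)⁻¹ * g) := by rw [e2]; group
    rw [e3]
    exact mul_mem (inv_mem (hA hc)) h4
  · rw [e2] at h3
    have h5 : c * (t * x * t⁻¹) = (t * x * t⁻¹) * c := D.comm hc (D.TA t ht x hx)
    calc t * x * t⁻¹ = c * (t * x * t⁻¹) * c⁻¹ := by rw [h5, mul_inv_cancel_right]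
      _ = c * t * x * (c * t)⁻¹ := by group
      _ = y := h3

/-- A torus element which commutes with `n` centralises `A`. -/
theorem fix [Finite Y] {t : Y} (ht : t ∈ T) (hn : t * n = n * t) {x : Y} (hx : x ∈ A) : t * x * t⁻¹ = x := by
  by_cases hx1 : x = 1
  · rw [hx1]; group
  have hB : B ≤ A ⊔ B := le_sup_right
  obtain ⟨a, ha, s, hs, e⟩ := D.exists_mu (D.nA x hx) (conj_ne hx1)
  set u := n * x * n⁻¹ with hu
  have huB : u ∈ B := D.nA x hx
  have hu1 : u ≠ 1 := conj_ne hx1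
  have htm : t * (s * n) * t⁻¹ = s * n := by
    have h1 := D.ab t ht s hs
    calc t * (s * n) * t⁻¹ = (t * s) * n * t⁻¹ := by group
      _ = s * (t * n) * t⁻¹ := by rw [h1]; group
      _ = s * n := by rw [hn]; group
  have h1 : (a⁻¹ * (t * a * t⁻¹)) * (t * u * t⁻¹) * (a⁻¹ * (t * a * t⁻¹))⁻¹ = u := by
    rw [e] at htm
    calc (a⁻¹ * (t * a * t⁻¹)) * (t * u * t⁻¹) * (a⁻¹ * (t * a * t⁻¹))⁻¹
        = a⁻¹ * (t * (a * u * a⁻¹) * t⁻¹) * a := by group
      _ = u := by rw [htm]; group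
  have hdA : a⁻¹ * (t * a * t⁻¹) ∈ A := A.mul_mem (A.inv_mem ha) (D.TA t ht a ha)
  obtain ⟨b, hb, r, hr, e2⟩ := D.symm.mem_of_conj (g := a⁻¹ * (t * a * t⁻¹))
    (Subgroup.mem_sup_right hdA) (D.TB t ht u huB) (conj_ne hu1) (by rw [h1]; exact huB)
  have h2 : a⁻¹ * (t * a * t⁻¹) = 1 := D.symm.inf _ hdA b hb r hr e2
  rw [h2] at h1
  have h3 : t * u * t⁻¹ = u := by
    calc t * u * t⁻¹ = 1 * (t * u * t⁻¹) * 1⁻¹ := by group
      _ = u := h1
  have h4 : n⁻¹ * t = t * n⁻¹ := by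
    calc n⁻¹ * t = n⁻¹ * (t * n) * n⁻¹ := by group
      _ = t * n⁻¹ := by rw [hn]; group
  calc t * x * t⁻¹ = (t * n⁻¹) * u * (t * n⁻¹)⁻¹ := by rw [hu]; group
    _ = n⁻¹ * (t * u * t⁻¹) * n := by rw [← h4]; group
    _ = x := by rw [h3, hu]; group

/-- The elements of the rank one torus which are inverted by `n` are transitive. -/
theorem tr_inv [Finite Y] {x y : Y} (hx : x ∈ A) (hx1 : x ≠ 1) (hy : y ∈ A) (hy1 : y ≠ 1) :
    ∃ t ∈ T, t ∈ A ⊔ B ∧ n * t * n⁻¹ = t⁻¹ ∧ t * x * t⁻¹ = y := by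
  obtain ⟨t, ht, htL, e⟩ := D.tr hx hx1 hy hy1
  obtain ⟨r, hr, hrr, k, hk⟩ := D.exists_sqrt ht
  have hrL : r ∈ A ⊔ B := by rw [hk]; exact pow_mem htL k
  have hσ := D.nT r hr
  have hσL : n * r * n⁻¹ ∈ A ⊔ B := by
    have h1 : A ⊔ B ≤ (A ⊔ B).comap (MulAut.conj n).toMonoidHom := by
      refine sup_le ?_ ?_
      · intro u hu
        exact Subgroup.mem_sup_right (D.nA u hu)
      · intro u hu
        exact Subgroup.mem_sup_left (D.nB u hu)
    exact h1 hrL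
  have h2 : n * (n * r * n⁻¹) * n⁻¹ = r := by
    have h3 := D.ab _ D.nn r hr
    calc n * (n * r * n⁻¹) * n⁻¹ = (n * n) * r * (n * n)⁻¹ := by group
      _ = r := by rw [h3]; group
  have hp : r * (n * r * n⁻¹) ∈ T := T.mul_mem hr hσ
  have hpn : r * (n * r * n⁻¹) * n = n * (r * (n * r * n⁻¹)) := by
    have h3 : n * (r * (n * r * n⁻¹)) * n⁻¹ = r * (n * r * n⁻¹) := by
      calc n * (r * (n * r * n⁻¹)) * n⁻¹ = (n * r * n⁻¹) * (n * (n * r * n⁻¹) * n⁻¹) := by group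
        _ = r * (n * r * n⁻¹) := by rw [h2, D.ab _ hσ r hr]
    exact (mul_inv_eq_iff_eq_mul.1 h3).symm
  have hfix := D.fix hp hpn hx
  refine ⟨r * (n * r * n⁻¹)⁻¹, T.mul_mem hr (T.inv_mem hσ), mul_mem hrL (inv_mem hσL), ?_, ?_⟩
  · calc n * (r * (n * r * n⁻¹)⁻¹) * n⁻¹ = (n * r * n⁻¹) * (n * (n * r * n⁻¹) * n⁻¹)⁻¹ := by group
      _ = (n * r * n⁻¹) * r⁻¹ := by rw [h2]
      _ = (r * (n * r * n⁻¹)⁻¹)⁻¹ := by group
  · have h3 : t = (r * (n * r * n⁻¹)⁻¹) * (r * (n * r * n⁻¹)) := by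
      have h4 := D.ab r hr _ hσ
      calc t = r * r := hrr.symm
        _ = r * (n * r * n⁻¹)⁻¹ * ((n * r * n⁻¹) * r) := by group
        _ = _ := by rw [← h4]
    calc r * (n * r * n⁻¹)⁻¹ * x * (r * (n * r * n⁻¹)⁻¹)⁻¹
        = r * (n * r * n⁻¹)⁻¹ * (r * (n * r * n⁻¹) * x * (r * (n * r * n⁻¹))⁻¹) * (r * (n * r * n⁻¹)⁻¹)⁻¹ := by
          rw [hfix]
      _ = ((r * (n * r * n⁻¹)⁻¹) * (r * (n * r * n⁻¹))) * x * ((r * (n * r * n⁻¹)⁻¹) * (r * (n * r * n⁻¹)))⁻¹ := by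
          group
      _ = t * x * t⁻¹ := by rw [← h3]
      _ = y := e

end One

open CoxeterSystem Cfsg.Agent.ChevalleyStructure.CoxeterGeom Cfsg.Agent.Tits.Roots Cfsg.Agent.Tits.Core
  Cfsg.Agent.Tits.RootComb Cfsg.Agent.Nodes.Comb Cfsg.Agent.Nodes.Reps Cfsg.Agent.Nodes.BNOf Cfsg.Agent.Nodes.BNOf.RGD
  Cfsg.Agent.Nodes.FreeTorus Cfsg.Agent.Omega.Lie.End.KTorus

variable {I W Y : Type*} [Fintype I] [DecidableEq I] [Group W] [Group Y] {M : CoxeterMatrix I}
  {cs : CoxeterSystem M W} {A : I → I → ℤ} {h : IsCartan M A} {T : Subgroup Y} {n : I → Y}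
  {X : (I → ℤ) → Subgroup Y} [Finite W]

/-- The rank one data of a node. -/
theorem one_of_rgd (R : RGD cs h 2 T n X) (hTc : ∀ s ∈ T, ∀ t ∈ T, s * t = t * s) {i : I}
    (hsq : ∀ x ∈ X (sr i), x * x = 1) : One (X (sr i)) (X (-sr i)) T (n i) := by
  have hni := rp_simple cs R.nsys i
  have hN := R.nsys.norm i
  have hTX : ∀ r, IsRoot cs h r → ∀ t ∈ T, ∀ u ∈ X r, t * u * t⁻¹ ∈ X r := by
    intro r hr t ht u hu
    have h1 := R.tor r hr t ht
    rw [← h1]
    exact conj_mem_cj.2 hu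
  refine ⟨hTc, Nat.coprime_two_right.1 R.tcop, hsq, hTX _ (isRoot_sr cs h i), hTX _ (isRoot_sr cs h i).neg, ?_, ?_, ?_,
    ?_, fun t ht => (Subgroup.mem_normalizer_iff.1 hN t).1 ht, fun t ht => (Subgroup.mem_normalizer_iff''.1 hN t).1 ht,
    R.sq_mem_T i, R.rk1 i, ?_⟩
  · intro x hx
    have := R.conj_mem hni (isRoot_sr cs h i) hx
    rwa [rep_simple_sr] at this
  · intro x hx
    have := R.conj_mem' hni (isRoot_sr cs h i) hx
    rwa [inv_simple, rep_simple_sr] at this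
  · intro x hx
    have := R.conj_mem hni (isRoot_sr cs h i).neg hx
    rwa [map_neg, rep_simple_sr, neg_neg] at this
  · intro x hx
    have := R.conj_mem' hni (isRoot_sr cs h i).neg hx
    rwa [inv_simple, map_neg, rep_simple_sr, neg_neg] at this
  · intro x hx a ha t ht e
    refine ParSys.Fam.neg_inf_B R i x hx ?_
    rw [e]
    exact mul_mem (X_le_B (isRoot_sr cs h i) (sr_nonneg i) ha) (T_le_B ht)

/-- **`TrNode` is free**: every node with `|X_i| ≥ 4` of exponent two, over an abelian torus. -/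
theorem trNode [Finite Y] (R : RGD cs h 2 T n X) (hTc : ∀ s ∈ T, ∀ t ∈ T, s * t = t * s) {i : I}
    (h4 : 4 ≤ Nat.card (X (sr i))) (hsq : ∀ x ∈ X (sr i), x * x = 1) : TrNode T n X i where
  two := by
    have hfin : Fintype ↥(X (sr i)) := Fintype.ofFinite _
    rw [Nat.card_eq_fintype_card] at h4
    obtain ⟨a, b, c, hab, hac, hbc⟩ := Fintype.two_lt_card_iff.1 (by omega : 2 < Fintype.card ↥(X (sr i)))
    have key : ∀ u v : ↥(X (sr i)), u ≠ v → (u : Y) ≠ v := fun u v huv e => huv (Subtype.ext e)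
    by_cases ha : (a : Y) = 1
    · refine ⟨b, b.2, c, c.2, ?_, ?_, key _ _ hbc⟩
      · intro e; exact key _ _ hab (by rw [ha, e])
      · intro e; exact key _ _ hac (by rw [ha, e])
    · by_cases hb : (b : Y) = 1
      · refine ⟨a, a.2, c, c.2, ha, ?_, key _ _ hac⟩
        intro e; exact key _ _ hbc (by rw [hb, e])
      · exact ⟨a, a.2, b, b.2, ha, hb, key _ _ hab⟩
  sq := hsq
  tr x hx y hy hx1 hy1 := by
    obtain ⟨t, ht, htL, hn, e⟩ := (one_of_rgd R hTc hsq).tr_inv hx hx1 hy hy1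
    exact ⟨t, ⟨ht, htL, hn⟩, e⟩

/-- **Rows of the K-side**: `KRow` from `two`, `conn`, `T` abelian, `CommFour` and `six`. -/
theorem krow [Finite Y] (R : RGD cs h 2 T n X) (hTc : ∀ s ∈ T, ∀ t ∈ T, s * t = t * s) (two : ∃ i j : I, i ≠ j)
    (conn : Cfsg.Agent.KFacts.RgdCharP.Conn M) (cf : ∀ i j, M i j = 4 → OmegaEnd.Frat.CommFour cs h X i j)
    (six : ∀ i j, M i j = 6 → (∀ k, k = i ∨ k = j) ∧ NComm (X (sr i)) (X (rep cs h (cs.simple j) (sr i)))) :
    KRow cs h T n X :=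
  KFour.krow_of R hTc two conn (fun h4 hsq i => trNode R hTc (h4 i) (hsq i)) cf six

end Cfsg.Agent.Omega.Lie.End.KTrFree

end

section


/-!
# The torus of a central extension of odd degree is abelian

* `comm_of_cyc` : `T` acts on the elementary abelian 2-group `A` as an abelian group transitive on `A \ 1`, the kernel of
  the action is central in `T`: `T` is abelian (the image is cyclic);
* `fix_eq_one` : an element of `T ∩ ⟨A, B⟩` centralising `A` is trivial (`One`, `T` abelian).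
-/

set_option autoImplicit false
set_option linter.unusedSectionVars false

namespace Cfsg.Agent.Omega.CR.Ab

open Subgroup Cfsg.Agent.Omega.Lie.End.KTrFree

section cyc

variable {Y : Type*} [Group Y] {A T : Subgroup Y}

theorem comm_of_sq (hsq : ∀ x ∈ A, x * x = 1) {x y : Y} (hx : x ∈ A) (hy : y ∈ A) : x * y = y * x := by
  have h1 := hsq _ (A.mul_mem hx hy)
  have h4 : x⁻¹ = x := inv_eq_of_mul_eq_one_left (hsq x hx)
  have h5 : y⁻¹ = y := inv_eq_of_mul_eq_one_left (hsq y hy)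
  have h6 : (x * y)⁻¹ = x * y := inv_eq_of_mul_eq_one_left h1
  rw [← h6, mul_inv_rev, h4, h5]

/-- **The torus of rank one is abelian.** -/
theorem comm_of_cyc [Finite Y] (hsq : ∀ x ∈ A, x * x = 1) (hA : A ≠ ⊥) (TA : ∀ t ∈ T, ∀ x ∈ A, t * x * t⁻¹ ∈ A)
    (hab : ∀ s ∈ T, ∀ t ∈ T, ∀ x ∈ A, (s * t) * x * (s * t)⁻¹ = (t * s) * x * (t * s)⁻¹)
    (htr : ∀ x ∈ A, ∀ y ∈ A, x ≠ 1 → y ≠ 1 → ∃ t ∈ T, t * x * t⁻¹ = y)
    (hc : ∀ c ∈ T, (∀ x ∈ A, c * x * c⁻¹ = x) → ∀ t ∈ T, c * t = t * c) : ∀ s ∈ T, ∀ t ∈ T, s * t = t * s := by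
  classical
  let _ : CommGroup A := { (inferInstance : Group A) with
    mul_comm := fun a b => Subtype.ext (comm_of_sq hsq a.2 b.2) }
  obtain ⟨a₀, ha₀, ha01⟩ := (A.bot_or_exists_ne_one).resolve_left hA
  -- the action
  let φ : T →* AddMonoid.End (Additive A) :=
    { toFun := fun t =>
        { toFun := fun x => Additive.ofMul ⟨(t : Y) * (x.toMul : Y) * (t : Y)⁻¹, TA t t.2 _ x.toMul.2⟩
          map_zero' := by
            apply Additive.toMul.injective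
            apply Subtype.ext
            change (t : Y) * 1 * (t : Y)⁻¹ = 1
            group
          map_add' := fun x y => by
            apply Additive.toMul.injective
            apply Subtype.ext
            change (t : Y) * ((x.toMul : Y) * (y.toMul : Y)) * (t : Y)⁻¹ =
              (t : Y) * (x.toMul : Y) * (t : Y)⁻¹ * ((t : Y) * (y.toMul : Y) * (t : Y)⁻¹)
            group }
      map_one' := by
        ext x
        change (1 : Y) * (x.toMul : Y) * (1 : Y)⁻¹ = (x.toMul : Y)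
        group
      map_mul' := fun s t => by
        ext x
        change ((s : Y) * (t : Y)) * (x.toMul : Y) * ((s : Y) * (t : Y))⁻¹ =
          (s : Y) * ((t : Y) * (x.toMul : Y) * (t : Y)⁻¹) * (s : Y)⁻¹
        group }
  have hφ : ∀ (t : T) (x : Additive A), ((φ t x).toMul : Y) = (t : Y) * (x.toMul : Y) * (t : Y)⁻¹ := fun _ _ => rfl
  -- the commutant
  let R := Subring.centralizer (Set.range φ)
  have hmem : ∀ r : AddMonoid.End (Additive A), r ∈ R ↔ ∀ t : T, φ t * r = r * φ t := by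
    intro r
    rw [Subring.mem_centralizer_iff]
    constructor
    · intro h t
      exact h _ ⟨t, rfl⟩
    · rintro h _ ⟨t, rfl⟩
      exact h t
  -- a nonzero element of the commutant is injective
  have hinj : ∀ r ∈ R, ∀ x : Additive A, x ≠ 0 → r x = 0 → r = 0 := by
    intro r hr x hx h0
    ext1 y
    by_cases hy : y = 0
    · rw [hy, map_zero, map_zero]
    obtain ⟨t, ht, e⟩ := htr (x.toMul : Y) x.toMul.2 (y.toMul : Y) y.toMul.2
      (fun e => hx (Additive.toMul.injective (Subtype.ext e))) (fun e => hy (Additive.toMul.injective (Subtype.ext e)))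
    have h1 : φ ⟨t, ht⟩ x = y := Additive.toMul.injective (Subtype.ext e)
    have h2 := congrArg (fun f : AddMonoid.End (Additive A) => f x) ((hmem r).1 hr ⟨t, ht⟩)
    change φ ⟨t, ht⟩ (r x) = r (φ ⟨t, ht⟩ x) at h2
    rw [h0, map_zero, h1] at h2
    rw [← h2]
    rfl
  have hx₀ : Additive.ofMul (⟨a₀, ha₀⟩ : A) ≠ 0 := by
    intro e
    exact ha01 (congrArg Subtype.val (Additive.ofMul.injective e))
  have hnt : Nontrivial R := by
    refine ⟨⟨0, 1, fun e => hx₀ ?_⟩⟩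
    have h1 : (0 : AddMonoid.End (Additive A)) = 1 := congrArg Subtype.val e
    have h2 := congrArg (fun f : AddMonoid.End (Additive A) => f (Additive.ofMul (⟨a₀, ha₀⟩ : A))) h1
    exact h2.symm
  have hnzd : NoZeroDivisors R := by
    refine ⟨fun {r s} hrs => ?_⟩
    by_contra hcon
    push Not at hcon
    obtain ⟨hr, hs⟩ := hcon
    have h1 : (s : AddMonoid.End (Additive A)) (Additive.ofMul (⟨a₀, ha₀⟩ : A)) ≠ 0 := fun e =>
      hs (Subtype.ext (hinj _ s.2 _ hx₀ e))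
    have h2 : (r : AddMonoid.End (Additive A)) ((s : AddMonoid.End (Additive A)) (Additive.ofMul (⟨a₀, ha₀⟩ : A))) = 0 := by
      have h3 := congrArg (fun f : R => (f : AddMonoid.End (Additive A)) (Additive.ofMul (⟨a₀, ha₀⟩ : A))) hrs
      exact h3
    exact hr (Subtype.ext (hinj _ r.2 _ h1 h2))
  have hdom : IsDomain R := NoZeroDivisors.to_isDomain R
  have hfinE : Finite (AddMonoid.End (Additive A)) :=
    Finite.of_injective (fun f : AddMonoid.End (Additive A) => (f : Additive A → Additive A)) DFunLike.coe_injective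
  have hfin : Finite R := Subtype.finite
  have hfield := Finite.isDomain_to_isField R
  let _ : CommRing R := { (inferInstance : Ring R) with mul_comm := hfield.mul_comm }
  have hdom' : IsDomain R := hdom
  -- the homomorphism to the units
  let f : T →* R :=
    { toFun := fun t => ⟨φ t, (hmem _).2 fun s => by
        rw [← map_mul, ← map_mul]
        ext x
        exact hab s s.2 t t.2 _ x.toMul.2⟩
      map_one' := Subtype.ext (map_one φ)
      map_mul' := fun s t => Subtype.ext (map_mul φ s t) }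
  have hcyc : IsCyclic Rˣ := inferInstance
  have hker : f.toHomUnits.ker ≤ Subgroup.center T := by
    intro c hc'
    rw [MonoidHom.mem_ker] at hc'
    have h1 : f c = 1 := congrArg Units.val hc'
    have h2 : φ c = 1 := congrArg Subtype.val h1
    rw [Subgroup.mem_center_iff]
    intro t
    have h3 := hc c c.2 (fun x hx => by
      have h4 := congrArg (fun g : AddMonoid.End (Additive A) => ((g (Additive.ofMul ⟨x, hx⟩)).toMul : Y)) h2
      exact h4) t t.2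
    exact Subtype.ext h3.symm
  intro s hs t ht
  exact congrArg Subtype.val (commutative_of_cyclic_center_quotient f.toHomUnits hker ⟨s, hs⟩ ⟨t, ht⟩)

end cyc

section one

variable {Y : Type*} [Group Y] {A B T : Subgroup Y} {n : Y} (D : One A B T n)
include D

/-- the involution `m = s n ∈ ⟨A, B⟩` -/
theorem exists_m (hA : A ≠ ⊥) : ∃ s ∈ T, s * n ∈ A ⊔ B ∧ s * n * (s * n) = 1 := by
  obtain ⟨x, hx, hx1⟩ := (A.bot_or_exists_ne_one).resolve_left hA
  obtain ⟨a, ha, s, hs, e⟩ := D.exists_mu (D.nA x hx) (One.conj_ne hx1)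
  refine ⟨s, hs, ?_, ?_⟩
  · rw [e]
    exact mul_mem (mul_mem (mem_sup_left ha) (mem_sup_right (D.nA x hx))) (inv_mem (mem_sup_left ha))
  · rw [e]
    have h1 := D.symm.sq _ (D.nA x hx)
    calc a * (n * x * n⁻¹) * a⁻¹ * (a * (n * x * n⁻¹) * a⁻¹) = a * (n * x * n⁻¹ * (n * x * n⁻¹)) * a⁻¹ := by group
      _ = 1 := by rw [h1]; group

/-- the elements of the rank one torus are inverted by `m` -/
theorem inverted (hA : A ≠ ⊥) {s : Y} (hs : s ∈ T) (hmm : s * n * (s * n) = 1) {c : Y}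
    (hc : c ∈ T) (hcL : c ∈ A ⊔ B) : s * n * c * (s * n)⁻¹ = c⁻¹ := by
  obtain ⟨m, hmd⟩ : ∃ m, m = s * n := ⟨_, rfl⟩
  rw [← hmd] at hmm ⊢
  have hmi : m⁻¹ = m := inv_eq_of_mul_eq_one_left hmm
  have hmT : ∀ t ∈ T, m * t * m⁻¹ ∈ T := by
    intro t ht
    have e : m * t * m⁻¹ = s * (n * t * n⁻¹) * s⁻¹ := by rw [hmd]; group
    rw [e]
    exact T.mul_mem (T.mul_mem hs (D.nT t ht)) (T.inv_mem hs)
  have hmA : ∀ x ∈ A, m * x * m⁻¹ ∈ B := by
    intro x hx
    have e : m * x * m⁻¹ = s * (n * x * n⁻¹) * s⁻¹ := by rw [hmd]; group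
    rw [e]
    exact D.TB s hs _ (D.nA x hx)
  have hmB : ∀ x ∈ B, m * x * m⁻¹ ∈ A := by
    intro x hx
    have e : m * x * m⁻¹ = s * (n * x * n⁻¹) * s⁻¹ := by rw [hmd]; group
    rw [e]
    exact D.TA s hs _ (D.nB x hx)
  -- the inverted elements
  let TI : Subgroup Y :=
    { carrier := {t | t ∈ T ∧ m * t * m⁻¹ = t⁻¹}
      one_mem' := ⟨T.one_mem, by group⟩
      mul_mem' := by
        rintro a b ⟨ha, ha'⟩ ⟨hb, hb'⟩
        refine ⟨T.mul_mem ha hb, ?_⟩
        have e : m * (a * b) * m⁻¹ = (m * a * m⁻¹) * (m * b * m⁻¹) := by group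
        rw [e, ha', hb', mul_inv_rev, D.ab _ (T.inv_mem ha) _ (T.inv_mem hb)]
      inv_mem' := by
        rintro a ⟨ha, ha'⟩
        refine ⟨T.inv_mem ha, ?_⟩
        have e : m * a⁻¹ * m⁻¹ = (m * a * m⁻¹)⁻¹ := by group
        rw [e, ha'] }
  have hTI : TI ≤ T := fun t ht => ht.1
  have D' : One A B TI m :=
    { ab := fun s hs t ht => D.ab s (hTI hs) t (hTI ht)
      odd := Odd.of_dvd_nat D.odd (card_dvd_of_le hTI)
      sq := D.sq
      TA := fun t ht => D.TA t (hTI ht)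
      TB := fun t ht => D.TB t (hTI ht)
      nA := hmA
      nA' := fun x hx => by
        have := hmA x hx
        rw [hmi] at this ⊢
        exact this
      nB := hmB
      nB' := fun x hx => by
        have := hmB x hx
        rw [hmi] at this ⊢
        exact this
      nT := fun t ht => by
        rw [ht.2]
        exact TI.inv_mem ht
      nT' := fun t ht => by
        have h1 := ht.2
        rw [hmi] at h1 ⊢
        rw [h1]
        exact TI.inv_mem ht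
      nn := by
        rw [hmm]
        exact TI.one_mem
      rk := fun u hu hu1 => by
        obtain ⟨a, ha, r, hr, e⟩ := D.exists_mu hu hu1
        have hrr : r * n * (r * n) = 1 := by
          rw [e]
          have h1 := D.symm.sq u hu
          calc a * u * a⁻¹ * (a * u * a⁻¹) = a * (u * u) * a⁻¹ := by group
            _ = 1 := by rw [h1]; group
        have hri : (r * n)⁻¹ = r * n := inv_eq_of_mul_eq_one_left hrr
        refine ⟨a⁻¹, A.inv_mem ha, r * n * m⁻¹, ⟨?_, ?_⟩, a, ha, ?_⟩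
        · have e1 : r * n * m⁻¹ = r * s⁻¹ := by rw [hmd]; group
          rw [e1]
          exact T.mul_mem hr (T.inv_mem hs)
        · have e1 : (r * n * m⁻¹)⁻¹ = m * (r * n) := by rw [mul_inv_rev, inv_inv, hri]
          rw [e1]
          calc m * (r * n * m⁻¹) * m⁻¹ = m * (r * n) * (m * m)⁻¹ := by group
            _ = m * (r * n) := by rw [hmm]; group
        · have e1 : u = a⁻¹ * (a * u * a⁻¹) * a := by group
          rw [e1, ← e]
          group
      inf := fun x hx a ha t ht e => D.inf x hx a ha t (hTI ht) e }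
  rcases D'.bruhat hcL with ⟨a, ha, t, ht, e⟩ | ⟨a, ha, t, ht, b, hb, e⟩
  · have h1 : n * a * n⁻¹ = 1 := by
      -- `a ∈ A ∩ T`
      have haT : a ∈ T := by
        have e1 : a = c * t⁻¹ := by rw [e]; group
        rw [e1]
        exact T.mul_mem hc (T.inv_mem ht.1)
      refine D.inf _ (D.nA a ha) 1 A.one_mem _ (D.nT a haT) ?_
      rw [one_mul]
    have h2 : a = 1 := by
      by_contra h3
      exact One.conj_ne h3 h1
    rw [e, h2, one_mul]
    exact ht.2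
  · exfalso
    obtain ⟨x, hx, hx1⟩ := (A.bot_or_exists_ne_one).resolve_left hA
    have h1 : m * x * m⁻¹ ∈ B := hmA x hx
    have hme : m = t⁻¹ * a⁻¹ * c * b⁻¹ := by rw [e]; group
    have hbx : b⁻¹ * x * b⁻¹⁻¹ ∈ A := A.mul_mem (A.mul_mem (A.inv_mem hb) hx) (A.inv_mem (A.inv_mem hb))
    have h2 : m * x * m⁻¹ ∈ A := by
      have e1 : m * x * m⁻¹ = t⁻¹ * (a⁻¹ * (c * (b⁻¹ * x * b⁻¹⁻¹) * c⁻¹) * a) * t⁻¹⁻¹ := by rw [hme]; group
      rw [e1]
      exact D.TA _ (T.inv_mem ht.1) _ (A.mul_mem (A.mul_mem (A.inv_mem ha) (D.TA c hc _ hbx)) ha)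
    exact One.conj_ne hx1 (D.inf' h2 h1)

/-- **An element of the rank one torus centralising `A` is trivial.** -/
theorem fix_eq_one (hA : A ≠ ⊥) {c : Y} (hc : c ∈ T) (hcL : c ∈ A ⊔ B) (hfix : ∀ x ∈ A, c * x * c⁻¹ = x) : c = 1 := by
  obtain ⟨s, hs, hm, hmm⟩ := exists_m D hA
  have h1 := inverted D hA hs hmm hc hcL
  obtain ⟨m, hmd⟩ : ∃ m, m = s * n := ⟨_, rfl⟩
  rw [← hmd] at hm hmm h1
  have hcA : A ≤ centralizer {c} := by
    intro x hx
    rw [mem_centralizer_singleton_iff]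
    exact (mul_inv_eq_iff_eq_mul.1 (hfix x hx)).symm
  have hcB : B ≤ centralizer {c} := by
    intro x hx
    rw [mem_centralizer_singleton_iff]
    -- `x = m y m⁻¹`
    have hy : m⁻¹ * x * m ∈ A := by
      have e : m⁻¹ * x * m = (s * n)⁻¹ * x * (s * n) := by rw [hmd]
      have e1 : (s * n)⁻¹ * x * (s * n) = n⁻¹ * (s⁻¹ * x * s⁻¹⁻¹) * n := by group
      rw [e, e1]
      exact D.nB' _ (D.TB _ (T.inv_mem hs) x hx)
    have h2 := hfix _ hy
    have h3 : m * c⁻¹ * m⁻¹ = c := by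
      have e : m * c⁻¹ * m⁻¹ = (m * c * m⁻¹)⁻¹ := by group
      rw [e, h1, inv_inv]
    have h4 : c * x * c⁻¹ = x := by
      calc c * x * c⁻¹ = (m * c⁻¹ * m⁻¹) * x * (m * c⁻¹ * m⁻¹)⁻¹ := by rw [h3]
        _ = m * (c⁻¹ * (m⁻¹ * x * m) * c) * m⁻¹ := by group
        _ = m * (c⁻¹ * (c * (m⁻¹ * x * m) * c⁻¹) * c) * m⁻¹ := by rw [h2]
        _ = x := by group
    exact (mul_inv_eq_iff_eq_mul.1 h4).symm
  have h5 : m * c = c * m := mem_centralizer_singleton_iff.1 ((sup_le hcA hcB) hm)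
  have h6 : c⁻¹ = c := by rw [← h1, h5, mul_inv_cancel_right]
  refine D.t_one hc ?_
  calc c * c = c * c⁻¹ := by rw [h6]
    _ = 1 := mul_inv_cancel c

end one

end Cfsg.Agent.Omega.CR.Ab

end

section


/-!
# The K-side: the parabolic subgroups of a root group datum (interface, helper650)

`PFacts cs h T X` : to be proved for an arbitrary finite group `Y` with `R : RGD cs h 2 T n X` and
`RGD.Sup X {x | IsRoot cs h x} = ⊤` (helpers 57, 366, 894).
-/

set_option autoImplicit false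

namespace Cfsg.Agent.Omega.Lie.End

open Subgroup CoxeterSystem Cfsg.Agent.ChevalleyStructure.CoxeterGeom Cfsg.Agent.Tits.Roots Cfsg.Agent.Tits.Core
  Cfsg.Agent.Tits.RootComb Cfsg.Agent.Nodes.Comb Cfsg.Agent.Nodes.Reps Cfsg.Agent.Nodes.BNOf
  Cfsg.Agent.Nodes.LeviDec Cfsg.Agent.KFacts.RgdCharP Cfsg.Agent.ParSys

variable {I W Y : Type*} [Fintype I] [DecidableEq I] [Group W] [Group Y] {M : CoxeterMatrix I}
  {A : I → I → ℤ}

/-- The facts on the minimal parabolic subgroups. -/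
structure PFacts (cs : CoxeterSystem M W) (h : IsCartan M A) (T : Subgroup Y) (X : (I → ℤ) → Subgroup Y) : Prop where
  norm : normalizer (RGD.Sup X (RGD.Pos cs h) : Set Y) = RGD.B cs h T X
  gen : ⨆ i, PJ cs h T X {i} = ⊤
  rel : ∀ i, (RGD.B cs h T X).relIndex (PJ cs h T X {i}) = Nat.card (X (sr i)) + 1
  ptr : ∀ i, Hall.HallData.PTr (RGD.B cs h T X) (RGD.Sup X (RGD.Pos cs h)) (PJ cs h T X {i})
  reg : ∀ i, ∀ u ∈ RGD.Sup X (RGD.Pos cs h), ∀ g ∈ PJ cs h T X {i}, g ∉ RGD.B cs h T X →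
    g⁻¹ * u * g ∈ RGD.B cs h T X → u ∈ Qk (RGD.B cs h T X) (PJ cs h T X {i})
  dec : ∀ i, ∀ u ∈ RGD.Sup X (RGD.Pos cs h), ∃ x ∈ X (sr i), ∃ v ∈ RGD.Sup X (RGD.Pos cs h),
    v ∈ Qk (RGD.B cs h T X) (PJ cs h T X {i}) ∧ u = x * v
  inf : ∀ i, ∀ x ∈ X (sr i), x ∈ Qk (RGD.B cs h T X) (PJ cs h T X {i}) → x = 1
  poly : ∀ i j, i ≠ j → Polygon (RGD.B cs h T X) (fun i => PJ cs h T X {i}) i j (M i j)
  ncl : ∀ i, X (sr i) ⊔ X (-sr i) ≤ NCl (RGD.Sup X (RGD.Pos cs h)) (PJ cs h T X {i})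

end Cfsg.Agent.Omega.Lie.End

end

section


/-!
# The K-side: torus elements on the covering group (helper650)

* `KTor cs h T X` : the torus elements needed for `KSys`;
* `KRow.kTor` : a row has them (helper923's KTorus);
* `KTor.lift` : they lift to a central extension of odd degree.
-/

set_option autoImplicit false
set_option linter.unusedSectionVars false

namespace Cfsg.Agent.Omega.Lie.End

open Subgroup CoxeterSystem Cfsg.Agent.ChevalleyStructure.CoxeterGeom Cfsg.Agent.Tits.Roots Cfsg.Agent.Tits.Core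
  Cfsg.Agent.Tits.RootComb Cfsg.Agent.Nodes.Comb Cfsg.Agent.Nodes.Reps Cfsg.Agent.Nodes.BNOf
  Cfsg.Agent.KFacts.RgdCharP Cfsg.Agent.Nodes.RGDLift

variable {I W Y : Type*} [Fintype I] [DecidableEq I] [Group W] [Group Y] {M : CoxeterMatrix I}
  {cs : CoxeterSystem M W} {A : I → I → ℤ} {h : IsCartan M A} {T : Subgroup Y} {n : I → Y}
  {X : (I → ℤ) → Subgroup Y}

/-- The torus elements needed for `KSys`. -/
structure KTor (M : CoxeterMatrix I) (T : Subgroup Y) (X : (I → ℤ) → Subgroup Y) : Prop where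
  own : ∀ i, FpOn (TL T X i) (X (sr i))
  fp : ∀ i j, i ≠ j → M i j ≠ 2 → FpOn (TL T X j) (X (sr i))
  sep : ∀ i j, i ≠ j → (M i j = 4 ∨ ∃ k, k ≠ i ∧ k ≠ j) →
    SpOn T (X (sr i)) (X (sr j)) ∨ SpOn T (X (sr j)) (X (sr i))

theorem KRow.kTor [Finite W] [Finite Y] (R : RGD cs h 2 T n X) (hr : KRow cs h T n X) (h6 : ∀ i j, M i j ≠ 6)
    (big : ∀ k, 4 ≤ Nat.card (X (sr k))) (ex : ∀ k, ∀ x ∈ X (sr k), x * x = 1) : KTor M T X := by
  have hN := hr.tr big ex
  refine ⟨fun i => ?_, fun i j hij h2 => ?_, fun i j hij hk => ?_⟩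
  · obtain ⟨s, hs, hf⟩ := KTorus.exists_fpf R hr.ab (hN i)
    exact ⟨s, ⟨hs.1, hs.2.1⟩, hf⟩
  · have hm : M i j = 3 ∨ M i j = 4 := by
      rcases h.rel i j hij with h3 | h3 | h3 | h3
      · exact absurd h3.1 h2
      · exact Or.inl h3.1
      · exact Or.inr h3.1
      · exact absurd h3.1 (h6 i j)
    obtain ⟨s, hs, hf⟩ := KTorus.nd R hr.ab hij (hN j) (hN i) hm
    exact ⟨s, ⟨hs.1, hs.2.1⟩, hf⟩
  · by_cases h3 : ∃ k, k ≠ i ∧ k ≠ j
    · obtain ⟨k, hki, hkj⟩ := h3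
      obtain ⟨a, ha, b, hb, hab⟩ := hr.conn {i, j} ⟨i, Or.inl rfl⟩ (fun e => by
        have h5 : k ∈ ({i, j} : Set I) := by rw [e]; trivial
        rcases h5 with h5 | h5
        · exact hki h5
        · exact hkj h5)
      have hbi : b ≠ i := fun e => hb (Or.inl e)
      have hbj : b ≠ j := fun e => hb (Or.inr e)
      have h4 : M i b ≠ 2 ∨ M j b ≠ 2 := by
        rcases ha with rfl | ha
        · exact Or.inl hab
        · have ha' : a = j := ha
          subst ha'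
          exact Or.inr hab
      rcases KTorus.exists_sep R hr.ab hN hij (fun _ => ⟨b, hbi.symm, hbj.symm, h4⟩) with h5 | h5
      · exact Or.inl h5
      · exact Or.inr h5
    · push Not at h3
      have h4 : ∀ k, k = i ∨ k = j := fun k => by
        by_cases hki : k = i
        · exact Or.inl hki
        · exact Or.inr (h3 k hki)
      have h5 : M i j = 4 := hk.resolve_right (fun ⟨k, hki, hkj⟩ => hkj (h3 k hki))
      exact hr.sp2 big ex i j h5 h4

section Lift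

variable {K : Type*} [Group K] [Finite K] {f : K →* Y} (hf : f.ker ≤ center K)
  (hp : (Nat.card f.ker).Coprime 2) (hs : Function.Surjective f)

include hf hp in
theorem lft_inj {P : Subgroup Y} (hP : IsPGroup 2 P) {x y : K} (hx : x ∈ lft 2 f P) (hy : y ∈ lft 2 f P)
    (e : f x = f y) : x = y := by
  have : Fact (Nat.Prime 2) := ⟨Nat.prime_two⟩
  have h1 := eq_one_of_mem_lft hf hp hP (mul_mem (inv_mem hx) hy) (by rw [map_mul, map_inv, e, inv_mul_cancel])
  exact inv_mul_eq_one.1 h1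

include hf hp hs in
theorem exists_mem_lft {P : Subgroup Y} (hP : IsPGroup 2 P) {y : Y} (hy : y ∈ P) : ∃ x ∈ lft 2 f P, f x = y := by
  have : Fact (Nat.Prime 2) := ⟨Nat.prime_two⟩
  rw [← map_lft hf hp hs hP] at hy
  exact hy

include hf hp hs in
theorem card_lft {P : Subgroup Y} (hP : IsPGroup 2 P) : Nat.card (lft 2 f P) = Nat.card P := by
  have : Fact (Nat.Prime 2) := ⟨Nat.prime_two⟩
  refine Nat.card_congr (Equiv.ofBijective (fun x : lft 2 f P => (⟨f x, ((mem_lft hf hP).1 x.2).1⟩ : P)) ⟨?_, ?_⟩)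
  · intro x y e
    exact Subtype.ext (lft_inj hf hp hP x.2 y.2 (congrArg Subtype.val e))
  · rintro ⟨y, hy⟩
    obtain ⟨x, hx, e⟩ := exists_mem_lft hf hp hs hP hy
    exact ⟨⟨x, hx⟩, Subtype.ext e⟩

include hf hp hs in
theorem sq_of_lft {P : Subgroup Y} (hP : IsPGroup 2 P) (h : ∀ x ∈ lft 2 f P, x * x = 1) : ∀ y ∈ P, y * y = 1 := by
  intro y hy
  obtain ⟨x, hx, rfl⟩ := exists_mem_lft hf hp hs hP hy
  rw [← map_mul, h x hx, map_one]

include hf hp hs in
theorem NComm.lift {P Q : Subgroup Y} (hP : IsPGroup 2 P) (hQ : IsPGroup 2 Q) (h : NComm P Q) :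
    NComm (lft 2 f P) (lft 2 f Q) := by
  obtain ⟨x, hx, y, hy, hxy⟩ := h
  obtain ⟨x', hx', rfl⟩ := exists_mem_lft hf hp hs hP hx
  obtain ⟨y', hy', rfl⟩ := exists_mem_lft hf hp hs hQ hy
  exact ⟨x', hx', y', hy', fun e => hxy (by rw [← map_mul, e, map_mul])⟩

include hf hp hs in
theorem exists_mem_TL {T : Subgroup Y} {X : (I → ℤ) → Subgroup Y} {i : I} (h1 : IsPGroup 2 (X (sr i)))
    (h2 : IsPGroup 2 (X (-sr i))) {t : Y} (ht : t ∈ TL T X i) :
    ∃ t' ∈ TL (T.comap f) (fun x => lft 2 f (X x)) i, f t' = t := by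
  have : Fact (Nat.Prime 2) := ⟨Nat.prime_two⟩
  have h3 : t ∈ (lft 2 f (X (sr i)) ⊔ lft 2 f (X (-sr i))).map f := by
    rw [Subgroup.map_sup, map_lft hf hp hs h1, map_lft hf hp hs h2]
    exact ht.2
  obtain ⟨l, hl, rfl⟩ := h3
  exact ⟨l, ⟨ht.1, hl⟩, rfl⟩

include hf hp hs in
theorem FpOn.lift {T : Subgroup Y} {X : (I → ℤ) → Subgroup Y} {i : I} {P : Subgroup Y} (h1 : IsPGroup 2 (X (sr i)))
    (h2 : IsPGroup 2 (X (-sr i))) (hP : IsPGroup 2 P) (h : FpOn (TL T X i) P) :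
    FpOn (TL (T.comap f) (fun x => lft 2 f (X x)) i) (lft 2 f P) := by
  have : Fact (Nat.Prime 2) := ⟨Nat.prime_two⟩
  obtain ⟨t, ht, hfp⟩ := h
  obtain ⟨t', ht', rfl⟩ := exists_mem_TL hf hp hs h1 h2 ht
  refine ⟨t', ht', fun x hx e => ?_⟩
  refine eq_one_of_mem_lft hf hp hP hx (hfp _ ((mem_lft hf hP).1 hx).1 ?_)
  rw [← map_inv, ← map_mul, ← map_mul, e]

include hf hp hs in
theorem SpOn.lift {T P Q : Subgroup Y} (hP : IsPGroup 2 P) (hQ : IsPGroup 2 Q)
    (hT : ∀ t ∈ T, cj t P = P) (h : SpOn T P Q) : SpOn (T.comap f) (lft 2 f P) (lft 2 f Q) := by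
  have : Fact (Nat.Prime 2) := ⟨Nat.prime_two⟩
  obtain ⟨t, ht, h1, h2⟩ := h
  obtain ⟨t', rfl⟩ := hs t
  refine ⟨t', ht, fun x hx => ?_, fun x hx e => ?_⟩
  · refine lft_inj hf hp hP ?_ hx ?_
    · have h3 : cj t' (lft 2 f P) = lft 2 f P := by rw [cj_lft, hT _ ht]
      rw [← h3]
      exact conj_mem_cj.2 hx
    · rw [map_mul, map_mul, map_inv]
      exact h1 _ ((mem_lft hf hP).1 hx).1
  · refine eq_one_of_mem_lft hf hp hQ hx (h2 _ ((mem_lft hf hQ).1 hx).1 ?_)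
    rw [← map_inv, ← map_mul, ← map_mul, e]

include hf hp hs in
theorem KTor.lift [Finite W] (R : RGD cs h 2 T n X) (ht : KTor M T X) :
    KTor M (T.comap f) (fun x => lft 2 f (X x)) where
  own i := (ht.own i).lift hf hp hs (R.pgrp i) (R.pgrp' (isRoot_sr cs h i).neg) (R.pgrp i)
  fp i j hij h2 := (ht.fp i j hij h2).lift hf hp hs (R.pgrp j) (R.pgrp' (isRoot_sr cs h j).neg) (R.pgrp i)
  sep i j hij hk := (ht.sep i j hij hk).imp
    (fun h1 => h1.lift hf hp hs (R.pgrp i) (R.pgrp j) (R.tor _ (isRoot_sr cs h i)))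
    (fun h1 => h1.lift hf hp hs (R.pgrp j) (R.pgrp i) (R.tor _ (isRoot_sr cs h j)))

end Lift

end Cfsg.Agent.Omega.Lie.End

end

section


/-!
# The field `frat` of `KSys` from root group data

`frat_row` : the literal field, for `S = U`, `N(S) = B`, `P i = PJ {i}`, for the pairs with `M i j ≠ 6`; for `M i j = 4` the
input is `SpOn` in one of the two orders.
-/

set_option autoImplicit false
set_option linter.unusedSectionVars false

namespace Cfsg.Agent.OmegaEnd.Frat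

open CoxeterSystem Cfsg.Agent.ChevalleyStructure.CoxeterGeom Cfsg.Agent.Tits.Roots Cfsg.Agent.Tits.Core
  Cfsg.Agent.Tits.RootComb Cfsg.Agent.Tits.Exchange Cfsg.Agent.Nodes.Comb Cfsg.Agent.Nodes.Reps
  Cfsg.Agent.Nodes.BNOf Cfsg.Agent.Nodes.StabComb Cfsg.Agent.Nodes.Bruhat Cfsg.Agent.Nodes.LeviDec
  Cfsg.Agent.Omega.Lie.End Cfsg.Agent.ParSys

variable {I W Y : Type*} [Fintype I] [DecidableEq I] [Group W] [Finite W] [Group Y] {M : CoxeterMatrix I}
  {cs : CoxeterSystem M W} {A : I → I → ℤ} {h : IsCartan M A} {p : ℕ} {T : Subgroup Y} {n : I → Y}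
  {X : (I → ℤ) → Subgroup Y}

omit [Finite W] in
theorem PJ_le (R : RGD cs h p T n X) (i : I) :
    PJ cs h T X {i} ≤ RGD.B cs h T X ⊔ Subgroup.closure {n i} := by
  have hn : n i ∈ RGD.B cs h T X ⊔ Subgroup.closure {n i} :=
    Subgroup.mem_sup_right (Subgroup.subset_closure rfl)
  refine sup_le (sup_le (RGD.T_le_B.trans le_sup_left) (RGD.Sup_le ?_)) ?_
  · rintro x ⟨hx, hx0⟩
    have h0 : ∀ k, k ≠ i → x k = 0 := fun k hk => hx0 k (by simpa using hk)
    rcases hx.pos_or_neg with h1 | h1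
    · exact (RGD.X_le_B hx h1).trans le_sup_left
    · have h2 : -x = sr i := hx.neg.eq_sr (neg_nonneg.2 h1) i fun k hk => by rw [Pi.neg_apply, h0 k hk, neg_zero]
      have h3 : x = -sr i := by rw [← h2, neg_neg]
      have h4 := R.conj i _ (isRoot_sr cs h i)
      rw [rep_simple_sr] at h4
      rw [h3, ← h4]
      rintro _ ⟨y, hy, rfl⟩
      change n i * y * (n i)⁻¹ ∈ _
      exact mul_mem (mul_mem hn (Subgroup.mem_sup_left (RGD.X_le_B (isRoot_sr cs h i) (sr_nonneg i) hy))) (inv_mem hn)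
  · refine le_trans (RGD.Sup_le fun x hx => ?_) le_sup_left
    exact RGD.X_le_B hx.1 hx.2.1

omit [Finite W] in
theorem PJ_sup_le (R : RGD cs h p T n X) (i j : I) :
    PJ cs h T X {i} ⊔ PJ cs h T X {j} ≤ RGD.B cs h T X ⊔ Subgroup.closure {n i, n j} :=
  sup_le ((PJ_le R i).trans (sup_le_sup_left (Subgroup.closure_mono (by simp)) _))
    ((PJ_le R j).trans (sup_le_sup_left (Subgroup.closure_mono (by simp)) _))

/-- **The field `frat` of `KSys`.** -/
theorem frat_row [Finite Y] [Fact p.Prime] (R : RGD cs h p T n X) {i j : I} (hij : i ≠ j) (h6 : M i j ≠ 6)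
    (h4 : M i j = 4 → SpOn T (X (sr i)) (X (sr j)) ∨ SpOn T (X (sr j)) (X (sr i))) :
    ∀ X₀ ≤ RGD.Sup X (RGD.Pos cs h), (∀ u ∈ RGD.Sup X (RGD.Pos cs h), ∃ x ∈ X₀,
      x⁻¹ * u ∈ Qk (RGD.B cs h T X) (PJ cs h T X {i}) ∧ x⁻¹ * u ∈ Qk (RGD.B cs h T X) (PJ cs h T X {j})) →
    ∀ u ∈ RGD.Sup X (RGD.Pos cs h), ∃ x ∈ X₀,
      x⁻¹ * u ∈ Qk (RGD.B cs h T X) (PJ cs h T X {i} ⊔ PJ cs h T X {j}) := by
  intro X₀ hX₀ hcov
  have hn : ∀ k, n k ∈ PJ cs h T X {k} := fun k => LJ_le_PJ (n_mem_LJ R (Set.mem_singleton k))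
  exact frat R hij h6 h4 (hn i) (hn j) (PJ_sup_le R i j) hX₀ hcov

end Cfsg.Agent.OmegaEnd.Frat

end

section


/-!
# The minimal parabolic subgroups of a root group datum, in the form of `KSys`

`R : RGD cs h p T n X` on an arbitrary finite group `Y`; `U = Sup X Pos`, `B = T U`, `P i = PJ cs h T X {i}`.

* `relIndex_P`, `ptr`, `reg`, `qk_inf_U`, `exists_mul`, `disj`, `polygon`, `iSup_eq_top`, `le_NCl`.
-/

set_option autoImplicit false
set_option linter.unusedSectionVars false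

namespace Cfsg.Agent.Omega.Lie.End.KParab

open Subgroup CoxeterSystem Cfsg.Agent.ChevalleyStructure.CoxeterGeom Cfsg.Agent.Tits.Roots Cfsg.Agent.Tits.Core
  Cfsg.Agent.Tits.RootComb Cfsg.Agent.Nodes.Comb Cfsg.Agent.Nodes.Reps Cfsg.Agent.Nodes.BNOf
  Cfsg.Agent.Nodes.StabComb Cfsg.Agent.Nodes.Bruhat Cfsg.Agent.Nodes.LeviDec Cfsg.Agent.Nodes.OppDec
  Cfsg.Agent.ParSys Cfsg.Agent.Omega.Lie.End

variable {I W Y : Type*} [Fintype I] [DecidableEq I] [Group W] [Group Y] {M : CoxeterMatrix I}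
  {cs : CoxeterSystem M W} {A : I → I → ℤ} {h : IsCartan M A} {p : ℕ} {T : Subgroup Y} {n : I → Y}
  {X : (I → ℤ) → Subgroup Y}

/-- the unipotent radical of a minimal parabolic subgroup -/
theorem VJ_eq (i : I) : VJ cs h X {i} = RGD.Sup X (RGD.PosNe cs h i) := by
  have e : NotJ cs h {i} = RGD.PosNe cs h i := by
    ext x
    constructor
    · rintro ⟨hx, h0, k, hk, hk0⟩
      refine ⟨hx, h0, ?_⟩
      rintro rfl
      rw [sr_ne (fun e => hk e)] at hk0
      exact lt_irrefl _ hk0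
    · rintro ⟨hx, h0, hne⟩
      obtain ⟨k, hk, hk0⟩ := Cfsg.Agent.Nodes.StabComb.exists_coeff hx h0 hne
      exact ⟨hx, h0, k, hk, hk0⟩
  unfold VJ
  rw [e]

section

variable (R : RGD cs h p T n X) [Finite W]

include R

/-- (a) -/
theorem relIndex_P [Finite Y] (i : I) :
    (RGD.B cs h T X).relIndex (PJ cs h T X {i}) = Nat.card (X (sr i)) + 1 :=
  EH3Close.OfRGD.relIndex_PJ R i

/-- (b) `U` is transitive on the chambers `≠ B` of a panel -/
theorem ptr (i : I) : Hall.HallData.PTr (RGD.B cs h T X) (RGD.Sup X (RGD.Pos cs h)) (PJ cs h T X {i}) := by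
  intro g hg hgB g' hg' hgB'
  obtain ⟨u, hu, b, hb, rfl⟩ := EH3Close.OfRGD.exists_form R hg hgB
  obtain ⟨u', hu', b', hb', rfl⟩ := EH3Close.OfRGD.exists_form R hg' hgB'
  have hXU : X (sr i) ≤ RGD.Sup X (RGD.Pos cs h) := RGD.le_Sup (S := RGD.Pos cs h) ⟨isRoot_sr cs h i, sr_nonneg i⟩
  exact ⟨u' * u⁻¹, mul_mem (hXU hu') (inv_mem (hXU hu)), b⁻¹ * b', mul_mem (inv_mem hb) hb', by group⟩

/-- (c) -/
theorem reg (i : I) : ∀ u ∈ RGD.Sup X (RGD.Pos cs h), ∀ g ∈ PJ cs h T X {i}, g ∉ RGD.B cs h T X →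
    g⁻¹ * u * g ∈ RGD.B cs h T X → u ∈ Qk (RGD.B cs h T X) (PJ cs h T X {i}) :=
  fun _ hu _ hg hgB hc _ hy => EH3Close.OfRGD.pan R hu hg hgB hc hy

/-- (d) the kernel on the panel -/
theorem qk_inf_U (i : I) : Qk (RGD.B cs h T X) (PJ cs h T X {i}) ⊓ RGD.Sup X (RGD.Pos cs h) = VJ cs h X {i} := by
  rw [VJ_eq]
  apply le_antisymm
  · rintro u ⟨hQ, hu⟩
    have h1 := hQ (n i) (EH3Close.OfRGD.n_mem R i)
    refine EH3Close.OfRGD.mem_V_of_conj R hu (one_mem _) ?_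
    rwa [inv_one, one_mul, mul_one]
  · intro u hu
    exact ⟨fun y hy => EH3Close.OfRGD.conj_mem_of_mem_V R hu hy,
      RGD.Sup_mono (S := RGD.PosNe cs h i) (S' := RGD.Pos cs h) (fun z hz => ⟨hz.1, hz.2.1⟩) hu⟩

theorem mem_qk {i : I} {u : Y} (hu : u ∈ RGD.Sup X (RGD.Pos cs h)) :
    u ∈ Qk (RGD.B cs h T X) (PJ cs h T X {i}) ↔ u ∈ VJ cs h X {i} := by
  rw [← qk_inf_U R i]
  exact ⟨fun h => ⟨h, hu⟩, fun h => h.1⟩

/-- (d) `U = X_i V_i` -/
theorem exists_mul (i : I) {u : Y} (hu : u ∈ RGD.Sup X (RGD.Pos cs h)) :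
    ∃ x ∈ X (sr i), ∃ v ∈ VJ cs h X {i}, u = x * v := by
  obtain ⟨x, hx, v, hv, e⟩ := (mem_U_iff R (J := {i})).1 hu
  refine ⟨x, ?_, v, hv, e⟩
  have h1 : UJ cs h X {i} ≤ X (sr i) := by
    refine RGD.Sup_le fun y hy => ?_
    have h2 : y = sr i := hy.1.eq_sr hy.2.1 i fun k hk => hy.2.2 k hk
    rw [h2]
  exact h1 hx

/-- (d) `X_i ⊓ V_i = 1` -/
theorem disj (i : I) : X (sr i) ⊓ VJ cs h X {i} = ⊥ := by
  rw [eq_bot_iff]
  rintro u ⟨hu, hv⟩
  rw [VJ_eq] at hv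
  rw [Subgroup.mem_bot]
  exact eq_one_of_mem_PosNe R hu hv

/-- (e) -/
theorem polygon (i j : I) : Polygon (RGD.B cs h T X) (fun j => PJ cs h T X {j}) i j (M i j) :=
  EH3Close.OfRGD.polygon R i j

omit [Finite W] in
/-- (g) the Levi complement is in the normal closure of `U` in `P_i` -/
theorem le_NCl [Finite W] (i : I) : X (sr i) ⊔ X (-sr i) ≤ NCl (RGD.Sup X (RGD.Pos cs h)) (PJ cs h T X {i}) := by
  have hXU : X (sr i) ≤ RGD.Sup X (RGD.Pos cs h) := RGD.le_Sup (S := RGD.Pos cs h) ⟨isRoot_sr cs h i, sr_nonneg i⟩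
  refine sup_le (fun x hx => ?_) (fun x hx => ?_)
  · refine Subgroup.subset_closure ⟨1, one_mem _, ?_⟩
    rw [inv_one, one_mul, mul_one]
    exact hXU hx
  · refine Subgroup.subset_closure ⟨n i, EH3Close.OfRGD.n_mem R i, hXU ?_⟩
    have h1 := R.conj_mem' (rp_simple cs R.nsys i) (isRoot_sr cs h i).neg hx
    rwa [inv_simple, map_neg, rep_simple_sr, neg_neg] at h1

end

/-- the Bruhat group is everything -/
theorem GG_eq_top (hG1 : RGD.Sup X {x | IsRoot cs h x} = ⊤) : GG cs h T X = ⊤ := by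
  rw [eq_top_iff, ← hG1]
  exact RGD.Sup_le fun x hx => X_le_GG hx

/-- (f) -/
theorem iSup_eq_top [Finite W] (R : RGD cs h p T n X) (hG1 : RGD.Sup X {x | IsRoot cs h x} = ⊤) :
    ⨆ i, PJ cs h T X {i} = ⊤ := by
  rcases isEmpty_or_nonempty I with hI | ⟨⟨i⟩⟩
  · rw [eq_top_iff, ← hG1]
    refine RGD.Sup_le fun x hx => ?_
    exfalso
    exact hx.ne_zero (funext fun i => (hI.false i).elim)
  · have h1 := EH3Close.OfRGD.gen_top R (GG_eq_top hG1)
    rwa [sup_eq_right.2 (le_trans (B_le_PJ (J := {i})) (le_iSup (fun j => PJ cs h T X {j}) i))] at h1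

end Cfsg.Agent.Omega.Lie.End.KParab

end

section


/-!
# The K-side: `PFacts` from helper57's `KParab` (helper650)
-/

set_option autoImplicit false
set_option linter.unusedSectionVars false

namespace Cfsg.Agent.Omega.Lie.End

open Subgroup CoxeterSystem Cfsg.Agent.ChevalleyStructure.CoxeterGeom Cfsg.Agent.Tits.Roots Cfsg.Agent.Tits.Core
  Cfsg.Agent.Tits.RootComb Cfsg.Agent.Nodes.Comb Cfsg.Agent.Nodes.Reps Cfsg.Agent.Nodes.BNOf
  Cfsg.Agent.Nodes.Bruhat Cfsg.Agent.Nodes.StabComb Cfsg.Agent.Nodes.LeviDec Cfsg.Agent.KFacts.RgdAut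
  Cfsg.Agent.KFacts.RgdDiag Cfsg.Agent.KFacts.RgdRigid Cfsg.Agent.KFacts.RgdCharP Cfsg.Agent.ParSys

variable {I : Type*} {W Y : Type*} [Fintype I] [DecidableEq I] [Group W] [Group Y] {M : CoxeterMatrix I}
  {cs : CoxeterSystem M W} {A : I → I → ℤ} {h : IsCartan M A} {T : Subgroup Y} {n : I → Y}
  {X : (I → ℤ) → Subgroup Y}

theorem pfacts [Finite W] [Finite Y] [Nonempty I] (R : RGD cs h 2 T n X)
    (hG1 : RGD.Sup X {x | IsRoot cs h x} = ⊤) : PFacts cs h T X := by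
  have : Fact (Nat.Prime 2) := ⟨Nat.prime_two⟩
  have hG := Cfsg.Agent.KFacts.RgdRigid.GG_eq_top (T := T) hG1
  refine
    { norm := normalizer_U' R hG
      gen := ?_
      rel := fun i => KParab.relIndex_P R i
      ptr := fun i => KParab.ptr R i
      reg := fun i => KParab.reg R i
      dec := fun i u hu => ?_
      inf := fun i x hx hxQ => ?_
      poly := fun i j _ => KParab.polygon R i j
      ncl := fun i => KParab.le_NCl R i }
  · exact KParab.iSup_eq_top R hG1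
  · obtain ⟨x, hx, v, hv, e⟩ := KParab.exists_mul R i hu
    have hvU : v ∈ RGD.Sup X (RGD.Pos cs h) := VJ_le_U {i} hv
    exact ⟨x, hx, v, hvU, (KParab.mem_qk R hvU).2 hv, e⟩
  · have hxU : x ∈ RGD.Sup X (RGD.Pos cs h) := RGD.le_Sup (S := RGD.Pos cs h) ⟨isRoot_sr cs h i, sr_nonneg i⟩ hx
    have h1 : x ∈ X (sr i) ⊓ VJ cs h X {i} := ⟨hx, (KParab.mem_qk R hxU).1 hxQ⟩
    rw [KParab.disj R i] at h1
    exact h1

end Cfsg.Agent.Omega.Lie.End

end
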