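import Cfsg.Agent.Mrg.Omega.Lie.End.RSNode
import Cfsg.Agent.Mrg.Omega.Lie.End.ZeroLone
import Cfsg.Agent.Mrg.Omega.HOne.EigOf

section


/-!
# The end of NODE LIE: `SepG` of the node `0` with a node, if there is another component

`RS.exists_scal` : a moved node `x`, not of type `(γ)`, has an element `h ∈ P x ∩ B`, `h ∈ up (K x.1)`, centralising `R i`
and nontrivial on `V / R i`;  `RS.sep_lone`, `RS.sep_of_ne` : `SepG 2 B U (P ⟨a, k⟩) P₀` if there is a component `≠ K a`.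
-/

set_option autoImplicit false
set_option linter.unusedSectionVars false

namespace Cfsg.Agent.Omega.Lie.End

open Subgroup Cfsg Cfsg.Agent.ParSys Cfsg.Agent.Omega.BTwo Cfsg.Agent.Omega.Lie Cfsg.Agent.Omega.Lie.Quot
open Cfsg.Agent.Omega.IIa4 Cfsg.Agent.Omega.Lie.End.OfLay

universe u v w

namespace RS

variable {G : Type u} [Group G] {ι : Type w} {V : Subgroup G} {R : ι → Subgroup G} {F : Type v} [Field F] {i j : ι}
  {v : F → F → G} {w1 w2 : F → G} {t : F → G}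
variable {T S : Subgroup (HQ (R i))} {α : Type} {K : α → Subgroup (HQ (R i))} {J : α → Type}
  {P : ∀ a, J a → Subgroup (K a)} {m : ∀ a, J a → J a → ℕ} (D : RS V R i j T S K J P m)

/-- the rank one group of the node in `G` -/
abbrev LG (K : α → Subgroup (HQ (R i))) (P : ∀ a, J a → Subgroup (K a)) (x : Σ a, J a) : Subgroup G :=
  up (R i) ((P x.1 x.2).map (K x.1).subtype)

include D

theorem LG_norm [Finite G] (x : Σ a, J a) : BG K T S ≤ normalizer (LG K P x : Set G) := by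
  refine up_norm ?_
  have key : ∀ c ∈ CC K (fun a => S.subgroupOf (K a)) T, ∀ y ∈ (P x.1 x.2).map (K x.1).subtype,
      c * y * c⁻¹ ∈ (P x.1 x.2).map (K x.1).subtype := by
    rintro c hc _ ⟨y, hy, rfl⟩
    obtain ⟨z, hz, e⟩ := D.psit.C_norm_P x.1 x.2 c hc y hy
    exact ⟨z, hz, e⟩
  intro c hc
  rw [mem_normalizer_iff]
  intro y
  refine ⟨key c hc y, fun h => ?_⟩
  have h1 := key c⁻¹ (inv_mem hc) _ h
  have e : c⁻¹ * (c * y * c⁻¹) * c⁻¹⁻¹ = y := by group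
  rwa [e] at h1

theorem LG_le_cen (b : BT V R) (x : Σ a, J a) : LG K P x ≤ centralizer (R i : Set G) :=
  (up_mono (map_subtype_le _)).trans (D.K_le_cen b x.1)

/-- **an element of a moved node which acts nontrivially on `V / R i`** (`BT`) -/
theorem exists_scal' [Finite G] [Finite F] [CharP F 2] [Finite α] (b : BT V R)
    (τ : TorD V R i j v t) (hF : ∃ a : F, a ≠ 0 ∧ a ≠ 1) (hl : Zero.LineHyp V R i v t)
    (hd : Zero.Dat V R i (BG K T S) (UG K S)) (x : Σ a, J a)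
    (hx : ¬ PG K T S P x ≤ normalizer (V : Set G)) (hg : ¬ GamT V (PG K T S P x)) :
    ∃ h ∈ LG K P x, h ∈ BG K T S ∧ (∀ r ∈ R i, h * r = r * h) ∧ ∃ p₀ s₀ : F, h * v 0 1 * h⁻¹ = v p₀ s₀ ∧ s₀ ≠ 1 := by
  have hg' : ∀ p ∈ PG K T S P x, ∀ y ∈ V, ∀ z ∈ V, p * y * p⁻¹ * z = z * (p * y * p⁻¹) := by
    intro p hp y hy z hz
    by_contra hne
    exact hg ⟨p, hp, y, hy, z, hz, hne⟩
  exact Zero.exists_scal_node' b τ hF hl hd (D.preG.le x) D.preG.isP (D.preG.ptr x) hx hg' (up_mono le_sup_left)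
    (D.LG_le_cen b x) (D.LG_norm x) (by rw [← up_sup]; exact le_rfl)

/-- **an element of a moved node which acts nontrivially on `V / R i`** -/
theorem exists_scal [Finite G] [Finite F] [CharP F 2] [Finite α] (b : BTC V R) (c : Coord V R i j v w1 w2)
    (τ : TorD V R i j v t) (hF : ∃ a : F, a ≠ 0 ∧ a ≠ 1) (hC : centralizer (WW V (R i) : Set G) ≤ R i)
    (hd : Zero.Dat V R i (BG K T S) (UG K S)) (x : Σ a, J a)
    (hx : ¬ PG K T S P x ≤ normalizer (V : Set G)) (hg : ¬ GamT V (PG K T S P x)) :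
    ∃ h ∈ LG K P x, h ∈ BG K T S ∧ (∀ r ∈ R i, h * r = r * h) ∧ ∃ p₀ s₀ : F, h * v 0 1 * h⁻¹ = v p₀ s₀ ∧ s₀ ≠ 1 :=
  D.exists_scal' b.toBT τ hF (Zero.lineHyp_of_btc b c τ hC) hd x hx hg

/-- **`SepG` with the node `0`**, from a moved node of another component (`BT`) -/
theorem sep_lone' [Finite G] [Finite F] [CharP F 2] [Finite α] (b : BT V R) (c : Coord V R i j v w1 w2)
    (τ : TorD V R i j v t) (hF : ∃ a : F, a ≠ 0 ∧ a ≠ 1) (hl : Zero.LineHyp V R i v t)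
    (hd : Zero.Dat V R i (BG K T S) (UG K S)) {a b' : α} (hab : a ≠ b') (k : J a) (l : J b')
    (hx : ¬ PG K T S P ⟨b', l⟩ ≤ normalizer (V : Set G)) (hg : ¬ GamT V (PG K T S P ⟨b', l⟩)) :
    SepG 2 (BG K T S) (UG K S) (PG K T S P ⟨a, k⟩) (Zero.P0 V R (BG K T S)) := by
  have hg' : ∀ p ∈ PG K T S P ⟨b', l⟩, ∀ y ∈ V, ∀ z ∈ V, p * y * p⁻¹ * z = z * (p * y * p⁻¹) := by
    intro p hp y hy z hz
    by_contra hne
    exact hg ⟨p, hp, y, hy, z, hz, hne⟩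
  refine Zero.sepG_node' b c τ hF hl hd (D.preG.le ⟨b', l⟩) D.preG.isP D.preG.norm D.preG.index (D.preG.ptr ⟨b', l⟩) hx
    hg' (up_mono le_sup_left) (D.LG_le_cen b ⟨b', l⟩) (D.LG_norm ⟨b', l⟩) (by rw [← up_sup]; exact le_rfl)
    (D.preG.le ⟨a, k⟩) ?_
  intro g hgL
  obtain ⟨h1, h2⟩ := mem_inf.1 hgL
  obtain ⟨hN, h3⟩ := mem_up.1 h1
  obtain ⟨_, h4⟩ := mem_up.1 h2
  rw [Qk_up]
  refine mem_up.2 ⟨hN, ?_⟩
  obtain ⟨y, -, e⟩ := h3
  have h5 : (y : HQ (R i)) ∈ CC K (fun a => S.subgroupOf (K a)) T := by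
    rw [← coe_subtype, e]
    exact h4
  have h6 := D.psit.mem_Qk_of hab k h5
  rw [← coe_subtype, e] at h6
  exact h6

/-- **`SepG` with the node `0`**, from a moved node of another component -/
theorem sep_lone [Finite G] [Finite F] [CharP F 2] [Finite α] (b : BTC V R) (c : Coord V R i j v w1 w2)
    (τ : TorD V R i j v t) (hF : ∃ a : F, a ≠ 0 ∧ a ≠ 1) (hC : centralizer (WW V (R i) : Set G) ≤ R i)
    (hd : Zero.Dat V R i (BG K T S) (UG K S)) {a b' : α} (hab : a ≠ b') (k : J a) (l : J b')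
    (hx : ¬ PG K T S P ⟨b', l⟩ ≤ normalizer (V : Set G)) (hg : ¬ GamT V (PG K T S P ⟨b', l⟩)) :
    SepG 2 (BG K T S) (UG K S) (PG K T S P ⟨a, k⟩) (Zero.P0 V R (BG K T S)) :=
  D.sep_lone' b.toBT c τ hF (Zero.lineHyp_of_btc b c τ hC) hd hab k l hx hg

/-- **`SepG` with the node `0`**, if there is another component (`BT`) -/
theorem sep_of_ne' [Finite G] [Finite F] [CharP F 2] [Finite α] (b : BT V R) (c : Coord V R i j v w1 w2)
    (τ : TorD V R i j v t) (hij : i ≠ j) (hF : ∃ a : F, a ≠ 0 ∧ a ≠ 1)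
    (hl : Zero.LineHyp V R i v t) (hd : Zero.Dat V R i (BG K T S) (UG K S))
    (hg : ∀ x, ¬ GamT V (PG K T S P x)) {a b' : α} (hab : a ≠ b') (k : J a) :
    SepG 2 (BG K T S) (UG K S) (PG K T S P ⟨a, k⟩) (Zero.P0 V R (BG K T S)) := by
  obtain ⟨l, hl'⟩ := (D.sys b').moved
  exact D.sep_lone' b c τ hF hl hd hab k l (D.not_le_of_moved b hij hl') (hg _)

/-- **`SepG` with the node `0`**, if there is another component -/
theorem sep_of_ne [Finite G] [Finite F] [CharP F 2] [Finite α] (b : BTC V R) (c : Coord V R i j v w1 w2)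
    (τ : TorD V R i j v t) (hij : i ≠ j) (hF : ∃ a : F, a ≠ 0 ∧ a ≠ 1)
    (hC : centralizer (WW V (R i) : Set G) ≤ R i) (hd : Zero.Dat V R i (BG K T S) (UG K S))
    (hg : ∀ x, ¬ GamT V (PG K T S P x)) {a b' : α} (hab : a ≠ b') (k : J a) :
    SepG 2 (BG K T S) (UG K S) (PG K T S P ⟨a, k⟩) (Zero.P0 V R (BG K T S)) :=
  D.sep_of_ne' b.toBT c τ hij hF (Zero.lineHyp_of_btc b c τ hC) hd hg hab k

/-- **`SepG` with the node `0` for every moved node**, if there are at least two nodes and none is of type `(γ)` (`BT`) -/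
theorem sep_all' [Finite G] [Finite F] [CharP F 2] [Finite α] (b : BT V R) (c : Coord V R i j v w1 w2)
    (τ : TorD V R i j v t) (hij : i ≠ j) (hF : ∃ a : F, a ≠ 0 ∧ a ≠ 1)
    (hl : Zero.LineHyp V R i v t) (hd : Zero.Dat V R i (BG K T S) (UG K S))
    (hCA : ∀ x ∈ WW V (R i), (∀ u ∈ UU V R j, u * x * u⁻¹ * x⁻¹ ∈ R i) → x ∈ V)
    (hg : ∀ x, ¬ GamT V (PG K T S P x)) {x y : Σ a, J a} (hxy : x ≠ y)
    (hx : ¬ PG K T S P x ≤ normalizer (V : Set G)) :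
    SepG 2 (BG K T S) (UG K S) (PG K T S P x) (Zero.P0 V R (BG K T S)) ∨
      SepG 2 (BG K T S) (UG K S) (Zero.P0 V R (BG K T S)) (PG K T S P x) := by
  obtain ⟨a, k⟩ := x
  obtain ⟨a', l⟩ := y
  by_cases h : a = a'
  · subst h
    right
    exact D.sep_nbr b c hij hd hCA ((D.moved_iff b c hij hd hCA).2 hx) ⟨l, fun e => hxy (by rw [e])⟩
  · left
    exact D.sep_of_ne' b c τ hij hF hl hd hg h k

/-- **`SepG` with the node `0` for every moved node**, if there are at least two nodes and none is of type `(γ)` -/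
theorem sep_all [Finite G] [Finite F] [CharP F 2] [Finite α] (b : BTC V R) (c : Coord V R i j v w1 w2)
    (τ : TorD V R i j v t) (hij : i ≠ j) (hF : ∃ a : F, a ≠ 0 ∧ a ≠ 1)
    (hC : centralizer (WW V (R i) : Set G) ≤ R i) (hd : Zero.Dat V R i (BG K T S) (UG K S))
    (hCA : ∀ x ∈ WW V (R i), (∀ u ∈ UU V R j, u * x * u⁻¹ * x⁻¹ ∈ R i) → x ∈ V)
    (hg : ∀ x, ¬ GamT V (PG K T S P x)) {x y : Σ a, J a} (hxy : x ≠ y)
    (hx : ¬ PG K T S P x ≤ normalizer (V : Set G)) :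
    SepG 2 (BG K T S) (UG K S) (PG K T S P x) (Zero.P0 V R (BG K T S)) ∨
      SepG 2 (BG K T S) (UG K S) (Zero.P0 V R (BG K T S)) (PG K T S P x) :=
  D.sep_all' b.toBT c τ hij hF (Zero.lineHyp_of_btc b c τ hC) hd hCA hg hxy hx

end RS

end Cfsg.Agent.Omega.Lie.End

end

section


/-!
# II.0h1, split: lines on `R i` and the torus (`LineHyp` from `Fq`)

`lineHyp_of_fq` : `g ∈ C(R i)`, `V ^ g ≠ V` commutes with `V` and is normalised by `t a` ⟹ `h = g⁻¹ (t a) g (t a)⁻¹` acts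
nontrivially on `V / R i`.
-/

set_option autoImplicit false
set_option linter.unusedSectionVars false

namespace Cfsg.Agent.Omega.HOneQ.SepH

open Subgroup Cfsg.Agent.Omega.BTwo Cfsg.Agent.Omega.Lie Cfsg.Agent.Omega.Lie.Quot
open Cfsg.Agent.Omega.HOne Cfsg.Agent.Omega.HOne.ModZ

universe u v w

section Abs

open Cfsg.Agent.Omega.HOne.EigAbs

variable {F : Type*} [Field F] {M : Type*} [AddCommGroup M] [Module F M] {N : Type*} [AddCommGroup N] [Module F N]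
  {f : M →ₗ[F] M →ₗ[F] F} {e : F →ₗ[F] M} {ω : M →ₗ[F] F} {T : Fˣ → M →ₗ[F] M} {D : Submodule F M}
  {N0 : Submodule F N} {π : LinearMap.ker ω →ₗ[F] N ⧸ N0} {Λ : D →ₗ[F] N →ₗ[F] F} {A : N → M →ₗ[F] M}
  {M0 : Submodule F M} {n : N →ₗ[F] M} {s : N →ₗ[F] N →ₗ[F] M} {sh : N → N →ₗ[F] F}

/-- the eigenvalue `a⁻¹` on `e^⊥` is only on `e` -/
theorem eig_inv (h : Pre f e ω T D N0 π Λ A) (E : Eig f e ω T D N0 π A M0 n s sh) {x : M} (hx : ω x = 0) {a : Fˣ}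
    (ha : (a : F) ≠ 1) (hT : T a x = (a : F)⁻¹ • x) : ∃ γ, x = e γ := by
  obtain ⟨γ, d, hd, g, rfl⟩ := (E.mem_P x).1 hx
  rw [map_add, map_add, h.Te, (E.mem_M0 d).1 hd a, E.n_T, smul_add, smul_add] at hT
  have h1 : e 0 + (1 - (a : F)⁻¹) • d + n (((a : F) - (a : F)⁻¹) • g) = 0 := by
    rw [map_smul, sub_smul, sub_smul, one_smul, map_zero, zero_add]
    have h2 : (a : F)⁻¹ • e γ + d + (a : F) • n g - (a : F)⁻¹ • e γ - (a : F)⁻¹ • d - (a : F)⁻¹ • n g = 0 := by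
      rw [hT]; abel
    rw [← h2]
    abel
  obtain ⟨-, h2, h3⟩ := E.indep 0 _ (M0.smul_mem _ hd) _ h1
  have h4 : (1 : F) - (a : F)⁻¹ ≠ 0 := by
    intro h5
    apply ha
    have := sub_eq_zero.1 h5
    rw [← inv_inv (a : F), ← this, inv_one]
  have h5 : d = 0 := (smul_eq_zero.1 h2).resolve_left h4
  rw [map_smul] at h3
  have h6 : n g = 0 := (smul_eq_zero.1 h3).resolve_left (h.sub_inv_ne a.ne_zero ha)
  exact ⟨γ, by rw [h5, h6, add_zero, add_zero]⟩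

end Abs

variable {G : Type u} [Group G] [Finite G] {ι : Type w} {V : Subgroup G} {R : ι → Subgroup G} {i j : ι}
  {F : Type v} [Field F] {v : F → F → G} {w1 w2 t : F → G}
  {M : Type u} [AddCommGroup M] [Module F M] [DistribMulAction (HQ (R i)) M] {p : G → M}
  {f : M →ₗ[F] M →ₗ[F] F} {e : F →ₗ[F] M} {ω : M →ₗ[F] F} {σ : HQ (R i) →* RingAut F} {κ : HQ (R i) → F}

/-- **`LineHyp` in II.0h1** (`hNE` : `NormE.normE`) -/
theorem lineHyp_of_fq [Finite F] [CharP F 2] (q : Fq V R i v M p f e ω σ κ) (b : BTS V R)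
    (c : Coord V R i j v w1 w2) (τ : TorD V R i j v t) (hF : ∃ a : F, a ≠ 0 ∧ a ≠ 1)
    (hNE : ∀ {g : G} (hg : g ∈ normalizer (R i : Set G)), (∃ γ, pr (R i) ⟨g, hg⟩ • e 1 = e γ) →
      g ∈ normalizer (V : Set G)) : Zero.LineHyp V R i v t := by
  intro a ha ha1 g hg hV hc hT
  obtain ⟨N, _, _, P1, P2, y⟩ := c.exists_yPair b.toBT
  obtain ⟨π, Λ, h, -, -⟩ := q.exists_pre b c τ y hF
  obtain ⟨M0, n, s, sh, E⟩ := h.exists_eig
  have htV : t a ∈ normalizer (V : Set G) := b.toBT.X_le_NV (τ.memX a ha)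
  have hgN : g ∈ normalizer (R i : Set G) := Subgroup.centralizer_le_normalizer (R i : Set G) hg
  have h1 : g⁻¹ * t a * g * (t a)⁻¹ ∈ normalizer (V : Set G) := by
    rw [← cj_eq_self_iff]
    have e1 : cj (t a)⁻¹ V = V := cj_eq_self_iff.2 (inv_mem htV)
    have e2 : cj (t a) (cj g V) = cj g V := cj_eq_self_iff.2 hT
    rw [cj_mul, e1, mul_assoc, cj_mul, cj_mul, e2, cj_inv_cj]
  have h2 : ∀ x ∈ R i, g⁻¹ * t a * g * (t a)⁻¹ * x = x * (g⁻¹ * t a * g * (t a)⁻¹) := by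
    intro x hx
    have k1 : (t a)⁻¹ * x * t a ∈ R i := BTwo.conj_inv_mem_of_normalizer (τ.normR ha) hx
    have k2 : g * ((t a)⁻¹ * x * t a) = ((t a)⁻¹ * x * t a) * g := (mem_centralizer_iff.1 hg _ k1).symm
    have k3 : g⁻¹ * x = x * g⁻¹ := (mem_centralizer_iff.1 (inv_mem hg) _ hx).symm
    calc g⁻¹ * t a * g * (t a)⁻¹ * x = g⁻¹ * t a * (g * ((t a)⁻¹ * x * t a)) * (t a)⁻¹ := by group
      _ = g⁻¹ * t a * (((t a)⁻¹ * x * t a) * g) * (t a)⁻¹ := by rw [k2]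
      _ = (g⁻¹ * x) * (t a * g * (t a)⁻¹) := by group
      _ = x * g⁻¹ * (t a * g * (t a)⁻¹) := by rw [k3]
      _ = x * (g⁻¹ * t a * g * (t a)⁻¹) := by group
  refine ⟨h1, h2, ?_⟩
  obtain ⟨p₀, s₀, hps⟩ := (c.mem_V _).1 (BTwo.conj_mem_of_normalizer h1 (c.v_mem 0 1))
  refine ⟨p₀, s₀, hps.symm, ?_⟩
  rintro rfl
  set a' : Fˣ := Units.mk0 a ha with ha'
  set gb : HQ (R i) := pr (R i) ⟨g, hgN⟩ with hgb
  have hH0 : gb ∈ H0 R i := mem_im.2 ⟨g, hgN, hg, rfl⟩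
  have hgW : ∀ b c, g * v b c * g⁻¹ ∈ WW V (R i) := fun b c' =>
    BTwo.conj_mem_of_normalizer (normalizer_le_WW V (R i) hgN) (q.hvW c b c')
  have e0 : ∀ b c, p (g * v b c * g⁻¹) = gb • e c := fun b c' => by
    rw [hgb, ← q.e_eq b c', q.p_act g hgN _ (q.hvW c b c')]
  have hesm : ∀ x : F, gb • e x = x • (gb • e 1) := by
    intro x
    rw [← q.H0_smul c hH0, ← LinearMap.map_smul e, smul_eq_mul, mul_one]
  -- `e' = g e` is in `e^⊥`
  have hω : ω (gb • e 1) = 0 := by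
    rw [← e0 0 1, q.mem_P c (hgW 0 1)]
    refine mem_inf.2 ⟨hgW 0 1, ?_⟩
    rw [mem_centralizer_iff]
    exact fun z hz => (hc _ (c.v_mem 0 1) z hz).symm
  have hact : q.TL c τ a' (gb • e 1) = (a' : F)⁻¹ • (gb • e 1) := by
    rw [q.TL_apply]
    have k2 : t a * (g * v 0 a * g⁻¹) * (t a)⁻¹ = g * v p₀ 1 * g⁻¹ := by
      have k3 : t a * v 0 a * (t a)⁻¹ = v 0 1 := by rw [τ.act a 0 a ha, mul_zero, inv_mul_cancel₀ ha]
      have k3' : (t a)⁻¹ * v 0 1 * t a = v 0 a := by rw [← k3]; group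
      calc t a * (g * v 0 a * g⁻¹) * (t a)⁻¹ = t a * (g * ((t a)⁻¹ * v 0 1 * t a) * g⁻¹) * (t a)⁻¹ := by rw [k3']
        _ = g * (g⁻¹ * t a * g * (t a)⁻¹ * v 0 1 * (g⁻¹ * t a * g * (t a)⁻¹)⁻¹) * g⁻¹ := by group
        _ = g * v p₀ 1 * g⁻¹ := by rw [← hps]
    have k4 : pr (R i) ⟨t a', τ.normR a'.ne_zero⟩ • (gb • e a) = gb • e 1 := by
      rw [← e0 0 a, ← e0 p₀ 1, q.p_act _ (τ.normR a'.ne_zero) _ (hgW 0 a)]
      exact congrArg p k2
    rw [hesm a, q.t_smul c τ a'] at k4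
    calc pr (R i) ⟨t a', τ.normR a'.ne_zero⟩ • (gb • e 1)
        = (a' : F)⁻¹ • (a • (pr (R i) ⟨t a', τ.normR a'.ne_zero⟩ • (gb • e 1))) := by
          rw [smul_smul (a' : F)⁻¹]
          change _ = (a⁻¹ * a) • _
          rw [inv_mul_cancel₀ ha, one_smul]
      _ = (a' : F)⁻¹ • (gb • e 1) := by rw [k4]
  obtain ⟨γ, hγ⟩ := eig_inv h E hω (a := a') ha1 hact
  have hgV : g ∈ normalizer (V : Set G) := hNE hgN ⟨γ, hγ⟩
  exact hV (cj_eq_self_iff.2 hgV).le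

end Cfsg.Agent.Omega.HOneQ.SepH

end

section


/-!
# The end of NODE LIE: `SepG` with the node `0`, from "unmoved nodes normalise `V`"

`hun : ∀ a k, Unmoved (S ⊓ K a) T (P a k) → P k ≤ N(V)`  instead of  `hCA` (which fails in II.0h1):
`RS.moved_iff_un`, `RS.sep_nbr_un`, `RS.sep_all_un`.
-/

set_option autoImplicit false
set_option linter.unusedSectionVars false

namespace Cfsg.Agent.Omega.Lie.End

open Subgroup Cfsg Cfsg.Agent.ParSys Cfsg.Agent.Omega.BTwo Cfsg.Agent.Omega.Lie Cfsg.Agent.Omega.Lie.Quot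
open Cfsg.Agent.Omega.IIa4 Cfsg.Agent.Omega.Lie.End.OfLay

universe u v w

namespace RS

variable {G : Type u} [Group G] {ι : Type w} {V : Subgroup G} {R : ι → Subgroup G} {F : Type v} [Field F] {i j : ι}
  {v : F → F → G} {w1 w2 : F → G} {t : F → G}
variable {T S : Subgroup (HQ (R i))} {α : Type} {K : α → Subgroup (HQ (R i))} {J : α → Type}
  {P : ∀ a, J a → Subgroup (K a)} {m : ∀ a, J a → J a → ℕ} (D : RS V R i j T S K J P m)

include D

/-- a node is moved iff it is not in `N(V)` -/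
theorem moved_iff_un [Finite G] (b : BT V R) (hij : i ≠ j)
    (hun : ∀ (a : α) (k : J a), Unmoved (S.subgroupOf (K a)) (Tact T (K a)) (P a k) →
      PG K T S P ⟨a, k⟩ ≤ normalizer (V : Set G)) {a : α} {k : J a} :
    End.Moved (S.subgroupOf (K a)) (Tact T (K a)) (P a k) ↔ ¬ PG K T S P ⟨a, k⟩ ≤ normalizer (V : Set G) := by
  refine ⟨D.not_le_of_moved b hij, fun h => ?_⟩
  rcases (D.sys a).dich k with h1 | h1
  · exact absurd (hun a k h1) h
  · exact h1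

/-- `SepG` at `(P₀, P x)`, `x` a moved node which is not the only node of its component -/
theorem sep_nbr_un [Finite G] [Finite α] (b : BT V R)
    (hd : Zero.Dat V R i (BG K T S) (UG K S))
    (hun : ∀ (a : α) (k : J a), Unmoved (S.subgroupOf (K a)) (Tact T (K a)) (P a k) →
      PG K T S P ⟨a, k⟩ ≤ normalizer (V : Set G)) {a : α} {k : J a}
    (hm : End.Moved (S.subgroupOf (K a)) (Tact T (K a)) (P a k)) (hk : ∃ l, l ≠ k) :
    SepG 2 (BG K T S) (UG K S) (Zero.P0 V R (BG K T S)) (PG K T S P ⟨a, k⟩) := by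
  obtain ⟨l, hl, x, hxN, hxP, ⟨n, hn, hxn⟩, hfp⟩ := (D.sys a).nbr k hm hk
  have hps := D.psit
  have hPl := hun a l hl
  -- a lift of `x`
  obtain ⟨h, hh, e⟩ := exists_pr (x : HQ (R i))
  have hxC : (x : HQ (R i)) ∈ CC K (fun a => S.subgroupOf (K a)) T := (hps.enl a).B_le x hxN
  have hhB : h ∈ BG K T S := mem_up.2 ⟨hh, by rw [e]; exact hxC⟩
  -- the normal closure
  set C : Subgroup G := closure {y | ∃ g ∈ normalizer (V : Set G) ⊓ normalizer (R i : Set G), ∃ u ∈ UG K S,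
    g * u * g⁻¹ = y} with hC
  have hQC : QQ (R i) ≤ C := fun q hq => subset_closure ⟨1, one_mem _, q, QQ_le_up hq, by group⟩
  have hmap : (NCl (S.subgroupOf (K a)) (P a l)).map (K a).subtype ≤ im (R i) C := by
    unfold NCl
    rw [MonoidHom.map_closure, closure_le]
    rintro _ ⟨y, ⟨g, hg, hy⟩, rfl⟩
    obtain ⟨g', hg', eg⟩ := exists_pr (g : HQ (R i))
    obtain ⟨s', hs', es⟩ := exists_pr ((g⁻¹ * y * g : K a) : HQ (R i))
    have h1 : g' ∈ PG K T S P ⟨a, l⟩ := mem_up.2 ⟨hg', by rw [eg]; exact mem_sup_left ⟨g, hg, rfl⟩⟩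
    have h2 : s' ∈ UG K S := mem_up.2 ⟨hs', by
      rw [es]
      exact le_iSup (fun a => (S.subgroupOf (K a)).map (K a).subtype) a ⟨_, hy, rfl⟩⟩
    refine mem_im.2 ⟨g' * s' * g'⁻¹, mul_mem (mul_mem hg' hs') (inv_mem hg'),
      subset_closure ⟨g', mem_inf.2 ⟨hPl h1, hg'⟩, s', h2, rfl⟩, ?_⟩
    have e3 : pr (R i) ⟨g' * s' * g'⁻¹, mul_mem (mul_mem hg' hs') (inv_mem hg')⟩ =
        pr (R i) ⟨g', hg'⟩ * pr (R i) ⟨s', hs'⟩ * (pr (R i) ⟨g', hg'⟩)⁻¹ := by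
      rw [← map_mul, ← map_inv, ← map_mul]
      rfl
    rw [e3, eg, es, coe_subtype, coe_mul, coe_mul, coe_inv]
    group
  have hhC : h ∈ C := by
    rw [← pr_mem_im_iff hQC hh, e]
    exact hmap ⟨x, hxP, rfl⟩
  have hhn : h ^ n ∈ UG K S := by
    refine mem_up.2 ⟨pow_mem hh n, ?_⟩
    have e3 : pr (R i) ⟨h ^ n, pow_mem hh n⟩ = (pr (R i) ⟨h, hh⟩) ^ n := by
      rw [← map_pow]
      rfl
    rw [e3, e, ← coe_pow, hxn, coe_one]
    exact one_mem _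
  refine Zero.sepG_nbr b hd D.preG.isP (D.preG.le ⟨a, k⟩) hhB hhC hn hhn fun u hu h1 => ?_
  rw [Qk_up] at h1 ⊢
  obtain ⟨h2, h3⟩ := mem_up.1 hu
  obtain ⟨h4, h5⟩ := mem_up.1 h1
  refine mem_up.2 ⟨h2, ?_⟩
  refine (hps.enl a).fpfE (hps.C_norm_P a k) (b := x) hfp _ h3 ?_
  have e4 : pr (R i) ⟨h * u * h⁻¹ * u⁻¹, h4⟩ = pr (R i) ⟨h, hh⟩ * pr (R i) ⟨u, h2⟩ * (pr (R i) ⟨h, hh⟩)⁻¹ *
      (pr (R i) ⟨u, h2⟩)⁻¹ := by
    rw [← map_mul, ← map_inv, ← map_inv, ← map_mul, ← map_mul]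
    rfl
  rw [e4, e] at h5
  exact h5

/-- **`SepG` with the node `0` for every moved node**, if there are at least two nodes and none is of type `(γ)` -/
theorem sep_all_un [Finite G] [Finite F] [CharP F 2] [Finite α] (b : BT V R) (c : Coord V R i j v w1 w2)
    (τ : TorD V R i j v t) (hij : i ≠ j) (hF : ∃ a : F, a ≠ 0 ∧ a ≠ 1)
    (hl : Zero.LineHyp V R i v t) (hd : Zero.Dat V R i (BG K T S) (UG K S))
    (hun : ∀ (a : α) (k : J a), Unmoved (S.subgroupOf (K a)) (Tact T (K a)) (P a k) →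
      PG K T S P ⟨a, k⟩ ≤ normalizer (V : Set G))
    (hg : ∀ x, ¬ GamT V (PG K T S P x)) {x y : Σ a, J a} (hxy : x ≠ y)
    (hx : ¬ PG K T S P x ≤ normalizer (V : Set G)) :
    SepG 2 (BG K T S) (UG K S) (PG K T S P x) (Zero.P0 V R (BG K T S)) ∨
      SepG 2 (BG K T S) (UG K S) (Zero.P0 V R (BG K T S)) (PG K T S P x) := by
  obtain ⟨a, k⟩ := x
  obtain ⟨a', l⟩ := y
  by_cases h : a = a'
  · subst h
    right
    exact D.sep_nbr_un b hd hun ((D.moved_iff_un b hij hun).2 hx) ⟨l, fun e => hxy (by rw [e])⟩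
  · left
    exact D.sep_of_ne' b c τ hij hF hl hd hg h k

end RS

end Cfsg.Agent.Omega.Lie.End

end
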