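import Cfsg.Agent.Mrg.Omega.Lie.End.RSNode
import Cfsg.Agent.Mrg.Omega.Lie.End.KDOf


/-!
# Unmoved nodes normalise `V`, from the parabolic system of the component alone

Let `S`, `T`, `P` be a parabolic system `KSys` of `K` and `A = [S, T]`.  If the node `k` is unmoved by `T`, then `P k`
normalises `A` (`UnMov.conj_AT`).  Only a part of `TAct` is used (`UnMov.TW`).

PROOF.  `Q` := the kernel of `P k` on its panel, `O := S ∩ Q`, both normal in `P k`; `A ≤ O`;  `φ(g) := g⁻¹ t(g) ∈ Q` for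
`g ∈ P k`.  Let `P⁺` be the normal closure of `S` in `P k`.  (1) `P⁺` centralises `Q / O` (`comm_Q`), hence `φ(P⁺) ≤ O`
(`phi_O`).  (2) For `g ∈ P⁺` the automorphism `t' := c_g t c_g⁻¹ = c_o t`, `o ∈ O`, has odd order and
`t'^r(u) ∈ o^r u o^-r A`, hence `t'(u) ∈ u A` for `u ∈ S` (`conj_t`).  (3) `a = c⁻¹ t(c)` with `c ∈ A`, so
`g a g⁻¹ = c'⁻¹ t'(c')`, `c' = g c g⁻¹ ∈ O`.  (4) `P k = P⁺ N(S)`.

`RS.unmoved_le'` : the unmoved nodes of `RS` normalise `V`, if `N(A) ∩ N(R i) ≤ N(V)`.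
-/

set_option autoImplicit false
set_option linter.unusedSectionVars false

namespace Cfsg.Agent.Omega.Lie.End

open Subgroup Cfsg Cfsg.Agent.ParSys Cfsg.Agent.Omega.BTwo Cfsg.Agent.Omega.Lie Cfsg.Agent.Omega.Lie.Quot
open Cfsg.Agent.Omega.IIa4 Cfsg.Agent.Omega.Lie.End.OfLay

universe u v w

namespace UnMov

section ksys

variable {K : Type*} [Group K] {S : Subgroup K} {T : Subgroup (MulAut K)} {J : Type} {P : J → Subgroup K}
  {m : J → J → ℕ}

/-- the part of `TAct` which is used here -/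
structure TW (S : Subgroup K) (T : Subgroup (MulAut K)) : Prop where
  odd : Odd (Nat.card T)
  ne : ∃ t ∈ T, t ≠ 1
  stab : ∀ t ∈ T, ∀ u ∈ S, t u ∈ S
  fpf : ∀ t ∈ T, t ≠ 1 → ∀ a ∈ AT S T, t a = a → a = 1

theorem tw_of_tact (ht : TAct S T) : TW S T where
  odd := ht.odd
  ne := KDOf.exists_t ht
  stab := ht.stab
  fpf := ht.fpf

theorem mem_S_iff (ht : TW S T) {t : MulAut K} (htT : t ∈ T) {x : K} : t x ∈ S ↔ x ∈ S := by
  refine ⟨fun h => ?_, ht.stab t htT x⟩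
  have h1 := ht.stab t⁻¹ (inv_mem htT) _ h
  rwa [MulAut.inv_apply_self] at h1

theorem mem_B (ht : TW S T) {t : MulAut K} (htT : t ∈ T) {x : K} (hx : x ∈ normalizer (S : Set K)) :
    t x ∈ normalizer (S : Set K) := by
  rw [mem_normalizer_iff] at hx ⊢
  intro y
  have h1 := hx (t⁻¹ y)
  have e : t (x * t⁻¹ y * x⁻¹) = t x * y * (t x)⁻¹ := by
    rw [map_mul, map_mul, map_inv, MulAut.apply_inv_self]
  change y ∈ S ↔ t x * y * (t x)⁻¹ ∈ S
  rw [← e, mem_S_iff ht htT]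
  change t⁻¹ y ∈ S ↔ _ at h1
  rw [← mem_S_iff ht (inv_mem htT) (x := y)]
  exact h1

theorem mem_Q (h : KSys S T P m) (ht : TW S T) {t : MulAut K} (htT : t ∈ T) {i : J} {x : K}
    (hx : x ∈ Qk (normalizer (S : Set K)) (P i)) : t x ∈ Qk (normalizer (S : Set K)) (P i) := by
  intro g hg
  have h1 := mem_B ht htT (hx _ (h.T_P i t⁻¹ (inv_mem htT) g hg))
  have e : t ((t⁻¹ g)⁻¹ * x * t⁻¹ g) = g⁻¹ * t x * g := by
    rw [map_mul, map_mul, map_inv, MulAut.apply_inv_self]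
  rwa [e] at h1

theorem odd_orderOf [Finite K] (ht : TW S T) {t : MulAut K} (htT : t ∈ T) : Odd (orderOf t) := by
  have h1 : orderOf t ∣ Nat.card T := by
    have := orderOf_dvd_natCard (⟨t, htT⟩ : T)
    rwa [Subgroup.orderOf_mk] at this
  exact Odd.of_dvd_nat ht.odd h1

theorem unmoved_fix [Finite K] (h : KSys S T P m) (ht : TW S T) {k : J} (hk : Unmoved S T (P k)) {t : MulAut K}
    (htT : t ∈ T) {g : K} (hg : g ∈ P k) : g⁻¹ * t g ∈ normalizer (S : Set K) := by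
  by_cases hgB : g ∈ normalizer (S : Set K)
  · exact mul_mem (inv_mem hgB) (mem_B ht htT hgB)
  have htg : t g ∉ normalizer (S : Set K) := by
    intro h1
    have h2 := mem_B ht (inv_mem htT) h1
    rw [MulAut.inv_apply_self] at h2
    exact hgB h2
  obtain ⟨u, hu, c, hc, e⟩ := h.ptr k g hg hgB (t g) (h.T_P k t htT g hg) htg
  have hSP : S ≤ P k := le_normalizer.trans (h.le k)
  have key : ∀ r : ℕ, ∃ q ∈ Qk (normalizer (S : Set K)) (P k), ∃ c ∈ normalizer (S : Set K),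
      (t ^ r) g = q * u ^ r * g * c := by
    intro r
    induction r with
    | zero => exact ⟨1, one_mem _, 1, one_mem _, by simp⟩
    | succ r ih =>
      obtain ⟨q, hq, c₁, hc₁, e₁⟩ := ih
      have hur : u ^ r ∈ S := pow_mem hu r
      have h1 := hk t htT _ hur
      refine ⟨t q * (u ^ r * ((u ^ r)⁻¹ * t (u ^ r)) * (u ^ r)⁻¹),
        mul_mem (mem_Q h ht htT hq) (Qk_conj' h1 (hSP hur)), c * t c₁, mul_mem hc (mem_B ht htT hc₁), ?_⟩
      rw [pow_succ', MulAut.mul_apply, e₁, map_mul, map_mul, map_mul, e, pow_succ]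
      group
  obtain ⟨q, hq, c₁, hc₁, e₁⟩ := key (orderOf t)
  rw [pow_orderOf_eq_one, MulAut.one_apply] at e₁
  have h1 : g⁻¹ * u ^ orderOf t * g ∈ normalizer (S : Set K) := by
    have h2 := hq g hg
    have e2 : g⁻¹ * u ^ orderOf t * g = (g⁻¹ * q * g)⁻¹ * c₁⁻¹ := by
      have e3 : c₁ = (q * u ^ orderOf t * g)⁻¹ * g := eq_inv_mul_of_mul_eq e₁.symm
      rw [e3]
      group
    rw [e2]
    exact mul_mem (inv_mem h2) (inv_mem hc₁)
  have h2 := h.reg k _ (pow_mem hu _) g hg hgB h1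
  have h3 := KDOf.mem_of_odd_pow h hu (odd_orderOf ht htT) h2
  rw [e]
  have e4 : g⁻¹ * (u * g * c) = g⁻¹ * u * g * c := by group
  rw [e4]
  exact mul_mem (h3 g hg) hc

theorem unmoved_Q [Finite K] (h : KSys S T P m) (ht : TW S T) {k : J} (hk : Unmoved S T (P k)) {t : MulAut K}
    (htT : t ∈ T) {g : K} (hg : g ∈ P k) : g⁻¹ * t g ∈ Qk (normalizer (S : Set K)) (P k) := by
  intro x hx
  have h1 := unmoved_fix h ht hk htT (mul_mem hg hx)
  have h2 := unmoved_fix h ht hk htT hx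
  have h3 := mul_mem h1 (inv_mem h2)
  have e : (g * x)⁻¹ * t (g * x) * (x⁻¹ * t x)⁻¹ = x⁻¹ * (g⁻¹ * t g) * x := by
    rw [map_mul]
    group
  rwa [e] at h3

theorem sub_S (ht : TW S T) : AT S T ≤ S := by
  unfold AT
  rw [closure_le]
  rintro a ⟨t, htT, u, hu, rfl⟩
  exact mul_mem (inv_mem hu) (ht.stab t htT u hu)

theorem mem_AT {t : MulAut K} (htT : t ∈ T) {u : K} (hu : u ∈ S) : u⁻¹ * t u ∈ AT S T :=
  subset_closure ⟨t, htT, u, hu, rfl⟩

theorem T_AT (ht : TW S T) {t : MulAut K} (htT : t ∈ T) {a : K} (ha : a ∈ AT S T) : t a ∈ AT S T := by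
  have h1 := mem_AT htT (sub_S ht ha)
  have h2 := mul_mem ha h1
  rwa [mul_inv_cancel_left] at h2

/-- `[A, t] = A` -/
theorem AT_surj [Finite K] (ht : TW S T) {t : MulAut K} (htT : t ∈ T) (ht1 : t ≠ 1) {a : K} (ha : a ∈ AT S T) :
    ∃ c ∈ AT S T, c⁻¹ * t c = a := by
  let β : AT S T → AT S T := fun x => ⟨(x : K)⁻¹ * t x, mul_mem (inv_mem x.2) (T_AT ht htT x.2)⟩
  have hinj : Function.Injective β := by
    intro x y hxy
    have h1 : (x : K)⁻¹ * t x = (y : K)⁻¹ * t y := congrArg Subtype.val hxy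
    have h2 : t ((y : K) * (x : K)⁻¹) = (y : K) * (x : K)⁻¹ := by
      rw [map_mul, map_inv]
      have h3 : t x = x * ((y : K)⁻¹ * t y) := by rw [← h1]; group
      rw [h3]
      group
    have h4 := ht.fpf t htT ht1 _ (mul_mem y.2 (inv_mem x.2)) h2
    exact Subtype.ext (mul_inv_eq_one.1 h4).symm
  obtain ⟨x, hx⟩ := (Finite.injective_iff_surjective.1 hinj) ⟨a, ha⟩
  exact ⟨x, x.2, congrArg Subtype.val hx⟩

/-! ### `O = S ∩ Q` -/

/-- `S ∩ Q` -/
def OO (S P : Subgroup K) : Subgroup K := S ⊓ Qk (normalizer (S : Set K)) P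

theorem OO_conj (h : KSys S T P m) {k : J} {g x : K} (hg : g ∈ P k) (hx : x ∈ OO S (P k)) :
    g * x * g⁻¹ ∈ OO S (P k) := by
  obtain ⟨h1, h2⟩ := mem_inf.1 hx
  have h3 := Qk_conj' h2 hg
  obtain ⟨n, hn⟩ := KDOf.exists_two_pow h h1
  exact mem_inf.2 ⟨KDOf.mem_S_of_two h (Qk_le _ _ h3) (n := n) (by rw [conj_pow, hn, mul_one, mul_inv_cancel]), h3⟩

theorem OO_conj' (h : KSys S T P m) {k : J} {g x : K} (hg : g ∈ P k) (hx : x ∈ OO S (P k)) :
    g⁻¹ * x * g ∈ OO S (P k) := by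
  have h1 := OO_conj h (inv_mem hg) hx
  rwa [inv_inv] at h1

theorem AT_le_OO (ht : TW S T) {k : J} (hk : Unmoved S T (P k)) : AT S T ≤ OO S (P k) := by
  refine le_inf (sub_S ht) ?_
  unfold AT
  rw [closure_le]
  rintro a ⟨t, htT, u, hu, rfl⟩
  exact hk t htT u hu

/-- (1a) the normal closure of `S` in `P k` centralises `Q / O` -/
theorem comm_Q (h : KSys S T P m) {k : J} {x : K} (hx : x ∈ Pp (P k) S) :
    ∀ q ∈ Qk (normalizer (S : Set K)) (P k), x⁻¹ * q * x * q⁻¹ ∈ OO S (P k) := by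
  have hSP : S ≤ P k := le_normalizer.trans (h.le k)
  have hQP : Qk (normalizer (S : Set K)) (P k) ≤ P k := (Qk_le _ _).trans (h.le k)
  let M : Subgroup K :=
    { carrier := {x | x ∈ P k ∧ ∀ q ∈ Qk (normalizer (S : Set K)) (P k), x⁻¹ * q * x * q⁻¹ ∈ OO S (P k)}
      one_mem' := ⟨one_mem _, fun q _ => by
        have e : (1 : K)⁻¹ * q * 1 * q⁻¹ = 1 := by group
        rw [e]
        exact one_mem _⟩
      mul_mem' := by
        rintro x y ⟨hxP, hx⟩ ⟨hyP, hy⟩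
        refine ⟨mul_mem hxP hyP, fun q hq => ?_⟩
        have e : (x * y)⁻¹ * q * (x * y) * q⁻¹ = y⁻¹ * (x⁻¹ * q * x * q⁻¹) * y * (y⁻¹ * q * y * q⁻¹) := by group
        rw [e]
        exact mul_mem (OO_conj' h hyP (hx q hq)) (hy q hq)
      inv_mem' := by
        rintro x ⟨hxP, hx⟩
        refine ⟨inv_mem hxP, fun q hq => ?_⟩
        have h1 := OO_conj h (mul_mem hxP (hQP hq)) (inv_mem (hx _ (Qk_conj' hq hxP)))
        have h2 := hx _ (Qk_conj' hq hxP)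
        have h3 := inv_mem h2
        have e : x⁻¹⁻¹ * q * x⁻¹ * q⁻¹ = (x⁻¹ * (x * q * x⁻¹) * x * (x * q * x⁻¹)⁻¹)⁻¹ := by group
        rw [e]
        exact h3 }
  have h1 : Pp (P k) S ≤ M := by
    unfold Pp
    rw [closure_le]
    rintro _ ⟨g, hg, s, hs, rfl⟩
    refine ⟨mul_mem (mul_mem hg (hSP hs)) (inv_mem hg), fun q hq => ?_⟩
    have hq' : g⁻¹ * q * g ∈ Qk (normalizer (S : Set K)) (P k) := Qk_conj hq hg
    have h2 : s⁻¹ * (g⁻¹ * q * g) * s * (g⁻¹ * q * g)⁻¹ ∈ OO S (P k) := by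
      refine mem_inf.2 ⟨?_, mul_mem (Qk_conj hq' (hSP hs)) (inv_mem hq')⟩
      have h3 := (mem_normalizer_iff.1 (Qk_le _ _ hq') s).1 hs
      have e : s⁻¹ * (g⁻¹ * q * g) * s * (g⁻¹ * q * g)⁻¹ = s⁻¹ * ((g⁻¹ * q * g) * s * (g⁻¹ * q * g)⁻¹) := by group
      rw [e]
      exact mul_mem (inv_mem hs) h3
    have h3 := OO_conj h hg h2
    have e : g * (s⁻¹ * (g⁻¹ * q * g) * s * (g⁻¹ * q * g)⁻¹) * g⁻¹ = (g * s * g⁻¹)⁻¹ * q * (g * s * g⁻¹) * q⁻¹ := by
      group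
    rwa [e] at h3
  exact (h1 hx).2

/-- (1b) `[P⁺, T] ≤ O` -/
theorem phi_O [Finite K] (h : KSys S T P m) (ht : TW S T) {k : J} (hk : Unmoved S T (P k)) {x : K}
    (hx : x ∈ Pp (P k) S) : ∀ t ∈ T, x⁻¹ * t x ∈ OO S (P k) := by
  have hSP : S ≤ P k := le_normalizer.trans (h.le k)
  let M : Subgroup K :=
    { carrier := {x | x ∈ P k ∧ ∀ t ∈ T, x⁻¹ * t x ∈ OO S (P k)}
      one_mem' := ⟨one_mem _, fun t _ => by
        rw [map_one, inv_one, mul_one]
        exact one_mem _⟩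
      mul_mem' := by
        rintro x y ⟨hxP, hx⟩ ⟨hyP, hy⟩
        refine ⟨mul_mem hxP hyP, fun t ht' => ?_⟩
        have e : (x * y)⁻¹ * t (x * y) = y⁻¹ * (x⁻¹ * t x) * y * (y⁻¹ * t y) := by
          rw [map_mul]
          group
        rw [e]
        exact mul_mem (OO_conj' h hyP (hx t ht')) (hy t ht')
      inv_mem' := by
        rintro x ⟨hxP, hx⟩
        refine ⟨inv_mem hxP, fun t ht' => ?_⟩
        have e : x⁻¹⁻¹ * t x⁻¹ = x * (x⁻¹ * t x)⁻¹ * x⁻¹ := by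
          rw [map_inv]
          group
        rw [e]
        exact OO_conj h hxP (inv_mem (hx t ht')) }
  have h1 : Pp (P k) S ≤ M := by
    unfold Pp
    rw [closure_le]
    rintro _ ⟨g, hg, s, hs, rfl⟩
    refine ⟨mul_mem (mul_mem hg (hSP hs)) (inv_mem hg), fun t ht' => ?_⟩
    have hq := unmoved_Q h ht hk ht' (inv_mem hg)
    have hx' : g * s * g⁻¹ ∈ Pp (P k) S := subset_closure ⟨g, hg, s, hs, rfl⟩
    have h2 := comm_Q h hx' _ (inv_mem hq)
    have h3 := OO_conj h hg (AT_le_OO ht hk (mem_AT ht' hs))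
    have h4 := OO_conj' h (mul_mem (inv_mem (inv_mem hg)) (h.T_P k t ht' _ (inv_mem hg))) h3
    have h5 := mul_mem h2 h4
    have e : (g * s * g⁻¹)⁻¹ * (g⁻¹⁻¹ * t g⁻¹)⁻¹ * (g * s * g⁻¹) * (g⁻¹⁻¹ * t g⁻¹)⁻¹⁻¹ *
        ((g⁻¹⁻¹ * t g⁻¹)⁻¹ * (g * (s⁻¹ * t s) * g⁻¹) * (g⁻¹⁻¹ * t g⁻¹)) = (g * s * g⁻¹)⁻¹ * t (g * s * g⁻¹) := by
      rw [map_mul, map_mul, map_inv]
      group
    rwa [e] at h5
  exact (h1 hx).2

/-- (2) `t'(u) ∈ u A` for the conjugates `t'` of `t` under `P⁺` -/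
theorem conj_t [Finite K] (h : KSys S T P m) (ht : TW S T) {k : J} (hk : Unmoved S T (P k)) {g : K}
    (hg : g ∈ Pp (P k) S) {t : MulAut K} (htT : t ∈ T) {u : K} (hu : u ∈ S) :
    u⁻¹ * (g * t (g⁻¹ * u * g) * g⁻¹) ∈ AT S T := by
  have ho := phi_O h ht hk (inv_mem hg) t htT
  set o : K := g⁻¹⁻¹ * t g⁻¹ with ho'
  have hoS : o ∈ S := (mem_inf.1 ho).1
  -- the conjugate
  let t' : MulAut K := MulAut.conj g * t * (MulAut.conj g)⁻¹
  have ht' : ∀ x : K, t' x = g * t (g⁻¹ * x * g) * g⁻¹ := by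
    intro x
    change MulAut.conj g (t ((MulAut.conj g)⁻¹ x)) = _
    rw [MulAut.conj_inv_apply, MulAut.conj_apply]
  have ht2 : ∀ x : K, t' x = o * t x * o⁻¹ := by
    intro x
    rw [ht', ho', map_mul, map_mul, map_inv]
    group
  have hord : Odd (orderOf t') := by
    have h1 : orderOf t' = orderOf t := by
      have h2 := MulEquiv.orderOf_eq (MulAut.conj (MulAut.conj g)) t
      rw [← h2]
      rfl
    rw [h1]
    exact odd_orderOf ht htT
  have key : ∀ r : ℕ, ∃ a ∈ AT S T, (t' ^ r) u = o ^ r * u * (o ^ r)⁻¹ * a := by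
    intro r
    induction r with
    | zero => exact ⟨1, one_mem _, by simp⟩
    | succ r ih =>
      obtain ⟨a, ha, e⟩ := ih
      have hx : o ^ r * u * (o ^ r)⁻¹ ∈ S := mul_mem (mul_mem (pow_mem hoS r) hu) (inv_mem (pow_mem hoS r))
      have h1 := mem_AT htT hx
      refine ⟨o * ((o ^ r * u * (o ^ r)⁻¹)⁻¹ * t (o ^ r * u * (o ^ r)⁻¹) * t a) * o⁻¹,
        h.B_A o (le_normalizer hoS) _ (mul_mem h1 (T_AT ht htT ha)), ?_⟩
      rw [pow_succ', MulAut.mul_apply, e, ht2, map_mul t (o ^ r * u * (o ^ r)⁻¹) a, pow_succ']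
      group
  obtain ⟨n, hn⟩ := KDOf.exists_two_pow h hoS
  -- `r ≡ 0 mod 2 ^ n`, `r ≡ 1` modulo the order of `t'`
  have hcop : (2 ^ n).Coprime (orderOf t') := (Nat.coprime_two_left.2 hord).pow_left n
  obtain ⟨r, hr1, hr2⟩ := Nat.chineseRemainder hcop 0 1
  obtain ⟨a, ha, e⟩ := key r
  have h1 : o ^ r = 1 := by
    obtain ⟨l, hl⟩ := (Nat.modEq_zero_iff_dvd).1 hr1
    rw [hl, pow_mul, hn, one_pow]
  have h2 : t' ^ r = t' := by
    have h3 : t' ^ r = t' ^ 1 := pow_eq_pow_iff_modEq.2 hr2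
    rwa [pow_one] at h3
  rw [h1, h2, ht'] at e
  rw [e]
  have e2 : u⁻¹ * (1 * u * (1 : K)⁻¹ * a) = a := by group
  rw [e2]
  exact ha

/-- **LEMMA UN**: an unmoved parabolic subgroup normalises `[S, T]` -/
theorem conj_AT' [Finite K] (h : KSys S T P m) (ht : TW S T) {k : J} (hk : Unmoved S T (P k)) {g : K} (hg : g ∈ P k)
    {a : K} (ha : a ∈ AT S T) : g * a * g⁻¹ ∈ AT S T := by
  have hSP : S ≤ P k := le_normalizer.trans (h.le k)
  obtain ⟨p, hp, b, hb, rfl⟩ := exists_Pp (h.ptr k) (KDOf.exists_two (by have := h.five k; omega)) hg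
  have hpP : p ∈ P k := Pp_le hSP hp
  -- `N(S)` normalises `A`
  have h1 := h.B_A b hb a ha
  obtain ⟨t, htT, ht1⟩ := ht.ne
  obtain ⟨c, hc, e⟩ := AT_surj ht htT ht1 h1
  have hcO := OO_conj h hpP (AT_le_OO ht hk hc)
  have h2 := conj_t h ht hk hp htT (mem_inf.1 hcO).1
  have e2 : (p * c * p⁻¹)⁻¹ * (p * t (p⁻¹ * (p * c * p⁻¹) * p) * p⁻¹) = p * b * a * (p * b)⁻¹ := by
    have e3 : p⁻¹ * (p * c * p⁻¹) * p = c := by group
    have e4 : t c = c * (b * a * b⁻¹) := by rw [← e]; group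
    rw [e3, e4]
    group
  rwa [e2] at h2

/-- **LEMMA UN**: an unmoved parabolic subgroup normalises `[S, T]` -/
theorem conj_AT [Finite K] (h : KSys S T P m) (ht : TAct S T) {k : J} (hk : Unmoved S T (P k)) {g : K} (hg : g ∈ P k)
    {a : K} (ha : a ∈ AT S T) : g * a * g⁻¹ ∈ AT S T :=
  conj_AT' h (tw_of_tact ht) hk hg ha

end ksys

end UnMov

variable {G : Type u} [Group G] {ι : Type w} {V : Subgroup G} {R : ι → Subgroup G} {F : Type v} [Field F] {i j : ι}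
  {v : F → F → G} {w1 w2 : F → G} {t : F → G}

namespace RS

variable {T S : Subgroup (HQ (R i))} {α : Type} {K : α → Subgroup (HQ (R i))} {J : α → Type}
  {P : ∀ a, J a → Subgroup (K a)} {m : ∀ a, J a → J a → ℕ} (D : RS V R i j T S K J P m)
include D

theorem tw [Finite G] (a : α) : UnMov.TW (S.subgroupOf (K a)) (Tact T (K a)) where
  odd := by
    rw [card_Tact (D.hyp a) (D.mem a).2.2 D.sc]
    exact D.oddT
  ne := D.T_ne a
  stab := by
    intro τ hτ u hu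
    obtain ⟨t, ht, -, h1⟩ := mem_Tact.1 hτ
    rw [mem_subgroupOf, h1]
    exact (D.hyp a).TS t ht u (mem_subgroupOf.1 hu)
  fpf := by
    intro τ hτ hτ1 x hx e
    obtain ⟨t, ht, hN, h1⟩ := mem_Tact.1 hτ
    by_contra ha1
    have h2 : t = 1 := by
      refine D.sc.reg x (mem_subgroupOf.1 (AT_le (D.hyp a).toPre hx)).1 (fun h0 => ha1 (Subtype.ext h0)) t ht ?_
      rw [← h1, e]
    refine hτ1 (MulEquiv.ext fun x => Subtype.ext ?_)
    rw [h1, h2]
    simp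

/-- an unmoved node normalises `A ∩ K a`, hence `A` -/
theorem unmoved_norm_A [Finite G] (b : BT V R) (hij : i ≠ j) {a : α} {k : J a}
    (hu : Unmoved (S.subgroupOf (K a)) (Tact T (K a)) (P a k)) :
    (P a k).map (K a).subtype ≤ normalizer (AA V R i j : Set (HQ (R i))) := by
  -- one direction suffices
  have key : ∀ g ∈ P a k, ∀ x ∈ AA V R i j, (g : HQ (R i)) * x * (g : HQ (R i))⁻¹ ∈ AA V R i j := by
    intro g hg
    have h1 : AA V R i j ≤ (AA V R i j).comap (MulAut.conj (g : HQ (R i))).toMonoidHom := by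
      refine (D.lay.A_le b hij).trans (iSup₂_le fun L hL => ?_)
      obtain ⟨a', rfl⟩ := D.sur L hL
      intro x hx
      change (g : HQ (R i)) * x * (g : HQ (R i))⁻¹ ∈ AA V R i j
      by_cases hab : a = a'
      · subst hab
        have h2 : (⟨x, hx.2⟩ : K a) ∈ AT (S.subgroupOf (K a)) (Tact T (K a)) := by
          rw [AT_eq (D.hyp a)]
          exact mem_subgroupOf.2 hx
        have h3 := UnMov.conj_AT' (D.sys a) (D.tw a) hu hg h2
        rw [AT_eq (D.hyp a)] at h3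
        exact (mem_subgroupOf.1 h3).1
      · have h2 := D.comm a a' hab g g.2 x hx.2
        have e : (g : HQ (R i)) * x * (g : HQ (R i))⁻¹ = x := by rw [h2]; group
        rw [e]
        exact hx.1
    exact fun x hx => h1 hx
  rintro _ ⟨g, hg, rfl⟩
  rw [mem_normalizer_iff]
  refine fun x => ⟨key g hg x, fun h => ?_⟩
  have h1 := key g⁻¹ (inv_mem hg) _ h
  have e : ((g⁻¹ : K a) : HQ (R i)) * ((g : HQ (R i)) * x * (g : HQ (R i))⁻¹) * ((g⁻¹ : K a) : HQ (R i))⁻¹ = x := by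
    rw [coe_inv]
    group
  change ((g⁻¹ : K a) : HQ (R i)) * ((g : HQ (R i)) * x * (g : HQ (R i))⁻¹) * ((g⁻¹ : K a) : HQ (R i))⁻¹ ∈ _ at h1
  rwa [e] at h1

/-- **the unmoved nodes normalise `V`**, if `N(A) ≤ N(V)` in `N(R i)` -/
theorem unmoved_le' [Finite G] [Finite α] (b : BT V R) (hij : i ≠ j)
    (hNV : ∀ (g : G) (hg : g ∈ normalizer (R i : Set G)),
      pr (R i) ⟨g, hg⟩ ∈ normalizer (AA V R i j : Set (HQ (R i))) → g ∈ normalizer (V : Set G)) {a : α} {k : J a}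
    (hu : Unmoved (S.subgroupOf (K a)) (Tact T (K a)) (P a k)) :
    PG K T S P ⟨a, k⟩ ≤ normalizer (V : Set G) := by
  intro g hg
  obtain ⟨h1, h2⟩ := mem_up.1 hg
  have h3 : PPx K (fun a => S.subgroupOf (K a)) T P ⟨a, k⟩ ≤ normalizer (AA V R i j : Set (HQ (R i))) :=
    sup_le (D.unmoved_norm_A b hij hu) D.CC_norm_A
  exact hNV g h1 (h3 h2)

/-- a node is moved iff it is not in `N(V)` -/
theorem moved_iff_nv [Finite G] [Finite α] (b : BT V R) (hij : i ≠ j)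
    (hNV : ∀ (g : G) (hg : g ∈ normalizer (R i : Set G)),
      pr (R i) ⟨g, hg⟩ ∈ normalizer (AA V R i j : Set (HQ (R i))) → g ∈ normalizer (V : Set G)) {a : α} {k : J a} :
    End.Moved (S.subgroupOf (K a)) (Tact T (K a)) (P a k) ↔ ¬ PG K T S P ⟨a, k⟩ ≤ normalizer (V : Set G) := by
  refine ⟨D.not_le_of_moved b hij, fun h => ?_⟩
  rcases (D.sys a).dich k with h1 | h1
  · exact absurd (D.unmoved_le' b hij hNV h1) h
  · exact h1

end RS

end Cfsg.Agent.Omega.Lie.End
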