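import Cfsg.Agent.Mrg.Omega.Lie.End.ZeroLone
import Cfsg.Agent.Mrg.Omega.Lie.End.KDOf
import Cfsg.Agent.Mrg.Omega.Lie.End.KSys
import Cfsg.Agent.KFacts.RgdTau
import Cfsg.Agent.Solvable.Glauberman
import Cfsg.Agent.KFacts.RgdEx

section


/-!
# The K-side: `KSys` from the pieces (helper650)

* `MFacts` : the facts on the moved nodes (helper469);
* `ksys_of` : `KSys` from `PFacts`, `KTor`, `MFacts`.
-/

set_option autoImplicit false
set_option linter.unusedSectionVars false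

namespace Cfsg.Agent.Omega.Lie.End

open Subgroup CoxeterSystem Cfsg.Agent.ChevalleyStructure.CoxeterGeom Cfsg.Agent.Tits.Roots Cfsg.Agent.Tits.Core
  Cfsg.Agent.Tits.RootComb Cfsg.Agent.Nodes.Comb Cfsg.Agent.Nodes.Reps Cfsg.Agent.Nodes.BNOf
  Cfsg.Agent.Nodes.Bruhat Cfsg.Agent.Nodes.StabComb Cfsg.Agent.Nodes.LeviDec Cfsg.Agent.KFacts.RgdAut Cfsg.Agent.KFacts.RgdDiag Cfsg.Agent.KFacts.RgdRigid
  Cfsg.Agent.KFacts.RgdCharP Cfsg.Agent.ParSys
  Cfsg.Agent.Omega.Lie.End.Mov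

variable {I : Type} {W Y : Type*} [Fintype I] [DecidableEq I] [Group W] [Group Y] {M : CoxeterMatrix I}
  {cs : CoxeterSystem M W} {A : I → I → ℤ} {h : IsCartan M A} {T : Subgroup Y} {n : I → Y}
  {X : (I → ℤ) → Subgroup Y} {Γ : Subgroup (MulAut Y)}

/-- The facts on the moved nodes. -/
structure MFacts (cs : CoxeterSystem M W) (h : IsCartan M A) (T : Subgroup Y) (X : (I → ℤ) → Subgroup Y)
    (Γ : Subgroup (MulAut Y)) : Prop where
  fixU : ∀ γ ∈ Γ, Fix γ (RGD.Sup X (RGD.Pos cs h))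
  diag : ∀ γ ∈ Γ, Diag T X γ 1
  fpf : ∀ i, Mv X Γ i → ∀ γ ∈ Γ, γ ≠ 1 → ∀ x ∈ X (sr i), γ x = x → x = 1
  mv : ∃ i, Mv X Γ i
  one : ∀ i j, Mv X Γ i → Mv X Γ j → i = j
  four : ∀ i, 4 ≤ Nat.card (X (sr i))
  BA : ∀ b ∈ RGD.B cs h T X, ∀ a ∈ AT (RGD.Sup X (RGD.Pos cs h)) Γ,
    b * a * b⁻¹ ∈ AT (RGD.Sup X (RGD.Pos cs h)) Γ

section par

variable {B P U : Subgroup Y}

/-- An automorphism of `B`, `P` fixes the kernel on the panel. -/
theorem map_Qk {γ : MulAut Y} (hB : Fix γ B) (hP : Fix γ P) {x : Y} (hx : x ∈ Qk B P) : γ x ∈ Qk B P := by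
  intro g hg
  have h1 : γ⁻¹ g ∈ P := (hP.inv g).2 hg
  have h2 := (hB _).2 (hx _ h1)
  rwa [map_mul, map_mul, map_inv, MulAut.apply_inv_self] at h2

theorem comm_mem_of_cent {i : I} (hU : U ≤ P) (hdec : ∀ u ∈ U, ∃ x ∈ X (sr i), ∃ v ∈ U, v ∈ Qk B P ∧ u = x * v)
    (hBP : B ≤ P) {t : Y} (ht : t ∈ B) (hX : X (sr i) ≤ P) (hc : ∀ x ∈ X (sr i), t * x * t⁻¹ = x) :
    ∀ u ∈ U, t * u * t⁻¹ * u⁻¹ ∈ Qk B P := by
  intro u hu
  obtain ⟨x, hx, v, hv, hvQ, rfl⟩ := hdec u hu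
  have e : t * (x * v) * t⁻¹ * (x * v)⁻¹ = (t * x * t⁻¹) * ((t * v * t⁻¹) * v⁻¹) * x⁻¹ := by group
  rw [e, hc x hx]
  exact Qk_conj' (mul_mem (Qk_conj' hvQ (hBP ht)) (inv_mem hvQ)) (hX hx)

theorem fpf_of_fpf {i : I} (hdec : ∀ u ∈ U, ∃ x ∈ X (sr i), ∃ v ∈ U, v ∈ Qk B P ∧ u = x * v)
    (hinf : ∀ x ∈ X (sr i), x ∈ Qk B P → x = 1)
    (hBP : B ≤ P) {t : Y} (ht : t ∈ B) (hX : X (sr i) ≤ P) (htX : ∀ x ∈ X (sr i), t * x * t⁻¹ ∈ X (sr i))
    (hf : ∀ x ∈ X (sr i), t * x * t⁻¹ = x → x = 1) :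
    ∀ u ∈ U, t * u * t⁻¹ * u⁻¹ ∈ Qk B P → u ∈ Qk B P := by
  intro u hu h1
  obtain ⟨x, hx, v, hv, hvQ, rfl⟩ := hdec u hu
  have e : t * (x * v) * t⁻¹ * (x * v)⁻¹ = (t * x * t⁻¹ * x⁻¹) * (x * ((t * v * t⁻¹) * v⁻¹) * x⁻¹) := by group
  rw [e] at h1
  have h2 : x * ((t * v * t⁻¹) * v⁻¹) * x⁻¹ ∈ Qk B P :=
    Qk_conj' (mul_mem (Qk_conj' hvQ (hBP ht)) (inv_mem hvQ)) (hX hx)
  have h3 : t * x * t⁻¹ * x⁻¹ ∈ Qk B P := by
    have := mul_mem h1 (inv_mem h2)
    rwa [mul_inv_cancel_right] at this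
  have h4 := hinf _ (mul_mem (htX x hx) (inv_mem hx)) h3
  have h5 := hf x hx (mul_inv_eq_one.1 h4)
  rw [h5, one_mul]
  exact hvQ

theorem act_mem_of_triv {i : I} (hdec : ∀ u ∈ U, ∃ x ∈ X (sr i), ∃ v ∈ U, v ∈ Qk B P ∧ u = x * v)
    {γ : MulAut Y} (hB : Fix γ B) (hP : Fix γ P) (hc : ∀ x ∈ X (sr i), γ x = x) :
    ∀ u ∈ U, u⁻¹ * γ u ∈ Qk B P := by
  intro u hu
  obtain ⟨x, hx, v, hv, hvQ, rfl⟩ := hdec u hu
  rw [map_mul, hc x hx]
  have e : (x * v)⁻¹ * (x * γ v) = v⁻¹ * γ v := by group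
  rw [e]
  exact mul_mem (inv_mem hvQ) (map_Qk hB hP hvQ)

theorem act_fpf_of_fpf {i : I} (hdec : ∀ u ∈ U, ∃ x ∈ X (sr i), ∃ v ∈ U, v ∈ Qk B P ∧ u = x * v)
    (hinf : ∀ x ∈ X (sr i), x ∈ Qk B P → x = 1) {γ : MulAut Y} (hB : Fix γ B) (hP : Fix γ P)
    (hX : X (sr i) ≤ P) (hγX : ∀ x ∈ X (sr i), γ x ∈ X (sr i)) (hf : ∀ x ∈ X (sr i), γ x = x → x = 1) :
    ∀ u ∈ U, u⁻¹ * γ u ∈ Qk B P → u ∈ Qk B P := by
  intro u hu h1
  obtain ⟨x, hx, v, hv, hvQ, rfl⟩ := hdec u hu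
  rw [map_mul] at h1
  have hγv := map_Qk hB hP hvQ
  have h2 : x⁻¹ * γ x ∈ Qk B P := by
    have h3 := mul_mem (mul_mem hvQ h1) (inv_mem hγv)
    have e : v * ((x * v)⁻¹ * (γ x * γ v)) * (γ v)⁻¹ = x⁻¹ * γ x := by group
    rwa [e] at h3
  have h4 := hinf _ (mul_mem (inv_mem hx) (hγX x hx)) h2
  have h5 := hf x hx (inv_mul_eq_one.1 h4).symm
  rw [h5, one_mul]
  exact hvQ

end par

section main

variable [Finite W] [Finite Y] (R : RGD cs h 2 T n X) (hG1 : RGD.Sup X {x | IsRoot cs h x} = ⊤)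

include R in
theorem X_le_PJ (i : I) : X (sr i) ≤ PJ cs h T X {i} :=
  le_trans (RGD.X_le_B (isRoot_sr cs h i) (sr_nonneg i)) B_le_PJ

include R in
/-- `γ` fixes the minimal parabolic subgroups. -/
theorem map_PJ {γ : MulAut Y} (hB : Fix γ (RGD.B cs h T X)) (D : Diag T X γ 1) {i : I} {x : Y}
    (hx : x ∈ PJ cs h T X {i}) : γ x ∈ PJ cs h T X {i} := by
  have h1 : PJ cs h T X {i} ≤ (PJ cs h T X {i}).comap γ.toMonoidHom := by
    have hBc : RGD.B cs h T X ≤ (PJ cs h T X {i}).comap γ.toMonoidHom := fun b hb =>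
      show γ b ∈ PJ cs h T X {i} from B_le_PJ ((hB b).2 hb)
    refine PJ_le_of_mem R hBc ?_
    obtain ⟨t, ht, a, ha, v, hv, b, hb, e⟩ := exists_n_eq R i
    have hXP := X_le_PJ R i
    have hnP : n i ∈ PJ cs h T X {i} := LJ_le_PJ (n_mem_LJ R (Set.mem_singleton i))
    have hvP : ∀ y ∈ X (-sr i), y ∈ PJ cs h T X {i} := by
      intro y hy
      have h2 : (n i)⁻¹ * y * n i ∈ X (sr i) := by
        have := R.conj_mem' (rp_simple cs R.nsys i) (isRoot_sr cs h i).neg hy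
        rwa [inv_simple, map_neg, rep_simple_sr, neg_neg] at this
      have h3 := mul_mem (mul_mem hnP (hXP h2)) (inv_mem hnP)
      have e : n i * ((n i)⁻¹ * y * n i) * (n i)⁻¹ = y := by group
      rwa [e] at h3
    have hγT : γ t ∈ PJ cs h T X {i} := B_le_PJ (RGD.T_le_B ((D.tor t).2 ht))
    have hγa : γ a ∈ PJ cs h T X {i} := hXP ((D.pos i a).2 ha)
    have hγb : γ b ∈ PJ cs h T X {i} := hXP ((D.pos i b).2 hb)
    have hγv : γ v ∈ PJ cs h T X {i} := hvP _ ((D.neg i v).2 hv)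
    show γ (n i) ∈ PJ cs h T X {i}
    rw [e, map_mul, map_mul, map_mul]
    exact mul_mem (mul_mem (mul_mem hγT hγa) hγv) hγb
  exact h1 hx

include R in
theorem fix_PJ {γ : MulAut Y} (hB : Fix γ (RGD.B cs h T X)) (D : Diag T X γ 1) (i : I) :
    Fix γ (PJ cs h T X {i}) := by
  intro x
  refine ⟨fun h1 => ?_, map_PJ R hB D⟩
  have h2 := map_PJ R (γ := γ⁻¹) hB.inv (by
    have := D.inv
    rwa [inv_one] at this) h1
  rwa [MulAut.inv_apply_self] at h2

include R hG1 in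
/-- **`KSys`.** -/
theorem ksys_of (hc : Conn M) (h6 : ∀ i j, M i j ≠ 6) (PF : PFacts cs h T X) (KT : KTor M T X)
    (MF : MFacts cs h T X Γ) (hidx : Odd (RGD.Sup X (RGD.Pos cs h)).index)
    (h3 : 3 ≤ Nat.card Γ) (h2 : ∀ i : I, ∃ j, j ≠ i) :
    KSys (RGD.Sup X (RGD.Pos cs h)) Γ (fun i => PJ cs h T X {i}) (fun i j => M i j) := by
  have : Fact (Nat.Prime 2) := ⟨Nat.prime_two⟩
  have : Finite (MulAut Y) :=
    Finite.of_injective (fun e : MulAut Y => (e : Y → Y)) fun a b hab => MulEquiv.ext (congrFun hab)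
  set U := RGD.Sup X (RGD.Pos cs h) with hU
  set B := RGD.B cs h T X with hB
  have hN : normalizer (U : Set Y) = B := PF.norm
  have hUB : U ≤ B := RGD.U_le_B
  have hBP : ∀ i, B ≤ PJ cs h T X {i} := fun i => B_le_PJ
  have hfixB : ∀ γ ∈ Γ, Fix γ B := fun γ hγ => fix_B R (GG_eq_top hG1) (MF.fixU γ hγ)
  have hfixP : ∀ γ ∈ Γ, ∀ i, Fix γ (PJ cs h T X {i}) := fun γ hγ i => fix_PJ R (hfixB γ hγ) (MF.diag γ hγ) i
  have hXP : ∀ i, X (sr i) ≤ PJ cs h T X {i} := fun i => X_le_PJ R i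
  have hTX : ∀ t ∈ T, ∀ i, ∀ x ∈ X (sr i), t * x * t⁻¹ ∈ X (sr i) := by
    intro t ht i x hx
    have h5 : t * x * t⁻¹ ∈ cj t (X (sr i)) := conj_mem_cj.2 hx
    rwa [R.tor _ (isRoot_sr cs h i) t ht] at h5
  have hTodd : ∀ t ∈ T, t ^ Nat.card T = 1 := by
    intro t ht
    have h4 : (⟨t, ht⟩ : T) ^ Nat.card T = 1 := pow_card_eq_one'
    exact congrArg Subtype.val h4
  have hTc : Odd (Nat.card T) := Nat.coprime_two_right.1 R.tcop
  -- unmoved and moved nodes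
  have hunm : ∀ i, ¬ Mv X Γ i → Unmoved U Γ (PJ cs h T X {i}) := by
    intro i hi γ hγ u hu
    rw [hN]
    refine act_mem_of_triv (PF.dec i) (hfixB γ hγ) (hfixP γ hγ i) (fun x hx => ?_) u hu
    by_contra hne
    exact hi ⟨γ, hγ, x, hx, hne⟩
  have hmov : ∀ i, Mv X Γ i → Moved U Γ (PJ cs h T X {i}) := by
    intro i hi γ hγ hγ1 u hu
    rw [hN]
    exact act_fpf_of_fpf (PF.dec i) (PF.inf i) (hfixB γ hγ) (hfixP γ hγ i) (hXP i)
      (fun x hx => ((MF.diag γ hγ).pos i x).2 hx) (MF.fpf i hi γ hγ hγ1) u hu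
  obtain ⟨γ₀, hγ₀, hγ₀1⟩ : ∃ γ ∈ Γ, γ ≠ 1 := by
    by_contra hcon
    push Not at hcon
    have h5 : Γ = ⊥ := (Subgroup.eq_bot_iff_forall _).2 hcon
    rw [h5, Subgroup.card_bot] at h3
    omega
  have hne : ∀ i, ∃ x ∈ X (sr i), x ≠ 1 := fun i => exists_ne_one R i
  -- a node is not both
  have hmv_of : ∀ i, Moved U Γ (PJ cs h T X {i}) → Mv X Γ i := by
    intro i hi
    by_contra hmv
    obtain ⟨x, hx, hx1⟩ := hne i
    have h5 : x ∈ Qk (normalizer (U : Set Y)) (PJ cs h T X {i}) := by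
      refine hi γ₀ hγ₀ hγ₀1 x (RGD.le_Sup (S := RGD.Pos cs h) ⟨isRoot_sr cs h i, sr_nonneg i⟩ hx) ?_
      have h6 : γ₀ x = x := by
        by_contra hne'
        exact hmv ⟨γ₀, hγ₀, x, hx, hne'⟩
      rw [h6, inv_mul_cancel]
      exact one_mem _
    rw [hN] at h5
    exact hx1 (PF.inf i x hx h5)
  have hunm_of : ∀ i, Unmoved U Γ (PJ cs h T X {i}) → ¬ Mv X Γ i := by
    intro i hi hmv
    obtain ⟨x, hx, hx1⟩ := hne i
    have h5 := hi γ₀ hγ₀ x (RGD.le_Sup (S := RGD.Pos cs h) ⟨isRoot_sr cs h i, sr_nonneg i⟩ hx)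
    have h6 := hmov i hmv γ₀ hγ₀ hγ₀1 x (RGD.le_Sup (S := RGD.Pos cs h) ⟨isRoot_sr cs h i, sr_nonneg i⟩ hx) h5
    rw [hN] at h6
    exact hx1 (PF.inf i x hx h6)
  -- torus elements
  have hfpG : ∀ i, ∀ t ∈ T, (∀ x ∈ X (sr i), t * x * t⁻¹ = x → x = 1) →
      ∀ u ∈ U, t * u * t⁻¹ * u⁻¹ ∈ Qk (normalizer (U : Set Y)) (PJ cs h T X {i}) →
        u ∈ Qk (normalizer (U : Set Y)) (PJ cs h T X {i}) := by
    intro i t ht hf
    rw [hN]
    exact fpf_of_fpf (PF.dec i) (PF.inf i) (hBP i) (RGD.T_le_B ht) (hXP i) (hTX t ht i) hf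
  have hcenG : ∀ i, ∀ t ∈ T, (∀ x ∈ X (sr i), t * x * t⁻¹ = x) →
      ∀ u ∈ U, t * u * t⁻¹ * u⁻¹ ∈ Qk (normalizer (U : Set Y)) (PJ cs h T X {i}) := by
    intro i t ht hf
    rw [hN]
    exact comm_mem_of_cent (hUB.trans (hBP i)) (PF.dec i) (hBP i) (RGD.T_le_B ht) (hXP i) hf
  have hsepG : ∀ i j, SpOn T (X (sr i)) (X (sr j)) →
      SepG 2 (normalizer (U : Set Y)) U (PJ cs h T X {i}) (PJ cs h T X {j}) := by
    rintro i j ⟨t, ht, h5, h6⟩
    refine ⟨t, by rw [hN]; exact RGD.T_le_B ht, ⟨Nat.card T, Nat.coprime_two_left.2 hTc, hTodd t ht⟩,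
      hcenG i t ht h5, hfpG j t ht h6⟩
  have hlab : ∀ i j, i ≠ j → M i j = 2 ∨ M i j = 3 ∨ M i j = 4 := by
    intro i j hij
    rcases h.rel i j hij with h5 | h5 | h5 | h5
    · exact Or.inl h5.1
    · exact Or.inr (Or.inl h5.1)
    · exact Or.inr (Or.inr h5.1)
    · exact absurd h5.1 (h6 i j)
  refine
    { isP := R.isPGroup_Upos
      odd := ?_
      le := fun i => by rw [hN]; exact hBP i
      gen := PF.gen
      T_P := fun i γ hγ x hx => (hfixP γ hγ i x).2 hx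
      B_A := by rw [hN]; exact MF.BA
      dich := fun i => ?_
      moved := ?_
      five := fun i => ?_
      ptr := fun i => by rw [hN]; exact PF.ptr i
      reg := fun i => by rw [hN]; exact PF.reg i
      m_two := fun i j hij => ?_
      m_symm := fun i j => M.symmetric i j
      conn := ?_
      poly := fun i j hij => by rw [hN]; exact PF.poly i j hij
      frat := fun i j hij => ?_
      fpf := fun i => ?_
      sep := fun i j hij hh => ?_
      nbr := fun i hi hj => ?_ }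
  · -- odd
    have h5 : U.relIndex (normalizer (U : Set Y)) ∣ U.index := Subgroup.relIndex_dvd_index_of_le le_normalizer
    exact Odd.of_dvd_nat hidx h5
  · by_cases hi : Mv X Γ i
    · exact Or.inr (hmov i hi)
    · exact Or.inl (hunm i hi)
  · obtain ⟨i, hi⟩ := MF.mv
    exact ⟨i, hmov i hi⟩
  · rw [hN, PF.rel i]
    have := MF.four i
    omega
  · rcases hlab i j hij with h5 | h5 | h5 <;> omega
  · intro J hJ hJc
    obtain ⟨a, ha, b, hb, hab⟩ := hc J hJ (fun e => by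
      rw [e, Set.compl_univ] at hJc
      exact Set.not_nonempty_empty hJc)
    refine ⟨a, ha, b, hb, ?_⟩
    have hne' : a ≠ b := fun e => hb (e ▸ ha)
    rcases hlab a b hne' with h5 | h5 | h5 <;> omega
  · rw [hN]
    exact Cfsg.Agent.OmegaEnd.Frat.frat_row R hij (h6 i j) (fun h5 => KT.sep i j hij (Or.inl h5))
  · obtain ⟨t, ht, hf⟩ := KT.own i
    exact ⟨t, by rw [hN]; exact RGD.T_le_B ht.1, ⟨Nat.card T, Nat.coprime_two_left.2 hTc, hTodd t ht.1⟩,
      hfpG i t ht.1 hf⟩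
  · rcases hh with ⟨hi, hj⟩ | ⟨hi, hj⟩
    · obtain ⟨k, hk⟩ := MF.mv
      have hki : k ≠ i := fun e => hunm_of i hi (e ▸ hk)
      have hkj : k ≠ j := fun e => hunm_of j hj (e ▸ hk)
      exact (KT.sep i j hij (Or.inr ⟨k, hki, hkj⟩)).imp (hsepG i j) (hsepG j i)
    · exact absurd (MF.one i j (hmv_of i hi) (hmv_of j hj)) hij
  · have hmi := hmv_of i hi
    obtain ⟨a, ha, k, hk, hM⟩ := hc {i} ⟨i, rfl⟩ (fun e => by
      obtain ⟨j, hj⟩ := h2 i
      have : j ∈ ({i} : Set I) := by rw [e]; trivial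
      exact hj this)
    obtain rfl : a = i := ha
    have hka : a ≠ k := fun e => hk e.symm
    have hkm : ¬ Mv X Γ k := fun h5 => hka (MF.one _ _ hmi h5)
    obtain ⟨t, ht, hf⟩ := KT.fp a k hka hM
    exact ⟨k, hunm k hkm, t, by rw [hN]; exact RGD.T_le_B ht.1, PF.ncl k ht.2, ⟨Nat.card T, hTc, hTodd t ht.1⟩,
      hfpG a t ht.1 hf⟩

end main

end Cfsg.Agent.Omega.Lie.End

end

section


/-!
# The K-side: conjugation by elements of `S` (helper650)

`cG v Γ` : the conjugate of the group `Γ` of automorphisms by the inner automorphism of `v`; for `v ∈ S` it preserves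
`TAct`, `KSys` and `KExc`.
-/

set_option autoImplicit false

namespace Cfsg.Agent.Omega.Lie.End

open Subgroup Cfsg.Agent.ParSys

variable {K : Type*} [Group K]

/-- the conjugate of `Γ` by the inner automorphism of `v` -/
def cG (v : K) (Γ : Subgroup (MulAut K)) : Subgroup (MulAut K) := Γ.map (MulAut.conj (MulAut.conj v)).toMonoidHom

theorem mem_cG {v : K} {Γ : Subgroup (MulAut K)} {δ : MulAut K} :
    δ ∈ cG v Γ ↔ ∃ γ ∈ Γ, MulAut.conj v * γ * (MulAut.conj v)⁻¹ = δ := Iff.rfl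

theorem cG_inv (v : K) (Γ : Subgroup (MulAut K)) : cG v⁻¹ (cG v Γ) = Γ := by
  ext δ
  constructor
  · rintro ⟨_, ⟨γ, hγ, rfl⟩, rfl⟩
    have e : (MulAut.conj (MulAut.conj v⁻¹)).toMonoidHom ((MulAut.conj (MulAut.conj v)).toMonoidHom γ) = γ := by
      show MulAut.conj v⁻¹ * (MulAut.conj v * γ * (MulAut.conj v)⁻¹) * (MulAut.conj v⁻¹)⁻¹ = γ
      rw [map_inv]; group
    rw [e]
    exact hγ
  · intro hδ
    refine ⟨MulAut.conj v * δ * (MulAut.conj v)⁻¹, ⟨δ, hδ, rfl⟩, ?_⟩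
    show MulAut.conj v⁻¹ * (MulAut.conj v * δ * (MulAut.conj v)⁻¹) * (MulAut.conj v⁻¹)⁻¹ = δ
    rw [map_inv]; group

theorem cG_apply (v : K) (γ : MulAut K) (x : K) :
    (MulAut.conj v * γ * (MulAut.conj v)⁻¹) x = v * γ (v⁻¹ * x * v) * v⁻¹ := by
  simp only [MulAut.mul_apply, MulAut.conj_apply, ← map_inv, inv_inv]

theorem cG_comm (v : K) (γ : MulAut K) (x : K) :
    x⁻¹ * (MulAut.conj v * γ * (MulAut.conj v)⁻¹) x = v * ((v⁻¹ * x * v)⁻¹ * γ (v⁻¹ * x * v)) * v⁻¹ := by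
  rw [cG_apply]; group

theorem card_cG (v : K) (Γ : Subgroup (MulAut K)) : Nat.card (cG v Γ) = Nat.card Γ :=
  (Nat.card_congr (Γ.equivMapOfInjective _ (MulAut.conj (MulAut.conj v)).injective).toEquiv).symm

theorem cG_ne_one {v : K} {γ : MulAut K} (hγ : γ ≠ 1) : MulAut.conj v * γ * (MulAut.conj v)⁻¹ ≠ 1 := fun h => by
  apply hγ
  have h1 := congrArg (fun δ => (MulAut.conj v)⁻¹ * δ * MulAut.conj v) h
  simpa [mul_assoc] using h1

theorem AT_cG {S : Subgroup K} {v : K} (hv : v ∈ S) {Γ : Subgroup (MulAut K)} {a : K} (ha : a ∈ AT S (cG v Γ)) :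
    v⁻¹ * a * v ∈ AT S Γ := by
  unfold AT at ha
  induction ha using Subgroup.closure_induction with
  | mem a ha =>
    obtain ⟨_, ⟨γ, hγ, rfl⟩, u, hu, rfl⟩ := ha
    refine subset_closure ⟨γ, hγ, v⁻¹ * u * v, mul_mem (mul_mem (inv_mem hv) hu) hv, ?_⟩
    show v⁻¹ * (u⁻¹ * (MulAut.conj v * γ * (MulAut.conj v)⁻¹) u) * v = _
    rw [cG_comm]; group
  | one => simp
  | mul a b _ _ ha hb =>
    have e : v⁻¹ * (a * b) * v = v⁻¹ * a * v * (v⁻¹ * b * v) := by group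
    rw [e]; exact mul_mem ha hb
  | inv a _ ha =>
    have e : v⁻¹ * a⁻¹ * v = (v⁻¹ * a * v)⁻¹ := by group
    rw [e]; exact inv_mem ha

theorem AT_cG_iff {S : Subgroup K} {v : K} (hv : v ∈ S) {Γ : Subgroup (MulAut K)} {a : K} :
    a ∈ AT S (cG v Γ) ↔ v⁻¹ * a * v ∈ AT S Γ := by
  refine ⟨AT_cG hv, fun h1 => ?_⟩
  rw [← cG_inv v Γ] at h1
  have h2 := AT_cG (inv_mem hv) h1
  have e : v⁻¹⁻¹ * (v⁻¹ * a * v) * v⁻¹ = a := by group
  rwa [e] at h2

theorem TAct.cG {S : Subgroup K} {v : K} (hv : v ∈ S) {Γ : Subgroup (MulAut K)} (hT : TAct S Γ) :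
    TAct S (cG v Γ) where
  comm := by
    rintro _ ⟨s, hs, rfl⟩ _ ⟨t, ht, rfl⟩
    rw [← map_mul, ← map_mul, hT.comm s hs t ht]
  odd := by rw [card_cG]; exact hT.odd
  three := by rw [card_cG]; exact hT.three
  stab := by
    rintro _ ⟨t, ht, rfl⟩ u hu
    show (MulAut.conj v * t * (MulAut.conj v)⁻¹) u ∈ S
    rw [cG_apply]
    exact mul_mem (mul_mem hv (hT.stab t ht _ (mul_mem (mul_mem (inv_mem hv) hu) hv))) (inv_mem hv)
  ab a ha b hb := by
    rw [AT_cG_iff hv] at ha hb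
    have h1 := hT.ab _ ha _ hb
    have h2 := congrArg (fun x => v * x * v⁻¹) h1
    have e1 : v * (v⁻¹ * a * v * (v⁻¹ * b * v)) * v⁻¹ = a * b := by group
    have e2 : v * (v⁻¹ * b * v * (v⁻¹ * a * v)) * v⁻¹ = b * a := by group
    rwa [e1, e2] at h2
  sq a ha := by
    rw [AT_cG_iff hv] at ha
    have h2 := congrArg (fun x => v * x * v⁻¹) (hT.sq _ ha)
    have e1 : v * (v⁻¹ * a * v * (v⁻¹ * a * v)) * v⁻¹ = a * a := by group
    rwa [e1, mul_one, mul_inv_cancel] at h2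
  fpf := by
    rintro _ ⟨t, ht, rfl⟩ ht1 a ha hta
    rw [AT_cG_iff hv] at ha
    have ht' : t ≠ 1 := fun h => ht1 (by rw [h, map_one])
    have h1 : (MulAut.conj v * t * (MulAut.conj v)⁻¹) a = a := hta
    rw [cG_apply] at h1
    have h2 : t (v⁻¹ * a * v) = v⁻¹ * a * v := by
      have h3 := congrArg (fun x => v⁻¹ * x * v) h1
      have e : v⁻¹ * (v * t (v⁻¹ * a * v) * v⁻¹) * v = t (v⁻¹ * a * v) := by group
      rwa [e] at h3
    have h3 := hT.fpf t ht ht' _ ha h2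
    have h4 := congrArg (fun x => v * x * v⁻¹) h3
    have e1 : v * (v⁻¹ * a * v) * v⁻¹ = a := by group
    rwa [e1, mul_one, mul_inv_cancel] at h4
  scal := by
    rintro _ ⟨t, ht, rfl⟩ _ ⟨t', ht', rfl⟩ hne
    obtain ⟨t'', ht'', h1⟩ := hT.scal t ht t' ht' (fun h => hne (by rw [h]))
    refine ⟨_, ⟨t'', ht'', rfl⟩, fun a ha => ?_⟩
    rw [AT_cG_iff hv] at ha
    show (MulAut.conj v * t * (MulAut.conj v)⁻¹) a * (MulAut.conj v * t' * (MulAut.conj v)⁻¹) a =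
      (MulAut.conj v * t'' * (MulAut.conj v)⁻¹) a
    rw [cG_apply, cG_apply, cG_apply, ← h1 _ ha]; group
  ne h := by
    apply hT.ne
    rw [eq_bot_iff]
    intro a ha
    have h1 : v * a * v⁻¹ ∈ AT S (Cfsg.Agent.Omega.Lie.End.cG v Γ) := by
      rw [AT_cG_iff hv]
      have e : v⁻¹ * (v * a * v⁻¹) * v = a := by group
      rwa [e]
    rw [h, mem_bot] at h1
    rw [mem_bot]
    have h4 := congrArg (fun x => v⁻¹ * x * v) h1
    have e1 : v⁻¹ * (v * a * v⁻¹) * v = a := by group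
    rwa [e1, mul_one, inv_mul_cancel] at h4

theorem Unmoved.cG {S P : Subgroup K} {v : K} (hv : v ∈ S) (hP : normalizer (S : Set K) ≤ P)
    {Γ : Subgroup (MulAut K)} (hT : Unmoved S Γ P) : Unmoved S (cG v Γ) P := by
  rintro _ ⟨t, ht, rfl⟩ u hu
  show u⁻¹ * (MulAut.conj v * t * (MulAut.conj v)⁻¹) u ∈ _
  rw [cG_comm]
  exact Qk_conj' (hT t ht _ (mul_mem (mul_mem (inv_mem hv) hu) hv)) (hP (le_normalizer hv))

theorem Moved.cG {S P : Subgroup K} {v : K} (hv : v ∈ S) (hP : normalizer (S : Set K) ≤ P)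
    {Γ : Subgroup (MulAut K)} (hT : Moved S Γ P) : Moved S (cG v Γ) P := by
  rintro _ ⟨t, ht, rfl⟩ ht1 u hu h1
  have hvP := hP (le_normalizer hv)
  have ht' : t ≠ 1 := fun h => ht1 (by rw [h, map_one])
  have h2 : u⁻¹ * (MulAut.conj v * t * (MulAut.conj v)⁻¹) u ∈ Qk (normalizer (S : Set K)) P := h1
  rw [cG_comm] at h2
  have h3 := Qk_conj h2 hvP
  have e : v⁻¹ * (v * ((v⁻¹ * u * v)⁻¹ * t (v⁻¹ * u * v)) * v⁻¹) * v = (v⁻¹ * u * v)⁻¹ * t (v⁻¹ * u * v) := by group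
  rw [e] at h3
  have h4 := Qk_conj' (hT t ht ht' _ (mul_mem (mul_mem (inv_mem hv) hu) hv) h3) hvP
  have e1 : v * (v⁻¹ * u * v) * v⁻¹ = u := by group
  rwa [e1] at h4

theorem Unmoved.of_cG {S P : Subgroup K} {v : K} (hv : v ∈ S) (hP : normalizer (S : Set K) ≤ P)
    {Γ : Subgroup (MulAut K)} (hT : Unmoved S (Cfsg.Agent.Omega.Lie.End.cG v Γ) P) : Unmoved S Γ P := by
  have h1 := hT.cG (inv_mem hv) hP
  rwa [cG_inv] at h1

theorem Moved.of_cG {S P : Subgroup K} {v : K} (hv : v ∈ S) (hP : normalizer (S : Set K) ≤ P)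
    {Γ : Subgroup (MulAut K)} (hT : Moved S (Cfsg.Agent.Omega.Lie.End.cG v Γ) P) : Moved S Γ P := by
  have h1 := hT.cG (inv_mem hv) hP
  rwa [cG_inv] at h1

/-- `KSys` does not change under conjugation of the group of automorphisms by an element of `S`. -/
theorem KSys.of_cG {S : Subgroup K} {v : K} (hv : v ∈ S) {Γ : Subgroup (MulAut K)} {J : Type} {P : J → Subgroup K}
    {m : J → J → ℕ} (h : KSys S (Cfsg.Agent.Omega.Lie.End.cG v Γ) P m) : KSys S Γ P m where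
  isP := h.isP
  odd := h.odd
  le := h.le
  gen := h.gen
  T_P i t ht x hx := by
    have hvP := h.le i (le_normalizer hv)
    have h1 : v * x * v⁻¹ ∈ P i := mul_mem (mul_mem hvP hx) (inv_mem hvP)
    have h2 : (MulAut.conj v * t * (MulAut.conj v)⁻¹) (v * x * v⁻¹) ∈ P i := h.T_P i _ ⟨t, ht, rfl⟩ _ h1
    rw [cG_apply] at h2
    have e : v⁻¹ * (v * x * v⁻¹) * v = x := by group
    rw [e] at h2
    have h3 := mul_mem (mul_mem (inv_mem hvP) h2) hvP
    have e1 : v⁻¹ * (v * t x * v⁻¹) * v = t x := by group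
    rwa [e1] at h3
  B_A b hb a ha := by
    have hvN := le_normalizer hv
    have h1 : v * b * v⁻¹ ∈ normalizer (S : Set K) := mul_mem (mul_mem hvN hb) (inv_mem hvN)
    have h2 : v * a * v⁻¹ ∈ AT S (Cfsg.Agent.Omega.Lie.End.cG v Γ) := by
      rw [AT_cG_iff hv]
      have e : v⁻¹ * (v * a * v⁻¹) * v = a := by group
      rwa [e]
    have h3 := h.B_A _ h1 _ h2
    rw [AT_cG_iff hv] at h3
    have e : v⁻¹ * (v * b * v⁻¹ * (v * a * v⁻¹) * (v * b * v⁻¹)⁻¹) * v = b * a * b⁻¹ := by group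
    rwa [e] at h3
  dich i := (h.dich i).imp (fun h1 => h1.of_cG hv (h.le i)) (fun h1 => h1.of_cG hv (h.le i))
  moved := by
    obtain ⟨i, hi⟩ := h.moved
    exact ⟨i, hi.of_cG hv (h.le i)⟩
  five := h.five
  ptr := h.ptr
  reg := h.reg
  m_two := h.m_two
  m_symm := h.m_symm
  conn := h.conn
  poly := h.poly
  frat := h.frat
  fpf := h.fpf
  sep i j hij h1 := h.sep i j hij (h1.imp (fun h2 => ⟨h2.1.cG hv (h.le i), h2.2.cG hv (h.le j)⟩)
    (fun h2 => ⟨h2.1.cG hv (h.le i), h2.2.cG hv (h.le j)⟩))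
  nbr i hi hj := by
    obtain ⟨k, hk, b, hb⟩ := h.nbr i (hi.cG hv (h.le i)) hj
    exact ⟨k, hk.of_cG hv (h.le k), b, hb⟩

end Cfsg.Agent.Omega.Lie.End

end

section


/-!
# The K-side: conjugation into the frame group (helper650)

`exists_conj_frame` : an abelian group of odd order of automorphisms fixing `U` is conjugate under `U` to a subgroup of the
frame group (automorphisms fixing `U` and `U⁻`).
-/

set_option autoImplicit false

namespace Cfsg.Agent.Omega.Lie.End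

open Subgroup CoxeterSystem Cfsg.Agent.ChevalleyStructure.CoxeterGeom Cfsg.Agent.Tits.Roots Cfsg.Agent.Tits.Core
  Cfsg.Agent.Tits.RootComb Cfsg.Agent.Nodes.Comb Cfsg.Agent.Nodes.Reps Cfsg.Agent.Nodes.BNOf
  Cfsg.Agent.Nodes.Bruhat Cfsg.Agent.Nodes.OppDec
  Cfsg.Agent.KFacts.RgdOpp Cfsg.Agent.KFacts.RgdAut Cfsg.Agent.KFacts.RgdRigid Cfsg.Agent.KFacts.RgdTau
open scoped Pointwise

variable {I W Y : Type*} [Fintype I] [DecidableEq I] [Group W] [Group Y] {M : CoxeterMatrix I}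
  {cs : CoxeterSystem M W} {A : I → I → ℤ} {h : IsCartan M A} {T : Subgroup Y} {n : I → Y}
  {X : (I → ℤ) → Subgroup Y}

theorem exists_conj_frame [Finite W] [Finite Y] (R : RGD cs h 2 T n X) (hG : GG cs h T X = ⊤)
    {Γ : Subgroup (MulAut Y)} (hodd : Odd (Nat.card Γ)) (hcomm : ∀ s ∈ Γ, ∀ t ∈ Γ, s * t = t * s)
    (hfix : ∀ γ ∈ Γ, Fix γ (RGD.Sup X (RGD.Pos cs h))) :
    ∃ v ∈ RGD.Sup X (RGD.Pos cs h), ∀ γ ∈ Γ, MulAut.conj v * γ * (MulAut.conj v)⁻¹ ∈ Frame cs h X := by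
  have : Fact (Nat.Prime 2) := ⟨Nat.prime_two⟩
  have : Finite (MulAut Y) := by
    exact Finite.of_injective (fun e : MulAut Y => (e : Y → Y)) fun a b hab => MulEquiv.ext (congrFun hab)
  set U := RGD.Sup X (RGD.Pos cs h) with hU
  have hUp : IsPGroup 2 U := R.isPGroup_Upos
  obtain ⟨f, hf⟩ := exists_toFrame R hG Γ hfix
  set V : Subgroup (MulAut Y) := U.map MulAut.conj with hV
  have hVp : IsPGroup 2 V := hUp.map _
  have hΓN : Γ ≤ normalizer (V : Set (MulAut Y)) := by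
    intro γ hγ
    rw [Subgroup.mem_normalizer_iff]
    have key : ∀ γ ∈ Γ, ∀ δ ∈ V, γ * δ * γ⁻¹ ∈ V := by
      rintro γ hγ _ ⟨u, hu, rfl⟩
      refine ⟨γ u, (hfix γ hγ u).2 hu, ?_⟩
      ext y
      simp only [MulAut.mul_apply, MulAut.conj_apply, map_mul, map_inv, MulAut.apply_inv_self]
    intro δ
    refine ⟨key γ hγ δ, fun h1 => ?_⟩
    have h2 := key γ⁻¹ (inv_mem hγ) _ h1
    have e : γ⁻¹ * (γ * δ * γ⁻¹) * γ⁻¹⁻¹ = δ := by group
    rwa [e] at h2
  have hcop : (Nat.card Γ).Coprime (Nat.card V) := by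
    obtain ⟨k, hk⟩ := (IsPGroup.iff_card (p := 2)).1 hVp
    rw [hk]
    exact (Nat.Coprime.pow_right k (Nat.coprime_two_right.2 hodd))
  have hinj : Function.Injective f := by
    rw [injective_iff_map_eq_one]
    intro γ hγ
    obtain ⟨u, hu, e⟩ := (hf γ).2.2.2.1.1 hγ
    have h1 : (γ : MulAut Y) ∈ V := ⟨u, hu, e.symm⟩
    have h2 : Disjoint Γ V := Subgroup.disjoint_of_coprime_natCard hcop
    have h3 : (γ : MulAut Y) ∈ Γ ⊓ V := ⟨γ.2, h1⟩
    rw [disjoint_iff.1 h2, Subgroup.mem_bot] at h3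
    exact Subtype.ext h3
  have hcard : Nat.card f.range = Nat.card Γ := (Nat.card_congr (MonoidHom.ofInjective hinj).toEquiv).symm
  have hle : f.range ≤ Γ ⊔ V := by
    rintro _ ⟨γ, rfl⟩
    obtain ⟨u, hu, e⟩ := (hf γ).2.1
    rw [e]
    exact mul_mem (Subgroup.mem_sup_right ⟨u, hu, rfl⟩) (Subgroup.mem_sup_left γ.2)
  have hsol : Group.IsSolvable Γ := Group.isSolvable_of_comm fun a b => Subtype.ext (hcomm a a.2 b b.2)
  obtain ⟨k, hk, hkΓ⟩ := Solvable.Glauberman.exists_conj_of_le_sup Γ V hΓN hcop (Or.inl hsol) f.range hle hcard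
  obtain ⟨v, hv, rfl⟩ := hk
  refine ⟨v, hv, fun γ hγ => ?_⟩
  have h1 : MulAut.conj v * γ * (MulAut.conj v)⁻¹ ∈ MulAut.conj (MulAut.conj v) • Γ := by
    rw [Subgroup.mem_smul_pointwise_iff_exists]
    exact ⟨γ, hγ, rfl⟩
  rw [hkΓ] at h1
  obtain ⟨δ, hδ⟩ := h1
  rw [← hδ]
  exact (hf δ).1

end Cfsg.Agent.Omega.Lie.End

end

section


/-!
# The K-side: the rows of rank `≥ 2` (helper650)

* `MRest`, `MovAll` : helper469's results on the moved nodes;
* `ksys_row` : `KSys` for a group `K` with a root group datum;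
* `row_side` : `KSys` for a perfect central extension of odd degree of a row.
-/

set_option autoImplicit false
set_option linter.unusedSectionVars false

namespace Cfsg.Agent.Omega.Lie.End

open Subgroup CoxeterSystem Cfsg.Agent.ChevalleyStructure.CoxeterGeom Cfsg.Agent.Tits.Roots Cfsg.Agent.Tits.Core
  Cfsg.Agent.Tits.RootComb Cfsg.Agent.Nodes.Comb Cfsg.Agent.Nodes.Reps Cfsg.Agent.Nodes.BNOf
  Cfsg.Agent.Nodes.Bruhat Cfsg.Agent.Nodes.StabComb Cfsg.Agent.Nodes.LeviDec Cfsg.Agent.Nodes.RGDLift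
  Cfsg.Agent.KFacts.RgdAut Cfsg.Agent.KFacts.RgdDiag Cfsg.Agent.KFacts.RgdRigid Cfsg.Agent.KFacts.RgdCharP
  Cfsg.Agent.ParSys Cfsg.Agent.Omega.Lie.End.Mov
open scoped commutatorElement

theorem AA_eq_AT {Y : Type*} [Group Y] (U : Subgroup Y) (Γ : Subgroup (MulAut Y)) : AA U Γ = AT U Γ := by
  unfold AA AT
  congr 1
  ext x
  constructor
  · rintro ⟨s, hs, γ, hγ, e⟩
    exact ⟨γ, hγ, s, hs, e⟩
  · rintro ⟨γ, hγ, s, hs, e⟩
    exact ⟨s, hs, γ, hγ, e⟩

section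

variable {I : Type} {W Y : Type*} [Fintype I] [DecidableEq I] [Group W] [Group Y] {M : CoxeterMatrix I}
  {cs : CoxeterSystem M W} {A : I → I → ℤ} {h : IsCartan M A} {T : Subgroup Y} {n : I → Y}
  {X : (I → ℤ) → Subgroup Y} {Γ : Subgroup (MulAut Y)}

theorem act_of_tact [Finite Y] (hT : TAct (RGD.Sup X (RGD.Pos cs h)) Γ) (hF : ∀ γ ∈ Γ, γ ∈ Frame cs h X) :
    Act cs h X Γ where
  frame := hF
  odd γ hγ := Odd.of_dvd_nat hT.odd (Subgroup.orderOf_dvd_natCard Γ hγ)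
  ab := by rw [AA_eq_AT]; exact hT.ab
  fpf := by rw [AA_eq_AT]; exact hT.fpf
  ne := by rw [AA_eq_AT]; exact hT.ne

/-- The rest of the facts on the moved nodes. -/
structure MRest (cs : CoxeterSystem M W) (h : IsCartan M A) (T : Subgroup Y) (X : (I → ℤ) → Subgroup Y)
    (Γ : Subgroup (MulAut Y)) : Prop where
  four : ∀ i, 4 ≤ Nat.card (X (sr i))
  sq : ∀ i, ∀ x ∈ X (sr i), x * x = 1
  one : ∀ i j, Mv X Γ i → Mv X Γ j → i = j
  conj : ∀ i j, Mv X Γ i → ¬ Mv X Γ j → X (rep cs h (cs.simple j) (sr i)) ≤ AA (RGD.Sup X (RGD.Pos cs h)) Γ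
  BA : (∀ i j, M i j ≠ 6) → ∀ b ∈ RGD.B cs h T X, ∀ a ∈ AA (RGD.Sup X (RGD.Pos cs h)) Γ,
    b * a * b⁻¹ ∈ AA (RGD.Sup X (RGD.Pos cs h)) Γ

/-- **`KSys` for a group with a root group datum**, the group of automorphisms in the frame group. -/
theorem ksys_frame [Finite W] [Finite Y] (R : RGD cs h 2 T n X) (hG1 : RGD.Sup X {x | IsRoot cs h x} = ⊤)
    (hc : Conn M) (h2 : ∀ i : I, ∃ j, j ≠ i) (hidx : Odd (RGD.Sup X (RGD.Pos cs h)).index)
    (hT : TAct (RGD.Sup X (RGD.Pos cs h)) Γ) (hF : ∀ γ ∈ Γ, γ ∈ Frame cs h X) (MR : MRest cs h T X Γ)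
    (KT : (∀ i j, M i j ≠ 6) → (∀ i, 4 ≤ Nat.card (X (sr i))) → (∀ i, ∀ x ∈ X (sr i), x * x = 1) → KTor M T X)
    (h6 : ∀ i j, M i j = 6 → (∀ k, k = i ∨ k = j) ∧ NComm (X (sr i)) (X (rep cs h (cs.simple j) (sr i)))) :
    KSys (RGD.Sup X (RGD.Pos cs h)) Γ (fun i => PJ cs h T X {i}) (fun i j => M i j) := by
  have hA := act_of_tact hT hF
  have hmv := hA.exists_mv R hG1 hc
  have : Nonempty I := ⟨hmv.choose⟩
  -- no `M i j = 6`
  have key : ∀ i j, i ≠ j → Mv X Γ i → M i j = 6 → False := by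
    intro i j hij hi hM
    obtain ⟨-, x, hx, y, hy, hxy⟩ := h6 i j hM
    have hj : ¬ Mv X Γ j := fun hj => hij (MR.one i j hi hj)
    exact hxy (hA.ab x (hA.le_AA R hG1 hc h2 hi hx) y (MR.conj i j hi hj hy))
  have h6' : ∀ i j, M i j ≠ 6 := by
    intro i j hM
    have hij : i ≠ j := by
      rintro rfl
      rw [M.diagonal] at hM
      omega
    obtain ⟨hall, -⟩ := h6 i j hM
    obtain ⟨k, hk⟩ := hmv
    rcases hall k with rfl | rfl
    · exact key _ _ hij hk hM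
    · exact key _ _ hij.symm hk (by rw [M.symmetric]; exact hM)
  refine ksys_of R hG1 hc h6' (pfacts R hG1) (KT h6' MR.four MR.sq) ?_ hidx hT.three h2
  exact
    { fixU := fun γ hγ => (hF γ hγ).1
      diag := fun γ hγ => hA.diag_one R hG1 hc hγ
      fpf := fun i hi γ hγ hγ1 x hx e => hA.fpf_node R hG1 hc h2 hi hγ hγ1 hx e
      mv := hmv
      one := MR.one
      four := MR.four
      BA := by rw [← AA_eq_AT]; exact MR.BA h6' }

theorem eq_top_of_map {K : Type*} [Group K] {f : K →* Y} (hf : f.ker ≤ center K) (hperf : commutator K = ⊤)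
    {H : Subgroup K} (hH : H.map f = ⊤) : H = ⊤ := by
  have h1 : ∀ x : K, ∃ a ∈ H, ∃ z ∈ center K, x = a * z := by
    intro x
    have h2 : f x ∈ H.map f := by rw [hH]; exact mem_top _
    obtain ⟨a, ha, e⟩ := h2
    refine ⟨a, ha, a⁻¹ * x, hf ?_, by group⟩
    rw [MonoidHom.mem_ker, map_mul, map_inv, e, inv_mul_cancel]
  rw [eq_top_iff, ← hperf, commutator_def, Subgroup.commutator_le]
  intro x _ y _
  obtain ⟨a, ha, z, hz, rfl⟩ := h1 x
  obtain ⟨b, hb, w, hw, rfl⟩ := h1 y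
  rw [Subgroup.mem_center_iff] at hz hw
  have e : ⁅a * z, b * w⁆ = ⁅a, b⁆ := by
    rw [commutatorElement_def, commutatorElement_def]
    have hw' : ∀ g : K, g * w⁻¹ = w⁻¹ * g := fun g => by
      have := hw g
      calc g * w⁻¹ = w⁻¹ * (w * g) * w⁻¹ := by group
        _ = w⁻¹ * (g * w) * w⁻¹ := by rw [this]
        _ = w⁻¹ * g := by group
    have hz' : ∀ g : K, g * z⁻¹ = z⁻¹ * g := fun g => by
      have := hz g
      calc g * z⁻¹ = z⁻¹ * (z * g) * z⁻¹ := by group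
        _ = z⁻¹ * (g * z) * z⁻¹ := by rw [this]
        _ = z⁻¹ * g := by group
    calc a * z * (b * w) * (a * z)⁻¹ * (b * w)⁻¹ = a * (z * b) * w * z⁻¹ * a⁻¹ * w⁻¹ * b⁻¹ := by group
      _ = a * (b * z) * w * z⁻¹ * a⁻¹ * w⁻¹ * b⁻¹ := by rw [hz b]
      _ = a * b * (z * w) * z⁻¹ * a⁻¹ * w⁻¹ * b⁻¹ := by group
      _ = a * b * (w * z) * z⁻¹ * a⁻¹ * w⁻¹ * b⁻¹ := by rw [hz w]
      _ = a * b * w * (a⁻¹ * w⁻¹) * b⁻¹ := by group
      _ = a * b * w * (w⁻¹ * a⁻¹) * b⁻¹ := by rw [hw' a⁻¹]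
      _ = a * b * a⁻¹ * b⁻¹ := by group
  rw [e, commutatorElement_def]
  exact mul_mem (mul_mem (mul_mem ha hb) (inv_mem ha)) (inv_mem hb)

end

universe u

/-- helper469's theorem. -/
def MovAll : Prop :=
  ∀ (K : Type u) [Group K] [Finite K] (l : ℕ) (M : CoxeterMatrix (Fin l)) (A : Fin l → Fin l → ℤ) (h : IsCartan M A)
    (T : Subgroup K) (n : Fin l → K) (X : (Fin l → ℤ) → Subgroup K) (Γ : Subgroup (MulAut K)), Finite M.Group →
    RGD M.toCoxeterSystem h 2 T n X → RGD.Sup X {x | IsRoot M.toCoxeterSystem h x} = ⊤ → Conn M →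
    (∀ i : Fin l, ∃ j, j ≠ i) → Act M.toCoxeterSystem h X Γ →
    (∀ a ∈ AA (RGD.Sup X (RGD.Pos M.toCoxeterSystem h)) Γ, a * a = 1) → MRest M.toCoxeterSystem h T X Γ

/-- **The rows of rank `≥ 2`.** -/
theorem row_sideX (hmov : MovAll.{u}) {K : Type u} [Group K] [Finite K] {Y : Type u} [Group Y] [Finite Y] (f : K →* Y)
    (hf : f.ker ≤ center K) (hp : Odd (Nat.card f.ker)) (hs : Function.Surjective f) (hperf : commutator K = ⊤)
    (hr : HasRow Y) (S : Sylow 2 K) {Γ : Subgroup (MulAut K)} (hT : TAct (S : Subgroup K) Γ) :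
    ∃ (J : Type) (_ : Finite J) (P : J → Subgroup K) (m : J → J → ℕ), KSys (S : Subgroup K) Γ P m ∧
      Opp (normalizer ((S : Subgroup K) : Set K)) (S : Subgroup K) P ∧ OneL K J := by
  have : Fact (Nat.Prime 2) := ⟨Nat.prime_two⟩
  obtain ⟨l, M, A, h, T, n, X, hW, R, hG1, hr⟩ := hr
  have : Finite M.Group := hW
  set cs := M.toCoxeterSystem with hcs
  -- `U` is a Sylow subgroup of `Y`
  let Q : Sylow 2 Y :=
    { toSubgroup := RGD.Sup X (RGD.Pos cs h)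
      isPGroup' := R.isPGroup_Upos
      is_maximal' := fun {P} hP hUP => by
        have hG : GG cs h T X = ⊤ := Cfsg.Agent.KFacts.RgdRigid.GG_eq_top hG1
        exact Cfsg.Agent.KFacts.RgdEx.eq_U R hUP (by rw [hG]; exact le_top) hP }
  obtain ⟨g, hg⟩ := MulAction.exists_smul_eq Y (S.mapSurjective hs) Q
  -- adjust `f`
  obtain ⟨f', hf'⟩ : ∃ f' : K →* Y, ∀ x, f' x = g * f x * g⁻¹ :=
    ⟨(MulAut.conj g).toMonoidHom.comp f, fun x => rfl⟩
  have hker : f'.ker = f.ker := by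
    ext x
    rw [MonoidHom.mem_ker, MonoidHom.mem_ker, hf']
    constructor
    · intro e
      have e1 : g⁻¹ * (g * f x * g⁻¹) * g = f x := by group
      rw [← e1, e]; group
    · intro e
      rw [e]; group
  have hf1 : f'.ker ≤ center K := by rw [hker]; exact hf
  have hp1 : (Nat.card f'.ker).Coprime 2 := by rw [hker]; exact Nat.coprime_two_right.2 hp
  have hs1 : Function.Surjective f' := by
    intro y
    obtain ⟨x, hx⟩ := hs (g⁻¹ * y * g)
    exact ⟨x, by rw [hf', hx]; group⟩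
  have hSmap : (S : Subgroup K).map f' = RGD.Sup X (RGD.Pos cs h) := by
    have h1 : ((g • S.mapSurjective hs : Sylow 2 Y) : Subgroup Y) = RGD.Sup X (RGD.Pos cs h) := by
      rw [hg]
    rw [← h1]
    ext y
    constructor
    · rintro ⟨x, hx, rfl⟩
      rw [hf']
      exact ⟨f x, ⟨x, hx, rfl⟩, rfl⟩
    · rintro ⟨_, ⟨x, hx, rfl⟩, rfl⟩
      exact ⟨x, hx, hf' x⟩
  -- the lifted root group datum
  choose n' hn' using fun i => hs1 (n i)
  have R' := rgd_lift hf1 hp1 hs1 R hn'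
  set T' := T.comap f' with hT'
  set X' : (Fin l → ℤ) → Subgroup K := fun x => lft 2 f' (X x) with hX'
  have hU : RGD.Sup X' (RGD.Pos cs h) = (S : Subgroup K) := by
    have h1 : lft 2 f' (RGD.Sup X (RGD.Pos cs h)) = RGD.Sup X' (RGD.Pos cs h) :=
      lft_iSup hf1 hp1 hs1 _ R.isPGroup_Upos
    rw [← h1]
    exact (eq_lft hf1 hp1 R.isPGroup_Upos S.2 hSmap).symm
  have hG1' : RGD.Sup X' {x | IsRoot cs h x} = ⊤ := by
    refine eq_top_of_map hf1 hperf ?_
    rw [eq_top_iff, ← hG1]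
    refine RGD.Sup_le fun x hx => ?_
    rw [← map_lft hf1 hp1 hs1 (R.pgrp' hx)]
    exact Subgroup.map_mono (RGD.le_Sup (X := X') (S := {x | IsRoot cs h x}) hx)
  have h2 : ∀ i : Fin l, ∃ j, j ≠ i := by
    intro i
    obtain ⟨a, b, hab⟩ := hr.two
    by_cases h3 : a = i
    · exact ⟨b, fun e => hab (h3.trans e.symm)⟩
    · exact ⟨a, h3⟩
  -- the action
  rw [← hU] at hT ⊢
  have hidx : Odd (RGD.Sup X' (RGD.Pos cs h)).index := by
    rw [hU]
    have := S.not_dvd_index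
    rwa [← even_iff_two_dvd, Nat.not_even_iff_odd] at this
  have hGG : GG cs h T' X' = ⊤ := Cfsg.Agent.KFacts.RgdRigid.GG_eq_top hG1'
  obtain ⟨v, hv, hvF⟩ := exists_conj_frame R' hGG hT.odd hT.comm (fun γ hγ x => by
    refine ⟨fun h3 => ?_, hT.stab γ hγ x⟩
    have h4 := hT.stab γ⁻¹ (inv_mem hγ) _ h3
    rwa [MulAut.inv_apply_self] at h4)
  have hT1 := hT.cG hv
  have hF : ∀ γ ∈ cG v Γ, γ ∈ Frame cs h X' := by
    rintro _ ⟨γ, hγ, rfl⟩
    exact hvF γ hγ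
  have MR := hmov K l M A h T' n' X' (cG v Γ) hW R' hG1' hr.conn h2 (act_of_tact hT1 hF)
    (by rw [AA_eq_AT]; exact hT1.sq)
  have hks : KSys (RGD.Sup X' (RGD.Pos cs h)) (cG v Γ) (fun i => PJ cs h T' X' {i}) (fun i j => M i j) := by
    refine ksys_frame R' hG1' hr.conn h2 hidx hT1 hF MR (fun h6 big ex => ?_) (fun i j hM => ?_)
    · refine KTor.lift hf1 hp1 hs1 R (hr.kTor R h6 (fun k => ?_) (fun k => ?_))
      · rw [← card_lft hf1 hp1 hs1 (R.pgrp k)]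
        exact big k
      · exact sq_of_lft hf1 hp1 hs1 (R.pgrp k) (ex k)
    · obtain ⟨h7, h8⟩ := hr.six i j hM
      exact ⟨h7, h8.lift hf1 hp1 hs1 (R.pgrp i) (R.pgrp' ((isRoot_sr cs h i).act _))⟩
  refine ⟨Fin l, inferInstance, _, _, KSys.of_cG hv hks, ?_, fun hone => ?_⟩
  · rw [normalizer_U' R' hGG]
    exact Opp.of_rgd R' hGG
  · obtain ⟨a, b, hab⟩ := hr.two
    exact absurd (hone a b) hab

theorem row_side (hmov : MovAll.{u}) {K : Type u} [Group K] [Finite K] {Y : Type u} [Group Y] [Finite Y] (f : K →* Y)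
    (hf : f.ker ≤ center K) (hp : Odd (Nat.card f.ker)) (hs : Function.Surjective f) (hperf : commutator K = ⊤)
    (hr : HasRow Y) (S : Sylow 2 K) {Γ : Subgroup (MulAut K)} (hT : TAct (S : Subgroup K) Γ) :
    ∃ (J : Type) (_ : Finite J) (P : J → Subgroup K) (m : J → J → ℕ), KSys (S : Subgroup K) Γ P m := by
  obtain ⟨J, hJ, P, m, h1, -, -⟩ := row_sideX hmov f hf hp hs hperf hr S hT
  exact ⟨J, hJ, P, m, h1⟩

end Cfsg.Agent.Omega.Lie.End

end

section


/-!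
# The facts on the moved nodes in the form `MRest` of `KFin`
-/

set_option autoImplicit false
set_option linter.unusedSectionVars false

namespace Cfsg.Agent.Omega.Lie.End

open CoxeterSystem Cfsg.Agent.ChevalleyStructure.CoxeterGeom Cfsg.Agent.Tits.Roots Cfsg.Agent.Tits.Core
  Cfsg.Agent.Tits.RootComb Cfsg.Agent.Tits.Exchange Cfsg.Agent.Nodes.Comb Cfsg.Agent.Nodes.Reps Cfsg.Agent.Nodes.BNOf
  Cfsg.Agent.Nodes.StabComb Cfsg.Agent.KFacts.RgdCharP Cfsg.Agent.Omega.Lie.End.Mov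

variable {I : Type} {W Y : Type*} [Fintype I] [DecidableEq I] [Group W] [Group Y] {M : CoxeterMatrix I}
  {cs : CoxeterSystem M W} {A : I → I → ℤ} {h : IsCartan M A} {T : Subgroup Y} {n : I → Y}
  {X : (I → ℤ) → Subgroup Y} {Γ : Subgroup (MulAut Y)}

/-- **The facts on the moved nodes.** -/
theorem mrest [Finite W] [Finite Y] (R : RGD cs h 2 T n X) (hG1 : RGD.Sup X {x | IsRoot cs h x} = ⊤)
    (hc : Conn M) (h2 : ∀ i : I, ∃ j, j ≠ i) (H : Act cs h X Γ)
    (hsq : ∀ a ∈ AA (RGD.Sup X (RGD.Pos cs h)) Γ, a * a = 1) : MRest cs h T X Γ where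
  four i := H.four R hG1 hc rfl h2 i
  sq _ _ hx := H.el R hG1 hc h2 hsq hx
  one _ _ hi hj := H.one R hG1 hc h2 hi hj
  conj i j hi hj := H.conj_le R hG1 hc h2 hi (w := cs.simple j) (simple_mem_WJ cs (show j ∈ Un X Γ from hj))
  BA h6 _ hb _ ha := H.B_AA R hG1 hc h2 h6 hb ha

universe u

/-- **helper650's `MovAll`.** -/
theorem movAll : MovAll.{u} := by
  intro K _ _ l M A h T n X Γ hW R hG1 hc h2 H hsq
  have : Finite M.Group := hW
  exact mrest R hG1 hc h2 H hsq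

end Cfsg.Agent.Omega.Lie.End

end

section


/-!
# Transport of rows along isomorphisms
-/

set_option autoImplicit false
set_option linter.unusedSectionVars false

namespace Cfsg.Agent.Omega.Lie.End

open Subgroup CoxeterSystem Cfsg.Agent.ChevalleyStructure.CoxeterGeom Cfsg.Agent.Tits.Roots Cfsg.Agent.Tits.Core
  Cfsg.Agent.Tits.RootComb Cfsg.Agent.Nodes.Comb Cfsg.Agent.Nodes.Reps Cfsg.Agent.Nodes.BNOf
  Cfsg.Agent.KFacts.RgdCharP

variable {I W Y Z : Type*} [Fintype I] [DecidableEq I] [Group W] [Group Y] [Group Z] {M : CoxeterMatrix I}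
  {A : I → I → ℤ}

section map

variable {T : Subgroup Y} {n : I → Y} {X : (I → ℤ) → Subgroup Y} {f : Y →* Z}

theorem TrNode.map (hf : Function.Injective f) {i : I} (H : KTorus.TrNode T n X i) :
    KTorus.TrNode (T.map f) (fun i => f (n i)) (fun x => (X x).map f) i where
  two := by
    obtain ⟨x, hx, y, hy, h1, h2, h3⟩ := H.two
    exact ⟨f x, mem_map_of_mem f hx, f y, mem_map_of_mem f hy, fun e => h1 (hf (by rw [e, map_one])),
      fun e => h2 (hf (by rw [e, map_one])), fun e => h3 (hf e)⟩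
  sq := by
    rintro _ ⟨x, hx, rfl⟩
    rw [← map_mul, H.sq x hx, map_one]
  tr := by
    rintro _ ⟨x, hx, rfl⟩ _ ⟨y, hy, rfl⟩ h1 h2
    obtain ⟨t, ⟨ht1, ht2, ht3⟩, e⟩ := H.tr x hx y hy (fun e => h1 (by rw [e, map_one])) (fun e => h2 (by rw [e, map_one]))
    refine ⟨f t, ⟨mem_map_of_mem f ht1, ?_, ?_⟩, ?_⟩
    · show f t ∈ (X (sr i)).map f ⊔ (X (-sr i)).map f
      rw [← Subgroup.map_sup]
      exact mem_map_of_mem f ht2
    · rw [← map_mul, ← map_inv, ← map_inv, ← map_mul, ht3]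
    · rw [← map_mul, ← map_inv, ← map_mul, e]

theorem SpOn.map (hf : Function.Injective f) {H P Q : Subgroup Y} (h : SpOn H P Q) : SpOn (H.map f) (P.map f) (Q.map f) := by
  obtain ⟨t, ht, h1, h2⟩ := h
  refine ⟨f t, mem_map_of_mem f ht, ?_, ?_⟩
  · rintro _ ⟨x, hx, rfl⟩
    rw [← map_mul, ← map_inv, ← map_mul, h1 x hx]
  · rintro _ ⟨x, hx, rfl⟩ e
    rw [← map_mul, ← map_inv, ← map_mul] at e
    rw [h2 x hx (hf e), map_one]

theorem NComm.map (hf : Function.Injective f) {P Q : Subgroup Y} (h : NComm P Q) : NComm (P.map f) (Q.map f) := by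
  obtain ⟨x, hx, y, hy, h1⟩ := h
  exact ⟨f x, mem_map_of_mem f hx, f y, mem_map_of_mem f hy, fun e => h1 (hf (by rw [map_mul, map_mul]; exact e))⟩

theorem KRow.map (hf : Function.Injective f) {cs : CoxeterSystem M W} {h : IsCartan M A} (H : KRow cs h T n X) :
    KRow cs h (T.map f) (fun i => f (n i)) (fun x => (X x).map f) := by
  have hc : ∀ P : Subgroup Y, Nat.card (P.map f) = Nat.card P := fun P =>
    Nat.card_congr (P.equivMapOfInjective f hf).toEquiv.symm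
  have h1 : (∀ k, 4 ≤ Nat.card ((X (sr k)).map f)) → ∀ k, 4 ≤ Nat.card (X (sr k)) := fun h k => by
    rw [← hc]; exact h k
  have h2 : (∀ k, ∀ x ∈ (X (sr k)).map f, x * x = 1) → ∀ k, ∀ x ∈ X (sr k), x * x = 1 := fun h k x hx =>
    hf (by rw [map_mul, map_one]; exact h k _ (mem_map_of_mem f hx))
  refine ⟨H.two, H.conn, ?_, fun e1 e2 i => TrNode.map hf (H.tr (h1 e1) (h2 e2) i),
    fun e1 e2 i j e3 e4 => (H.sp2 (h1 e1) (h2 e2) i j e3 e4).imp (SpOn.map hf) (SpOn.map hf), fun i j e =>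
      ⟨(H.six i j e).1, NComm.map hf (H.six i j e).2⟩⟩
  rintro _ ⟨s, hs, rfl⟩ _ ⟨t, ht, rfl⟩
  rw [← map_mul, H.ab s hs t ht, map_mul]

end map

/-- **Rows along isomorphisms.** -/
theorem HasRow.of_equiv (e : Y ≃* Z) (hY : HasRow Y) : HasRow Z := by
  obtain ⟨l, M, A, h, T, n, X, hW, R, hX, H⟩ := hY
  refine ⟨l, M, A, h, T.map e.toMonoidHom, fun i => e.toMonoidHom (n i), fun x => (X x).map e.toMonoidHom, hW,
    Cfsg.Agent.Nodes.RGDLib.rgd_map_of_injective R e.toMonoidHom e.injective, ?_, H.map e.injective⟩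
  have h1 : (RGD.Sup X {x | IsRoot M.toCoxeterSystem h x}).map e.toMonoidHom =
      RGD.Sup (fun x => (X x).map e.toMonoidHom) {x | IsRoot M.toCoxeterSystem h x} := by
    unfold RGD.Sup
    rw [Subgroup.map_iSup]
  rw [← h1, hX, Subgroup.map_top_of_surjective _ e.surjective]

/-- Connectedness of an explicit diagram. -/
theorem conn_of_bool {l : ℕ} {M : CoxeterMatrix (Fin l)}
    (h : ∀ f : Fin l → Bool, (∃ a, f a = true) → (∃ a, f a = false) →
      ∃ a, f a = true ∧ ∃ b, f b = false ∧ M a b ≠ 2) : Conn M := by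
  classical
  intro J h1 h2
  obtain ⟨b, hb⟩ := (Set.ne_univ_iff_exists_notMem J).1 h2
  obtain ⟨a, ha, b, hb, hab⟩ := h (fun k => decide (k ∈ J)) ⟨h1.choose, decide_eq_true h1.choose_spec⟩
    ⟨b, decide_eq_false hb⟩
  exact ⟨a, of_decide_eq_true ha, b, of_decide_eq_false hb, hab⟩

end Cfsg.Agent.Omega.Lie.End

end

section


/-!
# `TrNode` from a field parametrisation of the root group

`TrNode.of_field` : `x : F → Y` additive onto `X_i`, injective, `n x(a) n ∈ x(κ / a) n B`.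
-/

set_option autoImplicit false
set_option linter.unusedSectionVars false

namespace Cfsg.Agent.Omega.Lie.End.KNode

open CoxeterSystem Cfsg.Agent.ChevalleyStructure.CoxeterGeom Cfsg.Agent.Tits.Roots Cfsg.Agent.Tits.Core
  Cfsg.Agent.Tits.RootComb Cfsg.Agent.Nodes.Comb Cfsg.Agent.Nodes.Reps Cfsg.Agent.Nodes.BNOf Cfsg.Agent.Nodes.BNOf.RGD
  Cfsg.Agent.Nodes.FreeTorus Cfsg.Agent.Omega.Lie.End.KTorus

variable {I W Y : Type*} [Fintype I] [DecidableEq I] [Group W] [Group Y] {M : CoxeterMatrix I}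
  {cs : CoxeterSystem M W} {A : I → I → ℤ} {h : IsCartan M A} {T : Subgroup Y} {n : I → Y}
  {X : (I → ℤ) → Subgroup Y} [Finite W]

section

variable (R : RGD cs h 2 T n X) (i : I) {F : Type*} [Field F] (x : F → Y) (κ : F)
  (add : ∀ a b, x (a + b) = x a * x b) (range : ∀ y, y ∈ X (sr i) ↔ ∃ a, x a = y)
  (inj : ∀ a, x a = 1 → a = 0) (hκ : κ ≠ 0)
  (hinv : ∀ a, a ≠ 0 → (x (κ * a⁻¹) * n i)⁻¹ * (n i * x a * n i) ∈ RGD.B cs h T X)

/-- `g` maps the base point of the panel to the point `a`. -/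
def Pt (B : Subgroup Y) (n0 : Y) (x : F → Y) (g : Y) (a : F) : Prop := (x a * n0)⁻¹ * g ∈ B

omit [Finite W] [Group W] [Fintype I] [DecidableEq I] in
include add in
theorem x_zero : x 0 = 1 := by
  have h1 := add 0 0
  rw [add_zero] at h1
  exact (left_eq_mul.1 h1)

include R add range inj in
theorem two_eq : (2 : F) = 0 := by
  obtain ⟨k, hk⟩ := R.pgrp i ⟨x 1, (range _).2 ⟨1, rfl⟩⟩
  have h1 : x 1 ^ 2 ^ k = 1 := congrArg Subtype.val hk
  have h2 : ∀ m : ℕ, x (m : F) = x 1 ^ m := by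
    intro m
    induction m with
    | zero => rw [Nat.cast_zero, pow_zero, x_zero x add]
    | succ m ih => rw [Nat.cast_succ, pow_succ, add, ih]
  have h3 := inj _ ((h2 (2 ^ k)).trans h1)
  rw [Nat.cast_pow] at h3
  have hk0 : k ≠ 0 := by
    rintro rfl
    rw [pow_zero] at h3
    exact one_ne_zero h3
  exact_mod_cast (pow_eq_zero_iff hk0).1 h3

include R add range inj in
theorem add_self (a : F) : a + a = 0 := by
  rw [← two_mul, two_eq R i x add range inj, zero_mul]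

include R range in
theorem x_mem_B (a : F) : x a ∈ RGD.B cs h T X := X_le_B (isRoot_sr cs h i) (sr_nonneg i) ((range _).2 ⟨a, rfl⟩)

include R in
theorem n_not_mem : n i ∉ RGD.B cs h T X := ParSys.Fam.not_mem_B_of_mul R i ⟨1, one_mem _, (one_mul _).symm⟩

include R in
theorem nn_mem : n i * n i ∈ T := R.sq_mem_T i

include R add range inj in
theorem pt_unique {g : Y} {a b : F} (ha : Pt (RGD.B cs h T X) (n i) x g a) (hb : Pt (RGD.B cs h T X) (n i) x g b) :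
    a = b := by
  have h1 : (n i)⁻¹ * ((x a)⁻¹ * x b) * n i ∈ RGD.B cs h T X := by
    have h2 := mul_mem ha (inv_mem hb)
    have e : (x a * n i)⁻¹ * g * ((x b * n i)⁻¹ * g)⁻¹ = (n i)⁻¹ * ((x a)⁻¹ * x b) * n i := by group
    rwa [e] at h2
  have h3 : (x a)⁻¹ * x b = x (b - a) := by
    rw [inv_mul_eq_iff_eq_mul, ← add]
    congr 1; ring
  rw [h3] at h1
  have h4 : (n i)⁻¹ * x (b - a) * n i ∈ X (-sr i) := by
    have := R.conj_mem' (rp_simple cs R.nsys i) (isRoot_sr cs h i) ((range _).2 ⟨b - a, rfl⟩)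
    rwa [inv_simple, rep_simple_sr] at this
  have h5 := ParSys.Fam.neg_inf_B R i _ h4 h1
  have h6 : x (b - a) = 1 := by
    have e : x (b - a) = n i * ((n i)⁻¹ * x (b - a) * n i) * (n i)⁻¹ := by group
    rw [e, h5]; group
  exact (sub_eq_zero.1 (inj _ h6)).symm

include add in
theorem pt_x {B : Subgroup Y} {n0 g : Y} {a : F} (c : F) (ha : Pt B n0 x g a) : Pt B n0 x (x c * g) (c + a) := by
  unfold Pt at *
  have e : (x (c + a) * n0)⁻¹ * (x c * g) = (x a * n0)⁻¹ * g := by rw [add]; group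
  rwa [e]

include hinv in
theorem pt_n {g : Y} {a : F} (ha0 : a ≠ 0) (ha : Pt (RGD.B cs h T X) (n i) x g a) :
    Pt (RGD.B cs h T X) (n i) x (n i * g) (κ * a⁻¹) := by
  unfold Pt at *
  have h1 := mul_mem (hinv a ha0) ha
  have e : (x (κ * a⁻¹) * n i)⁻¹ * (n i * x a * n i) * ((x a * n i)⁻¹ * g) = (x (κ * a⁻¹) * n i)⁻¹ * (n i * g) := by
    group
  rwa [e] at h1

include R add in
theorem pt_n_zero {g : Y} (ha : Pt (RGD.B cs h T X) (n i) x g 0) : n i * g ∈ RGD.B cs h T X := by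
  unfold Pt at ha
  rw [x_zero x add, one_mul] at ha
  have e : n i * g = n i * n i * ((n i)⁻¹ * g) := by group
  rw [e]
  exact mul_mem (T_le_B (nn_mem R i)) ha

include add in
theorem pt_n_inf {g : Y} (hg : g ∈ RGD.B cs h T X) : Pt (RGD.B cs h T X) (n i) x (n i * g) 0 := by
  unfold Pt
  have e : (x 0 * n i)⁻¹ * (n i * g) = g := by rw [x_zero x add]; group
  rwa [e]

/-- The Weyl element of `a`. -/
def wa (n0 : Y) (x : F → Y) (κ a : F) : Y := x a * n0 * x (κ * a⁻¹) * n0 * x a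

include R add range inj hκ hinv in
/-- **(S1)** -/
theorem wa_eq {a : F} (ha : a ≠ 0) : ∃ s ∈ T, wa (n i) x κ a = s * n i := by
  have h2 := add_self R i x add range inj
  have ha' : κ * a⁻¹ ≠ 0 := mul_ne_zero hκ (inv_ne_zero ha)
  have hka : κ * (κ * a⁻¹)⁻¹ = a := by field_simp
  have hu : (n i)⁻¹ * x (κ * a⁻¹) * n i ∈ X (-sr i) := by
    have := R.conj_mem' (rp_simple cs R.nsys i) (isRoot_sr cs h i) ((range _).2 ⟨κ * a⁻¹, rfl⟩)
    rwa [inv_simple, rep_simple_sr] at this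
  have hu1 : (n i)⁻¹ * x (κ * a⁻¹) * n i ≠ 1 := by
    intro h0
    apply ha'
    apply inj
    have e : x (κ * a⁻¹) = n i * ((n i)⁻¹ * x (κ * a⁻¹) * n i) * (n i)⁻¹ := by group
    rw [e, h0]; group
  obtain ⟨y, hy, t, ht, z, hz, e⟩ := R.rk1 i _ hu hu1
  obtain ⟨d, rfl⟩ := (range z).1 hz
  have hnn := nn_mem R i
  have hy' : n i * n i * y * (n i * n i)⁻¹ ∈ X (sr i) := by
    have h1 := R.tor _ (isRoot_sr cs h i) _ hnn
    rw [← h1]
    exact conj_mem_cj.2 hy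
  obtain ⟨c, hc⟩ := (range _).1 hy'
  have e1 : n i * x (κ * a⁻¹) * n i = x c * (n i * n i * t) * n i * x d := by
    rw [hc]
    have : n i * x (κ * a⁻¹) * n i = n i * n i * ((n i)⁻¹ * x (κ * a⁻¹) * n i) := by group
    rw [this, e]; group
  have hsT : n i * n i * t ∈ T := mul_mem hnn ht
  have hcB : Pt (RGD.B cs h T X) (n i) x (n i * x (κ * a⁻¹) * n i) c := by
    unfold Pt
    rw [e1]
    have e2 : (x c * n i)⁻¹ * (x c * (n i * n i * t) * n i * x d) = ((n i)⁻¹ * (n i * n i * t) * n i) * x d := by group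
    rw [e2]
    refine mul_mem (T_le_B ?_) (x_mem_B R i x range d)
    have h3 := R.nsys.norm i
    rw [Subgroup.mem_normalizer_iff''] at h3
    exact (h3 _).1 hsT
  have hca : c = a := by
    have h3 : Pt (RGD.B cs h T X) (n i) x (n i * x (κ * a⁻¹) * n i) (κ * (κ * a⁻¹)⁻¹) := hinv _ ha'
    rw [hka] at h3
    exact pt_unique R i x add range inj hcB h3
  subst hca
  have e3 : wa (n i) x κ c = (n i * n i * t) * n i * x (d + c) := by
    have e4 : wa (n i) x κ c = x c * (n i * x (κ * c⁻¹) * n i) * x c := by unfold wa; group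
    have e5 : x c * x c = 1 := by rw [← add, h2, x_zero x add]
    rw [e4, e1, add]
    calc x c * (x c * (n i * n i * t) * n i * x d) * x c = (x c * x c) * (n i * n i * t) * n i * (x d * x c) := by group
      _ = (n i * n i * t) * n i * (x d * x c) := by rw [e5, one_mul]
  -- `w n ∈ B`
  have h6 : wa (n i) x κ c * n i ∈ RGD.B cs h T X := by
    have p1 : Pt (RGD.B cs h T X) (n i) x (n i * (x c * n i)) (κ * c⁻¹) := by
      unfold Pt
      have := hinv c ha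
      rwa [mul_assoc (n i)] at this
    have p2 := pt_x x add (κ * c⁻¹) p1
    rw [h2] at p2
    have p3 := mul_mem (x_mem_B R i x range c) (pt_n_zero R i x add p2)
    have e6 : wa (n i) x κ c * n i = x c * (n i * (x (κ * c⁻¹) * (n i * (x c * n i)))) := by unfold wa; group
    rw [e6]
    exact p3
  have h7 : d + c = 0 := by
    by_contra hne
    rw [e3] at h6
    have h8 : n i * x (d + c) * n i ∈ RGD.B cs h T X := by
      have := mul_mem (inv_mem (T_le_B hsT)) h6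
      have e7 : (n i * n i * t)⁻¹ * (n i * n i * t * n i * x (d + c) * n i) = n i * x (d + c) * n i := by group
      rwa [e7] at this
    have h9 := mul_mem (hinv _ hne) (inv_mem h8)
    have e8 : (x (κ * (d + c)⁻¹) * n i)⁻¹ * (n i * x (d + c) * n i) * (n i * x (d + c) * n i)⁻¹ =
        (n i)⁻¹ * (x (κ * (d + c)⁻¹))⁻¹ := by group
    rw [e8] at h9
    have h10 := mul_mem h9 (x_mem_B R i x range (κ * (d + c)⁻¹))
    rw [inv_mul_cancel_right] at h10
    exact n_not_mem R i ((inv_mem_iff).1 h10)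
  exact ⟨n i * n i * t, hsT, by rw [e3, h7, x_zero x add, mul_one]⟩

include R add range inj hκ hinv in
/-- **(S2)** the action on the panel. -/
theorem wa_pt {a e : F} (ha : a ≠ 0) (he : e ≠ 0) :
    Pt (RGD.B cs h T X) (n i) x (wa (n i) x κ a * (x e * n i)) (a * a * e⁻¹) := by
  have h2 := add_self R i x add range inj
  have p0 : Pt (RGD.B cs h T X) (n i) x (x e * n i) e := by
    unfold Pt
    rw [inv_mul_cancel]
    exact one_mem _
  have e0 : wa (n i) x κ a * (x e * n i) = x a * (n i * (x (κ * a⁻¹) * (n i * (x a * (x e * n i))))) := by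
    unfold wa; group
  rw [e0]
  have p1 := pt_x x add a p0
  by_cases hae : a + e = 0
  · have hea : e = a := by
      have h3 := h2 a
      rw [← hae] at h3
      exact (add_left_cancel h3).symm
    subst hea
    rw [h2] at p1
    have p2 := pt_n_zero R i x add p1
    have p3 := mul_mem (x_mem_B R i x range (κ * e⁻¹)) p2
    have p4 := pt_x x add e (pt_n_inf (cs := cs) (h := h) (T := T) (X := X) (n := n) i x add p3)
    rw [add_zero] at p4
    rwa [mul_assoc, mul_inv_cancel₀ ha, mul_one]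
  · have p2 := pt_n i x κ hinv hae p1
    have p3 := pt_x x add (κ * a⁻¹) p2
    have e1 : κ * a⁻¹ + κ * (a + e)⁻¹ = κ * e * (a⁻¹ * (a + e)⁻¹) := by
      have e3 : κ * a⁻¹ + κ * (a + e)⁻¹ = κ * (a + e + a) * (a⁻¹ * (a + e)⁻¹) := by field_simp
      have e4 : a + e + a = e := by linear_combination h2 a
      rw [e3, e4]
    rw [e1] at p3
    have hne : κ * e * (a⁻¹ * (a + e)⁻¹) ≠ 0 :=
      mul_ne_zero (mul_ne_zero hκ he) (mul_ne_zero (inv_ne_zero ha) (inv_ne_zero hae))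
    have p4 := pt_x x add a (pt_n i x κ hinv hne p3)
    have e2 : a + κ * (κ * e * (a⁻¹ * (a + e)⁻¹))⁻¹ = a * a * e⁻¹ := by
      have e3 : a + κ * (κ * e * (a⁻¹ * (a + e)⁻¹))⁻¹ = (a * e + a * (a + e)) * e⁻¹ := by field_simp
      have e4 : a * e + a * (a + e) = a * a := by linear_combination e * h2 a
      rw [e3, e4]
    rwa [e2] at p4

include R add range inj hκ hinv in
/-- **(S3)** -/
theorem s_conj {a f : F} (ha : a ≠ 0) {s : Y} (hs : s ∈ T) (hw : wa (n i) x κ a = s * n i) :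
    s * x f * s⁻¹ = x (a * a * κ⁻¹ * f) := by
  by_cases hf : f = 0
  · rw [hf, mul_zero, x_zero x add]; group
  have he : κ * f⁻¹ ≠ 0 := mul_ne_zero hκ (inv_ne_zero hf)
  have h1 := wa_pt R i x κ add range inj hκ hinv ha he
  have hm : s * x f * s⁻¹ ∈ X (sr i) := by
    have h1 := R.tor _ (isRoot_sr cs h i) s hs
    rw [← h1]
    exact conj_mem_cj.2 ((range _).2 ⟨f, rfl⟩)
  obtain ⟨f', hf'⟩ := (range _).1 hm
  rw [← hf']
  congr 1
  have h3 : Pt (RGD.B cs h T X) (n i) x (wa (n i) x κ a * (x (κ * f⁻¹) * n i)) f' := by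
    have h4 : Pt (RGD.B cs h T X) (n i) x (n i * (x (κ * f⁻¹) * n i)) (κ * (κ * f⁻¹)⁻¹) := by
      unfold Pt
      have := hinv _ he
      rwa [mul_assoc (n i)] at this
    have e1 : κ * (κ * f⁻¹)⁻¹ = f := by field_simp
    rw [e1] at h4
    unfold Pt at h4 ⊢
    have h5 : (n i)⁻¹ * s * n i ∈ RGD.B cs h T X := by
      have h3 := R.nsys.norm i
      rw [Subgroup.mem_normalizer_iff''] at h3
      exact T_le_B ((h3 _).1 hs)
    have h6 := mul_mem h5 h4
    have e2 : (n i)⁻¹ * s * n i * ((x f * n i)⁻¹ * (n i * (x (κ * f⁻¹) * n i))) =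
        (x f' * n i)⁻¹ * (wa (n i) x κ a * (x (κ * f⁻¹) * n i)) := by
      rw [hf', hw]; group
    rwa [e2] at h6
  have h7 := pt_unique R i x add range inj h3 h1
  rw [h7]
  field_simp

include R add range inj hκ hinv in
/-- **(S4)** `n²` centralises `X_i`. -/
theorem nn_conj (f : F) : n i * n i * x f * (n i * n i)⁻¹ = x f := by
  have hnn := nn_mem R i
  by_cases hf : f = 0
  · rw [hf, x_zero x add]; group
  have hm : n i * n i * x f * (n i * n i)⁻¹ ∈ X (sr i) := by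
    have h1 := R.tor _ (isRoot_sr cs h i) _ hnn
    rw [← h1]
    exact conj_mem_cj.2 ((range _).2 ⟨f, rfl⟩)
  obtain ⟨f', hf'⟩ := (range _).1 hm
  rw [← hf']
  congr 1
  have he : κ * f⁻¹ ≠ 0 := mul_ne_zero hκ (inv_ne_zero hf)
  have p0 : Pt (RGD.B cs h T X) (n i) x (x f * n i) f := by
    unfold Pt
    rw [inv_mul_cancel]
    exact one_mem _
  have p1 := pt_n i x κ hinv he (pt_n i x κ hinv hf p0)
  have e1 : κ * (κ * f⁻¹)⁻¹ = f := by field_simp
  rw [e1] at p1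
  have p2 : Pt (RGD.B cs h T X) (n i) x (n i * (n i * (x f * n i))) f' := by
    unfold Pt
    have e2 : (x f' * n i)⁻¹ * (n i * (n i * (x f * n i))) = n i * n i := by rw [hf']; group
    rw [e2]
    exact T_le_B hnn
  exact pt_unique R i x add range inj p2 p1

include R add range inj hκ hinv in
/-- **(S5)** -/
theorem s_inv {a : F} (ha : a ≠ 0) {s : Y} (hw : wa (n i) x κ a = s * n i) :
    n i * s * (n i)⁻¹ = n i * n i * s⁻¹ := by
  have h2 := add_self R i x add range inj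
  have hxi : ∀ c, (x c)⁻¹ = x c := fun c => inv_eq_of_mul_eq_one_left (by rw [← add, h2, x_zero x add])
  have hc : ∀ c, (n i * n i)⁻¹ * x c = x c * (n i * n i)⁻¹ := by
    intro c
    have h3 := nn_conj R i x κ add range inj hκ hinv c
    have h4 : n i * n i * x c = x c * (n i * n i) := mul_inv_eq_iff_eq_mul.1 h3
    calc (n i * n i)⁻¹ * x c = (n i * n i)⁻¹ * (x c * (n i * n i)) * (n i * n i)⁻¹ := by group
      _ = (n i * n i)⁻¹ * (n i * n i * x c) * (n i * n i)⁻¹ := by rw [h4]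
      _ = x c * (n i * n i)⁻¹ := by group
  have h5 : (wa (n i) x κ a)⁻¹ = (n i * n i)⁻¹ * wa (n i) x κ a * (n i * n i)⁻¹ := by
    have e1 : (wa (n i) x κ a)⁻¹ = (x a)⁻¹ * (n i)⁻¹ * (x (κ * a⁻¹))⁻¹ * (n i)⁻¹ * (x a)⁻¹ := by unfold wa; group
    have e2 : (n i * n i)⁻¹ * wa (n i) x κ a * (n i * n i)⁻¹ =
        ((n i * n i)⁻¹ * x a) * n i * x (κ * a⁻¹) * n i * (x a * (n i * n i)⁻¹) := by unfold wa; group
    rw [e1, e2, hxi, hxi]
    calc x a * (n i)⁻¹ * x (κ * a⁻¹) * (n i)⁻¹ * x a =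
        (x a * (n i * n i)⁻¹) * n i * x (κ * a⁻¹) * n i * ((n i * n i)⁻¹ * x a) := by group
      _ = ((n i * n i)⁻¹ * x a) * n i * x (κ * a⁻¹) * n i * (x a * (n i * n i)⁻¹) := by rw [hc a]
  rw [hw] at h5
  have h6 : s⁻¹ = (n i)⁻¹ * s * (n i)⁻¹ := by
    have e1 : s⁻¹ = n i * (s * n i)⁻¹ := by group
    rw [e1, h5]; group
  have e2 : n i * n i * s⁻¹ = n i * s * (n i)⁻¹ := by rw [h6]; group
  exact e2.symm

include R add range inj hκ hinv in
/-- **`TrNode` from a field parametrisation.** -/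
theorem of_field [Finite F] (hTc : ∀ s ∈ T, ∀ t ∈ T, s * t = t * s) (hF : 4 ≤ Nat.card F) : TrNode T n X i := by
  classical
  have h2 := add_self R i x add range inj
  have hx1 : ∀ a, a ≠ 0 → x a ≠ 1 := fun a ha h0 => ha (inj a h0)
  refine ⟨?_, ?_, ?_⟩
  · obtain ⟨a, ha0, ha1⟩ : ∃ a : F, a ≠ 0 ∧ a ≠ 1 := by
      by_contra hcon
      push Not at hcon
      have := Fintype.ofFinite F
      have h3 : (Finset.univ : Finset F) ⊆ {0, 1} := by
        intro a _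
        rw [Finset.mem_insert, Finset.mem_singleton]
        by_cases h4 : a = 0
        · exact Or.inl h4
        · exact Or.inr (hcon a h4)
      have h4 := Finset.card_le_card h3
      have h5 : Finset.card ({0, 1} : Finset F) ≤ 2 := Finset.card_le_two
      rw [Finset.card_univ, ← Nat.card_eq_fintype_card] at h4
      omega
    refine ⟨x 1, (range _).2 ⟨1, rfl⟩, x a, (range _).2 ⟨a, rfl⟩, hx1 1 one_ne_zero, hx1 a ha0, ?_⟩
    intro h0
    have h3 : x (a + 1) = 1 := by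
      rw [add, ← h0, ← add, h2, x_zero x add]
    have h4 := inj _ h3
    apply ha1
    have h5 := h2 1
    rw [← h4] at h5
    exact (add_right_cancel h5).symm
  · intro y hy
    obtain ⟨a, rfl⟩ := (range y).1 hy
    rw [← add, h2, x_zero x add]
  · intro y hy z hz hy1 hz1
    obtain ⟨b, rfl⟩ := (range y).1 hy
    obtain ⟨c, rfl⟩ := (range z).1 hz
    have hb : b ≠ 0 := by rintro rfl; exact hy1 (x_zero x add)
    have hc : c ≠ 0 := by rintro rfl; exact hz1 (x_zero x add)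
    have hchar : CharP F 2 := CharTwo.of_one_ne_zero_of_two_eq_zero one_ne_zero (two_eq R i x add range inj)
    have : Fact (Nat.Prime 2) := ⟨Nat.prime_two⟩
    obtain ⟨a, ha⟩ : ∃ a : F, a * a = c * b⁻¹ := by
      have hsurj : Function.Surjective (frobenius F 2) := Finite.surjective_of_injective (frobenius_inj F 2)
      obtain ⟨a, ha⟩ := hsurj (c * b⁻¹)
      exact ⟨a, by rw [← ha, frobenius_def, pow_two]⟩
    have ha0 : a ≠ 0 := by
      rintro rfl
      rw [mul_zero] at ha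
      exact mul_ne_zero hc (inv_ne_zero hb) ha.symm
    obtain ⟨s, hs, hws⟩ := wa_eq R i x κ add range inj hκ hinv ha0
    obtain ⟨s1, hs1, hws1⟩ := wa_eq R i x κ add range inj hκ hinv (one_ne_zero : (1 : F) ≠ 0)
    refine ⟨s * s1⁻¹, ⟨mul_mem hs (inv_mem hs1), ?_, ?_⟩, ?_⟩
    · -- in the rank one group
      have hX : ∀ c, x c ∈ LL X (sr i) := fun c => (le_sup_left : X (sr i) ≤ LL X (sr i)) ((range _).2 ⟨c, rfl⟩)
      have hX' : ∀ c, n i * x c * (n i)⁻¹ ∈ LL X (sr i) := by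
        intro c
        refine (le_sup_right : X (-sr i) ≤ LL X (sr i)) ?_
        have := R.conj_mem (rp_simple cs R.nsys i) (isRoot_sr cs h i) ((range _).2 ⟨c, rfl⟩)
        rwa [rep_simple_sr] at this
      have key : ∀ a, wa (n i) x κ a = (x a * (n i * x (κ * a⁻¹) * (n i)⁻¹) * x a) * (n i * n i) := by
        intro a
        have h3 := mul_inv_eq_iff_eq_mul.1 (nn_conj R i x κ add range inj hκ hinv a)
        calc wa (n i) x κ a = x a * (n i * x (κ * a⁻¹) * (n i)⁻¹) * (n i * n i * x a) := by unfold wa; group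
          _ = (x a * (n i * x (κ * a⁻¹) * (n i)⁻¹) * x a) * (n i * n i) := by rw [h3]; group
      have e1 : s * s1⁻¹ = (x a * (n i * x (κ * a⁻¹) * (n i)⁻¹) * x a) *
          (x 1 * (n i * x (κ * 1⁻¹) * (n i)⁻¹) * x 1)⁻¹ := by
        have f1 : s = wa (n i) x κ a * (n i)⁻¹ := by rw [hws]; group
        have f2 : s1 = wa (n i) x κ 1 * (n i)⁻¹ := by rw [hws1]; group
        rw [f1, f2, key a, key 1]
        group
      rw [e1]
      exact mul_mem (mul_mem (mul_mem (hX _) (hX' _)) (hX _)) (inv_mem (mul_mem (mul_mem (hX _) (hX' _)) (hX _)))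
    · have e1 := s_inv R i x κ add range inj hκ hinv ha0 hws
      have e2 := s_inv R i x κ add range inj hκ hinv one_ne_zero hws1
      have e3 : n i * (s * s1⁻¹) * (n i)⁻¹ = (n i * s * (n i)⁻¹) * (n i * s1 * (n i)⁻¹)⁻¹ := by group
      have hnn := nn_mem R i
      rw [e3, e1, e2]
      have e4 : n i * n i * s⁻¹ * (n i * n i * s1⁻¹)⁻¹ = (n i * n i) * (s⁻¹ * s1) * (n i * n i)⁻¹ := by group
      have h5 : s⁻¹ * s1 ∈ T := mul_mem (inv_mem hs) hs1
      rw [e4, hTc _ hnn _ h5, mul_inv_cancel_right, hTc _ (inv_mem hs) _ hs1]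
      group
    · have e1 : s * s1⁻¹ * x b * (s * s1⁻¹)⁻¹ = s * (s1⁻¹ * x b * s1) * s⁻¹ := by group
      have e2 : s1⁻¹ * x b * s1 = x (κ * b) := by
        have h3 := s_conj R i x κ add range inj hκ hinv (f := κ * b) one_ne_zero hs1 hws1
        have h4 : (1 : F) * 1 * κ⁻¹ * (κ * b) = b := by field_simp
        rw [h4] at h3
        rw [← h3]; group
      rw [e1, e2, s_conj R i x κ add range inj hκ hinv ha0 hs hws]
      congr 1
      rw [ha]
      field_simp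

end

end Cfsg.Agent.Omega.Lie.End.KNode

end
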