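import Mathlib
import Cfsg.Agent.Mrg.Omega.Lie.End.KSideMain
import Cfsg.Agent.Mrg.Omega.Lie.End.RowTable
import Cfsg.Agent.KFacts.TwESix.Out
import Cfsg.Agent.KFacts.TwESix.Tor
import Cfsg.Agent.Mrg.ParSys.Fam.D4
import Cfsg.Agent.Mrg.Omega.Lie.End.KMain

section


/-!
# Rows of the table of the K-side: `F₄(q)`, `²E₆(q)`, `q` even

**`hasRow_F4`, `hasRow_twE6`**.
-/

set_option autoImplicit false
set_option linter.unusedSectionVars false

namespace Cfsg.Agent.Omega.Lie.End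

open CoxeterSystem Cfsg.Agent.ChevalleyStructure.CoxeterGeom Cfsg.Agent.Tits.Roots Cfsg.Agent.Tits.Core
  Cfsg.Agent.Nodes.Reps Cfsg.Agent.Nodes.BNOf Cfsg.Agent.Nodes.RGDFoldSL Cfsg.Agent.KFacts.RgdCharP
open Cfsg.Lie Cfsg.Agent.ChevalleyStructure Cfsg.Agent.ChevalleyStructure.CoxeterGeomTypes Cfsg.Agent.Nodes.RGDChev
open Cfsg.Agent.ChevalleyStructure.SL2Hom (up lo)

universe u

set_option backward.isDefEq.respectTransparency false in
theorem hasRow_F4 (K : Type u) [Field K] [Finite K] [CharP K 2] : HasRow ↥(chevF4.group K) :=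
  hasRow_chev (l := 4) (M := CoxeterMatrix.F₄) (by simp [IsType, typeList]) ⟨0, 1, by decide⟩
    (conn_of_bool (by decide +kernel))
    (fun i j _ => by revert i j; decide +kernel)
    (fun i j e => absurd e (by revert i j; decide +kernel))

section twE6

open Cfsg.Agent.Nodes.RGDTwE6 Cfsg.Agent.Nodes.RGDTwNode.E6 Cfsg.Agent.KFacts.TwESix.Out

variable {K : Type u} [Field K] [Fintype K] [CharP K 2] {q : ℕ}

set_option backward.isDefEq.respectTransparency false in
theorem F4_two (i j : Fin 4) : ¬ ∀ k, k = i ∨ k = j := by revert i j; decide +kernel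

set_option backward.isDefEq.respectTransparency false in
theorem F4_six (i j : Fin 4) : CoxeterMatrix.F₄ i j ≠ 6 := by revert i j; decide +kernel

set_option backward.isDefEq.respectTransparency false in
theorem F4_conn : Conn CoxeterMatrix.F₄ := conn_of_bool (by decide +kernel)

/-- **`²E₆(q)`** -/
theorem hasRow_twE6 (hq : IsPrimePow q) (hK : Fintype.card K = q ^ 2) : HasRow ↥(twistedE6 K q) := by
  have hp2 : Fact (Nat.Prime 2) := ⟨Nat.prime_two⟩
  obtain ⟨φ, hφ, hqq⟩ := TwE6Basic.exists_frob hq hK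
  have hW : Finite CoxeterMatrix.F₄.Group :=
    Cfsg.Agent.Nodes.RGDFold.finite_W (hp := hp) CoxeterMatrix.F₄.toCoxeterSystem isCartan foldData
  refine ⟨4, CoxeterMatrix.F₄, A, isCartan, T K q, nn hφ, X φ q, hW, rgd _ hφ hqq 2, G1_eq_top _ hφ hqq,
    ⟨⟨0, 1, by decide⟩, F4_conn, Cfsg.Agent.KFacts.TwESix.Tor.T_comm, ?_, fun _ _ i j _ h1 => absurd h1 (F4_two i j),
      fun i j h1 => absurd h1 (F4_six i j)⟩⟩
  intro h1 _ i
  have hc : CharP (KF φ i) 2 :=
    (RingHom.charP_iff (KF φ i).subtype (KF φ i).subtype_injective 2).2 inferInstance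
  exact TrSL.trNode (F := KF φ i) (Φ := PhiE hφ hqq i) (rgd CoxeterMatrix.F₄.toCoxeterSystem hφ hqq 2) (i := i)
    (mem_X hφ hqq i) (fun a b hab => (coordE hφ hqq i).inj hab) (PhiE_wS hφ hqq i) (PhiE_hS hφ hqq i)
    (le_trans (by norm_num) (h1 i))

end twE6

end Cfsg.Agent.Omega.Lie.End

end

section


/-!
# The row `³D₄(q)`
-/

set_option autoImplicit false
set_option linter.unusedSectionVars false

namespace Cfsg.Agent.Omega.Lie.End

open CoxeterSystem Cfsg.Agent.ChevalleyStructure.CoxeterGeom Cfsg.Agent.Tits.Roots Cfsg.Agent.Tits.Core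
  Cfsg.Agent.Tits.RootComb Cfsg.Agent.Nodes.Comb Cfsg.Agent.Nodes.Reps Cfsg.Agent.Nodes.BNOf
  Cfsg.Agent.Nodes.BNOf.RGD Cfsg.Agent.Nodes.RGDChev Cfsg.Agent.Nodes.RGDFold Cfsg.Agent.Nodes.FreeTorus
  Cfsg.Agent.KFacts.RgdCharP
open Cfsg.Lie Cfsg.Agent.ChevalleyStructure
open Cfsg.Agent.ChevalleyStructure.D4U (RS)
open Cfsg.Agent.SplitTwo (kk HexPar HexRel trc crs shp nrm)
open Cfsg.Agent.Hexagon
open Cfsg.Agent.Nodes.RGDFoldSL Cfsg.Agent.Nodes.RGDTwNode.D4
open Cfsg.Agent.ChevalleyStructure.SL2Hom (up lo mem_closure_SL2)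
open scoped commutatorElement

universe u

/-- A node parametrised by a homomorphism of `SL₂(F)`. -/
theorem trNode_SL {I W Y : Type*} [Fintype I] [DecidableEq I] [Group W] [Group Y] {M : CoxeterMatrix I}
    {cs : CoxeterSystem M W} {A : I → I → ℤ} {h : IsCartan M A} {p : ℕ} {T : Subgroup Y} {n : I → Y}
    {X : (I → ℤ) → Subgroup Y} [Finite W] (R : RGD cs h p T n X) (i : I) {F : Type*} [Field F] [Finite F] [CharP F 2]
    (Φ : Matrix.SpecialLinearGroup (Fin 2) F →* Y)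
    (hup : ∀ g, g ∈ X (sr i) ↔ ∃ a, g = Φ (up a)) (hw : Φ (wS 1) = n i) (hT : ∀ d : F, d ≠ 0 → Φ (hS d) ∈ T)
    (h4 : 4 ≤ Nat.card (X (sr i))) : KTorus.TrNode T n X i := by
  have hX : X (sr i) ≤ LL X (sr i) := le_sup_left
  have h1 : Φ.range ≤ LL X (sr i) := by
    have hup' : ∀ a : F, Φ (up a) ∈ LL X (sr i) := fun a => hX ((hup _).2 ⟨a, rfl⟩)
    have hlo' : ∀ a : F, Φ (lo a) ∈ LL X (sr i) := by
      intro a
      rw [lo_eq, map_mul, map_mul, map_inv, hw]
      have h2 := R.conj i _ (isRoot_sr cs h i)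
      rw [rep_simple_sr] at h2
      have h3 : X (-sr i) ≤ LL X (sr i) := le_sup_right
      apply h3
      rw [← h2]
      exact conj_mem_cj.2 ((hup _).2 ⟨-a, rfl⟩)
    rintro _ ⟨A, rfl⟩
    have h2 : Subgroup.closure (Set.range (up (F := F)) ∪ Set.range (lo (F := F))) ≤ (LL X (sr i)).comap Φ := by
      rw [Subgroup.closure_le]
      rintro _ (⟨a, rfl⟩ | ⟨a, rfl⟩)
      · exact hup' a
      · exact hlo' a
    exact h2 (mem_closure_SL2 A)
  refine ⟨exists_two h4, ?_, ?_⟩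
  · intro x hx
    obtain ⟨a, rfl⟩ := (hup x).1 hx
    rw [← map_mul, ParSys.Fam.SLNode.up_mul, CharTwo.add_self_eq_zero, ParSys.Fam.SLNode.up_zero, map_one]
  · intro x hx y hy hx1 hy1
    obtain ⟨a, rfl⟩ := (hup x).1 hx
    obtain ⟨b, rfl⟩ := (hup y).1 hy
    have ha : a ≠ 0 := by
      rintro rfl
      exact hx1 (by rw [ParSys.Fam.SLNode.up_zero, map_one])
    have hb : b ≠ 0 := by
      rintro rfl
      exact hy1 (by rw [ParSys.Fam.SLNode.up_zero, map_one])
    obtain ⟨c, hcc⟩ := FiniteField.isSquare_of_char_two (F := F) (ringChar.eq F 2) (b / a)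
    have hc0 : c ≠ 0 := by
      rintro rfl
      rw [mul_zero] at hcc
      exact (div_ne_zero hb ha) hcc
    have ht := hT c hc0
    have ht' : Φ (hS c) ∈ LL X (sr i) := h1 ⟨_, rfl⟩
    refine ⟨Φ (hS c), ⟨ht, ht', ?_⟩, ?_⟩
    · exact eq_inv_of_mul_eq_one_left (ParSys.Fam.SLNode.inverted R i Φ hup hw hT _ ht ht')
    · rw [← map_mul, ← map_inv, ← map_mul, ParSys.Fam.SLNode.hS_up hc0, ← hcc, div_mul_cancel₀ _ ha]

namespace RowD4

theorem kk_iff {G : Type*} [Group G] {a b : G} : kk a b = 1 ↔ a * b = b * a := by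
  rw [kk, mul_assoc, ← mul_inv_rev, inv_mul_eq_one]
  exact eq_comm

/-- The commutator relations behind `six`. -/
theorem hex_ne {E : Type*} [Field E] [CharP E 2] {σ : E ≃+* E} (hne : ∃ d, σ d ≠ d) {G : Type*} [Group G]
    {x1 x2 x3 x4 x5 x6 : E → G} (R : HexRel σ x1 x2 x3 x4 x5 x6)
    (i2 : ∀ a b, σ a = a → σ b = b → x2 a = x2 b → a = b) (i4 : ∀ a b, σ a = a → σ b = b → x4 a = x4 b → a = b) :
    (∃ b, kk (x1 1) (x5 b) ≠ 1) ∧ kk (x2 1) (x6 1) ≠ 1 := by
  have e2 : (2 : E) = 0 := by exact_mod_cast CharP.cast_eq_zero E 2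
  have hc := R.cube
  have ft : ∀ a b : E, σ (trc σ a b) = trc σ a b := fun a b => by
    simp only [trc, map_add, hc]; ring
  have z2 : x2 0 = 1 := by
    have h1 := R.add2 0 0 (map_zero σ) (map_zero σ)
    rw [add_zero] at h1
    nth_rewrite 1 [← mul_one (x2 0)] at h1
    exact (mul_left_cancel h1).symm
  have z4 : x4 0 = 1 := by
    have h1 := R.add4 0 0 (map_zero σ) (map_zero σ)
    rw [add_zero] at h1
    nth_rewrite 1 [← mul_one (x4 0)] at h1
    exact (mul_left_cancel h1).symm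
  refine ⟨?_, ?_⟩
  · by_contra hcon
    push Not at hcon
    obtain ⟨d, hd⟩ := hne
    have hy : crs σ 1 d ≠ 0 := by
      intro h0
      apply hd
      simp only [crs, map_one, one_mul] at h0
      have h1 : σ (σ d) = σ d := by linear_combination h0 - σ d * e2
      exact σ.injective h1
    have h1 := hcon d
    rw [R.c15] at h1
    set y := crs σ 1 d with hydef
    -- `x1 c` commutes with `x3 y`
    have h3 : kk (x1 y⁻¹) (x3 y) = 1 := by
      have k2 := R.c12 y⁻¹ (-(trc σ (shp σ 1) d)) (by rw [map_neg, ft])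
      have k4 := R.c14 y⁻¹ (trc σ 1 (shp σ d)) (ft _ _)
      rw [kk_iff] at k2 k4 ⊢
      have e3 : x3 y = (x2 (-(trc σ (shp σ 1) d)))⁻¹ * (x4 (trc σ 1 (shp σ d)))⁻¹ := by
        rw [eq_mul_inv_iff_mul_eq]
        exact eq_inv_of_mul_eq_one_right (by rw [← mul_assoc]; exact h1)
      have c2 : Commute (x1 y⁻¹) (x2 (-(trc σ (shp σ 1) d))) := k2
      have c4 : Commute (x1 y⁻¹) (x4 (trc σ 1 (shp σ d))) := k4
      rw [e3]
      exact (c2.inv_right).mul_right c4.inv_right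
    rw [R.c13] at h3
    have h4 : trc σ y⁻¹ y = 1 := by
      simp only [trc, inv_mul_cancel₀ hy, map_one]
      linear_combination e2
    rw [h4, ← z2] at h3
    exact one_ne_zero (i2 1 0 (map_one σ) (map_zero σ) h3)
  · intro h0
    rw [R.c26 1 1 (map_one σ) (map_one σ), mul_one, ← z4] at h0
    exact one_ne_zero (i4 1 0 (map_one σ) (map_zero σ) h0)

theorem V19 : (V chevD4 Nodes.RGDTwD4.J 19 : Fin 2 → ℤ) = sr 1 - Nodes.RGDTwD4.A 0 1 • sr 0 := by decide +kernel

theorem V22 : (V chevD4 Nodes.RGDTwD4.J 22 : Fin 2 → ℤ) = sr 0 - Nodes.RGDTwD4.A 1 0 • sr 1 := by decide +kernel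

end RowD4

set_option backward.isDefEq.respectTransparency false in
theorem conn_G2 : Conn CoxeterMatrix.G₂ := conn_of_bool (by decide +kernel)

open ParSys.Fam in
/-- **`³D₄(q)`** -/
theorem hasRow_D4 {K : Type u} [Field K] [Fintype K] [CharP K 2] {q : ℕ} (hq : IsPrimePow q)
    (hK : Fintype.card K = q ^ 3) : HasRow ↥(twistedD4 K q) := by
  have : Fact (Nat.Prime 2) := ⟨Nat.prime_two⟩
  obtain ⟨φ, hφ⟩ := D4Fixed.exists_frob hq hK
  have hle := D4Fixed.twisted_le_fix hK hφ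
  have hcard := D4H1.card_fixed hq.one_lt hK hφ
  have hbij : Function.Bijective φ := Finite.injective_iff_bijective.1 φ.injective
  have h3 : ∀ a, φ (φ (φ a)) = a := by
    intro t
    rw [hφ, hφ, hφ, ← pow_mul, ← pow_mul]
    have : q * (q * q) = q ^ 3 := by ring
    rw [this, ← hK]
    exact FiniteField.pow_card t
  have hne : ∃ d, φ d ≠ d := by
    by_contra hcon
    push Not at hcon
    have h5 : Nat.card {b : Kˣ // φ b = b} = Nat.card Kˣ :=
      Nat.card_congr (Equiv.subtypeUnivEquiv fun b : Kˣ => hcon b)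
    rw [hcard, Nat.card_units, Nat.card_eq_fintype_card, hK] at h5
    have h7 := hq.one_lt
    have h6 : q < q ^ 3 := by nlinarith [Nat.pow_le_pow_left h7.le 2, h7]
    omega
  have hfin := Nodes.RGDChev.finite_W RowG2.hp D4.cs
  have R := Nodes.RGDTwD4.rgd (K := K) D4.cs hK hφ 2
  have H := TwD4Par.hexPar hφ hle (σ := RingEquiv.ofBijective φ hbij) (fun _ => rfl) h3
  have hn := RowD4.hex_ne (σ := RingEquiv.ofBijective φ hbij) hne H.rel H.inj2 H.inj4
  refine ⟨2, CoxeterMatrix.G₂, _, Nodes.RGDTwD4.isCartan, Nodes.RGDTwD4.T K q, Nodes.RGDTwD4.n hφ, Nodes.RGDTwD4.X φ q, hfin, R,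
    Nodes.RGDTwD4.G1_eq_top D4.cs hK hφ, ⟨0, 1, by decide⟩, conn_G2, D4.T_comm, fun e _ i => ?_,
    fun _ _ i j e => absurd e ?_, fun i j e => ?_⟩
  · have : CharP (Fx φ ((rest i).length + 1)) 2 := (Fx φ ((rest i).length + 1)).subtype.charP Subtype.val_injective 2
    exact trNode_SL R i (D4.Ph hφ hle i) (D4.mem_X hφ hle i) (D4.Ph_wS hφ hle i) (fun _ hd => D4.Ph_hS hφ hle i hd) (e i)
  · fin_cases i <;> fin_cases j <;> decide
  · have c1 := D4.mem_iff (q := q) hle (k := 1) Nodes.RGDTwD4.cls1 (by decide +kernel) D4.L_eqs.1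
    have c2 := D4.mem_iff (q := q) hle (k := 2) D4.cls2 (by decide +kernel) D4.L_eqs.2.1
    have c5 := D4.mem_iff (q := q) hle (k := 5) D4.cls5 (by decide +kernel) D4.L_eqs.2.2.2.2.1
    have c6 := D4.mem_iff (q := q) hle (k := 6) Nodes.RGDTwD4.cls0 (by decide +kernel) D4.L_eqs.2.2.2.2.2
    fin_cases i <;> fin_cases j
    · exact absurd e (by decide)
    · refine ⟨by decide, ?_⟩
      show NComm (Nodes.RGDTwD4.X φ q (sr 0)) (Nodes.RGDTwD4.X φ q
        (rep CoxeterMatrix.G₂.toCoxeterSystem Nodes.RGDTwD4.isCartan (CoxeterMatrix.G₂.toCoxeterSystem.simple 1) (sr 0)))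
      rw [KTorus.rep_sr_sr, ← RowD4.V22]
      refine ⟨_, (c6 _).2 ((H.mem6 _).2 ⟨1, map_one _, rfl⟩), _, (c2 _).2 ((H.mem2 _).2 ⟨1, map_one _, rfl⟩),
        fun h0 => hn.2 (RowD4.kk_iff.2 h0.symm)⟩
    · refine ⟨by decide, ?_⟩
      show NComm (Nodes.RGDTwD4.X φ q (sr 1)) (Nodes.RGDTwD4.X φ q
        (rep CoxeterMatrix.G₂.toCoxeterSystem Nodes.RGDTwD4.isCartan (CoxeterMatrix.G₂.toCoxeterSystem.simple 0) (sr 1)))
      rw [KTorus.rep_sr_sr, ← RowD4.V19]
      obtain ⟨b, hb⟩ := hn.1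
      exact ⟨_, (c1 _).2 ((H.mem1 _).2 ⟨1, rfl⟩), _, (c5 _).2 ((H.mem5 _).2 ⟨b, rfl⟩), fun h0 => hb (RowD4.kk_iff.2 h0)⟩
    · exact absurd e (by decide)

end Cfsg.Agent.Omega.Lie.End

end

section


/-!
# The table of the K-side: `kTable : KTable`
-/

set_option autoImplicit false

namespace Cfsg.Agent.Omega.Lie.End

universe u

/-- **The table of the K-side.** -/
theorem kTable : KTable.{u} :=
  kTable_of
    (fun F _ _ _ _ hm => RowWitt.hasRow_PSp (F := F) hm)
    (fun F _ _ _ _ _ hF hN => RowWitt.hasRow_PSU (F := F) hF hN)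
    (fun F _ _ _ _ a b hm hab => RowWitt.hasRow_POmegaMinus a b hab (by omega))
    (fun F _ _ _ => hasRow_F4 F)
    (fun K _ _ _ _ hq hK => hasRow_twE6 (K := K) hq hK)
    (fun K _ _ _ _ hq hK => hasRow_D4 (K := K) hq hK)

end Cfsg.Agent.Omega.Lie.End

end

section


/-!
# The K-side of the END of NODE LIE (helpers 650, 469, 923, 57, 366, 894, 617, 158, 679, 335, 484, 578)
-/

set_option autoImplicit false

namespace Cfsg.Agent.Omega.Lie.End

universe u

/-- **The K-side.** -/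
theorem kSide : KSide.{u} := kSide_of kTable kPhi movAll

/-- **The K-side with `Opp` and `OneL`.** -/
theorem kSideX : KSideX.{u} := kSideX_of kTable kPhi movAll LTwoSide.kLTwoX

end Cfsg.Agent.Omega.Lie.End

end
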