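import Cfsg.Agent.Mrg.Omega.Lie.End.KDOf
import Cfsg.Agent.Mrg.Omega.Lie.End.Top
import Cfsg.Agent.Mrg.Omega.SQEnd.GZeroOf
import Cfsg.Agent.Mrg.Omega.Lie.End.Real

section


/-!
# NODE LIE, the END: nodes of type `(γ)`

`mem_D_of_norm` : if `V ^ p` (`p ∈ N(R i)`) does not commute with `V`, then `U j ∩ N(V ^ p) ≤ D`: the elements `≠ 1` of `A`
do not fix the point `e ^ p`.

`hreg_of_gam` : hypothesis `hreg` of `KDOf.kd_of_reg` from `GamT`.
-/

set_option autoImplicit false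
set_option linter.unusedSectionVars false

namespace Cfsg.Agent.Omega.Lie.End.GamOf

open Subgroup Cfsg Cfsg.Agent.Omega.BTwo Cfsg.Agent.ParSys Cfsg.Agent.Omega.Lie Cfsg.Agent.Omega.Lie.Quot

universe u v w

section BT

variable {G : Type u} [Group G] {ι : Type w} {V : Subgroup G} {R : ι → Subgroup G} {i j : ι} {F : Type v} [Field F]
  {v : F → F → G} {w1 w2 : F → G}

/-- `w ∈ W i` commuting with an element of `V` outside `R i` centralises `V` -/
theorem cen_of_comm (c : Coord V R i j v w1 w2) {w y : G} (hw : w ∈ WW V (R i)) (hy : y ∈ V) (hyR : y ∉ R i)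
    (h : w * y = y * w) : w ∈ centralizer (V : Set G) := by
  obtain ⟨p, r, rfl⟩ := (c.mem_V y).1 hy
  obtain ⟨s, hs⟩ := c.W1_act w hw
  have h1 := hs p r
  rw [h, mul_inv_cancel_right] at h1
  obtain ⟨h2, -⟩ := c.v_inj h1
  have h3 : s * r = 0 := by linear_combination -h2
  have hr : r ≠ 0 := by
    rintro rfl
    exact hyR ((c.mem_R1 _).2 ⟨p, rfl⟩)
  have hs0 : s = 0 := (mul_eq_zero.1 h3).resolve_right hr
  rw [mem_centralizer_iff]
  intro x hx
  obtain ⟨a, d, rfl⟩ := (c.mem_V x).1 hx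
  have h4 := hs a d
  rw [hs0, zero_mul, add_zero, mul_inv_eq_iff_eq_mul] at h4
  exact h4.symm

/-- **`U j ∩ N(V ^ p) ≤ D`** if `V ^ p` does not commute with `V` -/
theorem mem_D_of_norm (b : BT V R) (c : Coord V R i j v w1 w2) {p : G} (hp : p ∈ normalizer (R i : Set G))
    (hpV : ∃ x ∈ V, ∃ y ∈ V, p * x * p⁻¹ * y ≠ y * (p * x * p⁻¹)) {u : G} (hu : u ∈ UU V R j)
    (hun : p⁻¹ * u * p ∈ normalizer (V : Set G)) : u ∈ DD V R := by
  obtain ⟨x, hx, y, hy, hxy⟩ := hpV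
  set x' := p * x * p⁻¹ with hx'
  have hx'W : x' ∈ WW V (R i) := cj_le_WW hp (conj_mem_cj hx)
  have hx'N : x' ∈ normalizer (V : Set G) := b.W_le_NV i hx'W
  have hij : i ≠ j := c.ne
  -- `x'` moves `R j`
  obtain ⟨k, hk⟩ := b.perm x' hx'N j
  have hkj : k ≠ j := by
    rintro rfl
    apply hxy
    obtain ⟨s, hs⟩ := c.W1_act x' hx'W
    have h1 := conj_mem_cj (g := x') ((c.mem_R2 (v 0 1)).2 ⟨1, rfl⟩)
    rw [hk, hs 0 1] at h1
    obtain ⟨r, hr⟩ := (c.mem_R2 _).1 h1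
    obtain ⟨h2, -⟩ := c.v_inj hr
    have hs0 : s = 0 := by linear_combination -h2
    obtain ⟨a, d, rfl⟩ := (c.mem_V y).1 hy
    have h4 := hs a d
    rw [hs0, zero_mul, add_zero, mul_inv_eq_iff_eq_mul] at h4
    exact h4
  -- `z = [u, x'] ∈ R i`
  set z := u * x' * u⁻¹ * x'⁻¹ with hz
  have hzV' : p⁻¹ * z * p ∈ V := by
    have h1 : p⁻¹ * (u * x' * u⁻¹) * p ∈ V := by
      have h2 := BTwo.conj_mem_of_normalizer hun hx
      have e : p⁻¹ * u * p * x * (p⁻¹ * u * p)⁻¹ = p⁻¹ * (u * x' * u⁻¹) * p := by rw [hx']; group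
      rwa [e] at h2
    have e : p⁻¹ * z * p = p⁻¹ * (u * x' * u⁻¹) * p * x⁻¹ := by rw [hz, hx']; group
    rw [e]
    exact mul_mem h1 (inv_mem hx)
  have huC := UU_le_cen j hu
  have hzC : z ∈ centralizer (V : Set G) := by
    have e : z = u * (x' * u⁻¹ * x'⁻¹) := by rw [hz]; group
    rw [e]
    exact mul_mem huC (BTwo.conj_mem_of_normalizer (normalizer_le_normalizer_centralizer _ hx'N) (inv_mem huC))
  have hzR : z ∈ R i := by
    by_contra hcon
    apply hxy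
    -- `p⁻¹ y p ∈ W i` commutes with `p⁻¹ z p ∈ V - R i`
    have h1 : p⁻¹ * y * p ∈ WW V (R i) := by
      have h2 := BTwo.conj_mem_of_normalizer (normalizer_le_WW V (R i) (inv_mem hp)) (V_le_WW V (R i) hy)
      rwa [inv_inv] at h2
    have h2 : p⁻¹ * z * p ∉ R i := by
      intro h3
      apply hcon
      have h4 := BTwo.conj_mem_of_normalizer hp h3
      have e : p * (p⁻¹ * z * p) * p⁻¹ = z := by group
      rwa [e] at h4
    have h3 : p⁻¹ * y * p * (p⁻¹ * z * p) = p⁻¹ * z * p * (p⁻¹ * y * p) := by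
      have h4 := mem_centralizer_iff.1 hzC y hy
      calc p⁻¹ * y * p * (p⁻¹ * z * p) = p⁻¹ * (y * z) * p := by group
        _ = p⁻¹ * z * p * (p⁻¹ * y * p) := by rw [h4]; group
    have h4 := mem_centralizer_iff.1 (cen_of_comm c h1 hzV' h2 h3) x hx
    calc x' * y = p * (x * (p⁻¹ * y * p)) * p⁻¹ := by rw [hx']; group
      _ = p * (p⁻¹ * y * p * x) * p⁻¹ := by rw [h4]
      _ = y * x' := by rw [hx']; group
  -- `u ∈ W j ∩ W k`
  have h1 : x' * u * x'⁻¹ ∈ WW V (R k) := by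
    rw [← b.cj_WW hk]
    exact conj_mem_cj (UU_le_WW j hu)
  have h2 : u ∈ WW V (R k) := by
    have e : u = z * (x' * u * x'⁻¹) := by rw [hz]; group
    rw [e]
    exact mul_mem (V_le_WW V (R k) (b.R_le i hzR)) h1
  rw [b.D_eq' hkj.symm]
  exact mem_inf.2 ⟨UU_le_WW j hu, h2⟩

/-- `pr x ∈ im N(V)` iff `x ∈ N(V)` -/
theorem mem_E0 (b : BT V R) (hQ : QQ (R i) = WW V (R i)) {x : G} (hx : x ∈ normalizer (R i : Set G)) :
    pr (R i) ⟨x, hx⟩ ∈ im (R i) (normalizer (V : Set G)) ↔ x ∈ normalizer (V : Set G) :=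
  pr_mem_im_iff (hQ.le.trans (b.W_le_NV i)) hx

/-- **`hreg`** from type `(γ)` -/
theorem hreg_of_gam (b : BT V R) (c : Coord V R i j v w1 w2) (hQ : QQ (R i) = WW V (R i))
    {S' B' P' : Subgroup (HQ (R i))} (hptr : Hall.HallData.PTr B' S' P')
    (hS : S' ≤ im (R i) (normalizer (V : Set G))) (hB : B' ≤ im (R i) (normalizer (V : Set G))) {p : G}
    (hp : p ∈ normalizer (R i : Set G)) (hpP : pr (R i) ⟨p, hp⟩ ∈ P')
    (hpV : ∃ x ∈ V, ∃ y ∈ V, p * x * p⁻¹ * y ≠ y * (p * x * p⁻¹)) :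
    pr (R i) ⟨p, hp⟩ ∉ im (R i) (normalizer (V : Set G)) ∧
    ∀ a ∈ AA V R i j, ∀ g ∈ P', g ∉ im (R i) (normalizer (V : Set G)) →
      g⁻¹ * a * g ∈ im (R i) (normalizer (V : Set G)) → a = 1 := by
  have hpE : pr (R i) ⟨p, hp⟩ ∉ im (R i) (normalizer (V : Set G)) := by
    rw [mem_E0 b hQ]
    intro h
    obtain ⟨x, hx, y, hy, hxy⟩ := hpV
    exact hxy (b.V_comm _ (BTwo.conj_mem_of_normalizer h hx) y hy)
  refine ⟨hpE, ?_⟩
  intro a ha g hg hgE hga
  obtain ⟨s, hs, d, hd, rfl⟩ := hptr _ hpP (fun h => hpE (hB h)) g hg (fun h => hgE (hB h))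
  obtain ⟨s, hsN, rfl⟩ := exists_pr s
  obtain ⟨d, hdN, rfl⟩ := exists_pr d
  obtain ⟨u, hu, rfl⟩ := (mem_AA b).1 ha
  have hsV := (mem_E0 b hQ hsN).1 (hS hs)
  have hdV := (mem_E0 b hQ hdN).1 (hB hd)
  have hgN : s * p * d ∈ normalizer (R i : Set G) := mul_mem (mul_mem hsN hp) hdN
  have h1 : pr (R i) ⟨(s * p * d)⁻¹ * u * (s * p * d), mul_mem (mul_mem (inv_mem hgN) (U_le_N b i j hu)) hgN⟩ ∈
      im (R i) (normalizer (V : Set G)) := hga
  rw [mem_E0 b hQ] at h1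
  have h2 : u ∈ DD V R := by
    refine mem_D_of_norm b c hgN ?_ hu h1
    obtain ⟨x, hx, y, hy, hxy⟩ := hpV
    have hd' := BTwo.conj_mem_of_normalizer (inv_mem hdV) hx
    rw [inv_inv] at hd'
    refine ⟨d⁻¹ * x * d, hd', s * y * s⁻¹, BTwo.conj_mem_of_normalizer hsV hy, fun h3 => hxy ?_⟩
    have e1 : s * p * d * (d⁻¹ * x * d) * (s * p * d)⁻¹ * (s * y * s⁻¹) = s * (p * x * p⁻¹ * y) * s⁻¹ := by group
    have e2 : s * y * s⁻¹ * (s * p * d * (d⁻¹ * x * d) * (s * p * d)⁻¹) = s * (y * (p * x * p⁻¹)) * s⁻¹ := by group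
    rw [e1, e2] at h3
    exact mul_left_cancel (mul_right_cancel h3)
  exact (pr_eq_one _).2 (b.W_le_Q i (mem_DD.1 h2 i))

end BT

end Cfsg.Agent.Omega.Lie.End.GamOf

end

section


/-!
# NODE LIE, the END: a node of type `(γ)` is the rank one case

`RS.kd_of_gam` : if some conjugate `V ^ p`, `p ∈ PG K T S P x`, does not commute with `V`, then there is only one moved
component, it has only one node, and `SQEnd.KD` holds for its preimage.
-/

set_option autoImplicit false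
set_option linter.unusedSectionVars false

namespace Cfsg.Agent.Omega.Lie.End

open Subgroup Cfsg Cfsg.Agent.ParSys Cfsg.Agent.Omega.BTwo Cfsg.Agent.Omega.Lie Cfsg.Agent.Omega.Lie.Quot
open Cfsg.Agent.Omega.IIa4 Cfsg.Agent.Omega.Lie.End.OfLay

universe u v w

variable {G : Type u} [Group G] {ι : Type w} {V : Subgroup G} {R : ι → Subgroup G} {F : Type v} [Field F] {i j : ι}
  {v : F → F → G} {w1 w2 : F → G} {t : F → G}

namespace RS

variable {T S : Subgroup (HQ (R i))} {α : Type} {K : α → Subgroup (HQ (R i))} {J : α → Type}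
  {P : ∀ a, J a → Subgroup (K a)} {m : ∀ a, J a → J a → ℕ} (D : RS V R i j T S K J P m)
include D

/-- `TAct` for all moved components -/
theorem tact_all [Finite F] [CharP F 2] [Finite G] (b : BT V R) (τ : TorD V R i j v t) (hij : i ≠ j) (hT : T = TT τ)
    (h4 : 4 ≤ Nat.card F) (L : Subgroup (HQ (R i))) (hL : MComp V R i j L) : TAct (S.subgroupOf L) (Tact T L) := by
  subst hT
  exact tact_of_lay b τ hij h4 D.lay hL

/-- `C` fixes the point `e` -/
theorem CC_le_E0 [Finite G] (hNV : ∀ (g : G) (hg : g ∈ normalizer (R i : Set G)),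
    pr (R i) ⟨g, hg⟩ ∈ normalizer (AA V R i j : Set (HQ (R i))) → g ∈ normalizer (V : Set G)) :
    CC K (fun a => S.subgroupOf (K a)) T ≤ im (R i) (normalizer (V : Set G)) := by
  intro x hx
  obtain ⟨g, hg, rfl⟩ := exists_pr x
  exact pr_mem_im hg (hNV g hg (D.CC_norm_A hx))

/-- **a node of type `(γ)`**: the only component, the only node -/
theorem uniq_of_gam [Finite G] [Finite α] [Finite F] [CharP F 2] (b : BTC V R) (c : Coord V R i j v w1 w2)
    (τ : TorD V R i j v t) (hij : i ≠ j) (hT : T = TT τ) (h4 : 4 ≤ Nat.card F) (hQ : QQ (R i) = WW V (R i))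
    (hNV : ∀ (g : G) (hg : g ∈ normalizer (R i : Set G)),
      pr (R i) ⟨g, hg⟩ ∈ normalizer (AA V R i j : Set (HQ (R i))) → g ∈ normalizer (V : Set G))
    {a : α} {k : J a} (hm : End.Moved (S.subgroupOf (K a)) (Tact T (K a)) (P a k))
    (hg : GamT V (PG K T S P ⟨a, k⟩)) :
    (∀ L : Subgroup (HQ (R i)), MComp V R i j L → L = K a) ∧ ∀ x y : J a, x = y := by
  obtain ⟨p, hp, hpV⟩ := hg
  obtain ⟨hpN, hpP⟩ := mem_up.1 hp
  have hCE := D.CC_le_E0 hNV
  have hpre := D.psit.pre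
  obtain ⟨h1, h2⟩ := GamOf.hreg_of_gam b.toBT c hQ (hpre.ptr ⟨a, k⟩) ((hpre.U_le).trans hCE) hCE hpN hpP hpV
  have hle : (P a k).map (K a).subtype ≤ PPx K (fun a => S.subgroupOf (K a)) T P ⟨a, k⟩ := le_sup_left
  refine KDOf.uniq_of_reg D.lay (D.mem a) (D.tact_all b.toBT τ hij hT h4) (D.sys a) hm
    (im (R i) (normalizer (V : Set G))) ?_ ?_ ?_ ?_
  · exact im_mono ((UU_le_cen j).trans (centralizer_le_normalizer _))
  · intro x hx
    refine hCE ?_
    exact mem_sup_left ((le_iSup (fun a => (normalizer ((S.subgroupOf (K a) : Subgroup (K a)) : Set (K a))).map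
      (K a).subtype) a) ⟨x, hx, rfl⟩)
  · by_contra hcon
    push Not at hcon
    apply h1
    have h3 : PPx K (fun a => S.subgroupOf (K a)) T P ⟨a, k⟩ ≤ im (R i) (normalizer (V : Set G)) := by
      refine sup_le ?_ hCE
      rintro _ ⟨x, hx, rfl⟩
      exact hcon x hx
    exact h3 hpP
  · intro y hy g hg hgE hga
    exact h2 y hy g (hle ⟨g, hg, rfl⟩) hgE hga

/-- **`KD` from a node of type `(γ)`** -/
theorem kd_of_gam [Finite G] [Finite α] [Finite F] [CharP F 2] (b : BTC V R) (c : Coord V R i j v w1 w2)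
    (τ : TorD V R i j v t) (hij : i ≠ j) (hT : T = TT τ) (h4 : 4 ≤ Nat.card F) (hQ : QQ (R i) = WW V (R i))
    (hNV : ∀ (g : G) (hg : g ∈ normalizer (R i : Set G)),
      pr (R i) ⟨g, hg⟩ ∈ normalizer (AA V R i j : Set (HQ (R i))) → g ∈ normalizer (V : Set G))
    (hone : ∀ a, (∀ x y : J a, x = y) → ∃ (F : Type) (_ : Field F) (_ : Fintype F), ringChar F = 2 ∧
      Nonempty (K a ≃* Matrix.ProjectiveSpecialLinearGroup (Fin 2) F))
    {a : α} {k : J a} (hm : End.Moved (S.subgroupOf (K a)) (Tact T (K a)) (P a k))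
    (hg : GamT V (PG K T S P ⟨a, k⟩)) :
    ∃ (k : Type) (_ : Field k) (_ : Finite k) (_ : CharP k 2) (K' : Subgroup G)
      (φ : K' →* Matrix.SpecialLinearGroup (Fin 2) k), SQEnd.KD V R i j K' φ (k := k) := by
  obtain ⟨h1, h2⟩ := D.uniq_of_gam b c τ hij hT h4 hQ hNV hm hg
  obtain ⟨k', i1, i2, i3, φ, kd⟩ := KDOf.kd_of_lay b hij hQ D.lay (D.mem a)
    (D.tact_all b.toBT τ hij hT h4 _ (D.mem a)) D.normal h1 (D.sys a) h2 (hone a h2)
  exact ⟨k', i1, i2, i3, _, φ, kd⟩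

/-- **`KD` if some node is of type `(γ)`** (from `RealSys`-level data) -/
theorem kd_of_gamT [Finite G] [Finite α] [Finite F] [CharP F 2] (b : BTC V R) (c : Coord V R i j v w1 w2)
    (τ : TorD V R i j v t) (hij : i ≠ j) (hT : T = TT τ) (h4 : 4 ≤ Nat.card F) (hQ : QQ (R i) = WW V (R i))
    (hNV : ∀ (g : G) (hg : g ∈ normalizer (R i : Set G)),
      pr (R i) ⟨g, hg⟩ ∈ normalizer (AA V R i j : Set (HQ (R i))) → g ∈ normalizer (V : Set G))
    (hCA : ∀ x ∈ WW V (R i), (∀ u ∈ UU V R j, u * x * u⁻¹ * x⁻¹ ∈ R i) → x ∈ V)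
    (hone : ∀ a, (∀ x y : J a, x = y) → ∃ (F : Type) (_ : Field F) (_ : Fintype F), ringChar F = 2 ∧
      Nonempty (K a ≃* Matrix.ProjectiveSpecialLinearGroup (Fin 2) F))
    {x : Σ a, J a} (hg : GamT V (PG K T S P x)) :
    ∃ (k : Type) (_ : Field k) (_ : Finite k) (_ : CharP k 2) (K' : Subgroup G)
      (φ : K' →* Matrix.SpecialLinearGroup (Fin 2) k), SQEnd.KD V R i j K' φ (k := k) := by
  have hd := D.datG b c τ hij hT hNV
  refine D.kd_of_gam b c τ hij hT h4 hQ hNV hone ((D.moved_iff b.toBT c hij hd hCA).2 fun hle => ?_) hg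
  obtain ⟨p, hp, y, hy, y', hy', hne⟩ := hg
  exact hne (b.V_comm _ (BTwo.conj_mem_of_normalizer (hle hp) hy) y' hy')

end RS

end Cfsg.Agent.Omega.Lie.End

end
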