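import Cfsg.Agent.Mrg.Omega.Lie.End.Zero
import Cfsg.Agent.Mrg.Omega.Lie.LQThm
import Cfsg.Agent.Mrg.Omega.BTwo.CoordNat
import Cfsg.Agent.Mrg.Omega.Lie.End.KSys


/-!
# NODE LIE, `q = 4`: the exception `KExc` of the K-side is dead

`K ≅ L₂(Q)` a component of `H = N(R i)/O₂(N(R i))` with `[K, A] ≠ 1`, `T` of order 3 acting on `K` with a fixed
involution `u ∈ S ⊓ K`.  Then `u` centralises `D / R i ≥ C_M(T)`, so does a second `T`-invariant involution `y ∈ K`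
with `⟨S ⊓ K, y⟩ = K`; hence `T` is fixed-point-free on `C_M(S ⊓ K) / C_M(K)`, so `[N_K(S ⊓ K) ∩ N_K(S ⊓ K)^y, T]`
centralises `C_M(S ⊓ K) ≥ e` and normalises `A ⊓ K`, which is impossible.
-/

set_option autoImplicit false
set_option linter.unusedSectionVars false

namespace Cfsg.Agent.Omega.Lie.End.ExcDead

open Subgroup Cfsg.Agent.Omega.BTwo Cfsg.Agent.Omega.Lie Cfsg.Agent.Omega.Lie.Quot Cfsg.Agent.Omega.Lie.CubQ
open Cfsg.Agent.Omega.Lie.End.ExcModel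

/-! ### a group `D⟨t⟩` with `t` fixed-point-free of order 3 -/

section ring

variable {A : Type*} [AddCommGroup A]

/-- `f` is zero on `X` -/
def Z (X : AddSubgroup A) (f : AddMonoid.End A) : Prop := ∀ x ∈ X, f x = 0

/-- The ring computation behind: a group with a fixed-point-free element of order three acts trivially. -/
theorem ring_aux (h2 : ∀ x : A, x + x = 0) {X0 X1 : AddSubgroup A} {t k0 k1 k2 : AddMonoid.End A}
    (e0 : t * k0 = k1 * t) (e1 : t * k1 = k2 * t) (e2 : t * k2 = k0 * t)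
    (c01 : k0 * k1 = k1 * k0) (c02 : k0 * k2 = k2 * k0) (c12 : k1 * k2 = k2 * k1)
    (ht : ∀ x ∈ X0, t x ∈ X0) (hk0 : ∀ x ∈ X0, k0 x ∈ X0) (hk1 : ∀ x ∈ X0, k1 x ∈ X0)
    (hk2 : ∀ x ∈ X0, k2 x ∈ X0) (hn : ∀ x ∈ X0, x + t x + t (t x) ∈ X1)
    (f1 : ∀ x ∈ X1, k1 x = x) (f2 : ∀ x ∈ X1, k2 x = x) :
    ∀ x ∈ X0, k1 (k1 (k1 (k1 x))) = k2 (k2 (k2 (k2 x))) := by
  have h2' : ∀ f : AddMonoid.End A, f + f = 0 := fun f => AddMonoidHom.ext fun x => h2 (f x)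
  obtain ⟨z0, hz0⟩ : ∃ z, z = k1 + k2 := ⟨_, rfl⟩
  obtain ⟨z1, hz1⟩ : ∃ z, z = k0 + k2 := ⟨_, rfl⟩
  obtain ⟨N, hN⟩ : ∃ z, z = 1 + t + t * t := ⟨_, rfl⟩
  have hz00 : ∀ x ∈ X0, z0 x ∈ X0 := fun x hx => by
    rw [hz0]; exact X0.add_mem (hk1 x hx) (hk2 x hx)
  -- the relations
  have r1 : Z X0 (z0 * N) := by
    intro x hx
    have h1 := hn x hx
    change z0 (N x) = 0
    have e : N x = x + t x + t (t x) := by rw [hN]; rfl
    rw [e, hz0]
    change k1 _ + k2 _ = 0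
    rw [f1 _ h1, f2 _ h1, h2]
  have zl : ∀ f g : AddMonoid.End A, Z X0 f → Z X0 (g * f) := fun f g hf x hx => by
    change g (f x) = 0
    rw [hf x hx, map_zero]
  have zr : ∀ f g : AddMonoid.End A, Z X0 f → (∀ x ∈ X0, g x ∈ X0) → Z X0 (f * g) := fun f g hf hg x hx =>
    hf _ (hg x hx)
  have za : ∀ f g : AddMonoid.End A, Z X0 f → Z X0 g → Z X0 (f + g) := fun f g hf hg x hx => by
    change f x + g x = 0
    rw [hf x hx, hg x hx, add_zero]
  have r2 : Z X0 (z0 * z1 + z0 * z0 * t) := by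
    have h1 := za _ _ (zr _ _ r1 hk0) (zl _ k2 r1)
    have e : z0 * N * k0 + k2 * (z0 * N) = z0 * z1 + z0 * z0 * t := by
      have c : k2 * z0 = z0 * k2 := by rw [hz0, mul_add, add_mul, c12]
      rw [← mul_assoc, c, hN]
      have e3 : z0 * (1 + t + t * t) * k0 + z0 * k2 * (1 + t + t * t) =
          z0 * ((k0 + k2) + (t * k0 + k2 * t) + (t * (t * k0) + k2 * t * t)) := by noncomm_ring
      rw [e3, e0, ← mul_assoc t k1, e1, h2', add_zero, hz1, ← add_mul, ← hz0]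
      noncomm_ring
    rwa [e] at h1
  have e3 : t * z0 = z1 * t := by rw [hz0, hz1, mul_add, e1, e2]; noncomm_ring
  have c : z0 * z1 = z1 * z0 := by
    rw [hz0, hz1, add_mul, mul_add, mul_add, add_mul, mul_add, mul_add, c01, c02, c12]
    abel
  -- `z0 ^ 3 = 0` on `X0`
  have r3 : Z X0 (z0 * z0 * z0) := by
    have h1 := zr _ _ r2 hz00
    have h3 := zl _ z0 r2
    have h4 := zl _ z0 (zr _ _ r2 ht)
    have h5 := zl _ (z0 * z0) r1
    have h6 := za _ _ (za _ _ (za _ _ h1 h3) h4) h5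
    have e : (z0 * z1 + z0 * z0 * t) * z0 + z0 * (z0 * z1 + z0 * z0 * t) + z0 * ((z0 * z1 + z0 * z0 * t) * t) +
        z0 * z0 * (z0 * N) = z0 * z0 * z0 := by
      have e4 : (z0 * z1 + z0 * z0 * t) * z0 = z0 * z0 * z1 + z0 * z0 * z1 * t := by
        rw [add_mul, mul_assoc z0 z1 z0, ← c, mul_assoc (z0 * z0) t z0, e3]
        noncomm_ring
      rw [e4, hN]
      have e5 : z0 * z0 * z1 + z0 * z0 * z1 * t + z0 * (z0 * z1 + z0 * z0 * t) +
          z0 * ((z0 * z1 + z0 * z0 * t) * t) + z0 * z0 * (z0 * (1 + t + t * t)) =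
          (z0 * z0 * z1 + z0 * z0 * z1) + (z0 * z0 * z1 * t + z0 * z0 * z1 * t) +
          (z0 * z0 * z0 * t + z0 * z0 * z0 * t) + (z0 * z0 * z0 * t * t + z0 * z0 * z0 * t * t) +
            z0 * z0 * z0 := by noncomm_ring
      rw [e5, h2' (z0 * z0 * z1), h2' (z0 * z0 * z1 * t), h2' (z0 * z0 * z0 * t), h2' (z0 * z0 * z0 * t * t)]
      simp only [zero_add, add_zero]
    rwa [e] at h6
  intro x hx
  have h1 := zl _ z0 r3 x hx
  have e : z0 * (z0 * z0 * z0) = k1 * k1 * k1 * k1 + k2 * k2 * k2 * k2 := by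
    have e4 : z0 * z0 = k1 * k1 + k2 * k2 := by
      rw [hz0, add_mul, mul_add, mul_add, ← c12]
      have : k1 * k1 + k1 * k2 + (k1 * k2 + k2 * k2) = k1 * k1 + k2 * k2 + (k1 * k2 + k1 * k2) := by abel
      rw [this, h2', add_zero]
    have e5 : z0 * (z0 * z0 * z0) = (z0 * z0) * (z0 * z0) := by noncomm_ring
    rw [e5, e4, add_mul, mul_add, mul_add]
    have c' : k2 * k2 * (k1 * k1) = k1 * k1 * (k2 * k2) := by
      calc k2 * k2 * (k1 * k1) = k2 * (k2 * k1) * k1 := by noncomm_ring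
        _ = k2 * (k1 * k2) * k1 := by rw [c12]
        _ = (k2 * k1) * (k2 * k1) := by noncomm_ring
        _ = (k1 * k2) * (k1 * k2) := by rw [c12]
        _ = k1 * (k2 * k1) * k2 := by noncomm_ring
        _ = k1 * (k1 * k2) * k2 := by rw [c12]
        _ = k1 * k1 * (k2 * k2) := by noncomm_ring
    rw [c']
    have : k1 * k1 * (k1 * k1) + k1 * k1 * (k2 * k2) + (k1 * k1 * (k2 * k2) + k2 * k2 * (k2 * k2)) =
      k1 * k1 * k1 * k1 + k2 * k2 * k2 * k2 + (k1 * k1 * (k2 * k2) + k1 * k1 * (k2 * k2)) := by noncomm_ring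
    rw [this, h2', add_zero]
  rw [e] at h1
  change k1 (k1 (k1 (k1 x))) + k2 (k2 (k2 (k2 x))) = 0 at h1
  have h3 := h2 (k2 (k2 (k2 (k2 x))))
  exact add_right_cancel (h1.trans h3.symm)

end ring

/-! ### the abstract theorem -/

section core

variable {H : Type*} {M : Type*} [Group H] [CommGroup M]

/-- the additive endomorphism of `f` -/
def ad (f : MulAut M) : AddMonoid.End (Additive M) := MonoidHom.toAdditive f.toMonoidHom

theorem ad_mul (f g : MulAut M) : ad (f * g) = ad f * ad g := rfl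

theorem ad_apply (f : MulAut M) (m : M) : ad f (Additive.ofMul m) = Additive.ofMul (f m) := rfl

/-- `M` of exponent two, `t³ = 1`, `k` and its conjugates with `t` commute; `x * t x * t² x ∈ X₁` on `X₀`, `k` and its
conjugates fix `X₁` pointwise: then the conjugates of `k` agree on `X₀` up to a fourth power. -/
theorem four (h2 : ∀ m : M, m * m = 1) (ρ : H →* MulAut M) {t k0 k1 k2 : H}
    (e0 : t * k0 = k1 * t) (e1 : t * k1 = k2 * t) (e2 : t * k2 = k0 * t)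
    (c01 : k0 * k1 = k1 * k0) (c02 : k0 * k2 = k2 * k0) (c12 : k1 * k2 = k2 * k1) {X0 X1 : Subgroup M}
    (ht : ∀ x ∈ X0, ρ t x ∈ X0) (hk0 : ∀ x ∈ X0, ρ k0 x ∈ X0) (hk1 : ∀ x ∈ X0, ρ k1 x ∈ X0)
    (hk2 : ∀ x ∈ X0, ρ k2 x ∈ X0) (hn : ∀ x ∈ X0, x * ρ t x * ρ t (ρ t x) ∈ X1)
    (f1 : ∀ x ∈ X1, ρ k1 x = x) (f2 : ∀ x ∈ X1, ρ k2 x = x) :
    ∀ x ∈ X0, ρ k1 (ρ k1 (ρ k1 (ρ k1 x))) = ρ k2 (ρ k2 (ρ k2 (ρ k2 x))) := by
  have E : ∀ {a b c d : H}, a * b = c * d → ad (ρ a) * ad (ρ b) = ad (ρ c) * ad (ρ d) := by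
    intro a b c d h
    rw [← ad_mul, ← ad_mul, ← map_mul, ← map_mul, h]
  intro x hx
  exact ring_aux (A := Additive M) (X0 := X0.toAddSubgroup) (X1 := X1.toAddSubgroup) (t := ad (ρ t))
    (k0 := ad (ρ k0)) (k1 := ad (ρ k1)) (k2 := ad (ρ k2)) h2 (E e0) (E e1) (E e2) (E c01) (E c02) (E c12)
    ht hk0 hk1 hk2 hn f1 f2 x hx

/-- an element `g` of odd order with `g⁴ x = x` fixes `x` -/
theorem fix_of_four {f : MulAut M} (hf : Odd (orderOf f)) {x : M} (h : (f ^ 4) x = x) : f x = x := by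
  have h1 : Nat.Coprime 4 (orderOf f) := by
    rw [show 4 = 2 ^ 2 from rfl]
    exact (Nat.coprime_two_left.2 hf).pow_left 2
  obtain ⟨y, hy⟩ : ∃ y ∈ zpowers f, y ^ 4 = f ∧ ∃ n : ℕ, f = (f ^ 4) ^ n := by
    obtain ⟨n, hn⟩ := exists_pow_eq_self_of_coprime h1
    refine ⟨f ^ n, npow_mem_zpowers f n, ?_, n, hn.symm⟩
    rw [← pow_mul, mul_comm, pow_mul, hn]
  obtain ⟨-, -, n, hn⟩ := hy
  rw [hn]
  clear hn
  induction n with
  | zero => rfl
  | succ n ih =>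
    rw [pow_succ, MulAut.mul_apply, h, ih]

/-- **The abstract theorem.** -/
theorem core [Finite H] (h2 : ∀ m : M, m * m = 1) (ρ : H →* MulAut M) {A T S K : Subgroup H} {e : Subgroup M}
    (nrm : ∀ h : H, (∀ m ∈ e, ρ h m = m) → ∀ a ∈ A, h * a * h⁻¹ ∈ A)
    (h : CompB.Pre S A T K) (hB : ∃ b ∈ A ⊓ K, b ≠ 1)
    (eS : ∀ s ∈ S ⊓ K, ∀ m ∈ e, ρ s m = m)
    {t u : H} (ht : t ∈ T) (ht3 : t * t * t = 1) (hu : u ∈ S ⊓ K) (hut : t * u * t⁻¹ = u)
    (reg : ∀ a ∈ A, t * a * t⁻¹ = a → a = 1)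
    (fix : ∀ m : M, ρ t m = m → ρ u m = m)
    {α : MulAut K} (hα : ∀ x : K, (α x : H) = t * x * t⁻¹) {g y : K} {D : Subgroup K}
    (hm : Mod α (S.subgroupOf K) ⟨u, hu.2⟩ g y D) : False := by
  obtain ⟨b0, hb0, hb01⟩ := hB
  have htt : t⁻¹ = t * t := by
    rw [inv_eq_iff_mul_eq_one, ← mul_assoc]; exact ht3
  -- `X₀ = C_M(S ⊓ K)`, `X₁ = C_M(K)`
  let X0 : Subgroup M :=
    { carrier := {m | ∀ s ∈ S ⊓ K, ρ s m = m}
      one_mem' := fun s _ => map_one _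
      mul_mem' := fun {m n} hm hn s hs => by rw [map_mul, hm s hs, hn s hs]
      inv_mem' := fun {m} hm s hs => by rw [map_inv, hm s hs] }
  let X1 : Subgroup M :=
    { carrier := {m | ∀ s ∈ K, ρ s m = m}
      one_mem' := fun s _ => map_one _
      mul_mem' := fun {m n} hm hn s hs => by rw [map_mul, hm s hs, hn s hs]
      inv_mem' := fun {m} hm s hs => by rw [map_inv, hm s hs] }
  -- `y` fixes the fixed points of `t`
  have hgt : t * (g : H) = g * t := by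
    have h1 := hα g
    rw [hm.g_fix] at h1
    calc t * (g : H) = (t * g * t⁻¹) * t := by group
      _ = g * t := by rw [← h1]
  have fixy : ∀ m : M, ρ t m = m → ρ (y : H) m = m := by
    intro m hm'
    have h1 : ρ t (ρ (g : H)⁻¹ m) = ρ (g : H)⁻¹ m := by
      have e1 : t * (g : H)⁻¹ = (g : H)⁻¹ * t := by
        rw [mul_inv_eq_iff_eq_mul, mul_assoc, hgt, inv_mul_cancel_left]
      calc ρ t (ρ (g : H)⁻¹ m) = ρ (t * (g : H)⁻¹) m := by rw [map_mul]; rfl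
        _ = ρ (g : H)⁻¹ (ρ t m) := by rw [e1, map_mul]; rfl
        _ = _ := by rw [hm']
    have h3 := fix _ h1
    have e2 : (y : H) = g * u * (g : H)⁻¹ := congrArg Subtype.val hm.y_eq
    calc ρ (y : H) m = ρ (g : H) (ρ u (ρ (g : H)⁻¹ m)) := by rw [e2, map_mul, map_mul]; rfl
      _ = ρ (g : H) (ρ (g : H)⁻¹ m) := by rw [h3]
      _ = m := by rw [map_inv]; exact MulAut.apply_inv_self _ _ _
  have fixK : ∀ m ∈ X0, ρ t m = m → m ∈ X1 := by
    intro m hm0 hm' s hs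
    let X : Subgroup K :=
      { carrier := {k | ρ (k : H) m = m}
        one_mem' := by
          change ρ ((1 : K) : H) m = m
          rw [Subgroup.coe_one, map_one]; rfl
        mul_mem' := fun {k l} hk hl => by
          change ρ ((k * l : K) : H) m = m
          rw [Subgroup.coe_mul, map_mul, MulAut.mul_apply, hl, hk]
        inv_mem' := fun {k} hk => by
          change ρ ((k⁻¹ : K) : H) m = m
          have hk' : ρ (k : H) m = m := hk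
          nth_rewrite 1 [← hk']
          rw [Subgroup.coe_inv, map_inv]
          exact MulAut.inv_apply_self _ _ _ }
    have h1 : X = ⊤ := hm.gen X (fun x hx => hm0 x ⟨mem_subgroupOf.1 hx, x.2⟩) (fixy m hm')
    have h3 : (⟨s, hs⟩ : K) ∈ X := by rw [h1]; exact mem_top _
    exact h3
  -- `t` on `X₀`
  have tX0 : ∀ x ∈ X0, ρ t x ∈ X0 := by
    intro x hx s hs
    have h1 : t⁻¹ * s * t ∈ S ⊓ K := by
      have h3 := h.TS _ (T.inv_mem ht) s hs.1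
      have h4 := h.TK _ (T.inv_mem ht) s hs.2
      rw [inv_inv] at h3 h4
      exact ⟨h3, h4⟩
    have e1 : s * t = t * (t⁻¹ * s * t) := by group
    calc ρ s (ρ t x) = ρ (s * t) x := by rw [map_mul]; rfl
      _ = ρ t (ρ (t⁻¹ * s * t) x) := by rw [e1, map_mul]; rfl
      _ = ρ t x := by rw [hx _ h1]
  have dX0 : ∀ d ∈ D, ∀ x ∈ X0, ρ (d : H) x ∈ X0 := by
    intro d hd x hx s hs
    have h1 : (d : H)⁻¹ * s * d ∈ S ⊓ K := by
      have h3 := hm.D_U _ (D.inv_mem hd) ⟨s, hs.2⟩ (mem_subgroupOf.2 hs.1)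
      rw [inv_inv] at h3
      exact ⟨mem_subgroupOf.1 h3, Subtype.mem (d⁻¹ * ⟨s, hs.2⟩ * d)⟩
    have e1 : s * (d : H) = d * ((d : H)⁻¹ * s * d) := by group
    calc ρ s (ρ (d : H) x) = ρ (s * d) x := by rw [map_mul]; rfl
      _ = ρ (d : H) (ρ ((d : H)⁻¹ * s * d) x) := by rw [e1, map_mul]; rfl
      _ = ρ (d : H) x := by rw [hx _ h1]
  have hn : ∀ x ∈ X0, x * ρ t x * ρ t (ρ t x) ∈ X1 := by
    intro x hx
    refine fixK _ (X0.mul_mem (X0.mul_mem hx (tX0 x hx)) (tX0 _ (tX0 x hx))) ?_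
    have e1 : ρ t (ρ t (ρ t x)) = x := by
      have : (ρ (t * t * t)) x = x := by rw [ht3, map_one]; rfl
      rw [map_mul, map_mul] at this
      exact this
    rw [map_mul, map_mul, e1]
    exact mul_comm _ x |>.trans (mul_assoc x _ _).symm
  have hα3 : ∀ x : K, α (α (α x)) = x := by
    intro x
    apply Subtype.ext
    rw [hα, hα, hα]
    calc t * (t * (t * x * t⁻¹) * t⁻¹) * t⁻¹ = (t * t * t) * x * (t * t * t)⁻¹ := by group
      _ = x := by rw [ht3]; group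
  have hαt : ∀ x : K, t * (x : H) = (α x : H) * t := fun x => by rw [hα]; group
  -- the key
  have key : ∀ d ∈ D, ∀ x ∈ X0, ρ ((d⁻¹ * α (α d) : K) : H) x = x := by
    intro d hd x hx
    have d1 := hm.D_fix d hd
    have d2 := hm.D_fix _ d1
    have cc : ∀ {a b : K}, a ∈ D → b ∈ D → (a : H) * b = b * a := fun {a b} ha hb =>
      congrArg Subtype.val (hm.D_comm a ha b hb)
    have h4 := four h2 ρ (t := t) (k0 := (α d : K)) (k1 := (α (α d) : K)) (k2 := (d : K)) (X0 := X0) (X1 := X1)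
      (hαt _) (by rw [hαt, hα3]) (hαt d) (cc d1 d2) (cc d1 hd) (cc d2 hd) tX0 (dX0 _ d1) (dX0 _ d2) (dX0 _ hd) hn
      (fun x hx => hx _ (Subtype.mem _)) (fun x hx => hx _ (Subtype.mem _)) x hx
    obtain ⟨k, hk⟩ : ∃ k, k = α (α d) := ⟨_, rfl⟩
    rw [← hk] at h4 d2 ⊢
    refine fix_of_four (f := ρ ((d⁻¹ * k : K) : H)) ?_ ?_
    · have h5 := hm.D_odd _ (D.mul_mem (D.inv_mem hd) d2)
      rw [← Subgroup.orderOf_coe] at h5
      exact Odd.of_dvd_nat h5 (orderOf_map_dvd ρ _)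
    · have hc : Commute ((d : H)⁻¹) k := (show Commute (d : H) k from cc hd d2).inv_left
      have e1 : ((d⁻¹ * k : K) : H) ^ 4 = ((d : H)⁻¹) ^ 4 * (k : H) ^ 4 := hc.mul_pow 4
      have e2 : ∀ z : H, ∀ m : M, (ρ (z ^ 4)) m = ρ z (ρ z (ρ z (ρ z m))) := fun z m => by
        rw [map_pow]; rfl
      rw [← map_pow, e1, map_mul, MulAut.mul_apply, e2 k, h4, ← e2, inv_pow, map_inv]
      exact MulAut.inv_apply_self _ _ _
  -- the end, inside `K`
  have hAS : ∀ {b : K}, (b : H) ∈ A → b ∈ S.subgroupOf K := fun {b} hb => mem_subgroupOf.2 (h.AS hb)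
  have hU : (⟨u, hu.2⟩ : K) ∈ S.subgroupOf K := mem_subgroupOf.2 hu.1
  obtain ⟨uu, huu⟩ : ∃ x : K, x = ⟨u, hu.2⟩ := ⟨_, rfl⟩
  obtain ⟨bb, hbb⟩ : ∃ x : K, x = ⟨b0, hb0.2⟩ := ⟨_, rfl⟩
  rw [← huu] at hm hU
  have hbA : (bb : H) ∈ A := by rw [hbb]; exact hb0.1
  have hbb1 : bb ≠ 1 := fun h => hb01 (congrArg Subtype.val (hbb ▸ h))
  have αA : ∀ x : K, (x : H) ∈ A → (α x : H) ∈ A := fun x hx => by rw [hα]; exact h.TA t ht _ hx
  have αreg : ∀ x : K, (x : H) ∈ A → α x = x → x = 1 := fun x hx he =>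
    Subtype.ext (reg _ hx (by rw [← hα, he]))
  have αu : α uu = uu := Subtype.ext (by rw [hα, huu]; exact hut)
  have hu1 : uu * bb ≠ 1 := by
    intro h1
    have h3 : uu = bb⁻¹ := eq_inv_of_mul_eq_one_left h1
    have h4 := αreg _ (A.inv_mem hbA) (by
      have : α bb⁻¹ = bb⁻¹ := by rw [← h3]; exact αu
      exact this)
    exact hbb1 (inv_eq_one.1 h4)
  obtain ⟨d, hd, hdu⟩ := hm.trans (uu * bb) ((S.subgroupOf K).mul_mem hU (hAS hbA)) hu1
  have d1 := hm.D_fix d hd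
  have d2 := hm.D_fix _ d1
  obtain ⟨k, hk⟩ : ∃ k, k = α (α d) := ⟨_, rfl⟩
  rw [← hk] at d2
  obtain ⟨c, hc⟩ : ∃ c, c = d⁻¹ * k := ⟨_, rfl⟩
  have hcD : c ∈ D := by rw [hc]; exact D.mul_mem (D.inv_mem hd) d2
  have hcA : ∀ a ∈ A, (c : H) * a * (c : H)⁻¹ ∈ A := by
    refine nrm _ fun m hm' => ?_
    rw [hc, hk]
    exact key d hd m fun s hs => eS s hs m hm'
  have hku : k * uu * k⁻¹ = uu * α (α bb) := by
    rw [hk]
    calc α (α d) * uu * (α (α d))⁻¹ = α (α (d * uu * d⁻¹)) := by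
          rw [map_mul, map_mul, map_mul, map_mul, αu, αu, map_inv, map_inv]
      _ = _ := by rw [hdu, map_mul, map_mul, αu, αu]
  have hkc : k = c * d := by
    rw [hc, hm.D_comm _ (D.mul_mem (D.inv_mem hd) d2) _ hd, mul_inv_cancel_left]
  have hcu : c * (uu * bb) * c⁻¹ = uu * α (α bb) := by
    rw [← hku, ← hdu, hkc]; group
  have hbA2 : (α (α bb) : H) ∈ A := αA _ (αA _ hbA)
  by_cases hc1 : c = 1
  · rw [hc1, one_mul, inv_one, mul_one] at hcu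
    have h3 := mul_left_cancel hcu
    refine hbb1 (αreg bb hbA ?_)
    nth_rewrite 1 [h3]
    exact hα3 bb
  · -- `b ↦ [c, b]` is a bijection of `A ⊓ K`
    let B : Subgroup K := A.subgroupOf K
    have hBU : ∀ {b : K}, b ∈ B → b ∈ S.subgroupOf K := fun {b} hb => hAS (mem_subgroupOf.1 hb)
    have hcB : ∀ b ∈ B, c * b * c⁻¹ * b⁻¹ ∈ B := fun b hb =>
      B.mul_mem (mem_subgroupOf.2 (hcA _ (mem_subgroupOf.1 hb))) (B.inv_mem hb)
    have hsurj : Function.Surjective (fun b : B => (⟨c * b * c⁻¹ * (b : K)⁻¹, hcB b b.2⟩ : B)) := by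
      rw [← Finite.injective_iff_surjective]
      rintro ⟨b, hb⟩ ⟨b', hb'⟩ he
      have he' : c * b * c⁻¹ * b⁻¹ = c * b' * c⁻¹ * b'⁻¹ := congrArg Subtype.val he
      have hm1 : b'⁻¹ * b ∈ S.subgroupOf K := (S.subgroupOf K).mul_mem ((S.subgroupOf K).inv_mem (hBU hb')) (hBU hb)
      by_contra hne
      refine hc1 (hm.free c hcD (b'⁻¹ * b) hm1 (fun h1 => hne (Subtype.ext (inv_mul_eq_one.1 h1).symm)) ?_)
      have e1 : c * b * c⁻¹ = c * b' * c⁻¹ * b'⁻¹ * b := by rw [← he']; group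
      have e2 : c * b' * c⁻¹ * b'⁻¹ ∈ S.subgroupOf K := hBU (hcB b' hb')
      calc c * (b'⁻¹ * b) * c⁻¹ = (c * b' * c⁻¹)⁻¹ * (c * b * c⁻¹) := by group
        _ = b'⁻¹ * b := by rw [e1]; group
    have hcu' : c * uu * c⁻¹ * uu⁻¹ ∈ B := by
      have e1 : c * uu * c⁻¹ * uu⁻¹ = uu * α (α bb) * (c * bb * c⁻¹)⁻¹ * uu⁻¹ := by
        rw [← hcu]; group
      have m1 : c * bb * c⁻¹ ∈ B := mem_subgroupOf.2 (hcA _ hbA)
      have m2 : α (α bb) * (c * bb * c⁻¹)⁻¹ ∈ B := B.mul_mem (mem_subgroupOf.2 hbA2) (B.inv_mem m1)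
      have e2 : uu * α (α bb) * (c * bb * c⁻¹)⁻¹ * uu⁻¹ = α (α bb) * (c * bb * c⁻¹)⁻¹ := by
        rw [mul_assoc uu, hm.ab _ hU _ (hBU m2), mul_inv_cancel_right]
      rw [e1, e2]
      exact m2
    obtain ⟨⟨b', hb'⟩, he⟩ := hsurj ⟨_, hcu'⟩
    have he' : c * b' * c⁻¹ * b'⁻¹ = c * uu * c⁻¹ * uu⁻¹ := congrArg Subtype.val he
    have hm1 : b'⁻¹ * uu ∈ S.subgroupOf K := (S.subgroupOf K).mul_mem ((S.subgroupOf K).inv_mem (hBU hb')) hU
    by_cases h1 : b'⁻¹ * uu = 1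
    · have h3 : uu = b' := (inv_mul_eq_one.1 h1).symm
      have h4 := αreg uu (h3 ▸ mem_subgroupOf.1 hb') αu
      rw [h4, one_mul] at hdu
      refine hbb1 (by rw [← hdu]; group)
    · refine hc1 (hm.free c hcD _ hm1 h1 ?_)
      have e1 : c * uu * c⁻¹ = c * b' * c⁻¹ * b'⁻¹ * uu := by rw [he']; group
      calc c * (b'⁻¹ * uu) * c⁻¹ = (c * b' * c⁻¹)⁻¹ * (c * uu * c⁻¹) := by group
        _ = b'⁻¹ * uu := by rw [e1]; group

end core

/-! ### the real situation -/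

section real

universe u v w

variable {G : Type u} [Group G] {ι : Type w} {V : Subgroup G} {R : ι → Subgroup G} {i j : ι} {F : Type v} [Field F]
  {vv : F → F → G} {t : F → G} {w1 w2 : F → G}

/-- weights: the conjugates of `w` with `t a` are in `w R i`, then `w` is in `N` -/
theorem mem_of_weight (b : BT V R) {N : Subgroup G} (hN : R i ≤ N) {w x y z : G} (hw : w ∈ WW V (R i))
    (hx : x⁻¹ * w ∈ R i) (hy : y⁻¹ * w ∈ R i) (hz : z⁻¹ * w ∈ R i) (h : x * (y * z)⁻¹ ∈ N) : w ∈ N := by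
  have hwN := b.W_le_N i hw
  have h1 : w⁻¹ * x ∈ R i := by
    have := inv_mem hx
    rwa [_root_.mul_inv_rev, inv_inv] at this
  have h2 := conj_mem_of_normalizer hwN (mul_mem h1 hz)
  have e2 : x * (y * z)⁻¹ = w * (w⁻¹ * x * (z⁻¹ * w)) * w⁻¹ * (y⁻¹ * w) * w⁻¹ := by group
  rw [e2] at h
  have h4 : w * (w⁻¹ * x * (z⁻¹ * w)) * w⁻¹ * (y⁻¹ * w) ∈ N := N.mul_mem (hN h2) (hN hy)
  have h5 := N.mul_mem (N.inv_mem h4) h
  have e3 : (w * (w⁻¹ * x * (z⁻¹ * w)) * w⁻¹ * (y⁻¹ * w))⁻¹ *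
    (w * (w⁻¹ * x * (z⁻¹ * w)) * w⁻¹ * (y⁻¹ * w) * w⁻¹) = w⁻¹ := by group
  rw [e3] at h5
  exact (N.inv_mem_iff).1 h5

/-- `C_M(T) ≤ D / R i` -/
theorem mem_D_of_fixed [CharP F 2] (b : BT V R) (hF : ∃ a : F, a ≠ 0 ∧ a ≠ 1) (τ : TorD V R i j vv t) {w : G}
    (hw : w ∈ WW V (R i)) (hm : ∀ x ∈ TT τ, rho b i x (cls b i w hw) = cls b i w hw) : w ∈ DD V R := by
  obtain ⟨a, ha, ha1⟩ := hF
  have ha2 : 1 + a ≠ 0 := by
    intro h
    have h2 : (1 : F) + 1 = 0 := CharTwo.add_self_eq_zero 1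
    exact ha1 (add_left_cancel (h.trans h2.symm))
  have hfix : ∀ c : F, c ≠ 0 → (t c * w * (t c)⁻¹)⁻¹ * w ∈ R i := by
    intro c hc
    have h1 := hm _ ((mem_TT τ).2 ⟨c, hc, rfl⟩)
    rw [rho_cls, cls_eq] at h1
    exact h1
  have hU : w ∈ UU V R i := mem_of_weight b (b.R_le_U i) hw (hfix _ ha2) (hfix 1 one_ne_zero) (hfix a ha)
    (τ.wW 1 a one_ne_zero ha ha2 w hw)
  exact mem_of_weight b ((b.R_le i).trans (V_le_D V R)) hw (hfix _ ha2) (hfix 1 one_ne_zero) (hfix a ha)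
    (τ.wU 1 a one_ne_zero ha ha2 w hU)

/-- an element of `C(V)` which commutes with `A` and `T` modulo `O₂(N(R i))` centralises `C_M(T)` -/
theorem fix_real [CharP F 2] (b : BTC V R) (hij : i ≠ j) (hF : ∃ a : F, a ≠ 0 ∧ a ≠ 1) (τ : TorD V R i j vv t) {g : G}
    (hg : g ∈ normalizer (R i : Set G)) (hgV : g ∈ centralizer (V : Set G))
    (huA : ∀ a ∈ AA V R i j, pr (R i) ⟨g, hg⟩ * a = a * pr (R i) ⟨g, hg⟩)
    (huT : ∀ x ∈ TT τ, x * pr (R i) ⟨g, hg⟩ = pr (R i) ⟨g, hg⟩ * x) {m : MM b.toBT i}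
    (hm : ∀ x ∈ TT τ, rho b.toBT i x m = m) : rho b.toBT i (pr (R i) ⟨g, hg⟩) m = m := by
  obtain ⟨d, hdW, rfl⟩ := exists_cls b.toBT i m
  have hd := mem_D_of_fixed b.toBT hF τ hdW hm
  -- `[g, d] ∈ V`
  have hgd : g * d * g⁻¹ ∈ DD V R := conj_mem_of_normalizer (b.NV_le_ND (cen_le_NV V hgV)) hd
  have hv : d⁻¹ * (g * d * g⁻¹) ∈ V := by
    refine b.cen_DU (i := j) (mul_mem (inv_mem hd) hgd) fun x hx => ?_
    obtain ⟨y, hy⟩ : ∃ y, y = x⁻¹ * (g⁻¹ * x * g) := ⟨_, rfl⟩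
    have hx' : g⁻¹ * x * g ∈ UU V R j := by
      have := conj_mem_of_normalizer (inv_mem (b.cen_le_NU j hgV)) hx
      rwa [inv_inv] at this
    have hyD : y ∈ DD V R := by
      have hxN := U_le_N b.toBT i j hx
      have h1 := huA _ ((mem_AA b.toBT).2 ⟨x, hx, rfl⟩)
      have h2 : pr (R i) ⟨x, hxN⟩ = pr (R i) ⟨g⁻¹ * x * g, mul_mem (mul_mem (inv_mem hg) hxN) hg⟩ := by
        have e : pr (R i) ⟨g⁻¹ * x * g, mul_mem (mul_mem (inv_mem hg) hxN) hg⟩ =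
          (pr (R i) ⟨g, hg⟩)⁻¹ * pr (R i) ⟨x, hxN⟩ * pr (R i) ⟨g, hg⟩ := rfl
        rw [e, mul_assoc, ← h1, inv_mul_cancel_left]
      rw [hy]
      exact (U_inf_Q b.toBT hij (mul_mem (inv_mem hx) hx')).1 ((pr_eq_pr _ _).1 h2)
    obtain ⟨r, hr⟩ : ∃ r, r = d * x * d⁻¹ * x⁻¹ := ⟨_, rfl⟩
    have hrV : r ∈ V := by rw [hr]; exact b.R_le j (b.DU hd hx)
    have hrg : g * r = r * g := (mem_centralizer_iff.1 hgV r hrV).symm
    have e1 : g * d * g⁻¹ * x = d * x * d⁻¹ * (g * d * g⁻¹) := by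
      have e2 : d * (g⁻¹ * x * g) = r * (g⁻¹ * x * g) * d := by
        have e3 : g⁻¹ * x * g = x * y := by rw [hy]; group
        have e4 : d * y = y * d := b.D_comm hd hyD
        rw [e3, hr]
        calc d * (x * y) = d * x * d⁻¹ * (d * y) := by group
          _ = d * x * d⁻¹ * x⁻¹ * (x * y) * d := by rw [e4]; group
      calc g * d * g⁻¹ * x = g * (d * (g⁻¹ * x * g)) * g⁻¹ := by group
        _ = (g * r) * (g⁻¹ * x * g) * d * g⁻¹ := by rw [e2]; group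
        _ = r * x * (g * d * g⁻¹) := by rw [hrg]; group
        _ = _ := by rw [hr]; group
    change d⁻¹ * (g * d * g⁻¹) * x = x * (d⁻¹ * (g * d * g⁻¹))
    rw [mul_assoc, e1]
    group
  -- the class of `[g, d]` is `T`-invariant
  obtain ⟨n, hn⟩ : ∃ n, n = cls b.toBT i (d⁻¹ * (g * d * g⁻¹)) (V_le_WW V (R i) hv) := ⟨_, rfl⟩
  have e1 : rho b.toBT i (pr (R i) ⟨g, hg⟩) (cls b.toBT i d hdW) = cls b.toBT i d hdW * n := by
    rw [hn, rho_cls, cls_mul]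
    exact cls_congr (by group)
  have hnT : ∀ x ∈ TT τ, rho b.toBT i x n = n := by
    intro x hx
    have h1 : rho b.toBT i x (rho b.toBT i (pr (R i) ⟨g, hg⟩) (cls b.toBT i d hdW)) =
        rho b.toBT i (pr (R i) ⟨g, hg⟩) (cls b.toBT i d hdW) := by
      rw [← MulAut.mul_apply, ← map_mul, huT x hx, map_mul, MulAut.mul_apply, hm x hx]
    rw [e1, map_mul, hm x hx] at h1
    exact mul_left_cancel h1
  have hn1 : n = 1 := by
    obtain ⟨a, ha, ha1⟩ := hF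
    have h1 := hnT _ ((mem_TT τ).2 ⟨a, ha, rfl⟩)
    rw [hn, rho_cls, cls_eq] at h1
    rw [hn, cls_eq_one]
    obtain ⟨x, y, e⟩ := (τ.v_mem _).1 hv
    rw [← e] at h1 ⊢
    rw [τ.act a x y ha] at h1
    obtain ⟨z, hz⟩ := (τ.Ri _).1 h1
    have h3 : vv (a * x + z) (a⁻¹ * y + 0) = vv x y := by
      rw [τ.v_add, hz]; group
    have h4 : vv (a * x + z - x) (a⁻¹ * y + 0 - y) = 1 := by
      have h5 := τ.v_add (a * x + z - x) (a⁻¹ * y + 0 - y) x y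
      rw [sub_add_cancel, sub_add_cancel, h3] at h5
      exact (right_eq_mul.1 h5)
    obtain ⟨-, h5⟩ := τ.v_inj _ _ h4
    have hy0 : y = 0 := by
      have h6 : (a⁻¹ - 1) * y = 0 := by linear_combination h5
      refine (mul_eq_zero.1 h6).resolve_left (sub_ne_zero.2 fun h7 => ha1 ?_)
      rw [← inv_inv a, h7, inv_one]
    rw [hy0]
    exact (τ.Ri _).2 ⟨x, rfl⟩
  rw [e1, hn1, mul_one]

variable [Finite G] [Finite F] [CharP F 2]

/-- **(L0), the exception**: `q = 4`, `K ≅ L₂(Q)`, `T` fixes an involution of `S ⊓ K`. -/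
theorem excDead (b : BTC V R) (hq : Nat.card F = 4) (c : Coord V R i j vv w1 w2) (τ : TorD V R i j vv t)
    (S₁ : Sylow 2 G) (hV : (S₁ : Subgroup G) ≤ normalizer (V : Set G))
    (hR : (S₁ : Subgroup G) ≤ normalizer (R i : Set G)) {K : Subgroup (HQ (R i))}
    (h : CompB.Hyp (SS R i S₁) (AA V R i j) (TT τ) K) (hne : ∃ a ∈ AA V R i j, ∃ x ∈ K, a * x ≠ x * a)
    {F' : Type*} [Field F'] [Finite F'] (hF' : ringChar F' = 2)
    (e : K ≃* Matrix.ProjectiveSpecialLinearGroup (Fin 2) F') {u : HQ (R i)} (hu : u ∈ SS R i S₁ ⊓ K) (hu1 : u ≠ 1)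
    (huT : ∀ x ∈ TT τ, x * u * x⁻¹ = u) : False := by
  have hij := c.ne
  have : CharP F' 2 := ringChar.of_eq hF'
  have hF : ∃ a : F, a ≠ 0 ∧ a ≠ 1 := exists_ne' (by omega)
  have hT := card_T b.toBT τ
  have hT3 : Nat.card (TT τ) = 3 := by omega
  -- a generator of `T`
  have : Fact (Nat.Prime 3) := ⟨Nat.prime_three⟩
  obtain ⟨x, hx, hx1⟩ := exists_T b.toBT τ (CrdOf.crd c) (by omega)
  have hgen : ∀ y ∈ TT τ, y ∈ zpowers x := by
    intro y hy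
    have h1 : zpowers (⟨x, hx⟩ : TT τ) = ⊤ := zpowers_eq_top_of_prime_card hT3 (fun h => hx1 (congrArg Subtype.val h))
    have h2 : (⟨y, hy⟩ : TT τ) ∈ zpowers (⟨x, hx⟩ : TT τ) := by rw [h1]; exact mem_top _
    obtain ⟨n, hn⟩ := mem_zpowers_iff.1 h2
    exact mem_zpowers_iff.2 ⟨n, congrArg Subtype.val hn⟩
  have hx3 : x * x * x = 1 := by
    have h1 : (⟨x, hx⟩ : TT τ) ^ 3 = 1 := by rw [← hT3]; exact pow_card_eq_one'
    have h2 : x ^ 3 = 1 := congrArg Subtype.val h1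
    rw [← h2, pow_succ, pow_two]
  -- the automorphism of `K`
  have hxN : ∀ y, y ∈ K ↔ x * y * x⁻¹ ∈ K := fun y => (h.TK_iff hx).symm
  let α : MulAut K := ((MulAut.conj x).subgroupMap K).trans (MulEquiv.subgroupCongr (by
    ext y
    constructor
    · rintro ⟨z, hz, rfl⟩
      exact (hxN z).1 hz
    · intro hy
      refine ⟨x⁻¹ * y * x, (hxN _).2 (by
        have e1 : x * (x⁻¹ * y * x) * x⁻¹ = y := by group
        rwa [e1]), ?_⟩
      change x * (x⁻¹ * y * x) * x⁻¹ = y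
      group))
  have hα : ∀ y : K, (α y : HQ (R i)) = x * y * x⁻¹ := fun y => rfl
  obtain ⟨g, y, D, hm⟩ := exists_mod (e.trans (pslEquiv F')) (α := α) (fun y => by
      apply Subtype.ext
      rw [hα, hα, hα]
      calc x * (x * (x * y * x⁻¹) * x⁻¹) * x⁻¹ = (x * x * x) * y * (x * x * x)⁻¹ := by group
        _ = y := by rw [hx3]; group)
    (U := (SS R i S₁).subgroupOf K) (h.S2.comap_of_injective _ K.subtype_injective) (fun P hP hle => by
      refine le_antisymm (fun z hz => ?_) hle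
      have h1 := h.syl (P.map K.subtype) (by
        rintro _ ⟨z, -, rfl⟩
        exact z.2) (hP.map _) (fun z hz => ⟨⟨z, hz.2⟩, hle (mem_subgroupOf.2 hz.1), rfl⟩)
      exact mem_subgroupOf.2 (h1 ⟨z, hz, rfl⟩))
    (fun z hz => mem_subgroupOf.2 (by rw [hα]; exact h.TS x hx _ (mem_subgroupOf.1 hz)))
    (u := ⟨u, hu.2⟩) (mem_subgroupOf.2 hu.1) (fun h1 => hu1 (congrArg Subtype.val h1))
    (Subtype.ext (by rw [hα]; exact huT x hx))
  have hS : ∀ s ∈ SS R i S₁, ∃ (g : G) (hg : g ∈ normalizer (R i : Set G)), g ∈ centralizer (V : Set G) ∧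
      pr (R i) ⟨g, hg⟩ = s := by
    intro s hs
    rw [S_eq_im b.toBT (CrdOf.crd c) S₁ hV hR] at hs
    obtain ⟨g, hg, hgS, rfl⟩ := mem_im.1 hs
    exact ⟨g, hg, hgS.2, rfl⟩
  refine core (sq2 b.toBT i) (rho b.toBT i) (e := eV b.toBT i) (fun h hh a ha => nrm b.toBT hij hh ha) h.toPre ?_ ?_ hx hx3 hu
    (huT x hx) (fun a ha hax => ?_) (fun m hm' => ?_) hα hm
  · by_contra hcon
    push Not at hcon
    exact h.inf_ne_bot hne ((Subgroup.eq_bot_iff_forall _).2 hcon)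
  · rintro s ⟨hs, -⟩ m hm'
    obtain ⟨g, hg, hgV, rfl⟩ := hS s hs
    obtain ⟨v, hv, rfl⟩ := mem_eV.1 hm'
    rw [rho_cls]
    refine cls_congr ?_
    rw [← mem_centralizer_iff.1 hgV v hv, mul_inv_cancel_right]
  · by_contra ha1
    exact hx1 (T_reg b.toBT τ hij ha ha1 hx hax)
  · obtain ⟨g, hg, hgV, rfl⟩ := hS u hu.1
    refine fix_real b hij hF τ hg hgV (fun a ha => ?_) (fun z hz => ?_) (fun z hz => ?_)
    · obtain ⟨a1, ha1, a2, ha2, ha2K, rfl⟩ := h.decomp ha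
      have h1 := congrArg Subtype.val (hm.ab ⟨_, hu.2⟩ (mem_subgroupOf.2 hu.1) ⟨a1, ha1.2⟩
        (mem_subgroupOf.2 (h.AS ha1.1)))
      have h1' : pr (R i) ⟨g, hg⟩ * a1 = a1 * pr (R i) ⟨g, hg⟩ := h1
      rw [← mul_assoc, h1', mul_assoc, ← ha2K _ hu.2, mul_assoc]
    · have h1 := huT z hz
      exact mul_inv_eq_iff_eq_mul.1 h1
    · obtain ⟨n, rfl⟩ := mem_zpowers_iff.1 (hgen z hz)
      rw [map_zpow]
      have h1 : rho b.toBT i x ∈ MulAction.stabilizer (MulAut (MM b.toBT i)) m := hm'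
      exact (MulAction.stabilizer (MulAut (MM b.toBT i)) m).zpow_mem h1 n

/-- the same in the form of `KSide`: `T'` is the image of `T` in `Aut K` -/
theorem not_kExc (b : BTC V R) (c : Coord V R i j vv w1 w2) (τ : TorD V R i j vv t)
    (S₁ : Sylow 2 G) (hV : (S₁ : Subgroup G) ≤ normalizer (V : Set G))
    (hR : (S₁ : Subgroup G) ≤ normalizer (R i : Set G)) {K : Subgroup (HQ (R i))}
    (h : CompB.Hyp (SS R i S₁) (AA V R i j) (TT τ) K) (hne : ∃ a ∈ AA V R i j, ∃ x ∈ K, a * x ≠ x * a)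
    {T' : Subgroup (MulAut K)} (h1 : ∀ x ∈ TT τ, ∃ α ∈ T', ∀ y : K, (α y : HQ (R i)) = x * y * x⁻¹)
    (h2 : ∀ α ∈ T', ∃ x ∈ TT τ, ∀ y : K, (α y : HQ (R i)) = x * y * x⁻¹) :
    ¬ KExc K ((SS R i S₁).subgroupOf K) T' := by
  rintro ⟨h3, ⟨u, hu, hu1, huT⟩, F', _, _, hF', ⟨e⟩⟩
  obtain ⟨b0, hb0, hb01⟩ : ∃ b ∈ AA V R i j ⊓ K, b ≠ 1 := by
    by_contra hcon
    push Not at hcon
    exact h.inf_ne_bot hne ((Subgroup.eq_bot_iff_forall _).2 hcon)
  have hcard : Nat.card (TT τ) = Nat.card T' := by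
    choose f hf1 hf2 using h1
    refine Nat.card_congr (Equiv.ofBijective (fun x : TT τ => (⟨f x x.2, hf1 x x.2⟩ : T')) ⟨?_, ?_⟩)
    · rintro ⟨x, hx⟩ ⟨x', hx'⟩ hxx
      have e1 : f x hx = f x' hx' := congrArg Subtype.val hxx
      have e2 := hf2 x hx ⟨b0, hb0.2⟩
      have e3 := hf2 x' hx' ⟨b0, hb0.2⟩
      rw [e1, e3] at e2
      have e4 : (x'⁻¹ * x) * b0 * (x'⁻¹ * x)⁻¹ = b0 := by
        have e5 : x' * b0 * x'⁻¹ = x * b0 * x⁻¹ := e2
        calc (x'⁻¹ * x) * b0 * (x'⁻¹ * x)⁻¹ = x'⁻¹ * (x * b0 * x⁻¹) * x' := by group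
          _ = b0 := by rw [← e5]; group
      have e5 := T_reg b.toBT τ c.ne hb0.1 hb01 ((TT τ).mul_mem ((TT τ).inv_mem hx') hx) e4
      exact Subtype.ext (inv_mul_eq_one.1 e5).symm
    · rintro ⟨α, hα⟩
      obtain ⟨x, hx, hxα⟩ := h2 α hα
      refine ⟨⟨x, hx⟩, Subtype.ext (MulEquiv.ext fun y => Subtype.ext ?_)⟩
      rw [hxα]
      exact hf2 x hx y
  have hq' : Nat.card F = 4 := by
    have := card_T b.toBT τ
    omega
  refine excDead b hq' c τ S₁ hV hR h hne hF' e (u := u) ⟨mem_subgroupOf.1 hu, u.2⟩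
    (fun h => hu1 (Subtype.ext h)) (fun x hx => ?_)
  obtain ⟨α, hα, hxα⟩ := h1 x hx
  rw [← hxα, huT α hα]

end real

end Cfsg.Agent.Omega.Lie.End.ExcDead
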