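import Cfsg.Agent.Mrg.Omega.Lie.End.SitRS
import Cfsg.Agent.Mrg.Omega.Lie.Nodes.Res0Fin


/-!
# The end of NODE LIE: the residues `(0, x)`, `x` a moved node of type `(sigma)` or `(beta)` of `RS`
-/

set_option autoImplicit false
set_option linter.unusedSectionVars false

namespace Cfsg.Agent.Omega.Lie.End

open Subgroup Cfsg Cfsg.Agent.ParSys Cfsg.Agent.Omega.BTwo Cfsg.Agent.Omega.Lie Cfsg.Agent.Omega.Lie.Quot
open Cfsg.Agent.Omega.IIa4 Cfsg.Agent.Omega.Lie.End.OfLay Cfsg.Agent.Omega.Lie.Nodes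

universe u v w

variable {G : Type u} [Group G] {ι : Type w} {V : Subgroup G} {R : ι → Subgroup G} {F : Type v} [Field F] {i j : ι}
  {v : F → F → G} {w1 w2 : F → G} {t : F → G}

namespace RS

variable {T S : Subgroup (HQ (R i))} {α : Type} {K : α → Subgroup (HQ (R i))} {J : α → Type}
  {P : ∀ a, J a → Subgroup (K a)} {m : ∀ a, J a → J a → ℕ} (D : RS V R i j T S K J P m)
include D

/-- `QPx` for the moved nodes -/
theorem qpx_mov [Finite G] [Finite α] (b : BT V R) (hij : i ≠ j) (hd : Zero.Dat V R i (BG K T S) (UG K S)) {a : α} {k : J a}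
    (hm : End.Moved (S.subgroupOf (K a)) (Tact T (K a)) (P a k)) :
    QPx V R i (BG K T S) (UG K S) (PG K T S P ⟨a, k⟩) (Pp (PG K T S P ⟨a, k⟩) (UG K S)) where
  dat := hd
  X := D.nodeX b hij hd ⟨a, k⟩ (D.not_le_of_moved b hij hm)
  QP := Pp_le (D.preG.U_le.trans (D.preG.le _))
  BQ := (D.preG.le _).trans Pp_norm
  PQ := le_Pp_sup (D.preG.ptr _) (D.preG.three _)

/-- `QGen` for the nodes -/
theorem qgen (x : Σ a, J a) : QGen (UG K S) (PG K T S P x) (Pp (PG K T S P x) (UG K S)) where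
  UQ := le_Pp
  gen := fun H hH => by
    unfold Pp
    rw [closure_le]
    rintro _ ⟨g, hg, u, hu, rfl⟩
    exact hH g hg u hu

section mod

variable {M E : Type u} [AddCommGroup M] [AddCommGroup E]
  [DistribMulAction (NR R i) M] [DistribMulAction (NR R i) E] [Module F M] {p : G → M} {r : G → E}
  {f : M →+ M →+ E} {φ : M →ₗ[F] M →ₗ[F] F} {s : NR R i → (F ≃+* F)} [CharP F 2]
  [Finite G] [Finite F] {h : FMod V R i j v w1 w2 M E p r f φ s} {τ : Lie.TorD V R i j v t}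
  {N : Type u} [AddCommGroup N] [Module F N] {P1 P2 : G → N} {y : YPair V R i j w1 w2 N P1 P2}
  {n : N →ₗ[F] M} {sf : N →ₗ[F] N →ₗ[F] M} {q : N → N →ₗ[F] F}
  {g : Eig h τ y n sf q} {κ : N} {a : α} {k : J a}

/-- **the residue `(0, x)`**, `x` moved, from `Mov4` -/
theorem res0_mov [Finite α] (hT : T = TT τ) (hQ : QQ (R i) = WW V (R i))
    (hd : Zero.Dat V R i (BG K T S) (UG K S))
    (hm : End.Moved (S.subgroupOf (K a)) (Tact T (K a)) (P a k))
    (o : Mov4 g (Pp (PG K T S P ⟨a, k⟩) (UG K S)) κ) :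
    Res0 V R (BG K T S) (UG K S) (PG K T S P) ⟨a, k⟩ 4 :=
  res0_of_mov o (D.nodeP h.bt τ h.co.ne hT hd hm) (D.qpx_mov h.bt h.co.ne hd hm) (D.qgen _) hQ rfl

/-- **the residue `(0, x)`, type `(sigma)`** -/
theorem res0_s [Finite α] (hT : T = TT τ) (hQ : QQ (R i) = WW V (R i))
    (hd : Zero.Dat V R i (BG K T S) (UG K S))
    (hm : End.Moved (S.subgroupOf (K a)) (Tact T (K a)) (P a k))
    (o : NodeS g (Pp (PG K T S P ⟨a, k⟩) (UG K S)) κ) :
    Res0 V R (BG K T S) (UG K S) (PG K T S P) ⟨a, k⟩ 4 :=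
  D.res0_mov hT hQ hd hm (o.mov (D.nodeP h.bt τ h.co.ne hT hd hm) (Pp_gen D.preG.isP))

/-- **the residue `(0, x)`, type `(beta)`** -/
theorem res0_b [Finite α] (hT : T = TT τ) (hQ : QQ (R i) = WW V (R i))
    (hd : Zero.Dat V R i (BG K T S) (UG K S))
    (hm : End.Moved (S.subgroupOf (K a)) (Tact T (K a)) (P a k))
    (o : NodeB g (Pp (PG K T S P ⟨a, k⟩) (UG K S)) κ) :
    Res0 V R (BG K T S) (UG K S) (PG K T S P) ⟨a, k⟩ 4 :=
  D.res0_mov hT hQ hd hm (o.mov (D.nodeP h.bt τ h.co.ne hT hd hm) (Pp_gen D.preG.isP))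

end mod

end RS

end Cfsg.Agent.Omega.Lie.End
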