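import Cfsg.Agent.Mrg.Omega.Lie.End.Res0Alpha
import Cfsg.Agent.Mrg.Omega.Lie.End.Res0SB


/-!
# The end of NODE LIE: the residue `(0, x)` of every moved node of `RS`

`RS.res0` : if no node is of type (gamma), then every moved node has a residue `Res0` (`m0 ≥ 3`).
-/

set_option autoImplicit false
set_option linter.unusedSectionVars false

namespace Cfsg.Agent.Omega.Lie.End

open Subgroup Cfsg Cfsg.Agent.ParSys Cfsg.Agent.Omega.BTwo Cfsg.Agent.Omega.Lie Cfsg.Agent.Omega.Lie.Quot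
open Cfsg.Agent.Omega.IIa4 Cfsg.Agent.Omega.Lie.End.OfLay Cfsg.Agent.Omega.Lie.Nodes

universe u v w

variable {G : Type u} [Group G] {ι : Type w} {V : Subgroup G} {R : ι → Subgroup G} {F : Type v} [Field F] {i j : ι}
  {v : F → F → G} {w1 w2 : F → G} {t : F → G}

namespace RS

variable {T S : Subgroup (HQ (R i))} {α : Type} {K : α → Subgroup (HQ (R i))} {J : α → Type}
  {P : ∀ a, J a → Subgroup (K a)} {m : ∀ a, J a → J a → ℕ} (D : RS V R i j T S K J P m)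
include D

/-- **The residue `(0, x)` of a moved node.** -/
theorem res0 [Finite G] [Finite F] [CharP F 2] [Finite α] (b : BTC V R) (c : Coord V R i j v w1 w2)
    (τ : TorD V R i j v t) (hT : T = TT τ) (hF : ∃ a : F, a ≠ 0 ∧ a ≠ 1)
    (hC : centralizer (WW V (R i) : Set G) ≤ R i) (hQ : QQ (R i) = WW V (R i))
    (hij : i ≠ j) (hd : Zero.Dat V R i (BG K T S) (UG K S))
    (hCA : ∀ x ∈ WW V (R i), (∀ u ∈ UU V R j, u * x * u⁻¹ * x⁻¹ ∈ R i) → x ∈ V)
    (hfr : ∀ x ∈ normalizer (R i : Set G), ∃ e ∈ IIa4.Moved.EE V R i j, e * x ∈ normalizer (V : Set G))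
    (hg : ∀ x, ¬ GamT V (PG K T S P x)) {a : α} {k : J a}
    (hm : End.Moved (S.subgroupOf (K a)) (Tact T (K a)) (P a k)) :
    ∃ m0, 3 ≤ m0 ∧ Res0 V R (BG K T S) (UG K S) (PG K T S P) ⟨a, k⟩ m0 := by
  obtain ⟨M, B, _, _, _, _, _, p, r, f, φ, s, h⟩ := b.exists_fMod c hF hC
  obtain ⟨N, _, _, P1, P2, y⟩ := c.exists_yPair b.toBT
  obtain ⟨n, sf, q, g⟩ := h.exists_eig τ y
  have hP := D.nodeP b.toBT τ hij hT hd hm
  have sep := D.sep_node b c τ hF hC hij hd hCA hfr hg hm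
  rcases node_eig g hP with ⟨d, A⟩ | ⟨k0, A⟩ | ⟨k0, A⟩ | A
  · exact D.res0_alpha hij hd hm A sep
  · exact ⟨4, by omega, D.res0_s hT hQ hd hm A⟩
  · exact ⟨4, by omega, D.res0_b hT hQ hd hm A⟩
  · exfalso
    refine hg ⟨a, k⟩ ?_
    have hx := D.not_le_of_moved b.toBT hij hm
    have K' := D.qpxn b.toBT hij hd ⟨a, k⟩ hx
    obtain ⟨z, hz, y1, hy1, y2, hy2, h1⟩ := gamT_of_nodeG g (K'.QP.trans up_le) A (fun hle =>
      hx (K'.PQ.trans (sup_le hle hd.BV)))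
    exact ⟨z, K'.QP hz, y1, hy1, y2, hy2, h1⟩

end RS

end Cfsg.Agent.Omega.Lie.End
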