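import Cfsg.Agent.Mrg.Omega.Lie.End.KMain
import Cfsg.Agent.FixBN.PslGood
import Cfsg.Agent.FixBN.WittNodeD
import Cfsg.Agent.KFacts.SLRow.Psl
import Cfsg.Agent.KFacts.SLRow.OmegaPlus


/-!
# Rows of the table: `L_n(q)` (`n ≥ 3`) and `PΩ⁺_{2m}(q)` (`m ≥ 4`), `q` even
-/

set_option autoImplicit false
set_option linter.unusedSectionVars false

namespace Cfsg.Agent.Omega.Lie.End

open CoxeterSystem Cfsg.Agent.ChevalleyStructure.CoxeterGeom Cfsg.Agent.Tits.Roots Cfsg.Agent.Tits.Core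
  Cfsg.Agent.Tits.RootComb Cfsg.Agent.Nodes.Comb Cfsg.Agent.Nodes.Reps Cfsg.Agent.Nodes.BNOf
  Cfsg.Agent.Nodes.RGDLib Cfsg.Agent.KFacts.RgdCharP Cfsg.Agent.KFacts.SLRow

theorem conn_of_def {I : Type*} {M : CoxeterMatrix I} (h : Def.Conn M) : Conn M := by
  intro J h1 h2
  obtain ⟨a, ha, b, hb, hab⟩ := h J h1 (Set.nonempty_compl.2 h2)
  exact ⟨a, ha, b, hb, hab⟩

namespace RowPsl

open Matrix Cfsg.Agent.Nodes.RootsA Cfsg.Agent.Nodes.RGDTypeA Cfsg.Agent.FixBN.PslGood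
open Cfsg.Agent.LieRecognition.BNCox (cA)
open Cfsg.Agent.LieClassical.SLGen
open Cfsg.Agent.TitsThree.KSideA (tv tv_of_ne tv_add tv_zero tv_neg)

theorem tv_not_central {n : ℕ} {F : Type*} [Field F] (i : Fin n) (a : F)
    (h1 : pr n F (tv i.castSucc i.succ a) = 1) : a = 0 := by
  have hab : i.castSucc ≠ i.succ := (Fin.castSucc_lt_succ).ne
  have h1' : tv i.castSucc i.succ a ∈ (pr n F).ker := h1
  rw [ker_pr] at h1'
  by_contra hne
  have h3 := Subgroup.mem_center_iff.1 h1' (tv i.succ i.castSucc 1)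
  have h4 := congrArg (fun g : SpecialLinearGroup (Fin (n + 1)) F =>
    (g • (Pi.single i.castSucc 1 : Fin (n + 1) → F)) i.castSucc) h3
  rw [tv_of_ne hab, tv_of_ne hab.symm] at h4
  simp only [mul_smul, transvection_smul] at h4
  simp [hab, hab.symm] at h4
  exact hne h4

/-- **`L_{n+1}(F)`, `n ≥ 2`, `F` of characteristic 2** -/
theorem hasRow {F : Type*} [Field F] [Finite F] [CharP F 2] {n : ℕ} (hn : 2 ≤ n) :
    HasRow (ProjectiveSpecialLinearGroup (Fin (n + 1)) F) := by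
  have : Fact (Nat.Prime 2) := ⟨Nat.prime_two⟩
  have hW : Finite (cA n).Group := finite_W (cA n).toCoxeterSystem (isCartan n)
  have R := rgd_psl (F := F) (p := 2) (cA n).toCoxeterSystem (isCartan n)
  have hTc : ∀ s ∈ (T (Fin (n + 1)) F).map (pr n F), ∀ t ∈ (T (Fin (n + 1)) F).map (pr n F), s * t = t * s := by
    rintro _ ⟨s, hs, rfl⟩ _ ⟨t, ht, rfl⟩
    rw [← map_mul, torus_comm hs ht, map_mul]
  refine ⟨n, cA n, AA n, isCartan n, _, _, _, hW, R, G1_psl_eq_top _ _, ?_, conn_of_def Psl.conn_cA, hTc, fun h4 _ i => ?_,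
    fun _ _ i j e => absurd e (Psl.cA_ne i j).1, fun i j e => absurd e (Psl.cA_ne i j).2⟩
  · exact ⟨⟨0, by omega⟩, ⟨1, by omega⟩, fun e => by simpa using congrArg Fin.val e⟩
  have hab : i.castSucc ≠ i.succ := (Fin.castSucc_lt_succ).ne
  have hr : ∀ y, y ∈ (X F (sr i)).map (pr n F) ↔ ∃ a, pr n F (tv i.castSucc i.succ a) = y := by
    intro y
    rw [X_sr, Subgroup.mem_map]
    constructor
    · rintro ⟨_, ⟨a, rfl⟩, rfl⟩
      exact ⟨a, rfl⟩
    · rintro ⟨a, rfl⟩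
      exact ⟨_, ⟨a, rfl⟩, rfl⟩
  have hF : 4 ≤ Nat.card F := by
    refine (h4 i).trans (Nat.card_le_card_of_surjective
      (fun a : F => (⟨pr n F (tv i.castSucc i.succ a), (hr _).2 ⟨a, rfl⟩⟩ : ↥((X F (sr i)).map (pr n F)))) ?_)
    rintro ⟨y, hy⟩
    obtain ⟨a, rfl⟩ := (hr y).1 hy
    exact ⟨a, rfl⟩
  refine KNode.of_field R i (fun a => pr n F (tv i.castSucc i.succ a)) (-1) (fun a c => ?_) hr
    (tv_not_central i) (neg_ne_zero.2 one_ne_zero) (fun a ha => ?_) hTc hF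
  · rw [tv_add, map_mul]
  · have hk := key hab ha
    have hns : ns n F i = nn i.castSucc i.succ 1 := rfl
    show (pr n F (tv i.castSucc i.succ (-1 * a⁻¹)) * pr n F (ns n F i))⁻¹ *
      (pr n F (ns n F i) * pr n F (tv i.castSucc i.succ a) * pr n F (ns n F i)) ∈ _
    rw [hns, neg_one_mul, ← map_mul, ← map_mul, ← map_mul, hk, map_mul _ (_ * _) (_ * _), inv_mul_cancel_left, map_mul]
    exact mul_mem (RGD.T_le_B ⟨_, diag_mem_T hab _, rfl⟩)
      (RGD.X_le_B (isRoot_sr _ _ i) (sr_nonneg i) ((hr _).2 ⟨_, rfl⟩))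

end RowPsl

theorem hasRow_PSL {F : Type*} [Field F] [Finite F] [CharP F 2] {n : ℕ} (hn : 3 ≤ n) :
    HasRow (Matrix.ProjectiveSpecialLinearGroup (Fin n) F) := by
  obtain ⟨m, rfl⟩ : ∃ m, n = m + 1 := ⟨n - 1, by omega⟩
  exact RowPsl.hasRow (by omega)

namespace RowOPlus

open QuadraticMap
open Cfsg.Agent.LieClassical Cfsg.Agent.LieClassical.OrthCore Cfsg.Agent.LieClassical.OrthTrans
open Cfsg.Agent.LieClassical.OrthSimple Cfsg.Agent.LieClassical.OrthFinite Cfsg.Agent.LieClassical.OrthForms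
open Cfsg.Agent.TitsThree Cfsg.Agent.TitsThree.Siegel Cfsg.Agent.TitsThree.SiegelGen
  Cfsg.Agent.TitsThree.WittFrame Cfsg.Agent.TitsThree.WittWeyl Cfsg.Agent.TitsThree.WBridge
  Cfsg.Agent.TitsThree.KSideO
open Cfsg.Agent.Nodes
open Cfsg.Agent.Nodes.WittInst
open Cfsg.Agent.Nodes.WittRoot (Amb XG ZG PG Mono)
open Cfsg.Agent.Nodes.WittRGD (Tor mem_Tor b_ne_zero)
open Cfsg.Agent.FixBN.WittNodeA Cfsg.Agent.FixBN.WittNodeB Cfsg.Agent.FixBN.WittNodeC Cfsg.Agent.FixBN.WittNodeD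

theorem hasRow {F : Type} [Field F] [Finite F] [CharP F 2] {m : ℕ} (hm : 1 ≤ m) :
    HasRow (Cfsg.POmega F (Cfsg.quadFormPlus (m + 2) F)) := by
  have : Fact (Nat.Prime 2) := ⟨Nat.prime_two⟩
  rw [← coe_plusForm]
  have hG : Good (plusForm (m + 2) F) := by
    apply good_of_finite (nondeg_plusForm (m + 2) F)
    rw [Module.finrank_fintype_fun_eq_card, Fintype.card_sum, Fintype.card_fin]
    omega
  have hW : Finite (TypeD.M m).Group := TypeD.finite_W (TypeD.M m).toCoxeterSystem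
  have hA := amb_plus (F := F) (m + 2)
  set W := wplus (m + 2) F with hWd
  have hfin : Finite (((Fin (m + 2)) ⊕ (Fin (m + 2)) → F) ≃ₗ[F] ((Fin (m + 2)) ⊕ (Fin (m + 2)) → F)) :=
    Finite.of_injective (fun g : ((Fin (m + 2)) ⊕ (Fin (m + 2)) → F) ≃ₗ[F] ((Fin (m + 2)) ⊕ (Fin (m + 2)) → F) =>
      (g : ((Fin (m + 2)) ⊕ (Fin (m + 2)) → F) → ((Fin (m + 2)) ⊕ (Fin (m + 2)) → F))) DFunLike.coe_injective
  have R1 := rgd_restrict (WittAll.rgdD hA (adm_plus _) (p := 2) (TypeD.M m).toCoxeterSystem) (E (plusForm (m + 2) F))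
    (fun x _ => rgD_le W hA x) (fun i => WittRGDD.nn_mem hA i)
  have R := rgdD_model W hG (amb_plus _) (adm_plus _) (p := 2) (TypeD.M m).toCoxeterSystem
  have hTc : ∀ s ∈ ((Tor (toFrame W) (E (plusForm (m + 2) F))).subgroupOf (E (plusForm (m + 2) F))).map (toPOmega hG),
      ∀ t ∈ ((Tor (toFrame W) (E (plusForm (m + 2) F))).subgroupOf (E (plusForm (m + 2) F))).map (toPOmega hG),
      s * t = t * s := by
    rintro _ ⟨g, hg, rfl⟩ _ ⟨k, hk, rfl⟩
    rw [← map_mul, ← map_mul]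
    exact congrArg _ (Subtype.ext (comm_Tor W hA 0 (by rw [Submodule.span_zero_singleton]; rfl)
      (Subgroup.mem_subgroupOf.1 hg) (Subgroup.mem_subgroupOf.1 hk)))
  refine ⟨m + 2, TypeD.M m, TypeD.A m, TypeD.isCartan m, _, _, _, hW, R,
    G1D_eq_top W (toPOmega hG) (toPOmega_surjective hG) (adm_plus _) _, ?_, conn_of_def (OmegaPlus.conn_M m hm), hTc,
    fun h4 _ i => ?_, fun _ _ i j e => absurd e (OmegaPlus.M_ne m i j).1,
    fun i j e => absurd e (OmegaPlus.M_ne m i j).2⟩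
  · exact ⟨⟨0, by omega⟩, ⟨1, by omega⟩, fun e => by simpa using congrArg Fin.val e⟩
  have hne : ((i, true) : Fin (m + 2) × Bool).1 ≠ (TypeD.nx i).1 := TypeD.ok_nx i
  have hr : ∀ u, u ∈ XD W (toPOmega hG) (sr i) ↔
      ∃ a : F, toPOmega hG ⟨(toFrame W).X (i, true) (TypeD.nx i) a, hA.X_mem _ _ _⟩ = u := by
    intro u
    constructor
    · rintro ⟨g, hg, rfl⟩
      have h1 : (g : ((Fin (m + 2)) ⊕ (Fin (m + 2)) → F) ≃ₗ[F] ((Fin (m + 2)) ⊕ (Fin (m + 2)) → F)) ∈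
        WittRGDD.rg (toFrame W) (sr i) := hg
      rw [WittRGDD.rg_sr] at h1
      obtain ⟨a, ha⟩ := h1
      exact ⟨a, congrArg _ (Subtype.ext ha.symm)⟩
    · rintro ⟨a, rfl⟩
      refine ⟨_, ?_, rfl⟩
      show (toFrame W).X (i, true) (TypeD.nx i) a ∈ WittRGDD.rg (toFrame W) (sr i)
      rw [WittRGDD.rg_sr]
      exact ⟨a, rfl⟩
  have hF : 4 ≤ Nat.card F := by
    refine (h4 i).trans (Nat.card_le_card_of_surjective
      (fun a : F => (⟨toPOmega hG ⟨(toFrame W).X (i, true) (TypeD.nx i) a, hA.X_mem _ _ _⟩, (hr _).2 ⟨a, rfl⟩⟩ :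
        ↥(XD W (toPOmega hG) (sr i)))) ?_)
    rintro ⟨y, hy⟩
    obtain ⟨a, rfl⟩ := (hr y).1 hy
    exact ⟨a, rfl⟩
  refine KNode.of_field R i (fun a => toPOmega hG ⟨(toFrame W).X (i, true) (TypeD.nx i) a, hA.X_mem _ _ _⟩) (-1)
    (fun a b => ?_) hr (fun a ha => ?_) (neg_ne_zero.2 one_ne_zero) (fun a ha => ?_) hTc hF
  · rw [← map_mul]
    exact congrArg _ (Subtype.ext ((toFrame W).X_add _ _ _ _))
  · have h3 := center_of_toPOmega hG (show _ ∈ (toPOmega hG).ker from ha)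
    have h4 := eq_one_of_comm R1 i (x := ⟨(toFrame W).X (i, true) (TypeD.nx i) a, hA.X_mem _ _ _⟩) (by
      show (toFrame W).X (i, true) (TypeD.nx i) a ∈ WittRGDD.rg (toFrame W) (sr i)
      rw [WittRGDD.rg_sr]
      exact ⟨a, rfl⟩) (Subgroup.mem_center_iff.1 h3 _)
    have h5 : (toFrame W).X (i, true) (TypeD.nx i) a = 1 := congrArg Subtype.val h4
    have h6 := X_apply_neg (toFrame W) hne a
    rw [h5] at h6
    have h7 : a • (toFrame W).b (i, true) = 0 := by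
      have h8 : (toFrame W).b (neg (TypeD.nx i)) = (toFrame W).b (neg (TypeD.nx i)) + a • (toFrame W).b (i, true) := h6
      exact (add_eq_left.1 h8.symm)
    exact (smul_eq_zero.1 h7).resolve_right (b_ne_zero _)
  · rw [neg_one_mul]
    refine mem_B_of_eq' R i (m := toPOmega hG ⟨nX (toFrame W) (i, true) (TypeD.nx i) a⁻¹,
      WittRGDD.nX_mem hA _ _ _⟩) (z := toPOmega hG ⟨(toFrame W).X (i, true) (TypeD.nx i) (-a⁻¹), hA.X_mem _ _ _⟩)
      ?_ ?_ ((hr _).2 ⟨_, rfl⟩)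
    · rw [← map_inv, ← map_mul, ← map_mul, ← map_mul, ← map_mul]
      exact congrArg _ (Subtype.ext (conj_X_eq (toFrame W) hne ha))
    · rw [← map_inv, ← map_mul]
      refine ⟨_, ?_, rfl⟩
      show (WittRGDD.nn (toFrame W) i)⁻¹ * nX (toFrame W) (i, true) (TypeD.nx i) a⁻¹ ∈
        Tor (toFrame W) (E (plusForm (m + 2) F))
      exact ⟨mul_mem (inv_mem (WittRGDD.nn_mem hA i)) (WittRGDD.nX_mem hA _ _ _),
        (((WittRGDD.mono_nn i).inv (TypeD.sg_sg i)).mul (WittRGDD.mono_nX' i (inv_ne_zero ha))).congr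
          fun x => TypeD.sg_sg i x⟩

end RowOPlus

theorem hasRow_POmegaPlus {F : Type} [Field F] [Finite F] [CharP F 2] {m : ℕ} (hm : 3 ≤ m) :
    HasRow (Cfsg.POmega F (Cfsg.quadFormPlus m F)) := by
  obtain ⟨m, rfl⟩ : ∃ k, m = k + 2 := ⟨m - 2, by omega⟩
  exact RowOPlus.hasRow (by omega)

end Cfsg.Agent.Omega.Lie.End
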