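import Cfsg.Agent.Mrg.Omega.Lie.End.Real
import Cfsg.Agent.Mrg.Omega.Lie.End.ExcDead
import Cfsg.Agent.Mrg.Omega.Lie.KRowsPlug
import Cfsg.Agent.Mrg.Omega.Lie.End.RSNode
import Cfsg.Agent.Mrg.Omega.Lie.Nodes.NodeThm
import Cfsg.Agent.Mrg.Omega.Lie.End.ZeroLone

section


/-!
# The systems of the moved components (`RS`) in the situation `BTC` / `Sit`, all hypotheses discharged

`exists_rsx` : from `LAYER` at `(i, j, S₁)`, `C(W i) ≤ R i` and `KSideX` there is an enumeration `K : Fin n → _` of the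
moved components of `N(R i)/O₂(N(R i))` with parabolic systems (`RS`), `n ≥ 1`, and `Opp`, `OneL` for each of them.
Plugged in: helper460 (the exception `KExc` is impossible), helper407 ((L8)), helper43 (`RS`), `CzAll` (`A ≠ 1`).
-/

set_option autoImplicit false
set_option linter.unusedSectionVars false

namespace Cfsg.Agent.Omega.Lie.End.SitRS

open Subgroup Cfsg Cfsg.Agent.ZN Cfsg.Agent.Omega.NatPair Cfsg.Agent.Omega.BTwo Cfsg.Agent.Omega.Frame
open Cfsg.Agent.Omega.Lie Cfsg.Agent.Omega.Lie.Quot Cfsg.Agent.Omega.IIa4 Cfsg.Agent.Omega.Lie.End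
open Cfsg.Agent.Omega.Lie.End.OfLay

universe u

theorem exists_ne_of_four {F : Type*} [Field F] [Finite F] (h4 : 4 ≤ Nat.card F) : ∃ a : F, a ≠ 0 ∧ a ≠ 1 := by
  by_contra hcon
  push Not at hcon
  have h1 : Set.univ ⊆ ({0, 1} : Set F) := fun a _ => by
    by_cases ha : a = 0
    · exact Or.inl ha
    · exact Or.inr (hcon a ha)
  have h2 := Set.ncard_le_ncard h1
  rw [Set.ncard_pair zero_ne_one, Set.ncard_univ] at h2
  omega

section btc

variable {G : Type u} [Group G] {ι : Type*} {V : Subgroup G} {R : ι → Subgroup G} {F : Type*} [Field F] {i j : ι}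
  {v : F → F → G} {w1 w2 : F → G} {t : F → G}

/-- the exception does not occur -/
theorem not_kExc [Finite G] [Finite F] [CharP F 2] (b : BTC V R) (c : Coord V R i j v w1 w2)
    (τ : TorD V R i j v t) (S₁ : Sylow 2 G) (hV : (S₁ : Subgroup G) ≤ normalizer (V : Set G))
    (hR : (S₁ : Subgroup G) ≤ normalizer (R i : Set G)) (l : Lay V R i j (TT τ) (SS R i S₁))
    {K : Subgroup (HQ (R i))} (hK : MComp V R i j K) :
    ¬ KExc K ((SS R i S₁).subgroupOf K) (Tact (TT τ) K) := by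
  have hh := l.hyp K hK
  refine ExcDead.not_kExc b c τ S₁ hV hR hh hK.2.2 (fun x hx => ?_) fun α hα => ?_
  · exact ⟨K.normalizerMonoidHom ⟨x, T_le hh.toPre hx⟩, mem_Tact.2 ⟨x, hx, T_le hh.toPre hx, fun y => rfl⟩,
      fun y => rfl⟩
  · obtain ⟨x, hx, -, h1⟩ := mem_Tact.1 hα
    exact ⟨x, hx, h1⟩

/-- **The systems of the moved components.** -/
theorem exists_rsx [Finite G] [Finite F] [CharP F 2] (hks : KSideX.{u}) (b : BTC V R)
    (c : Coord V R i j v w1 w2) (τ : TorD V R i j v t) (h4 : 4 ≤ Nat.card F)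
    (hC : centralizer (WW V (R i) : Set G) ≤ R i) (S₁ : Sylow 2 G)
    (hV : (S₁ : Subgroup G) ≤ normalizer (V : Set G)) (hR : (S₁ : Subgroup G) ≤ normalizer (R i : Set G))
    (l : Lay V R i j (TT τ) (SS R i S₁)) :
    ∃ (n : ℕ) (K : Fin n → Subgroup (HQ (R i))) (J : Fin n → Type) (P : ∀ a, J a → Subgroup (K a))
      (m : ∀ a, J a → J a → ℕ), (∀ a, Finite (J a)) ∧ Nonempty (Fin n) ∧
        RS V R i j (TT τ) (SS R i S₁) K J P m ∧
        ∀ a, Opp (normalizer ((SS R i S₁).subgroupOf (K a) : Set (K a))) ((SS R i S₁).subgroupOf (K a)) (P a) ∧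
          OneL (K a) (J a) :=
  RealEnum.exists_RSX hks b.toBT τ τ.ne h4 l (fun _ hK => not_kExc b c τ S₁ hV hR l hK)
    (BasOf.normal_of_lay b c τ (exists_ne_of_four h4) hC S₁ hV hR l)
    (RealEnum.exists_mcomp b S₁ τ.ne hV hR l)

end btc

section sit

variable {G : Type u} [Group G] [Finite G] {S : Sylow 2 G} {P : Subgroup G} {g : G} {F : Type} [Field F]
  [Finite F] [CharP F 2] {M : NatMod F (zl (S : Subgroup G) P)} (h : Sit S P g M)
include h

/-- **The systems of the moved components**, in the situation of `LeafA4`. -/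
theorem sit_rsx (hks : KSideX.{u}) (hl : LayAll (zl (S : Subgroup G) P) (pt M) F)
    (hsemi : SemiOut (zl (S : Subgroup G) P) (pt M)) {i j : Pt M} {v : F → F → G} {w1 w2 : F → G} {t : F → G}
    (c : Coord (zl (S : Subgroup G) P) (pt M) i j v w1 w2) (τ : TorD (zl (S : Subgroup G) P) (pt M) i j v t)
    (S₁ : Sylow 2 G) (hV : (S₁ : Subgroup G) ≤ normalizer (zl (S : Subgroup G) P : Set G))
    (hR : (S₁ : Subgroup G) ≤ normalizer (pt M i : Set G)) :
    ∃ (n : ℕ) (K : Fin n → Subgroup (HQ (pt M i))) (J : Fin n → Type) (Q : ∀ a, J a → Subgroup (K a))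
      (m : ∀ a, J a → J a → ℕ), (∀ a, Finite (J a)) ∧ Nonempty (Fin n) ∧
        RS (zl (S : Subgroup G) P) (pt M) i j (TT τ) (SS (pt M) i S₁) K J Q m ∧
        ∀ a, Opp (normalizer ((SS (pt M) i S₁).subgroupOf (K a) : Set (K a))) ((SS (pt M) i S₁).subgroupOf (K a))
          (Q a) ∧ OneL (K a) (J a) :=
  exists_rsx hks h.btc c τ h.four (hsemi i).1.le S₁ hV hR (hl i j τ.ne v w1 w2 t c τ S₁ hV hR)

end sit

end Cfsg.Agent.Omega.Lie.End.SitRS

end

section


/-!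
# The end of NODE LIE: THE NODE THEOREM for the moved nodes of `RS`

* `RS.nodeP` : the hypotheses `NodeP` of helper493's `node_eig` for `P⁺ = Pp (P x) U`;
* `RS.node` : the four cases;
* `gamT_of_nodeG` : type (gamma) implies `GamT`.
-/

set_option autoImplicit false
set_option linter.unusedSectionVars false

namespace Cfsg.Agent.Omega.Lie.End

open Subgroup Cfsg Cfsg.Agent.ParSys Cfsg.Agent.Omega.BTwo Cfsg.Agent.Omega.Lie Cfsg.Agent.Omega.Lie.Quot
open Cfsg.Agent.Omega.IIa4 Cfsg.Agent.Omega.Lie.End.OfLay Cfsg.Agent.Omega.Lie.Nodes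

universe u v w

variable {G : Type u} [Group G] {ι : Type w} {V : Subgroup G} {R : ι → Subgroup G} {F : Type v} [Field F] {i j : ι}
  {v : F → F → G} {w1 w2 : F → G} {t : F → G}

namespace RS

variable {T S : Subgroup (HQ (R i))} {α : Type} {K : α → Subgroup (HQ (R i))} {J : α → Type}
  {P : ∀ a, J a → Subgroup (K a)} {m : ∀ a, J a → J a → ℕ} (D : RS V R i j T S K J P m)
include D

theorem nodeP [Finite G] [Finite α] (b : BT V R) (τ : TorD V R i j v t) (hij : i ≠ j) (hT : T = TT τ)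
    (hd : Zero.Dat V R i (BG K T S) (UG K S)) {a : α} {k : J a}
    (hm : End.Moved (S.subgroupOf (K a)) (Tact T (K a)) (P a k)) :
    NodeP V R i j t (Pp (PG K T S P ⟨a, k⟩) (UG K S)) := by
  have hp := D.preG
  have hnV := D.not_le_of_moved b hij hm
  have hPV := inf_NV_le (hp.ptr ⟨a, k⟩) hp.U_le hd.BV hnV
  have hUP := hp.U_le.trans (hp.le ⟨a, k⟩)
  have hPp : Pp (PG K T S P ⟨a, k⟩) (UG K S) ≤ PG K T S P ⟨a, k⟩ := Pp_le hUP
  have hB : ∀ x ∈ PG K T S P ⟨a, k⟩, x ∈ BG K T S ↔ cj x V = V := by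
    intro x hx
    rw [cj_eq_self_iff]
    exact ⟨fun h => hd.BV h, fun h => hPV (mem_inf.2 ⟨hx, h⟩)⟩
  refine ⟨D.Pp_le_cen b _, (D.A_le_UG b hij).trans le_Pp, ?_, ?_, ?_⟩
  · intro c hc x hx
    refine Pp_conj (hp.le _ ?_) hx
    have h1 : τ.grp ≤ normalizer (R i : Set G) := by
      rintro _ ⟨a, ha, rfl⟩
      exact τ.normR ha
    refine (le_up_im h1).trans (up_mono ?_) (⟨c, hc, rfl⟩ : t c ∈ τ.grp)
    rw [hT]
    exact le_sup_right
  · intro x hx x' hx' h1 h2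
    have h3 : x ∉ BG K T S := fun h => h1 ((hB x (hPp hx)).1 h)
    have h4 : x' ∉ BG K T S := fun h => h2 ((hB x' (hPp hx')).1 h)
    obtain ⟨u, hu, h5⟩ := D.tr b hm (hPp hx) h3 (hPp hx') h4
    refine ⟨u, hu, ?_⟩
    have h6 := cj_eq_self_iff.2 (hd.BV h5)
    have e : x' = (u * x) * ((u * x)⁻¹ * x') := by group
    rw [e, cj_mul, h6, cj_mul]
  · obtain ⟨x, hx, y, hy, hxB, hyB, hxy⟩ := hp.three ⟨a, k⟩
    obtain ⟨x', hx', z, hz, rfl⟩ := exists_Pp (hp.ptr _) (hp.three _) hx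
    obtain ⟨y', hy', z', hz', rfl⟩ := exists_Pp (hp.ptr _) (hp.three _) hy
    refine ⟨x', hx', y', hy', fun h => hxB ?_, fun h => hyB ?_, fun h => hxy ?_⟩
    · exact mul_mem ((hB x' (hPp hx')).2 h) hz
    · exact mul_mem ((hB y' (hPp hy')).2 h) hz'
    · have h1 : x'⁻¹ * y' ∈ BG K T S := by
        rw [hB _ (mul_mem (inv_mem (hPp hx')) (hPp hy')), cj_mul, ← h, cj_inv_cj]
      have e : (x' * z)⁻¹ * (y' * z') = z⁻¹ * (x'⁻¹ * y') * z' := by group
      rw [e]
      exact mul_mem (mul_mem (inv_mem hz) h1) hz'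

end RS

section gam

variable {M B : Type u} [AddCommGroup M] [AddCommGroup B]
  [DistribMulAction (NR R i) M] [DistribMulAction (NR R i) B] [Module F M] {p : G → M} {r : G → B}
  {f : M →+ M →+ B} {φ : M →ₗ[F] M →ₗ[F] F} {s : NR R i → (F ≃+* F)} [CharP F 2]
  [Finite G] [Finite F] {h : FMod V R i j v w1 w2 M B p r f φ s} {τ : Lie.TorD V R i j v t}
  {N : Type u} [AddCommGroup N] [Module F N] {P1 P2 : G → N} {y : YPair V R i j w1 w2 N P1 P2}
  {n : N →ₗ[F] M} {sf : N →ₗ[F] N →ₗ[F] M} {q : N → N →ₗ[F] F}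

/-- type (gamma) is `GamT` -/
theorem gamT_of_nodeG (g : Eig h τ y n sf q) {P : Subgroup G} (hPN : P ≤ normalizer (R i : Set G)) (hP : NodeG g P)
    (hne : ¬ P ≤ normalizer (V : Set G)) : GamT V P := by
  obtain ⟨x, hx, hxV⟩ := SetLike.not_le_iff_exists.1 hne
  have h1 := hP.phi_ne ⟨x, hPN hx⟩ hx hxV
  refine ⟨x, hx, v 0 1, h.co.v_mem 0 1, v 0 1, h.co.v_mem 0 1, fun h2 => h1 ?_⟩
  have hv := h.co.v_mem 0 1
  have hW := V_le_WW V (R i) hv
  rw [h.fr.p_act ⟨x, hPN hx⟩ (v 0 1) hW]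
  refine h.phi_of ?_
  rw [h.fr.f_eq _ (BTwo.conj_mem_of_normalizer (normalizer_le_WW V (R i) (hPN hx)) hW) _ hW]
  have e : x * v 0 1 * x⁻¹ * v 0 1 * (x * v 0 1 * x⁻¹)⁻¹ * (v 0 1)⁻¹ = 1 := by rw [h2]; group
  change r (x * v 0 1 * x⁻¹ * v 0 1 * (x * v 0 1 * x⁻¹)⁻¹ * (v 0 1)⁻¹) = _
  rw [e, map_zero]
  exact (h.fr.r_ker 1 (one_mem _)).2 rfl

end gam

end Cfsg.Agent.Omega.Lie.End

end

section


/-!
# The end of NODE LIE: `SepG` for the node 0 and a moved node of `RS`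

`RS.sep_node` : if no node is of type (gamma), then `SepG` holds for `P₀` and every moved node (all `q ≥ 4`).
* another node in the same component: `RS.sep_nbr`;
* another component: helper105's `Zero.sepG_node`;
* the only node: it would be of type (gamma) (helper988's `gamT_of_frat`).
-/

set_option autoImplicit false
set_option linter.unusedSectionVars false

namespace Cfsg.Agent.Omega.Lie.End

open Subgroup Cfsg Cfsg.Agent.ParSys Cfsg.Agent.Omega.BTwo Cfsg.Agent.Omega.Lie Cfsg.Agent.Omega.Lie.Quot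
open Cfsg.Agent.Omega.IIa4 Cfsg.Agent.Omega.Lie.End.OfLay

universe u v w

variable {G : Type u} [Group G] {ι : Type w} {V : Subgroup G} {R : ι → Subgroup G} {F : Type v} [Field F] {i j : ι}
  {v : F → F → G} {w1 w2 : F → G} {t : F → G}

namespace RS

variable {T S : Subgroup (HQ (R i))} {α : Type} {K : α → Subgroup (HQ (R i))} {J : α → Type}
  {P : ∀ a, J a → Subgroup (K a)} {m : ∀ a, J a → J a → ℕ} (D : RS V R i j T S K J P m)
include D

/-- `SepG` from a node of another component -/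
theorem sep_other [Finite G] [Finite F] [CharP F 2] [Finite α] (b : BTC V R) (c : Coord V R i j v w1 w2)
    (τ : TorD V R i j v t) (hF : ∃ a : F, a ≠ 0 ∧ a ≠ 1) (hC : centralizer (WW V (R i) : Set G) ≤ R i)
    (hij : i ≠ j) (hd : Zero.Dat V R i (BG K T S) (UG K S)) (hg : ∀ x, ¬ GamT V (PG K T S P x)) {a a' : α}
    (ha : a ≠ a') (k : J a) : SepG 2 (BG K T S) (UG K S) (PG K T S P ⟨a, k⟩) (Zero.P0 V R (BG K T S)) := by
  obtain ⟨l, hl⟩ := (D.sys a').moved
  have hp := D.preG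
  have hps := D.psit
  have hcomm : ∀ p ∈ PG K T S P ⟨a', l⟩, ∀ x ∈ V, ∀ y ∈ V, p * x * p⁻¹ * y = y * (p * x * p⁻¹) := by
    intro p hp x hx y hy
    by_contra hcon
    exact hg ⟨a', l⟩ ⟨p, hp, x, hx, y, hy, hcon⟩
  refine Zero.sepG_node b c τ hF hC hd (hp.le ⟨a', l⟩) hp.isP hp.norm hp.index (hp.ptr _)
    (D.not_le_of_moved b.toBT hij hl) hcomm (L := up (R i) ((P a' l).map (K a').subtype)) (up_mono le_sup_left)
    ((up_mono (map_subtype_le _)).trans (D.K_le_cen b.toBT a')) (up_norm (hps.C_norm_P a' l).le_normalizer)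
    ?_ (hp.le ⟨a, k⟩) ?_
  · have h1 : PG K T S P ⟨a', l⟩ = up (R i) ((P a' l).map (K a').subtype) ⊔ BG K T S := up_sup
    exact h1.le
  · rintro x ⟨h1, h2⟩
    rw [Qk_up]
    obtain ⟨h3, h4⟩ := mem_up.1 h1
    obtain ⟨h5, h6⟩ := mem_up.1 h2
    obtain ⟨y, -, e⟩ := h4
    refine mem_up.2 ⟨h3, ?_⟩
    rw [← e] at h6 ⊢
    exact hps.mem_Qk_of ha k h6

/-- **`SepG` for the node 0 and a moved node**, if no node is of type (gamma) -/
theorem sep_node [Finite G] [Finite F] [CharP F 2] [Finite α] (b : BTC V R) (c : Coord V R i j v w1 w2)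
    (τ : TorD V R i j v t) (hF : ∃ a : F, a ≠ 0 ∧ a ≠ 1) (hC : centralizer (WW V (R i) : Set G) ≤ R i)
    (hij : i ≠ j) (hd : Zero.Dat V R i (BG K T S) (UG K S))
    (hCA : ∀ x ∈ WW V (R i), (∀ u ∈ UU V R j, u * x * u⁻¹ * x⁻¹ ∈ R i) → x ∈ V)
    (hfr : ∀ x ∈ normalizer (R i : Set G), ∃ e ∈ IIa4.Moved.EE V R i j, e * x ∈ normalizer (V : Set G))
    (hg : ∀ x, ¬ GamT V (PG K T S P x)) {a : α} {k : J a}
    (hm : End.Moved (S.subgroupOf (K a)) (Tact T (K a)) (P a k)) :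
    SepG 2 (BG K T S) (UG K S) (PG K T S P ⟨a, k⟩) (Zero.P0 V R (BG K T S)) ∨
      SepG 2 (BG K T S) (UG K S) (Zero.P0 V R (BG K T S)) (PG K T S P ⟨a, k⟩) := by
  by_cases h1 : ∃ l, l ≠ k
  · exact Or.inr (D.sep_nbr b.toBT c hij hd hCA hm h1)
  · by_cases h2 : ∃ a', a' ≠ a
    · obtain ⟨a', ha'⟩ := h2
      exact Or.inl (D.sep_other b c τ hF hC hij hd hg ha'.symm k)
    · exfalso
      push Not at h1 h2
      have : Nonempty α := ⟨a⟩
      refine hg ⟨a, k⟩ (gamT_of_frat b.toBT hij hfr ((D.E_le b.toBT hij).trans (iSup_le ?_)))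
      rintro ⟨a', l⟩
      obtain rfl := h2 a'
      obtain rfl := h1 l
      exact le_rfl

end RS

end Cfsg.Agent.Omega.Lie.End

end
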