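import Cfsg.Agent.Mrg.Omega.Lie.End.Top
import Cfsg.Agent.Mrg.Omega.Lie.End.PreMap
import Cfsg.Agent.Mrg.Omega.Lie.LemmaTComp


/-!
# The end of NODE LIE: from `H = N(R)/O₂(N(R))` to `G`, and adding the node 0

`up R L` : the preimage in `G` of `L ≤ HQ R`.  `Pre.up`; `Pre.opt` : adding one node to a parabolic system.
-/

set_option autoImplicit false
set_option linter.unusedSectionVars false

namespace Cfsg.Agent.Omega.Lie.End

open Subgroup Cfsg.Agent.ParSys Cfsg.Agent.Omega.BTwo Cfsg.Agent.Omega.Lie.Quot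

universe u

section up

variable {G : Type u} [Group G] {R : Subgroup G}

/-- the preimage in `G` of a subgroup of `N(R)/O₂(N(R))` -/
def up (R : Subgroup G) (L : Subgroup (HQ R)) : Subgroup G :=
  (L.comap (pr R)).map (normalizer (R : Set G)).subtype

variable {L L' : Subgroup (HQ R)}

theorem mem_up {g : G} : g ∈ up R L ↔ ∃ hg : g ∈ normalizer (R : Set G), pr R ⟨g, hg⟩ ∈ L := by
  constructor
  · rintro ⟨x, hx, rfl⟩
    exact ⟨x.2, hx⟩
  · rintro ⟨hg, h⟩
    exact ⟨⟨g, hg⟩, h, rfl⟩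

theorem mem_up_iff {g : G} (hg : g ∈ normalizer (R : Set G)) : g ∈ up R L ↔ pr R ⟨g, hg⟩ ∈ L :=
  mem_up.trans ⟨fun h => h.2, fun h => ⟨hg, h⟩⟩

theorem up_le : up R L ≤ normalizer (R : Set G) := fun _ hg => (mem_up.1 hg).1

theorem up_mono (h : L ≤ L') : up R L ≤ up R L' := fun _ hg => by
  obtain ⟨h1, h2⟩ := mem_up.1 hg
  exact mem_up.2 ⟨h1, h h2⟩

theorem QQ_le_N : QQ R ≤ normalizer (R : Set G) := by
  rintro _ ⟨x, -, rfl⟩
  exact x.2

theorem QQ_le_up : QQ R ≤ up R L := by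
  intro g hg
  have h1 : g ∈ normalizer (R : Set G) := QQ_le_N hg
  refine mem_up.2 ⟨h1, ?_⟩
  rw [(pr_eq_one h1).2 hg]
  exact one_mem _

theorem im_up : im R (up R L) = L := by
  ext x
  obtain ⟨g, hg, rfl⟩ := exists_pr x
  rw [pr_mem_im_iff QQ_le_up, mem_up_iff hg]

/-- `up (im A) = A O₂(N(R))` -/
theorem mem_up_im {A : Subgroup G} {g : G} : g ∈ up R (im R A) ↔ ∃ a ∈ A, a ∈ normalizer (R : Set G) ∧ a⁻¹ * g ∈ QQ R := by
  constructor
  · intro h
    obtain ⟨hg, h1⟩ := mem_up.1 h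
    obtain ⟨a, ha, haA, e⟩ := mem_im.1 h1
    exact ⟨a, haA, ha, (pr_eq_pr ha hg).1 e⟩
  · rintro ⟨a, ha, haN, h⟩
    have hg : g ∈ normalizer (R : Set G) := by
      have := mul_mem haN (QQ_le_N h)
      rwa [mul_inv_cancel_left] at this
    exact mem_up.2 ⟨hg, mem_im.2 ⟨a, haN, ha, (pr_eq_pr haN hg).2 h⟩⟩

theorem le_up_im {A : Subgroup G} (hA : A ≤ normalizer (R : Set G)) : A ≤ up R (im R A) := fun g hg =>
  mem_up_im.2 ⟨g, hg, hA hg, by rw [inv_mul_cancel]; exact one_mem _⟩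

theorem up_sup : up R (L ⊔ L') = up R L ⊔ up R L' := by
  unfold up
  rw [← Subgroup.map_sup]
  congr 1
  exact (comap_sup_eq_of_le_range (pr R) (by rw [MonoidHom.range_eq_top.2 (pr_surjective R)]; exact le_top)
    (by rw [MonoidHom.range_eq_top.2 (pr_surjective R)]; exact le_top)).symm

theorem up_iSup {α : Type*} [Nonempty α] (L : α → Subgroup (HQ R)) : up R (⨆ a, L a) = ⨆ a, up R (L a) := by
  apply le_antisymm
  · intro g hg
    have hN : (⨆ a, up R (L a)) ≤ normalizer (R : Set G) := iSup_le fun _ => up_le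
    obtain ⟨hgN, h1⟩ := mem_up.1 hg
    obtain ⟨a₀⟩ := ‹Nonempty α›
    have hQ : QQ R ≤ ⨆ a, up R (L a) := (QQ_le_up (L := L a₀)).trans (le_iSup (fun a => up R (L a)) a₀)
    have h2 : (⨆ a, L a) ≤ im R (⨆ a, up R (L a)) := iSup_le fun a => by
      rw [← im_up (L := L a)]
      exact im_mono (le_iSup (fun a => up R (L a)) a)
    exact (pr_mem_im_iff hQ hgN).1 (h2 h1)
  · exact iSup_le fun a => up_mono (le_iSup L a)

theorem up_bot_eq : up R (⊥ : Subgroup (HQ R)) = QQ R := by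
  ext g
  rw [mem_up]
  constructor
  · rintro ⟨hg, h⟩
    exact (pr_eq_one hg).1 (mem_bot.1 h)
  · intro h
    exact ⟨QQ_le_N h, mem_bot.2 ((pr_eq_one (QQ_le_N h)).2 h)⟩

theorem ker_pr [Finite G] : IsPGroup 2 (pr R).ker := by
  have : (pr R).ker = pCore 2 ↥(normalizer (R : Set G)) := QuotientGroup.ker_mk' _
  rw [this]
  have hfact : Fact (Nat.Prime 2) := ⟨Nat.prime_two⟩
  exact Lib.Cores.pCore_isPGroup 2

/-- `up` maps normalisers to normalisers -/
theorem up_norm (h : L ≤ normalizer (L' : Set (HQ R))) : up R L ≤ normalizer (up R L' : Set G) := by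
  have key : ∀ g ∈ up R L, ∀ x ∈ up R L', g * x * g⁻¹ ∈ up R L' := by
    intro g hg x hx
    obtain ⟨h1, h2⟩ := mem_up.1 hg
    obtain ⟨h3, h4⟩ := mem_up.1 hx
    exact mem_up.2 ⟨mul_mem (mul_mem h1 h3) (inv_mem h1), (mem_normalizer_iff.mp (h h2) _).mp h4⟩
  intro g hg
  rw [mem_normalizer_iff]
  intro x
  refine ⟨fun hx => key g hg x hx, fun hx => ?_⟩
  have := key g⁻¹ (inv_mem hg) _ hx
  have e : g⁻¹ * (g * x * g⁻¹) * g⁻¹⁻¹ = x := by group
  rwa [e] at this

theorem Pre.up [Finite G] {I : Type*} {B U : Subgroup (HQ R)} {P : I → Subgroup (HQ R)} {m : I → I → ℕ}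
    (D : Pre 2 B U P m) : Pre 2 (End.up R B) (End.up R U) (fun i => End.up R (P i)) m := by
  have hfact : Fact (Nat.Prime 2) := ⟨Nat.prime_two⟩
  have hr : (pr R).range = ⊤ := MonoidHom.range_eq_top.2 (pr_surjective R)
  have h1 := D.comap (φ := pr R) ker_pr (by rw [hr]; exact le_top) (fun i => by rw [hr]; exact le_top)
  exact h1.map (φ := (normalizer (R : Set G)).subtype) (subtype_injective _)

/-- the kernel of a panel in `G` -/
theorem Qk_up {B P : Subgroup (HQ R)} : Qk (End.up R B) (End.up R P) = End.up R (Qk B P) := by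
  have hr : (pr R).range = ⊤ := MonoidHom.range_eq_top.2 (pr_surjective R)
  unfold End.up
  rw [Qk_map (subtype_injective _), Qk_comap (by rw [hr]; exact le_top)]

end up

/-! ### adding a node -/

section opt

variable {G : Type*} [Group G] {I : Type*}

/-- the parabolic subgroups with the new node -/
def opt (P0 : Subgroup G) (P : I → Subgroup G) (o : Option I) : Subgroup G := o.elim P0 P

theorem opt_none (P0 : Subgroup G) (P : I → Subgroup G) : opt P0 P none = P0 := rfl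

theorem opt_some (P0 : Subgroup G) (P : I → Subgroup G) (i : I) : opt P0 P (some i) = P i := rfl

theorem iSup_opt (P0 : Subgroup G) (P : I → Subgroup G) : ⨆ o, opt P0 P o = P0 ⊔ ⨆ i, P i := by
  rw [iSup_option]
  rfl

/-- the Coxeter matrix with the new node -/
def optm (m0 : I → ℕ) (m : I → I → ℕ) : Option I → Option I → ℕ
  | none, none => 1
  | none, some i => m0 i
  | some i, none => m0 i
  | some i, some j => m i j

/-- **Adding a node.** -/
theorem Pre.opt {p : ℕ} {B U : Subgroup G} {P : I → Subgroup G} {m : I → I → ℕ} (D : Pre p B U P m)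
    {P0 : Subgroup G} {m0 : I → ℕ} (le : B ≤ P0) (three : ∃ x ∈ P0, ∃ y ∈ P0, x ∉ B ∧ y ∉ B ∧ x⁻¹ * y ∉ B)
    (ptr : Hall.HallData.PTr B U P0)
    (reg : ∀ u ∈ U, ∀ g ∈ P0, g ∉ B → g⁻¹ * u * g ∈ B → u ∈ Qk B P0) (fpf : FpfG p B U P0)
    (m_two : ∀ i, 2 ≤ m0 i) (poly : ∀ i, Polygon B (opt P0 P) none (some i) (m0 i))
    (sep : ∀ i, SepG p B U P0 (P i) ∨ SepG p B U (P i) P0)
    (frat : ∀ i, ∀ X ≤ U, (∀ u ∈ U, ∃ x ∈ X, x⁻¹ * u ∈ Qk B P0 ∧ x⁻¹ * u ∈ Qk B (P i)) →
      ∀ u ∈ U, ∃ x ∈ X, x⁻¹ * u ∈ Qk B (P0 ⊔ P i)) : Pre p B U (End.opt P0 P) (optm m0 m) where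
  U_le := D.U_le
  norm := D.norm
  isP := D.isP
  index := D.index
  le := by
    rintro (_ | i)
    · exact le
    · exact D.le i
  three := by
    rintro (_ | i)
    · exact three
    · exact D.three i
  ptr := by
    rintro (_ | i)
    · exact ptr
    · exact D.ptr i
  reg := by
    rintro (_ | i)
    · exact reg
    · exact D.reg i
  fpf := by
    rintro (_ | i)
    · exact fpf
    · exact D.fpf i
  m_two := by
    rintro (_ | i) (_ | j) hij
    · exact absurd rfl hij
    · exact m_two j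
    · exact m_two i
    · exact D.m_two i j fun h => hij (by rw [h])
  m_symm := by
    rintro (_ | i) (_ | j)
    · rfl
    · rfl
    · rfl
    · exact D.m_symm i j
  poly := by
    rintro (_ | i) (_ | j) hij
    · exact absurd rfl hij
    · exact poly j
    · exact (poly i).symm
    · exact (polygon_reindex (P := End.opt P0 P) (some : I → Option I)).2 (D.poly i j fun h => hij (by rw [h]))
  sep := by
    rintro (_ | i) (_ | j) hij
    · exact absurd rfl hij
    · exact sep j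
    · exact (sep i).symm
    · exact D.sep i j fun h => hij (by rw [h])
  frat := by
    rintro (_ | i) (_ | j) hij
    · exact absurd rfl hij
    · exact frat j
    · intro X hX h
      have h1 := frat i X hX fun u hu => by
        obtain ⟨x, hx, h1, h2⟩ := h u hu
        exact ⟨x, hx, h2, h1⟩
      intro u hu
      obtain ⟨x, hx, h2⟩ := h1 u hu
      refine ⟨x, hx, ?_⟩
      show x⁻¹ * u ∈ Qk B (P i ⊔ P0)
      rw [sup_comm]
      exact h2
    · exact D.frat i j fun h => hij (by rw [h])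

end opt

end Cfsg.Agent.Omega.Lie.End
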